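/-
The Sylow `p`-subgroup of the automorphism group of the split octonions in characteristic `p`.
-/
import Cfsg.Agent.H25.GC0
import Cfsg.Agent.H8.EAG2b

set_option autoImplicit false
set_option linter.unusedSectionVars false
set_option linter.unusedSimpArgs false

namespace H22.GV
open Cfsg Subgroup Cfsg.Lie H8 H25.GC Gc
open scoped MatrixGroups

variable {K : Type*} [Field K]

/-- the unipotent automorphisms -/
def fz (c : Gc K) : (Fin 8 → K) →ₗ[K] (Fin 8 → K) where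
  toFun x := ![x 0 - c.a * x 2 - c.r * x 4 + c.s * x 3 + c.a * c.s * x 4 - c.a * c.u * x 3,
    x 1 + c.a * x 6 + c.r * x 0 - c.r * x 7 + c.s * x 5 - c.v * x 2 + c.z * x 3 + c.a * c.r * x 2 - c.a * c.s * x 0 +
      c.a * c.s * x 7 - c.a * c.u * x 5 - c.a * c.z * x 4 + 2 * c.r * c.s * x 3 - c.r ^ 2 * x 4 + c.s * c.v * x 4 -
      c.u * c.v * x 3 - c.a * c.r * c.s * x 4 + c.a * c.r * c.u * x 3 - c.a * c.s ^ 2 * x 3,
    x 2 - c.s * x 4 + c.u * x 3, x 3 - c.a * x 4, x 4,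
    x 5 + c.a * x 0 - c.a * x 7 - c.r * x 3 + c.v * x 4 - 2 * c.a * c.r * x 4 + 2 * c.a * c.s * x 3 - c.a ^ 2 * x 2 +
      c.a ^ 2 * c.s * x 4 - c.a ^ 2 * c.u * x 3,
    x 6 + c.r * x 2 - c.s * x 0 + c.s * x 7 - c.u * x 5 - c.z * x 4 - c.r * c.s * x 4 + c.r * c.u * x 3 - c.s ^ 2 * x 3,
    x 7 + c.a * x 2 + c.r * x 4 - c.s * x 3 - c.a * c.s * x 4 + c.a * c.u * x 3]
  map_add' x y := by apply fin8_ext <;> simp <;> ring
  map_smul' c x := by apply fin8_ext <;> simp <;> ring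
theorem fz_ap (c : Gc K) (x : Fin 8 → K) : fz c x =
  ![x 0 - c.a * x 2 - c.r * x 4 + c.s * x 3 + c.a * c.s * x 4 - c.a * c.u * x 3,
    x 1 + c.a * x 6 + c.r * x 0 - c.r * x 7 + c.s * x 5 - c.v * x 2 + c.z * x 3 + c.a * c.r * x 2 - c.a * c.s * x 0 +
      c.a * c.s * x 7 - c.a * c.u * x 5 - c.a * c.z * x 4 + 2 * c.r * c.s * x 3 - c.r ^ 2 * x 4 + c.s * c.v * x 4 -
      c.u * c.v * x 3 - c.a * c.r * c.s * x 4 + c.a * c.r * c.u * x 3 - c.a * c.s ^ 2 * x 3,
    x 2 - c.s * x 4 + c.u * x 3, x 3 - c.a * x 4, x 4,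
    x 5 + c.a * x 0 - c.a * x 7 - c.r * x 3 + c.v * x 4 - 2 * c.a * c.r * x 4 + 2 * c.a * c.s * x 3 - c.a ^ 2 * x 2 +
      c.a ^ 2 * c.s * x 4 - c.a ^ 2 * c.u * x 3,
    x 6 + c.r * x 2 - c.s * x 0 + c.s * x 7 - c.u * x 5 - c.z * x 4 - c.r * c.s * x 4 + c.r * c.u * x 3 - c.s ^ 2 * x 3,
    x 7 + c.a * x 2 + c.r * x 4 - c.s * x 3 - c.a * c.s * x 4 + c.a * c.u * x 3] := rfl
theorem fz_mul (c d : Gc K) (x : Fin 8 → K) : fz (c * d) x = fz c (fz d x) := by
  apply fin8_ext <;> simp only [fz_ap, Matrix.cons_val, mul_a, mul_u, mul_s, mul_r, mul_v, mul_z] <;> ring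
theorem fz_one (x : Fin 8 → K) : fz 1 x = x := by apply fin8_ext <;> simp [fz_ap]
theorem fz_zorn (c : Gc K) (x y : Fin 8 → K) : fz c (zornMul x y) = zornMul (fz c x) (fz c y) := by
  apply fin8_ext <;> simp only [fz_ap, zornMul_eq, Matrix.cons_val] <;> ring
variable (K) in
/-- the coordinates -/
def ez : Gc K →* autZ K := MonoidHom.mk' (fun c => ⟨LinearEquiv.ofLinearMap (fz c) (fz c⁻¹)
    (LinearMap.ext fun x => by simp [← fz_mul, fz_one]) (LinearMap.ext fun x => by simp [← fz_mul, fz_one]), fz_zorn c⟩)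
  fun c d => Subtype.ext (LinearEquiv.ext (fz_mul c d))
theorem ez_inj : Function.Injective (ez K) := (injective_iff_map_eq_one _).2 fun c e => by
  have k : ∀ x i, fz c x i = x i := fun x => congrFun (congrArg (fun g : autZ K => g.1 x) e)
  have a : c.a = 0 := by simpa [fz_ap] using k (Pi.single 4 1) 3
  have u : c.u = 0 := by simpa [fz_ap] using k (Pi.single 3 1) 2
  have s : c.s = 0 := by simpa [fz_ap] using k (Pi.single 4 1) 2
  have r : c.r = 0 := by simpa [fz_ap] using k (Pi.single 2 1) 6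
  exact Gc.ext a u s r (by simpa [fz_ap, a] using k (Pi.single 4 1) 5) (by simpa [fz_ap, s] using k (Pi.single 4 1) 6)

theorem card_dvd [Fintype K] : Nat.card (autZ K) ∣
    Fintype.card K ^ 6 * ((Fintype.card K ^ 2 - 1) * (Fintype.card K ^ 3 - 1) * (Fintype.card K ^ 3 + 1)) := by
  classical
  have e1 := (MulAction.stabilizer (autZ K) (e0 K)).card_mul_index
  rw [MulAction.index_stabilizer, ← Nat.card_coe_set_eq,
    Nat.card_congr (Equiv.subtypeEquivRight fun _ => mem_orbit_iff_idem), card_idem] at e1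
  have e2 := card_dvd_of_injective _ (stabSL_inj (F := K))
  have e3 : Nat.card SL(3, K) = Fintype.card K ^ 3 * ((Fintype.card K ^ 2 - 1) * (Fintype.card K ^ 3 - 1)) := by
    have h := H11.card_units_mul_card_sl (ι := Fin 3) (F := K)
    have h1 : 1 < Fintype.card K := Fintype.one_lt_card
    rw [Matrix.card_GL_field, Fin.prod_univ_three] at h
    generalize Fintype.card K = q at h h1 ⊢
    refine Nat.eq_of_mul_eq_mul_left (show 0 < q - 1 by omega) (h.trans ?_)
    have a1 : 1 ≤ q ^ 2 := Nat.one_le_pow _ _ (by omega)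
    have a2 : 1 ≤ q ^ 3 := Nat.one_le_pow _ _ (by omega)
    have b1 : q ^ 1 ≤ q ^ 3 := Nat.pow_le_pow_right (by omega) (by omega)
    have b2 : q ^ 2 ≤ q ^ 3 := Nat.pow_le_pow_right (by omega) (by omega)
    simp only [Fin.val_zero, Fin.val_one, Fin.val_two, pow_zero]
    zify [a1, a2, b1, b2, h1.le]
    ring
  rw [← e1]
  exact (Nat.mul_dvd_mul_right (e3 ▸ e2) _).trans (dvd_of_eq (by ring))

theorem sy (K : Type*) [Field K] [Finite K] (p : ℕ) [hp : Fact p.Prime] [CharP K p] (T : Sylow p (G2 K)) :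
    Nonempty (Gc K ≃* (T : Subgroup (G2 K))) := by
  have := Fintype.ofFinite K
  have : Finite (G2 K) := Finite.of_equiv _ (g2Equiv K).symm.toEquiv
  obtain ⟨n, -, hn⟩ := FiniteField.card K p
  let e : Gc K →* G2 K := (g2Equiv K).symm.toMonoidHom.comp (ez K)
  have hi : Function.Injective e := (g2Equiv K).symm.injective.comp ez_inj
  have c : Nat.card e.range = Fintype.card K ^ 6 := by
    rw [← Nat.card_congr (MonoidHom.ofInjective hi).toEquiv, Gc.card, Nat.card_eq_fintype_card]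
  have d := card_dvd (K := K)
  rw [← Nat.card_congr (g2Equiv K).toEquiv, ← e.range.card_mul_index, c, Nat.mul_dvd_mul_iff_left (by positivity)] at d
  have q : ∀ k, k ≠ 0 → p ∣ Fintype.card K ^ k := fun k hk => hn ▸ (dvd_pow_self p n.ne_zero).pow hk
  have m : ∀ k, k ≠ 0 → ¬ p ∣ Fintype.card K ^ k - 1 := fun k hk h =>
    hp.out.not_dvd_one ((Nat.dvd_sub_iff_right (Nat.one_le_pow _ _ Fintype.card_pos) (q k hk)).1 h)
  let P := (IsPGroup.of_card (p := p) (c.trans (by rw [hn, ← pow_mul]))).toSylow fun h =>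
    hp.out.not_dvd_mul (hp.out.not_dvd_mul (m 2 two_ne_zero) (m 3 three_ne_zero))
      (fun h => hp.out.not_dvd_one ((Nat.dvd_add_right (q 3 three_ne_zero)).1 h)) (h.trans d)
  exact ⟨(MonoidHom.ofInjective hi).trans (Sylow.equiv P T)⟩

end H22.GV
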