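/-
S3490 (groups with the element orders of `A₁₀` and Sylow 2-subgroups of order `2⁷`): vocabulary and first lemmas.
-/
import Cfsg.Agent.H17.GS10
import Cfsg.Agent.H28.ExtTr
import Cfsg.Agent.H3.Transfer
import Cfsg.Agent.H2.GWBase
import Cfsg.Prelude.Def_Spor_Mathieu
import Cfsg.Prelude.Def_LieTwisted
import Cfsg.Prelude.Def_Sz
import Cfsg.Prelude.Def_Spor_J2
import Cfsg.Prelude.Def_Spor_J3
import Cfsg.Prelude.Def_Spor_Conway
import Cfsg.Prelude.Def_Spor_Ly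
import Cfsg.Prelude.Def_Classical

set_option autoImplicit false
set_option linter.unusedSectionVars false

open Cfsg Subgroup H17.GS MatrixGroups
open H19 hiding eq_bot_mono
open H2.GW (V4 K4)
namespace H22.AT
universe u

/-- the element orders of `A₁₀` (and zero) -/
def W (n : ℕ) : Prop := n ≤ 10 ∨ n = 12 ∨ n = 15 ∨ n = 21
instance : DecidablePred W := fun n => inferInstanceAs (Decidable (n ≤ 10 ∨ n = 12 ∨ n = 15 ∨ n = 21))

def Om (G : Type u) [Group G] : Prop := ∀ g : G, W (orderOf g)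

structure Hy (G : Type u) [Group G] : Prop where
  om : Om G
  two : ¬ 256 ∣ Nat.card G

abbrev An (G : Type u) [Group G] (n : ℕ) : Prop := Nonempty (G ≃* alternatingGroup (Fin n))
def L34 (G : Type u) [Group G] : Prop :=
  ∃ (F : Type) (_ : Field F) (_ : Fintype F), Fintype.card F = 4 ∧ Nonempty (G ≃* PSL(3, F))
def U43 (G : Type u) [Group G] : Prop :=
  ∃ (F : Type) (_ : Field F) (_ : Fintype F), Fintype.card F = 9 ∧ Nonempty (G ≃* PSU 4 F 3)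
def Nm (G : Type u) [Group G] : Prop := An G 8 ∨ An G 9 ∨ An G 10 ∨ L34 G ∨ U43 G ∨ Spor.IsoJ2 G

/-- the simple groups satisfying `Hy` -/
def Cn (G : Type u) [Group G] : Prop := An G 5 ∨ An G 6 ∨ ((∃ g : G, orderOf g = 9) ∧ 64 ∣ Nat.card G ∧ ¬ 7 ∣ Nat.card G) ∨
  (7 ∣ Nat.card G ∧ ¬ 49 ∣ Nat.card G ∧ ¬ 64 ∣ Nat.card G) ∨ (7 ∣ Nat.card G ∧ Nm G)

structure Sm (G : Type u) [Group G] : Prop extends Hy G where
  sim : IsSimpleGroup G
  nab : ¬ IsMulCommutative G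

def IH (m : ℕ) : Prop := ∀ (X : Type u) [Group X] [Finite X], Nat.card X < m → Sm X → Cn X

/-- the generators of a copy of `A₄` -/
structure A4 {G : Type u} [Group G] (u v x : G) : Prop where
  uu : u * u = 1
  u1 : u ≠ 1
  uv : u * v = v * u
  xu : x * u * x⁻¹ = v
  xv : x * v * x⁻¹ = u * v

/-! ### chunk statements; paper proofs in `notes/AT.md` -/

/-- two commuting copies of `A₄` -/
def AA (X : Type u) [Group X] : Prop := ∃ u v x u' v' x' : X, A4 u v x ∧ A4 u' v' x' ∧ x ^ 3 = 1 ∧ x' ^ 3 = 1 ∧ u ≠ u' ∧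
  u * u' = u' * u ∧ u * v' = v' * u ∧ v * u' = u' * v ∧ v * v' = v' * v ∧
  x * u' = u' * x ∧ x * v' = v' * x ∧ x' * u = u * x' ∧ x' * v = v * x'
/-- automorphisms of odd order are inner -/
def Od (X : Type u) [Group X] : Prop := ∀ β : MulAut X, Odd (orderOf β) → ∃ s, β = MulAut.conj s
/-- the 3-elements have order 3 and are real -/
def Rl (X : Type u) [Group X] : Prop := ∀ y : X, y ^ 9 = 1 → y ^ 3 = 1 ∧ ∃ s, s * y * s⁻¹ = y⁻¹

def MJ2 : Prop := ∀ (X : Type u) [Group X], Spor.IsoJ2 X → AA X ∧ Od X ∧ 128 ∣ Nat.card X ∧ ∀ g : X, orderOf g ≠ 9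
def MU43 : Prop := ∀ (X : Type u) [Group X], U43 X → AA X ∧ Od X ∧ 128 ∣ Nat.card X ∧ ∀ g : X, orderOf g ≠ 21
def M34a : Prop := ∀ (X : Type u) [Group X], L34 X → Rl X ∧ 7 ∣ Nat.card X ∧
  (∃ a b : X, a * b = b * a ∧ a ^ 4 = 1 ∧ b ^ 4 = 1 ∧ a * a ≠ 1 ∧ b * b ≠ 1 ∧ a * a ≠ b * b) ∧
  (∀ β : MulAut X, ∃ s, β ^ 6 = MulAut.conj s) ∧
  ∀ β : MulAut X, β ^ 9 = 1 → (∃ s, β = MulAut.conj s) ∨ ∃ s, s ≠ 1 ∧ β s = s ∧ (s * s = 1 ∨ s ^ 7 = 1)
def M34b : Prop := ∀ (X : Type u) [Group X], L34 X → ∀ β : MulAut X, β * β = 1 → β ≠ 1 → ∀ f, orderOf f = 5 → β f = f →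
  ∃ u v x x', A4 u v x ∧ A4 u v x' ∧ x ^ 3 = 1 ∧ x' ^ 3 = 1 ∧ β u = u ∧ β v = v ∧ β x = x ∧ u * β x' * u⁻¹ = x'

/-- the groups in the lists of the theorems that are quoted -/
def Kn (G : Type u) [Group G] : Prop :=
  (∃ (F : Type) (_ : Field F) (_ : Fintype F), 4 ≤ Fintype.card F ∧ Nonempty (G ≃* PSL(2, F))) ∨
  (∃ (F : Type) (_ : Field F) (_ : Fintype F), Nonempty (G ≃* PSL(3, F))) ∨
  (∃ (F : Type) (_ : Field F) (_ : Fintype F) (q : ℕ), Fintype.card F = q ^ 2 ∧ 3 ≤ q ∧ Nonempty (G ≃* PSU 3 F q)) ∨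
  (∃ (F : Type) (_ : Field F) (_ : Fintype F), (CharP F 2 ∧ 4 ≤ Fintype.card F ∨ Fintype.card F = 3) ∧
    Nonempty (G ≃* PSp 2 F)) ∨
  (∃ (F : Type) (_ : Field F) (_ : Fintype F), Fintype.card F = 3 ∧
    (Nonempty (G ≃* PSL(4, F)) ∨ Nonempty (G ≃* Lie.chevG2.group F))) ∨
  U43 G ∨ IsSuzuki G ∨ IsRee G ∨ (∃ n, 7 ≤ n ∧ n ≤ 11 ∧ An G n) ∨ Spor.IsoJ2 G ∨ Spor.IsoJ3 G ∨ Spor.IsoM11 G ∨
  Spor.IsoM12 G ∨ Spor.IsoM22 G ∨ Spor.IsoM23 G ∨ IsJ1 G ∨ Spor.IsoJ1 G ∨ Spor.IsoMcL G ∨ Spor.IsoLy G ∨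
  256 ∣ Nat.card G

def LP : Prop := ∀ (G : Type u) [Group G] [Finite G], Sm G → Kn G → Cn G

/-- a Sylow 2-subgroup has class at most 2 -/
def Cl2 (G : Type u) [Group G] : Prop := ∃ T : Subgroup G, Syl 2 T ⊤ ∧ ⁅T, T⁆ ≤ C(T)

def RK : Prop := ∀ (G : Type u) [Group G] [Finite G], Sm G → IH.{u} (Nat.card G) →
  (∀ t : G, orderOf t = 2 → IsPConstrained 2 C[t]) → ∀ Q : Subgroup G, PG 2 Q → Q ≠ ⊥ → ¬ Sol N(Q) →
  SectionalPRankLE 2 4 G ∨ Cl2 G ∨ ∃ H : Subgroup G, IsStronglyEmbedded H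

/-- an involution with centralizer between `2 × A₆` and `2 . Aut(A₆)` -/
structure A6c {G : Type u} [Group G] (t : G) (L : Subgroup G) : Prop where
  tt : t * t = 1
  t1 : t ≠ 1
  nrm : L ⊴ C[t]
  a6 : An L 6
  cen : C[t] ⊓ C(L) ≤ zpowers t

def CP : Prop := ∀ (G : Type u) [Group G] [Finite G], Sm G → IH.{u} (Nat.card G) → ∀ t : G, orderOf t = 2 →
  ¬ IsPConstrained 2 C[t] → Kn G ∨ ∃ (t : G) (L : Subgroup G), A6c t L

def A6T : Prop := ∀ (G : Type u) [Group G] [Finite G], Sm G → ∀ (t : G) L, A6c t L → Cn G ∨ Cl2 G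

/-- `S` is the socle of `H = G / O(G)` -/
structure El' {G H : Type u} [Group G] [Group H] (π : G →* H) (S : Subgroup H) : Prop where
  hy : Hy G
  sur : Function.Surjective π
  odd : OG π.ker
  nrm : S.Normal
  sim : Sim S
  cen : C(S) = ⊥

def RED : Prop := ∀ (G : Type u) [Group G] [Finite G], Hy G → 128 ∣ Nat.card G → (∃ g : G, orderOf g = 7) →
  (∃ g : G, orderOf g = 8) → (∀ m, IH.{u} m) →
  ∃ (H : Type u) (_ : Group H) (_ : Finite H) (π : G →* H) (S : Subgroup H), El' π S ∧ Nm S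

variable {G : Type u} [Group G] [Finite G] {x y t u v : G} {a b n p : ℕ} {A B H K O U : Subgroup G}

theorem ex_ord (k : n ∣ orderOf x) : ∃ y ∈ zpowers x, orderOf y = n := by
  obtain ⟨m, e⟩ := k
  have h0 := orderOf_pos x
  have m0 : m ≠ 0 := by rintro rfl; simp_all
  refine ⟨x ^ m, pow_mem (mem_zpowers x) _, ?_⟩
  rw [orderOf_pow' _ m0, e, Nat.gcd_mul_left_left, Nat.mul_div_cancel _ (Nat.pos_of_ne_zero m0)]

theorem Om.dvd (h : Om G) (k : n ∣ orderOf x) : W n := let ⟨y, _, e⟩ := ex_ord k; e ▸ h y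

theorem Om.mul (h : Om G) (c : x * y = y * x) (hx : a ∣ orderOf x) (hy : b ∣ orderOf y) (k : a.Coprime b) :
    W (a * b) := by
  obtain ⟨x', ⟨i, rfl⟩, rfl⟩ := ex_ord hx
  obtain ⟨y', ⟨j, rfl⟩, rfl⟩ := ex_ord hy
  rw [← (Commute.zpow_zpow c i j).orderOf_mul_eq_mul_orderOf_of_coprime k]
  exact h _

theorem Om.inj {X : Type*} [Group X] (h : Om G) (f : X →* G) (hf : Function.Injective f) (g : X) : W (orderOf g) :=
  orderOf_injective f hf g ▸ h _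
theorem Om.surj {X : Type*} [Group X] (h : Om G) (f : G →* X) (hf : Function.Surjective f) (g : X) :
    W (orderOf g) := let ⟨y, e⟩ := hf g; h.dvd (e ▸ orderOf_map_dvd f y)
theorem Om.sub (h : Om G) (H : Subgroup G) : Om H := h.inj H.subtype (subtype_injective _)
theorem Om.quo (h : Om G) (K : Subgroup G) : Om (Quo K) := (h.sub _).surj _ (qmk_surj K)

theorem Hy.inj {X : Type u} [Group X] (h : Hy G) (f : X →* G) (hf : Function.Injective f) : Hy X :=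
  ⟨h.om.inj f hf, fun k => h.two (k.trans (card_dvd_of_injective f hf))⟩
theorem Hy.surj {X : Type u} [Group X] (h : Hy G) (f : G →* X) (hf : Function.Surjective f) : Hy X :=
  ⟨h.om.surj f hf, fun k => h.two (k.trans (card_dvd_of_surjective f hf))⟩
theorem Hy.sub (h : Hy G) (H : Subgroup G) : Hy H := h.inj H.subtype (subtype_injective _)
theorem Hy.quo (h : Hy G) (K : Subgroup G) : Hy (Quo K) := (h.sub _).surj _ (qmk_surj K)

theorem Om.prime (h : Om G) (hp : p.Prime) (k : p ∣ Nat.card G) : p ≤ 7 := by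
  have := Fact.mk hp
  obtain ⟨x, e⟩ := exists_prime_orderOf_dvd_card' p k
  have := e ▸ h x
  by_contra n
  rcases this with k | rfl | rfl | rfl
  · interval_cases p <;> simp_all (config := {decide := true})
  all_goals exact absurd hp (by decide)

theorem pr_cases (hp : p.Prime) (k : p ≤ 7) : p = 2 ∨ p = 3 ∨ p = 5 ∨ p = 7 := by
  interval_cases p <;> simp_all (config := {decide := true})

theorem Hy.le (h : Hy G) (hP : PG 2 H) : #H ≤ 128 := by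
  obtain ⟨k, e⟩ := hP.exists_card
  have : ¬ 8 ≤ k := fun l => h.two ((pow_dvd_pow 2 l).trans (e ▸ card_subgroup_dvd_card H))
  exact e ▸ Nat.pow_le_pow_right two_pos (by omega : k ≤ 7)

theorem dvd_ord (hp : p.Prime) (h : PiE {p} x) (x1 : x ≠ 1) : p ∣ orderOf x :=
  (h.dvd_of_ne_one (mt orderOf_eq_one_iff.1 x1)).2

theorem dvd_ord' (hp : p.Prime) (h : PiE {p} x) (x1 : x ^ p ≠ 1) : p * p ∣ orderOf x := by
  obtain ⟨k, e⟩ := h.exists_pow (orderOf_pos x).ne'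
  rw [e, ← sq]
  refine pow_dvd_pow _ (not_lt.1 fun l => x1 (orderOf_dvd_iff_pow_eq_one.1 ?_))
  rw [e]; exact (pow_dvd_pow p (by omega : k ≤ 1)).trans (pow_one p).dvd

/-- a `p`-element commuting with an element of order divisible by `a` -/
theorem Om.kill (h : Om G) (c : x * y = y * x) (hx : a ∣ orderOf x) (hp : p.Prime) (hy : PiE {p} y)
    (k : a.Coprime p ∧ ¬ W (a * p)) : y = 1 := by
  by_contra y1
  exact k.2 (h.mul c hx (dvd_ord hp hy y1) k.1)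

theorem Om.kill' (h : Om G) (c : x * y = y * x) (hx : a ∣ orderOf x) (hp : p.Prime) (hy : PiE {p} y)
    (k : a.Coprime (p * p) ∧ ¬ W (a * (p * p))) : y ^ p = 1 := by
  by_contra y1
  exact k.2 (h.mul c hx (dvd_ord' hp hy y1) k.1)

theorem pe_of (hp : p.Prime) {k : ℕ} (h : x ^ p ^ k = 1) : PiE {p} x :=
  (PiN.prime_pow hp k).dvd (orderOf_dvd_of_pow_eq_one h)
theorem pe1 (hp : p.Prime) (h : x ^ p = 1) : PiE {p} x := pe_of hp (k := 1) (by rwa [pow_one])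
theorem pe2 (h : x * x = 1) : PiE {2} x := pe1 Nat.prime_two (by rwa [sq])
theorem o2 (h : x * x = 1) (x1 : x ≠ 1) : 2 ∣ orderOf x := (ord2_of h x1).ge.antisymm' (ord2_of h x1).le ▸ dvd_rfl

/-- elements of odd order centralizing an involution -/
theorem Om.odd (h : Om G) (tt : t * t = 1) (t1 : t ≠ 1) (c : x ∈ C[t]) (k : PiE {2}ᶜ x) :
    orderOf x = 1 ∨ orderOf x = 3 ∨ orderOf x = 5 := by
  have c2 := k.coprime_prime Nat.prime_two
  have := h.mul (mem_cent1.1 c).symm (o2 tt t1) dvd_rfl c2.symm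
  have l := orderOf_pos x
  have := Nat.coprime_two_right.1 c2
  obtain ⟨m, e⟩ := this
  unfold W at *; omega

/-! ### lifting through a kernel of odd order -/
section
variable {Q : Type u} [Group Q] [Finite Q] {π : G →* Q}

theorem map_pe {σ : Set ℕ} (h : PiE σ x) : PiE σ (π x) := h.dvd (orderOf_map_dvd π x)

theorem ex_pe {σ : Set ℕ} (h : PiE σ (π x)) : ∃ y ∈ zpowers x, π y = π x ∧ PiE σ y := by
  obtain ⟨m, e, k⟩ := constt_spec σ x
  refine ⟨_, m, ?_, e⟩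
  have c : (π (constt σ x))⁻¹ * π x = π x * (π (constt σ x))⁻¹ := by
    rw [← map_inv, ← map_mul, ← map_mul, (Commute.inv_left (constt_comm σ x)).eq]
  have := (map_pe (π := π) k)
  rw [map_mul, map_inv] at this
  exact inv_mul_eq_one.1 (((map_pe e).e_inv.e_mul h c).e_eq_one this)

theorem inj_on (ho : OG π.ker) (hU : PG 2 U) (hx : x ∈ U) (hy : y ∈ U) (e : π x = π y) : x = y :=
  inv_mul_eq_one.1 (ho.eq_one' hU (by simp [MonoidHom.mem_ker, e]) (mul_mem (inv_mem hx) hy))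

theorem lift2 (hs : Function.Surjective π) {V : Subgroup Q} (hV : PG 2 V) :
    ∃ U : Subgroup G, PG 2 U ∧ U.map π = V ∧ ∀ q ∈ N(V), ∃ x ∈ N(U), π x = q := by
  obtain ⟨U, hU⟩ := exists_syl 2 (V.comap π)
  have e : U.map π = V := by
    have := hU.map π
    rw [map_comap_eq_self_of_surjective hs] at this
    exact this.eq_self hV
  have kU : π.ker ⊔ U = V.comap π := by rw [← e, comap_map_eq, sup_comm]
  refine ⟨U, hU.pi, e, fun q hq => ?_⟩
  obtain ⟨x, rfl⟩ := hs q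
  have n : x ∈ N(V.comap π) := mem_norm_of_cj_le fun y hy => by
    obtain ⟨z, hz, rfl⟩ := mem_cj'.1 hy
    simpa using conj_mem_of_norm hq hz
  obtain ⟨g, hg, k⟩ := (hU.Jnorm n).sconj hU
  rw [← kU] at hg
  obtain ⟨c, hc, d, hd, rfl⟩ := (mem_sup_of_norm' (le_normalizer_of_normal)).1 (sup_comm π.ker U ▸ hg)
  refine ⟨c⁻¹ * (c * d * x), mul_mem (inv_mem (le_normalizer hc)) (mem_norm_iff_cj.2 (by rwa [cj_mul])), ?_⟩
  simp [MonoidHom.mem_ker.1 hd]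
end

/-! ### `A₄` acting on a group of odd order -/

theorem A4.vv (o : A4 u v x) : v * v = 1 := o.xu ▸ conj_sq o.uu x
theorem A4.v1 (o : A4 u v x) : v ≠ 1 := o.xu ▸ conj_ne_one o.u1 x
theorem A4.ne (o : A4 u v x) : u ≠ v := fun e => conj_ne_one o.v1 x (by rw [o.xv, ← e, o.uu])
theorem A4.k4 (o : A4 u v x) : K4 u v := ⟨ord2_of o.uu o.u1, ord2_of o.vv o.v1, o.ne, o.uv⟩
theorem A4.xw (o : A4 u v x) : x * (u * v) * x⁻¹ = u := by
  rw [← conj_mul, o.xu, o.xv, o.uv, ← mul_assoc, o.vv, one_mul]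
theorem A4.rot (o : A4 u v x) : A4 v (u * v) x :=
  ⟨o.vv, o.v1, by rw [← mul_assoc, ← o.uv], o.xv, by rw [o.xw, o.uv, ← mul_assoc, o.vv, one_mul]⟩

theorem A4.step (o : A4 u v x) (ho : OG O) (nu : u ∈ N(O)) (nv : v ∈ N(O)) (nx : x ∈ N(O)) (x3 : x ^ 3 = 1)
    (h : ∀ w ∈ O, (x * w) ^ 3 = 1) : O ⊓ C[u] ≤ C[v] := fun w ⟨hw, c⟩ => by
  replace c := mem_cent1.1 c
  have e : x * w * x⁻¹ * (x * (x * w * x⁻¹) * x⁻¹) * w = 1 := by
    rw [← h w hw]; calc _ = x * w * x * w * (x ^ 3)⁻¹ * x * w := by simp only [pow_succ]; group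
      _ = _ := by rw [x3]; simp only [pow_succ]; group
  set w1 := x * w * x⁻¹ with d1
  have c1 : w1 * v = v * w1 := by rw [← o.xu, d1, conj_mul, conj_mul, c]
  have c2 : x * w1 * x⁻¹ * (u * v) = u * v * (x * w1 * x⁻¹) := by rw [← o.xv, conj_mul, conj_mul, c1]
  have e2 : x * w1 * x⁻¹ = (w * w1)⁻¹ := by
    rw [mul_inv_rev, eq_mul_inv_iff_mul_eq, eq_inv_iff_mul_eq_one, ← e]
    calc _ = w1⁻¹ * (w1 * (x * w1 * x⁻¹) * w) * w1 := by group
      _ = _ := by rw [e]; group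
  rw [e2] at c2
  replace c2 : w * w1 * (u * v) = u * v * (w * w1) := (Commute.inv_left_iff.1 c2 :)
  -- `α = w⁻¹ (v w v⁻¹)` is fixed and inverted by `v`
  have iu := inv_eq_of_mul_eq_one_right o.uu
  have iv := inv_eq_of_mul_eq_one_right o.vv
  have k : w⁻¹ * (v * w * v⁻¹) = u * w1 * u⁻¹ * w1⁻¹ := by
    have : v * w * v⁻¹ = w * (u * w1 * u⁻¹) * w1⁻¹ := by
      calc _ = u * (u * v * (w * w1)) * w1⁻¹ * v⁻¹ := by rw [← mul_assoc u, ← mul_assoc u, o.uu]; group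
        _ = u * w * w1 * u * (v * w1⁻¹ * v⁻¹) := by rw [← c2]; group
        _ = _ := by rw [← c, iu, (Commute.inv_left c1).eq.symm]; group
    rw [this]; group
  have f : v * (u * w1 * u⁻¹ * w1⁻¹) * v⁻¹ = u * w1 * u⁻¹ * w1⁻¹ := by
    have cu : Commute u v := o.uv
    have cw : Commute w1 v := c1
    rw [mul_inv_eq_iff_eq_mul]
    exact (((cu.mul_left cw).mul_left cu.inv_left).mul_left cw.inv_left).eq.symm
  rw [← k] at f
  have m : w⁻¹ * (v * w * v⁻¹) ∈ O := mul_mem (inv_mem hw) (conj_mem_of_norm nv hw)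
  have := ho.eq_one m (by
    nth_rw 1 [← f]
    calc _ = v * w⁻¹ * v * w * (v * v)⁻¹ * w⁻¹ * v * w * v⁻¹ := by group
      _ = v * w⁻¹ * (v * v) * w * v⁻¹ := by nth_rw 1 [o.vv]; group
      _ = _ := by rw [o.vv]; group)
  rw [inv_mul_eq_one] at this
  exact mem_cent1.2 (by nth_rw 1 [this]; group)

theorem A4.al0 (o : A4 u v x) (ho : OG O) (nu : u ∈ N(O)) (nv : v ∈ N(O)) (nx : x ∈ N(O)) (x3 : x ^ 3 = 1)
    (h : ∀ w ∈ O, (x * w) ^ 3 = 1) : O ≤ C[u] := by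
  have s1 := o.step ho nu nv nx x3 h
  have s2 := o.rot.step ho nv (mul_mem nu nv) nx x3 h
  have s3 := o.rot.rot.step ho (mul_mem nu nv) (mul_mem nv (mul_mem nu nv)) nx x3 h
  have e : v * (u * v) = u := by rw [o.uv, ← mul_assoc, o.vv, one_mul]
  rw [e] at s3
  exact o.k4.gen (og_iff.1 ho) nu nv inf_le_right (fun w k => s3 ⟨k.1, s2 k⟩) s3

end H22.AT
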