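import Cfsg.Agent.H22.UM1

/-! The `A₅`-block configuration does not occur (chunk A5X). -/

set_option autoImplicit false
set_option linter.unusedVariables false
set_option linter.unusedSectionVars false

namespace H22.UM
open H9 hiding zj
open Cfsg Subgroup H28 H29 H29.PU H29.BB H28.GC Equiv H21.UM
open scoped commutatorElement

universe u
variable {X : Type u} [Group X] [Finite X] {T M S G L B Q V D H K R U Y : Subgroup X} {a b c d e g r s t u v x y z z' : X}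
  {π : X → Perm (Fin 5)} {ψ : X → Fin 5 → ZMod 2}

theorem two_step (hT : IsSylowIn 2 T ⊤) (hO : pResidual 2 X = ⊤) (hB : B ≤ T) (tB : Two T B) (h1 : Q ≤ B) (h2 : Two B Q)
    (hn : T ≤ 𝐍 Q) (hu : u ∈ T) (u2 : u ∉ B) (hd : d ∈ B) (d1 : d ∉ Q) (dd : d * d = 1) (hR : IsPGroup 2 R) (l : R ≤ 𝐜 d)
    (m : d ∈ R) : ∃ g, cj g R ≤ T ∧ (g * d * g⁻¹ ∈ B → g * d * g⁻¹ ∈ Q) := by
  by_cases e : u * u ∈ Q
  swap
  · exact (cyc_thompson hT hO tB h2 hn hu u2 e dd hR l m).imp fun g k => ⟨k.1, fun _ => k.2⟩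
  have k : ∀ y ∈ zpowers u ⊔ Q, y ∈ B → y ∈ Q := fun y hy h => (mem_ext (hn hu) e hy).resolve_right fun k =>
    u2 ((mul_mem_cancel_right h).1 (h1 k))
  refine (extremal_thompson_two hT (le_antisymm ?_ (two_le fun e => d1 (k d (e (hB hd)) hd))) (by rw [sq, dd])
    (by rw [hO]; trivial) hR l m).imp fun g k' => ⟨k'.1, k _ k'.2⟩
  have e1 := relIndex_mul_relIndex Q B T h1 hB
  have e2 := relIndex_mul_relIndex Q _ T (le_sup_right : _ ≤ zpowers u ⊔ Q) (sup_le (zpowers_le.2 hu) (h1.trans hB))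
  have e3 := Nat.mul_le_mul (two_idx h2) (two_idx tB)
  have e4 := two_le (H := Q) (K := zpowers u ⊔ Q) fun k => u2 (h1 (k (mem_sup_left (mem_zpowers u))))
  nlinarith

/-- the configuration with a central involution -/
structure Cz (T M S G L B Q V D : Subgroup X) (x : X) (π : X → Perm (Fin 5)) (ψ : X → Fin 5 → ZMod 2) (z z' : X) : Prop
    extends Cf T M S G L B Q V D x π ψ where
  zT : z ∈ T
  z2 : z * z = 1
  z1 : z ≠ 1
  Tz : T ≤ 𝐜 z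
  zV : z' ∈ V
  ψz : ψ z' = ω
  zD : z'⁻¹ * z ∈ D

theorem Cf.exz' (h : Cf T M S G L B Q V D x π ψ) : ∃ z z', Cz T M S G L B Q V D x π ψ z z' := by
  obtain ⟨z, a1, a2, a3, a4⟩ := h.exz
  obtain ⟨v, hv, d, hd, e⟩ := h.dec z (h.F0 (h.SG (h.zS a1 a4)) ((h.V0V.trans h.VT).trans a4))
  have k : ∀ σ ∈ K4, ∀ i, ψ v (σ i) = ψ v i := fun σ hσ => by
    obtain ⟨g, hg, rfl⟩ := h.πs σ
    exact (h.fix hg hv).1 (mem_c_symm.1 ((mul_mem_cancel_right (mem_c_symm.1 (mem_c_of h.cD hg hd))).1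
      (e ▸ mem_c_symm.1 (a4 (h.ST (h.PS ⟨hg, hσ⟩))))))
  refine ⟨z, v, h, a1, a2, a3, a4, hv, (d2 _ (h.ψe v hv) (k _ (by decide)) (k _ (by decide))).resolve_left fun e' => ?_,
    by simpa [e] using hd⟩
  rw [h.ψi v hv e', one_mul] at e
  have n : 𝐜 z ≤ 𝐍 (zpowers z) := centralizer_zpowers z ▸ centralizer_le_normalizer _
  exact h.xS (h.star (pg_z a2) (mt zpowers_eq_bot.1 a3) ((h.cD.trans (cen_le_c (e ▸ hd))).trans n) h.xT (n (a4 h.xT)))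

/-- the 2-core of the centralizer -/
abbrev Yz (z : X) : Subgroup X := O₂ (𝐜 z)

namespace Cz
variable (h : Cz T M S G L B Q V D x π ψ z z')
include h
set_option hygiene false in
local notation "𝐘" => Yz z
theorem Kz (hg : g ∈ G) (k : π g 4 = 4) : g ∈ 𝐜 z := mem_c_symm.1 ((mul_mem_cancel_left (inv_mem (mem_c_symm.1
  ((h.fix hg h.zV).2 (h.ψz ▸ d9 _ k))))).1 (mem_c_symm.1 (mem_c_of h.cD hg h.zD)))
theorem YT : 𝐘 ≤ T := (h.syl.mono h.Tz le_top).pCoreOf_le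
theorem nY : 𝐜 z ≤ 𝐍 𝐘 := le_normalizer_pCoreOf _ _
theorem TY : T ≤ 𝐍 𝐘 := h.Tz.trans h.nY
theorem cY (h1 : c ∈ 𝐜 z) (h2 : c ∈ 𝐂 𝐘) : c ∈ 𝐘 := h.chc (h.tc h.z2 h.z1 h.Tz) ⟨h1, h2⟩
theorem Y4 (h1 : y ∈ 𝐘) (h2 : y ∈ G) : y ∈ h.P4 := by
  obtain ⟨g, hg, e, -⟩ := h.exκ
  have m := mul_mem (mul_mem hg h2) (inv_mem hg)
  have := (h.πS _ m).1 (h.TG (h.YT (conj_mem_of_mem_normalizer (h.nY (h.Kz hg (by rw [e]; decide))) h1)) m)
  rw [h.πc hg h2, e] at this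
  exact ⟨h2, d3 _ ((h.πS _ h2).1 (h.TG (h.YT h1) h2)) this⟩
theorem YP : 𝐘 ≤ h.P4 := by
  suffices 𝐘 ≤ S from fun y k => h.Y4 k (h.SG (this k))
  by_contra n
  obtain ⟨s, s1, s2⟩ := SetLike.not_le_iff_exists.1 fun l => n (le_sup_right.trans
    (eq_of_inf_normalizer_le (h.pg.to_le (sup_le h.ST h.YT)) le_sup_left l).ge)
  obtain ⟨a, ha, y, hy, rfl⟩ := (mem_sup_of_le_normalizer (h.ST.trans h.TY)).1 s1.1
  obtain ⟨m, m1, m2⟩ := pw2 (isPGroup_pCoreOf _ _) hy fun k => s2 (mul_mem ha k)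
  have y1 := pow_mem ((mul_mem_cancel_left (le_normalizer ha)).1 s1.2) m
  have y2 := pow_mem hy m
  refine h.cov' (h.YT y2) y1 m1 m2 ?_
  rintro _ ⟨u, hu, rfl⟩
  exact (mul_mem_cancel_right (inv_mem (h.QP (h.VQ hu)))).1
    (h.Y4 (comm_mem_of (h.VT.trans h.TY) y2 hu) (h.SG (comm_mem_of' y1 (h.QS (h.VQ hu)))))
theorem YG : 𝐘 ≤ G := fun _ k => (h.YP k).1
theorem YQ : ¬ 𝐘 ≤ Q := fun l => by
  have e : 𝐘 = Q := le_antisymm l fun q k => h.cY (h.Tz (h.ST (h.QS k))) (centralizer_anti l (ea_le_centralizer h.ea k))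
  exact h.xS (h.star (h.pS.to_le h.QS) (fun k => h.z1 (mem_bot.1 (k ▸ (mul_mem_cancel_left (inv_mem (h.VQ h.zV))).1
    (h.DQ h.zD)))) h.nQ h.xT (e ▸ h.TY h.xT))
theorem Yall : ∀ σ ∈ K4, ∃ r ∈ 𝐘, π r = σ :=
  let ⟨g, hg, e, _⟩ := h.exκ; h.all4 hg e (h.nY (h.Kz hg (by rw [e]; decide))) h.YP h.YQ
theorem V0Y : h.V0 ≤ 𝐘 := h.v0le (h.VT.trans h.TY) h.YG h.Yall
theorem covx : ¬ cj x V ≤ h.P4 := h.cov' h.xT h.xN h.xS h.x2
theorem VY : ¬ V ≤ 𝐘 := fun l => h.covx ((cj_le_of_mem_normalizer l (h.TY h.xT)).trans h.YP)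
theorem YV (h1 : v ∈ 𝐘) (h2 : v ∈ V) : v ∈ h.V0 := by_contra fun n => h.VY (h.two h.V0Y h2 n h1)
theorem DC : D ≤ 𝐂 𝐘 := le_centralizer_comm.1 (h.YG.trans h.cD)
theorem DY : D ≤ 𝐘 := fun _ k => h.cY (h.Tz (h.ST (h.QS (h.DQ k)))) (h.DC k)
theorem ctr (h1 : c ∈ 𝐘) (h2 : c ∈ 𝐂 𝐘) : c ∈ D ∨ z'⁻¹ * c ∈ D := by
  obtain ⟨v, hv, d, hd, rfl⟩ := h.dec c (h.F0 (h.YG h1) (h.V0Y.trans (le_c_iff.2 h2)))
  have k : ∀ σ ∈ K4, ∀ i, ψ v (σ i) = ψ v i := fun σ hσ => by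
    obtain ⟨g, hg, rfl⟩ := h.Yall σ hσ
    exact (h.fix (h.YG hg) hv).1 (le_c_iff.2 ((mul_mem_cancel_right (h.DC hd)).1 h2) hg)
  exact (d2 _ (h.ψe v hv) (k _ (by decide)) (k _ (by decide))).imp (fun e => by simpa [h.ψi v hv e] using hd)
    fun e => by simpa [h.inj hv h.zV (e.trans h.ψz.symm)] using hd
theorem xV (hu : u ∈ V) (k : x * u * x⁻¹ ∈ h.P4) : u ∈ h.V0 := by_contra fun n => h.covx (cj_le_iff.2 (h.two
  (cj_le_iff.1 ((cj_le_of_mem_normalizer h.V0Y (h.TY h.xT)).trans h.YP)) hu n (by rwa [H28.mem_cj, inv_inv])))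
theorem ext : ∃ t ∈ 𝐘, t * t = 1 ∧ π t = τ₀ := by
  obtain ⟨v, hv, n⟩ : ∃ v ∈ h.V0, x * v * x⁻¹ ∉ Q := by
    by_contra! k
    obtain ⟨b, b1, b2⟩ := h.exb
    refine b2 (h.QP (h.F0 (h.BG b1) fun v hv => mem_c_symm.1 (sup_le ?_ ((ea_le_centralizer h.ea).trans
      (cen_le_c (h.VQ hv.1))) (h.cov x⁻¹ (inv_mem h.xT) (inv_mem h.xN) (mt inv_mem_iff.1 h.xS)
        (by rw [← mul_inv_rev]; exact inv_mem h.x2) b1))))
    rw [cj_le_iff, inv_inv, cj_c]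
    exact h.VQ.trans ((ea_le_centralizer h.ea).trans (cen_le_c (k v hv)))
  have m := conj_mem_of_mem_normalizer (h.TY h.xT) (h.V0Y hv)
  exact ⟨_, m, conj_sq (h.vv hv.1), ((d7 _ ((h.πB _ (h.YG m)).1 (conj_mem_of_mem_normalizer h.xB
    (h.QB (h.VQ hv.1))))).2.1 (h.YP m).2).resolve_left fun e => n ((h.πk _ (h.YG m)).1 e)⟩
theorem cq (ht : t ∈ G) (t2 : t * t = 1) (hv : v ∈ V) (hd : d ∈ D) : v * d * t * (v * d * t) = v * (t * v * t⁻¹) := by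
  rw [inv_eq_of_mul_eq_one_right t2]
  calc _ = v * (d * (t * v) * d) * t := by group
    _ = _ := by rw [← mem_c.1 (mem_c_of h.cD (mul_mem ht (h.VG hv)) hd), mul_assoc (t * v), sq_of_ea h.ea (h.DQ hd)]; group
theorem sq (hy : y ∈ 𝐘) : y * y = 1 ∨ y * y = z' := by
  obtain ⟨t, t1, t2, t3⟩ : ∃ t ∈ 𝐘, t * t = 1 ∧ π y = π t := by
    obtain ⟨t, t1, t2, t3⟩ := h.ext
    obtain ⟨g, hg, e, -⟩ := h.exκ
    have n := h.nY (h.Kz hg (by rw [e]; decide))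
    have r3 := conj_mem_of_mem_normalizer n t1
    rcases d4 τ₀ (by decide) (by decide) _ (h.YP hy).2 with k | k | k | k <;> rw [k]
    exacts [⟨1, one_mem _, mul_one _, h.π1.symm⟩, ⟨t, t1, t2, t3.symm⟩, ⟨_, r3, conj_sq t2, by rw [h.πc hg (h.YG t1), e, t3]⟩,
      ⟨_, conj_mem_of_mem_normalizer n r3, conj_sq (conj_sq t2), by rw [h.πc hg (h.YG r3), h.πc hg (h.YG t1), e, t3]⟩]
  have tG := h.YG t1
  obtain ⟨v, hv, d, hd, e⟩ := h.dec _ ((h.πk _ (mul_mem (h.YG hy) (inv_mem tG))).1 (by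
    rw [h.πm _ (h.YG hy) _ (inv_mem tG), h.πi tG, t3, mul_inv_cancel]))
  have v0 := h.YV ((mul_mem_cancel_right (h.DY hd)).1 (e ▸ mul_mem hy (inv_mem t1))) hv
  have m := mul_mem hv (h.cV tG hv)
  have k : ∀ w : Fin 5 → ZMod 2, (∀ i, ψ v (π t i) + ψ v i = w (π t i)) → ψ (v * (t * v * t⁻¹)) = w := fun w k => funext fun i => by
    obtain ⟨j, rfl⟩ := (π t).surjective i
    rw [h.ψm _ hv _ (h.cV tG hv), Pi.add_apply, h.ψc t tG v hv, k]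
  rw [mul_inv_eq_iff_eq_mul.1 e, h.cq tG t2 hv hd]
  exact (d6 _ (h.YP t1).2 _ (h.ψe v hv) v0.2).imp (fun e => h.ψi _ m (k 0 e)) fun e => h.inj m h.zV ((k ω e).trans h.ψz.symm)
theorem exsq : ∃ u ∈ 𝐘, ∃ t ∈ 𝐘, u * u = 1 ∧ t * t = 1 ∧ u * t * (u * t) = z' := by
  obtain ⟨t, t1, t2, t3⟩ := h.ext
  obtain ⟨u, hu, e⟩ := h.ψs ![1, 0, 1, 0, 0] (by decide)
  have tG := h.YG t1
  refine ⟨u, h.V0Y ⟨hu, by rw [e]; rfl⟩, t, t1, h.vv hu, t2, ?_⟩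
  rw [← mul_one u, h.cq tG t2 hu (one_mem _)]
  refine h.inj (mul_mem hu (h.cV tG hu)) h.zV (funext fun i => ?_)
  obtain ⟨j, rfl⟩ := (π t).surjective i
  rw [h.ψm _ hu _ (h.cV tG hu), Pi.add_apply, h.ψc t tG u hu, e, t3, h.ψz]
  revert j; decide
theorem dx (hd : d ∈ D) (k : x * d * x⁻¹ ∈ D) : d = 1 := by_contra fun n => h.xS (h.star (U := D ⊓ cj x⁻¹ D)
  (h.pS.to_le (inf_le_left.trans (h.DQ.trans h.QS))) (fun e => n (mem_bot.1 (e ▸ mem_inf.2 ⟨hd, by rwa [H28.mem_cj, inv_inv]⟩)))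
  (le_normalizer_of_le_centralizer (h.cD.trans (centralizer_anti inf_le_left))) h.xT (mem_normalizer_of_cj_le (by
    rintro _ ⟨e, ⟨e1, e2⟩, rfl⟩
    refine ⟨by simpa using H28.mem_cj.1 e2, H28.mem_cj.2 ?_⟩
    have := (mem_c''.1 (mem_c_of h.cD (h.SG h.x2) e1)).symm ▸ (show e ∈ D from e1)
    simpa [mul_assoc] using this)))
theorem zz : z' = z := by
  obtain ⟨u, u1, t, t1, -, -, e⟩ := h.exsq
  have := h.sq (conj_mem_of_mem_normalizer (h.TY h.xT) (mul_mem u1 t1))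
  rw [conj_mul, e] at this
  have k := this.resolve_left (conj_ne fun e => absurd (h.ψz.symm.trans (e ▸ h.ψ1)) (by decide))
  exact inv_mul_eq_one.1 (h.dx h.zD (by rw [← conj_mul, ← conj_inv, k, mem_c''.1 (h.Tz h.xT)]; exact h.zD))
theorem zY : z ∈ 𝐘 := h.cY (self_mem_c z) (le_c_iff.1 (h.YT.trans h.Tz))
theorem bot (k : K32.{u}) : D ≠ ⊥ := by
  rintro rfl
  have zc : ∀ y ∈ 𝐘, y * z = z * y := fun y hy => mem_c.1 (h.Tz (h.YT hy))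
  have sq : ∀ y ∈ 𝐘, y * y = 1 ∨ y * y = z := fun y hy => h.zz ▸ h.sq hy
  have e1 : Q.relIndex 𝐘 = # K4 := le_antisymm (relIndex_le_card (fun a : 𝐘 => (⟨π a, (h.YP a.2).2⟩ : K4)) fun a b e =>
    (h.πk _ (h.YG (mul_mem (inv_mem a.2) b.2))).1 (by
      rw [h.πm _ (inv_mem (h.YG a.2)) _ (h.YG b.2), h.πi (h.YG a.2), show π a = π b from congrArg Subtype.val e, inv_mul_cancel]))
    (by
      choose f f1 f2 using h.Yall
      exact le_relIndex_of_inj (fun σ : K4 => f σ σ.2) (fun σ => f1 _ _) fun σ σ' e => Subtype.ext (by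
        have := h.πQ e
        rwa [h.πm _ (inv_mem (h.YG (f1 _ _))) _ (h.YG (f1 _ _)), h.πi (h.YG (f1 _ _)), f2, f2, inv_mul_eq_one] at this))
  have QV : Q ≤ V := fun q hq => let ⟨_, hv, _, hd, e⟩ := h.dec q hq; by rwa [e, mem_bot.1 hd, mul_one]
  have e2 : # ↥(Q ⊓ 𝐘) = 8 := card_W ▸ Nat.card_congr (Equiv.ofBijective
    (fun a => ⟨ψ a, h.ψe _ (QV a.2.1), (h.YV a.2.2 (QV a.2.1)).2⟩) ⟨fun a b e =>
      Subtype.ext (h.inj (QV a.2.1) (QV b.2.1) (congrArg Subtype.val e)), fun ⟨w, w1, w2⟩ =>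
        let ⟨v, hv, e⟩ := h.ψs w w1; ⟨⟨v, h.VQ hv, h.V0Y ⟨hv, e ▸ w2⟩⟩, Subtype.ext e⟩⟩)
  have e3 : # 𝐘 = 32 := by rw [← card_idx Q 𝐘, e1, e2, card_K4]
  obtain ⟨u, u1, t, t1, u2, t2, e⟩ := h.exsq
  refine k X z h.sim h.na (h.chc (h.tc h.z2 h.z1 h.Tz)) ⟨h.zY, h.z1, h.z2, fun a ha b hb => ?_, sq, zc, fun c h1 h2 => ?_,
    u, u1, t, t1, fun c => h.z1 ?_⟩ e3 ?_
  · have m := fun y hy => (H0.mem_zpowers_inv h.z2).2 (sq y hy)
    refine (H0.mem_zpowers_inv h.z2).1 ?_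
    rw [show ⁅a, b⁆ = a * a * (a⁻¹ * b * (a⁻¹ * b)) * (b * b)⁻¹ by rw [commutatorElement_def]; group]
    exact mul_mem (mul_mem (m a ha) (m _ (mul_mem (inv_mem ha) hb))) (inv_mem (m b hb))
  · exact (h.ctr h1 (mem_centralizer'.2 fun y hy => (h2 y hy).symm)).imp mem_bot.1
      fun e => (inv_mul_eq_one.1 (mem_bot.1 e)).symm.trans h.zz
  · rw [← h.zz, ← e, mul_assoc, ← mul_assoc t, ← c, mul_assoc u, t2, mul_one, u2]
  obtain ⟨b, b1, b2⟩ := h.exb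
  have i1 := dbl (lt_of_le_of_ne h.YP fun e => h.VY (h.VQ.trans (h.QP.trans e.ge)))
  have i2 := dbl (lt_of_le_of_ne h.PS fun e => b2 (e.ge (h.BS b1)))
  have i3 := dbl h.lt
  obtain ⟨n, hn⟩ := IsPGroup.exists_card_eq h.pg
  refine .trans ?_ (card_subgroup_dvd_card T)
  rw [hn] at i3 ⊢
  exact Nat.pow_dvd_pow 2 (m := 8) ((Nat.pow_le_pow_iff_right Nat.one_lt_two).1 (by omega))
theorem zD' : z ∉ D := fun k => h.z1 (h.dx k (by rwa [mem_c''.1 (h.Tz h.xT)]))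
theorem nC : 𝐜 z ≤ 𝐍 (𝐂 𝐘) := le_normalizer_centralizer h.nY
theorem xd (hd : d ∈ D) (d1 : d ≠ 1) : z⁻¹ * (x * d * x⁻¹) ∈ D := h.zz ▸ (h.ctr (conj_mem_of_mem_normalizer (h.TY h.xT) (h.DY hd))
  (conj_mem_of_mem_normalizer (h.nC (h.Tz h.xT)) (h.DC hd))).resolve_left fun k => d1 (h.dx hd k)
variable (hd : d ∈ D) (d1 : d ≠ 1)
include hd d1
theorem D2 (he : e ∈ D) : e = 1 ∨ e = d := or_iff_not_imp_left.2 fun n => inv_mul_eq_one.1 (h.dx (mul_mem (inv_mem he) hd) (by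
  simpa [mul_assoc] using mul_mem (inv_mem (h.xd he n)) (h.xd hd d1)))
theorem dz : g * d * g⁻¹ ≠ z := fun e => by
  have n : 𝐜 d ≤ 𝐍 (zpowers d) := centralizer_zpowers d ▸ centralizer_le_normalizer _
  have := (h.p2 h.cp h.SG h.nm (pg_z (sq_of_ea h.ea (h.DQ hd))) (mt zpowers_eq_bot.1 d1)
    ((h.cD.trans (cen_le_c hd)).trans n)).card_le (isPGroup_cj g⁻¹ h.pg) (le_trans (by
      rw [cj_le_iff, inv_inv, cj_c, e]; exact h.Tz) n)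
  rw [card_cj] at this
  exact (card_lt_of_lt h.lt).not_ge this
theorem xd' : x * d * x⁻¹ = z * d :=
  (h.D2 hd d1 (h.xd hd d1)).elim (fun e => absurd (inv_mul_eq_one.1 e).symm (h.dz hd d1)) inv_mul_eq_iff_eq_mul.1
theorem ctr4 (h1 : c ∈ 𝐘) (h2 : c ∈ 𝐂 𝐘) : (c = 1 ∨ c = d) ∨ c = z ∨ c = z * d :=
  (h.ctr h1 h2).imp (h.D2 hd d1) fun k => (h.D2 hd d1 (h.zz ▸ k)).imp (fun e => (inv_mul_eq_one.1 e).symm) inv_mul_eq_iff_eq_mul.1
theorem cd (hg : g ∈ 𝐜 z) : g * d * g⁻¹ = d ∨ g * d * g⁻¹ = z * d := (h.ctr4 hd d1 (conj_mem_of_mem_normalizer (h.nY hg) (h.DY hd))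
  (conj_mem_of_mem_normalizer (h.nC hg) (h.DC hd))).imp (·.resolve_left (conj_ne d1)) (·.resolve_left (h.dz hd d1))
theorem syD : IsSylowIn 2 S (𝐜 d) :=
  have n : 𝐜 d ≤ 𝐍 (zpowers d) := centralizer_zpowers d ▸ centralizer_le_normalizer _
  have l := h.cD.trans (cen_le_c hd)
  (h.p2 h.cp h.SG h.nm (pg_z (sq_of_ea h.ea (h.DQ hd))) (mt zpowers_eq_bot.1 d1) (l.trans n)).mono (h.SG.trans l) n
theorem Td (h1 : t ∈ T) (h2 : t ∈ 𝐜 d) : t ∈ S :=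
  ((h.syD hd d1).max _ (h.pg.to_le inf_le_left) (le_inf h.ST (h.syD hd d1).le) inf_le_right).le ⟨h1, h2⟩
theorem twoT : Two T S := fun a ha b hb a1 b1 => h.Td hd d1 (mul_mem ha hb) (mem_c''.2 (by
  have k : ∀ a ∈ T, a ∉ S → a * d * a⁻¹ = z * d := fun a ha n =>
    (h.cd hd d1 (h.Tz ha)).resolve_left fun e => n (h.Td hd d1 ha (mem_c''.2 e))
  calc _ = a * (b * d * b⁻¹) * a⁻¹ := by group
    _ = _ := by rw [k b hb b1, ← conj_mul, k a ha a1, mem_c''.1 (h.Tz ha), ← mul_assoc, h.z2, one_mul]))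
theorem dq (l : V ≤ R) (h1 : r ∈ R) (h2 : r ∈ G) (hg : g ∈ G) (e : π r = π g) : g ∈ R ∨ g * d ∈ R := by
  obtain ⟨v, hv, e, he, k⟩ := h.dec _ ((h.πk _ (mul_mem (inv_mem h2) hg)).1 (by
    rw [h.πm _ (inv_mem h2) _ hg, h.πi h2, e, inv_mul_cancel]))
  rw [inv_mul_eq_iff_eq_mul.1 k]
  rcases h.D2 hd d1 he with rfl | rfl
  · exact .inl (by simpa using mul_mem h1 (l hv))
  · exact .inr (by simpa [mul_assoc, sq_of_ea h.ea (h.DQ he)] using mul_mem h1 (l hv))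
theorem two_of (k : ∀ g ∈ S, g ∈ R ∨ g * d ∈ R) : Two S R := fun a ha b hb a1 b1 => by
  have := mul_mem ((k a ha).resolve_left a1) ((k b hb).resolve_left b1)
  rwa [mul_assoc, ← mul_assoc d, ← mem_c.1 (mem_c_of h.cD (h.SG hb) hd), mul_assoc b, sq_of_ea h.ea (h.DQ hd), mul_one] at this
theorem fin : False := by
  obtain ⟨b, b1, b2⟩ := SetLike.not_le_iff_exists.1 h.covx
  have xB : cj x V ≤ B := cj_le_of_mem_normalizer (h.VQ.trans h.QB) h.xB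
  have bG := h.BG (xB b1)
  have bb : b * b = 1 := by obtain ⟨u, hu, rfl⟩ := b1; exact conj_sq (h.vv hu)
  have b3 : π b ∉ K4 := fun k => b2 ⟨bG, k⟩
  have b4 := d7 _ ((h.πB b bG).1 (xB b1))
  have dG := h.QG (h.DQ hd)
  have dd := sq_of_ea h.ea (h.DQ hd)
  have dS := h.QS (h.DQ hd)
  have ev : ∀ g ∈ G, Perm.sign (π g) = 1 → g ∈ L ∨ g * d ∈ L := fun g hg e =>
    let ⟨_, l1, l2⟩ := h.πL _ e; h.dq hd d1 h.VL l1 (h.LG l1) hg l2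
  have dO : d ∉ O² (𝐜 d) := cen_tr (R := zpowers b ⊔ L) (h.syD hd d1) le_rfl dS dd (h.two_of hd d1 fun g hg => by
    rcases Int.units_eq_one_or (Perm.sign (π g)) with e | e
    · exact (ev g (h.SG hg) e).imp mem_sup_right mem_sup_right
    · have k : ∀ y, b * y ∈ L → y ∈ zpowers b ⊔ L := fun y k =>
        (mul_mem_cancel_left (mem_sup_left (mem_zpowers b))).1 (mem_sup_right k)
      exact (ev _ (mul_mem bG (h.SG hg)) (by rw [h.πm _ bG _ (h.SG hg), map_mul, e, b4.2.2 b3]; rfl)).imp (k _)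
        fun e => k _ (mul_assoc b g d ▸ e)) fun k => (mem_ext (h.nL bG) (bb ▸ one_mem _) k).elim
      (fun k => d1 (h.DV hd (h.LQ ⟨k, h.DQ hd⟩))) fun k => by
        have := h.πL' _ k
        rw [h.πm _ bG _ dG, h.πQ (h.DQ hd), mul_one, b4.2.2 b3] at this
        exact absurd this (by decide)
  obtain ⟨R, RY, nR, dR, RQ⟩ : ∃ R ≤ 𝐘, 𝐜 z ≤ 𝐍 R ∧ d ∉ R ∧ ¬ R ≤ Q := by
    refine ⟨𝐘 ⊓ O² (𝐜 d ⊓ 𝐜 z), inf_le_left, le_normalizer_inf h.nY (le_normalizer_pResidualOf' (le_normalizer_of_cj_le fun g hg => ?_)),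
      fun k => dO (pResidualOf_mono inf_le_left k.2), fun l => ?_⟩
    · rw [cj_inf, cj_c, cj_c, mem_c''.1 hg]
      rcases h.cd hd d1 hg with e | e <;> rw [e]
      exact fun y k => ⟨mem_c_symm.1 ((mul_mem_cancel_left (mem_c_symm.1 k.2)).1 (mem_c_symm.1 k.1)), k.2⟩
    obtain ⟨g, hg, e, g3⟩ := h.exκ
    obtain ⟨t, t1, -, t3⟩ := h.ext
    have gz := h.Kz hg (by rw [e]; decide)
    have := h.πQ (l ⟨comm_mem_of' (h.nY gz) t1, comm_mem_of (le_normalizer_pResidualOf _ _) (mem_pResidualOf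
      ⟨mem_c_of h.cD hg hd, gz⟩ (Nat.Coprime.coprime_dvd_left (orderOf_dvd_of_pow_eq_one (n := 3) (by rw [pow_three', g3]))
        (by decide))) ⟨mem_c_of h.cD (h.YG t1) hd, h.Tz (h.YT t1)⟩⟩)
    rw [commutatorElement_def, h.πm _ (mul_mem (mul_mem hg (h.YG t1)) (inv_mem hg)) _ (inv_mem (h.YG t1)), h.πc hg (h.YG t1),
      h.πi (h.YG t1), e, t3] at this
    exact absurd this (by decide)
  have RP := RY.trans h.YP
  have Rall : ∀ σ ∈ K4, ∃ r ∈ R, π r = σ :=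
    let ⟨g, hg, e, _⟩ := h.exκ; h.all4 hg e (nR (h.Kz hg (by rw [e]; decide))) RP RQ
  have TR := h.Tz.trans nR
  have V0R := h.v0le (h.VT.trans TR) (RY.trans h.YG) Rall
  have SV := h.SG.trans h.nV
  have Sx : S ≤ 𝐍 (cj x V) := by rw [← cj_normalizer, ← cj_eq_self h.xN]; exact cj_mono x SV
  have n1 : S ≤ 𝐍 (cj x V ⊔ R) := le_normalizer_sup Sx (h.ST.trans TR)
  have n2 := le_normalizer_sup SV n1
  have n3 : x ∈ 𝐍 (V ⊔ (cj x V ⊔ R)) := mem_normalizer_of_cj_le (by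
    rw [cj_sup, cj_sup, cj_cj, cj_eq_self (SV h.x2), cj_eq_self (TR h.xT), sup_left_comm])
  have dn : d ∉ V ⊔ (cj x V ⊔ R) := fun k => by
    obtain ⟨v, hv, _, hw, e⟩ := (mem_sup_of_le_normalizer ((h.VQ.trans h.QS).trans n1)).1 k
    obtain ⟨_, ⟨u, hu, rfl⟩, r, hr, rfl⟩ := (mem_sup_of_le_normalizer ((xB.trans (h.BS.trans h.ST)).trans TR)).1 hw
    have k1 := mul_mem (conj_mem_of_mem_normalizer (TR h.xT) (V0R (h.xV hu ((mul_mem_cancel_right (RP hr)).1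
      ((mul_mem_cancel_left (h.QP (h.VQ hv))).1 (e ▸ h.QP (h.DQ hd))))))) hr
    exact dR (e ▸ mul_mem (V0R (h.YV ((mul_mem_cancel_right (RY k1)).1 (e ▸ h.DY hd)) hv)) k1)
  have p4 : ∀ g ∈ h.P4, g ∈ V ⊔ (cj x V ⊔ R) ∨ g * d ∈ V ⊔ (cj x V ⊔ R) := fun g hg =>
    let ⟨_, r1, r2⟩ := Rall _ hg.2; h.dq hd d1 le_sup_left (mem_sup_right (mem_sup_right r1)) (RP r1).1 hg.1 r2
  obtain ⟨g, g1, g2⟩ := two_step h.syl h.res h.ST (h.twoT hd d1) (sup_le (h.VQ.trans h.QS) (sup_le (xB.trans h.BS) (RP.trans h.PS)))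
    (h.two_of hd d1 fun g hg => by
      by_cases c : π g ∈ K4
      · exact p4 g ⟨h.SG hg, c⟩
      have m : b ∈ V ⊔ (cj x V ⊔ R) := mem_sup_right (mem_sup_left b1)
      exact (p4 _ ⟨mul_mem bG (h.SG hg), h.πm _ bG _ (h.SG hg) ▸ d8' _ b3 b4.1 _ c ((h.πS g (h.SG hg)).1 hg)⟩).imp
        (mul_mem_cancel_left m).1 fun e => (mul_mem_cancel_left m).1 (mul_assoc b g d ▸ e))
    (fun t ht => (em (t ∈ S)).elim (fun k => n2 k) fun k => (mul_mem_cancel_left n3).1 (n2 (h.twoT hd d1 x h.xT t ht h.xS k)))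
    h.xT h.xS dS dn dd h.pS (h.syD hd d1).le dS
  have c1 : g⁻¹ * z * g ∈ 𝐂 S := le_c_iff.1 (by
    have := cj_le_iff.1 (g1.trans h.Tz)
    rwa [cj_c, inv_inv] at this)
  have c2 := (h.syD hd d1).le_of_le_normalizer (pg_z (conj_sq' h.z2)) (zpowers_le.2 (cen_le_c dS c1))
    (zpowers_le.2 (centralizer_le_normalizer _ c1)) (mem_zpowers _)
  have c3 := centralizer_anti (h.YP.trans h.PS) c1
  have zS : z ∈ V ⊔ (cj x V ⊔ R) := mem_sup_left (h.zz ▸ h.zV)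
  rcases h.ctr4 hd d1 (h.cY (h.Tz (h.ST c2)) c3) c3 with (e | e) | e | e
  · exact conj_ne' h.z1 e
  · exact h.dz hd d1 (g := g) (by rw [← e]; group)
  · rcases h.cd hd d1 (g := g) (mem_c''.2 (by nth_rw 1 [← e]; group)) with e | e <;> rw [e] at g2
    · exact dn (g2 dS)
    · exact dn ((mul_mem_cancel_left zS).1 (g2 (mul_mem (h.zS h.zT h.Tz) dS)))
  · exact h.dz hd d1 (g := g * x) (by rw [mul_inv_rev, mul_assoc g, mul_assoc g, ← mul_assoc (x * d), h.xd' hd d1, ← e]; group)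
end Cz

/-- the chunk A5X -/
theorem a5x (k : K32.{u}) : A5X.{u} := fun X _ _ T M S G L B Q V D x π ψ a b => by
  obtain ⟨z, z', h⟩ := Cf.exz' ⟨a, b⟩
  obtain ⟨⟨d, hd⟩, d1⟩ := ne_bot_iff_exists_ne_one.1 (h.bot k)
  exact h.fin hd fun e => d1 (Subtype.ext e)

end H22.UM
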