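import Cfsg.Agent.H22.AutPSL
import Cfsg.Agent.H12.Lin
/-! Traces of products of conjugates in `SL_n`. -/
set_option autoImplicit false
namespace H22.AH
open Matrix Module

variable {F : Type*} [Field F] {ι : Type*} [Fintype ι] [DecidableEq ι]

theorem pairSL {s t s' t' : ι → F} (h : Indep F s t) (h' : Indep F s' t') :
    ∃ (g : SpecialLinearGroup ι F) (a b : F), a ≠ 0 ∧ b ≠ 0 ∧ g.1 *ᵥ s = a • s' ∧ g.1 *ᵥ t = b • t' := by
  have key : ∀ {s t : ι → F} (h : Indep F s t), Projectivization.mk F s h.ne_zero_left ≠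
      Projectivization.mk F t h.ne_zero_right := fun h e => by
    obtain ⟨a, ha⟩ := (Projectivization.mk_eq_mk_iff' ..).1 e
    exact h.symm.ne_smul a ha.symm
  obtain ⟨g, h1, h2⟩ := MulAction.is_two_pretransitive_iff.1 (inferInstance : MulAction.IsMultiplyPretransitive
    (SpecialLinearGroup ι F) (Projectivization F (ι → F)) 2) (key h) (key h')
  obtain ⟨a, ha⟩ := (Projectivization.mk_eq_mk_iff ..).1 h1
  obtain ⟨b, hb⟩ := (Projectivization.mk_eq_mk_iff ..).1 h2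
  exact ⟨g, a, b, a.ne_zero, b.ne_zero, ha.symm, hb.symm⟩

theorem exists_indep {A : Matrix ι ι F} (h : ¬ ∃ c : F, A = c • 1) : ∃ v, Indep F v (A *ᵥ v) := by
  by_contra! H
  obtain ⟨c, hc⟩ := exists_scalar_of_eigen (toLin' A) fun v => by
    by_cases h0 : v = 0
    · exact ⟨0, by simp [h0]⟩
    · exact (indep_or h0 _).resolve_left (H v)
  exact h ⟨c, toLin'.injective (LinearMap.ext fun v => by simpa using hc v)⟩

theorem tv_inv (v u : ι → F) (h : u ⬝ᵥ v = 0) : (tvSL v u h)⁻¹.1 = 1 - vecMulVec v u := by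
  rw [show (tvSL v u h)⁻¹ = tvSL v (-u) (by simp [h]) from inv_eq_of_mul_eq_one_right (Subtype.ext (by
    rw [Matrix.SpecialLinearGroup.coe_mul]; simp [tvSL, mul_add, add_mul, vecMulVec_mul_vecMulVec, h]))]
  simp [tvSL, sub_eq_add_neg]

theorem trace_surj (h3 : 3 ≤ Fintype.card ι) {A B : SpecialLinearGroup ι F} (hA : ¬ ∃ c : F, A.1 = c • 1)
    (hB : ¬ ∃ c : F, B.1 = c • 1) (τ : F) : ∃ g : SpecialLinearGroup ι F, (A * (g * B * g⁻¹)).1.trace = τ := by
  obtain ⟨v, hv⟩ := exists_indep hA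
  obtain ⟨w, hw⟩ := exists_indep hB
  obtain ⟨z, hz⟩ := H12.exists_not_mem_of_ne_top (W := Submodule.span F {v} ⊔ Submodule.span F {A.1 *ᵥ v}) fun h => by
    have := Submodule.finrank_add_le_finrank_add_finrank (Submodule.span F {v}) (Submodule.span F {A.1 *ᵥ v})
    rw [h, finrank_span_singleton hv.ne_zero_left, finrank_span_singleton hv.ne_zero_right] at this
    simp at this; omega
  obtain ⟨φ, h4, h1, h2⟩ := H12.exists_dual_one_zero hz
  replace h4 := h4 v (Submodule.mem_span_singleton_self v)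
  obtain ⟨ψ, h7, h5, h6⟩ := H12.exists_dual_one_zero (H := Submodule.span F {v}) (u := A.1 *ᵥ v) (v := z) fun h => by
    obtain ⟨_, ⟨a, rfl⟩, _, ⟨b, rfl⟩, e⟩ := by simpa only [Submodule.mem_sup, Submodule.mem_span_singleton] using h
    have := congrArg φ e
    simp [h1, h2, h4] at this
    exact hv.ne_smul a (by simp [← e, this])
  replace h7 := h7 v (Submodule.mem_span_singleton_self v)
  obtain ⟨φ, rfl⟩ := exists_dotF φ
  obtain ⟨ψ, rfl⟩ := exists_dotF ψ
  simp only [dotF_apply] at h1 h2 h4 h5 h6 h7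
  suffices ∃ g : SpecialLinearGroup ι F, φ ⬝ᵥ (g * B * g⁻¹).1 *ᵥ A.1 *ᵥ v - φ ⬝ᵥ A.1 *ᵥ (g * B * g⁻¹).1 *ᵥ v ≠ 0 by
    obtain ⟨g, hg⟩ := this
    obtain ⟨t, ht⟩ := mul_right_surjective₀ hg (τ - (A * (g * B * g⁻¹)).1.trace)
    refine ⟨tvSL v (t • φ) (by simp [h4]) * g, ?_⟩
    rw [_root_.mul_inv_rev, mul_assoc _ g, mul_assoc, ← mul_assoc (g * B)]
    generalize g * B * g⁻¹ = C at *
    simp only [Matrix.SpecialLinearGroup.coe_mul, tv_inv]
    simp only [tvSL, mul_add, add_mul, mul_sub, sub_mul, mul_one, one_mul, trace_add, trace_sub, mul_vecMulVec,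
      vecMulVec_mul, trace_vecMulVec, vecMulVec_mul_vecMulVec, smul_vecMul, dotProduct_smul, smul_dotProduct,
      smul_eq_mul, dotProduct_comm _ φ, dotProduct_comm _ (φ ᵥ* C.1), ← dotProduct_mulVec, vecMulVec_mulVec, op_smul_eq_smul,
      mulVec_smul, h2]
    simp only [Matrix.SpecialLinearGroup.coe_mul] at ht
    linear_combination ht
  obtain ⟨g, a, b, ha, hb, h8, h9⟩ := pairSL hw (s' := v) (t' := z) fun a b e => by
    have := congrArg (φ ⬝ᵥ ·) e
    simp [h1, h4] at this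
    simpa [this, hv.ne_zero_left] using e
  have h10 : (g * B * g⁻¹).1 *ᵥ v = (a⁻¹ * b) • z := by
    have : g⁻¹.1 *ᵥ (a • v) = w := by rw [← h8, mulVec_mulVec, ← Matrix.SpecialLinearGroup.coe_mul]; simp
    rw [← smul_smul, eq_inv_smul_iff₀ ha, ← mulVec_smul, Matrix.SpecialLinearGroup.coe_mul, ← mulVec_mulVec, this,
      Matrix.SpecialLinearGroup.coe_mul, ← mulVec_mulVec, h9]
  by_contra! H
  have e1 := H g
  have e2 := H (tvSL v ψ h7 * g)
  rw [_root_.mul_inv_rev, mul_assoc _ g, mul_assoc, ← mul_assoc (g * B)] at e2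
  generalize g * B * g⁻¹ = C at *
  simp only [Matrix.SpecialLinearGroup.coe_mul, tv_inv, ← mulVec_mulVec, tvSL_mulVec, sub_mulVec, one_mulVec,
    vecMulVec_mulVec, h5, h7, mulVec_sub, h10] at e1 e2
  simp [h1, h4, h6, h10] at e1 e2
  grind

end H22.AH
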