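import Cfsg.Agent.H1.Fitting

/-! Pairs of `p`-elements of alternating groups: models. -/

set_option autoImplicit false

namespace H22.AP

open Equiv Equiv.Perm Subgroup Function Finset

variable {α Δ : Type*} {p : ℕ}

variable (p) in
/-- the product is no `p`-element and the generated group is not solvable -/
def Good {G : Type*} [Group G] (u w : G) : Prop :=
  (∀ k, (u * w) ^ p ^ k ≠ 1) ∧ ¬ Group.IsSolvable (Subgroup.closure {u, w})

theorem Good.of {G H : Type*} [Group G] [Group H] (K : Subgroup (G × H)) (hK : ∀ x ∈ K, x.1 = 1 → x.2 = 1) {u w : G}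
    {u' w' : H} (hu : (u, u') ∈ K) (hw : (w, w') ∈ K) (h : Good p u' w') : Good p u w := by
  refine ⟨fun k e => h.1 k (hK _ (pow_mem (mul_mem hu hw) (p ^ k)) e), fun hs => h.2 ?_⟩
  let L : Subgroup (G × H) := Subgroup.closure {(u, u'), (w, w')}
  have a : L ≤ K := (Subgroup.closure_le _).2 (by rintro _ (rfl | rfl) <;> assumption)
  have b : L.map (MonoidHom.fst G H) = Subgroup.closure {u, w} := by simp [L, MonoidHom.map_closure, Set.image_pair]
  have c : L.map (MonoidHom.snd G H) = Subgroup.closure {u', w'} := by simp [L, MonoidHom.map_closure, Set.image_pair]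
  rw [← b] at hs
  have : Group.IsSolvable L := Group.isSolvable_of_isSolvable_injective (f := (MonoidHom.fst G H).subgroupMap L)
    ((injective_iff_map_eq_one _).2 fun x hx => Subtype.ext (Prod.ext (congrArg Subtype.val hx)
      (hK _ (a x.2) (congrArg Subtype.val hx))))
  exact c ▸ Group.isSolvable_of_surjective ((MonoidHom.snd G H).subgroupMap_surjective L)

theorem Good.map {G H : Type*} [Group G] [Group H] (f : G →* H) {u w : G} (h : Good p (f u) (f w)) : Good p u w :=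
  h.of f.graph (fun x hx e => by rw [← show f x.1 = x.2 from hx, e, map_one]) (rfl : f u = f u) (rfl : f w = f w)

theorem Good.symm {G : Type*} [Group G] {u w : G} (h : Good p u w) : Good p w u :=
  ⟨fun k e => h.1 k (by rw [show u * w = u * (w * u) * u⁻¹ by group, conj_pow, e]; simp), Set.pair_comm u w ▸ h.2⟩

theorem Good.emb {f : Δ → α} (hf : Injective f) {u w : Perm α} {u' w' : Perm Δ} (hu : ∀ i, u (f i) = f (u' i))
    (hw : ∀ i, w (f i) = f (w' i)) (h : Good p u' w') : Good p u w :=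
  h.of ⟨⟨⟨{x : Perm α × Perm Δ | ∀ i, x.1 (f i) = f (x.2 i)}, fun a b i => by simp [a _, b i]⟩, fun _ => rfl⟩, fun {x} a i => by
    rw [Prod.fst_inv, Perm.inv_eq_iff_eq, a]; simp⟩ (fun x hx e => Perm.ext fun i => hf (by simpa [e] using (hx i).symm)) hu hw

theorem good_of {G : Type*} [Group G] {a b : G} {r : ℕ} (hr : p.Coprime r) (h1 : (a * b) ^ r = 1) (h2 : a * b ≠ 1)
    (h : ∀ K : Subgroup G, a ∈ K → b ∈ K → a ∈ ⁅K, K⁆ ∧ b ∈ ⁅K, K⁆) : Good p a b := by
  refine ⟨fun k e => h2 (by simpa [(hr.pow_left k).gcd_eq_one] using pow_gcd_eq_one.2 ⟨e, h1⟩), fun hs => ?_⟩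
  obtain ⟨ha, hb⟩ : a ∈ Subgroup.closure {a, b} ∧ b ∈ Subgroup.closure {a, b} :=
    ⟨Subgroup.subset_closure (by simp), Subgroup.subset_closure (by simp)⟩
  have : Nontrivial (Subgroup.closure {a, b}) := ⟨⟨⟨_, mul_mem ha hb⟩, 1, fun e => h2 (congrArg Subtype.val e)⟩⟩
  refine (Group.IsSolvable.commutator_lt_top_of_nontrivial (Subgroup.closure {a, b})).ne (top_le_iff.1 fun x _ => ?_)
  obtain ⟨y, hy, e⟩ := (map_subtype_commutator _).ge ((Subgroup.closure_le _).2
    (by rintro _ (rfl | rfl); exacts [(h _ ha hb).1, (h _ ha hb).2]) x.2)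
  exact Subtype.ext e ▸ hy

theorem comm_tr [hp : Fact p.Prime] {a : ℕ} {H : Subgroup (Perm (ZMod (p ^ (a + 1))))} (hs : Group.IsSolvable H)
    (h1 : Equiv.addLeft 1 ∈ H) (c : ℕ) {h : Perm (ZMod (p ^ (a + 1)))} (hh : h ∈ H) :
    Commute (h * Equiv.addLeft ((c * p ^ a : ℕ) : ZMod _) * h⁻¹) (Equiv.addLeft ((c * p ^ a : ℕ) : ZMod _)) := by
  have : Fact (1 < p ^ (a + 1)) := ⟨Nat.one_lt_pow (by omega) hp.out.one_lt⟩
  have ht : ∀ k, Equiv.addLeft k ∈ H := fun k => by simpa using pow_mem h1 k.val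
  have : Nontrivial H := ⟨⟨⟨_, h1⟩, 1, fun e => by simpa using congrArg (fun x : H => x.1 0) e⟩⟩
  obtain ⟨M, -, hM, h0, hc⟩ := H1.exists_abelian_normal_le (⊤ : Subgroup H) top_ne_bot inferInstance
  let B : AddSubgroup (ZMod (p ^ (a + 1))) := ⟨⟨⟨MulAction.orbit M 0, by
    rintro _ _ ⟨n, rfl⟩ ⟨n', rfl⟩
    exact ⟨⟨_, hM.conj_mem _ n'.2 ⟨_, ht (n • 0)⟩⟩ * n, by simp [Subgroup.smul_def]⟩⟩, MulAction.mem_orbit_self _⟩, by
    rintro _ ⟨n, rfl⟩
    exact ⟨⟨_, hM.conj_mem _ n⁻¹.2 ⟨_, ht (-(n • 0))⟩⟩, by simp [Subgroup.smul_def]⟩⟩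
  have d1 : p ∣ Nat.card M := by
    obtain ⟨j, -, hj⟩ := (Nat.dvd_prime_pow hp.out).1 (Nat.card_zmod (p ^ (a + 1)) ▸ B.card_addSubgroup_dvd_card)
    refine (hj ▸ dvd_pow_self p fun e => h0 ((eq_bot_iff_forall _).2 fun n hn => Subtype.ext (Perm.ext fun x => ?_))).trans
      (((MulAction.index_stabilizer M (0 : ZMod (p ^ (a + 1)))).trans (Nat.card_coe_set_eq _).symm) ▸ index_dvd_card _)
    have : B = ⊥ := AddSubgroup.card_eq_one.1 (by rw [hj, e, pow_zero])
    have := this.le (show _ ∈ B from ⟨⟨_, hM.conj_mem _ hn ⟨_, ht (-x)⟩⟩, rfl⟩)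
    simpa [Subgroup.smul_def, neg_add_eq_zero, eq_comm (b := x)] using this
  let φ : Multiplicative (ZMod (p ^ (a + 1))) →* H := MonoidHom.mk' (fun k => ⟨_, ht k.toAdd⟩) fun _ _ => Subtype.ext (by simp)
  let inst := MulAction.compHom M ((MulAut.conjNormal : H →* MulAut M).comp φ)
  obtain ⟨n, h2, h3⟩ := (IsPGroup.of_card (G := Multiplicative (ZMod (p ^ (a + 1)))) (n := a + 1)
    (by simp)).exists_fixed_point_of_prime_dvd_card_of_fixed_point M d1 (a := 1) fun k => map_one (MulAut.conjNormal (φ k))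
  have h4 : n.1.1 = Equiv.addLeft (n.1.1 0) := Perm.ext fun x => by
    have := congrArg (fun y : M => y.1.1 x) (h2 (Multiplicative.ofAdd x))
    change Equiv.addLeft x (n.1.1 ((Equiv.addLeft x)⁻¹ x)) = n.1.1 x at this
    simpa [add_comm] using this.symm
  obtain ⟨j, t, h5, h6⟩ := Nat.exists_eq_pow_mul_and_not_dvd (n := (n.1.1 0).val)
    (fun e => h3 (Subtype.ext (Subtype.ext (by rw [h4, (ZMod.val_eq_zero _).1 e]; simp)))) p hp.out.ne_one
  have h7 : j ≤ a := Nat.lt_succ_iff.1 ((Nat.pow_lt_pow_iff_right hp.out.one_lt).1 ((Nat.le_mul_of_pos_right _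
    (Nat.pos_of_ne_zero (by rintro rfl; simp at h5))).trans_lt (h6 ▸ ZMod.val_lt _)))
  obtain ⟨s, h8⟩ := ((ZMod.isUnit_iff_coprime t _).2 (((hp.out.coprime_iff_not_dvd.2 h5).symm).pow_right (a + 1))).exists_left_inv
  have h9 : (⟨_, ht ((c * p ^ a : ℕ) : ZMod _)⟩ : H) ∈ M := by
    convert pow_mem n.2 (c * p ^ (a - j) * s.val) using 1
    refine Subtype.ext ?_
    rw [SubgroupClass.coe_pow, h4, Equiv.nsmul_addLeft, ← ZMod.natCast_zmod_val (n.1.1 0), h6]
    obtain ⟨k, rfl⟩ := Nat.exists_eq_add_of_le h7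
    simp only [nsmul_eq_mul, Nat.cast_mul, Nat.cast_pow, ZMod.natCast_zmod_val, Nat.add_sub_cancel_left]
    congr 1
    linear_combination (-(c : ZMod (p ^ (j + k + 1))) * p ^ (j + k)) * h8
  exact congrArg (fun x : M => x.1.1) (hc.is_comm.comm ⟨_, hM.conj_mem _ h9 ⟨h, hh⟩⟩ ⟨_, h9⟩)

theorem good_tr [hp : Fact p.Prime] {a : ℕ} {w : Perm (ZMod (p ^ (a + 1)))} (c : ℕ) {y : ZMod _} (hy : y = (c * p ^ a : ℕ))
    {i j : ZMod _} (h1 : w j = y + w i) (h2 : w (y + j) ≠ y + w (y + i)) {r : ℕ} (hr : p.Coprime r) {x : ZMod _}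
    (h3 : ((Equiv.addLeft 1 * w : Perm _) ^ r) x = x) (h4 : 1 + w x ≠ x) : Good p (Equiv.addLeft 1) w := by
  refine ⟨fun k e => h4 ?_, fun hs => h2 ?_⟩
  · have a1 : IsPeriodicPt (Equiv.addLeft 1 * w : Perm _) (p ^ k) x := by rw [IsPeriodicPt, ← Perm.coe_pow, e]; rfl
    have a2 : IsPeriodicPt (Equiv.addLeft 1 * w : Perm _) r x := by rw [IsPeriodicPt, ← Perm.coe_pow]; exact h3
    have := a1.gcd a2
    rwa [(hr.pow_left k).gcd_eq_one] at this
  · have := congrArg (· (w i)) (comm_tr hs (Subgroup.subset_closure (by simp)) c (h := w) (Subgroup.subset_closure (by simp))).eq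
    simpa [← hy, ← h1] using this

variable [Fintype α] [DecidableEq α] [Fintype Δ] [DecidableEq Δ] {u w : Perm α}

variable (p u w) in
/-- the claim -/
def P : Prop := ∃ g : Perm α, sign g = 1 ∧ Good p u (g * w * g⁻¹)

theorem P.symm (h : P p u w) : P p w u :=
  let ⟨g, a, b⟩ := h; ⟨g⁻¹, by simpa using a, (Good.map (MulAut.conj g).toMonoidHom (by simpa [mul_assoc] using b)).symm⟩

theorem model {f f' : Δ → α} (hf : Injective f) (hf' : Injective f') {u' w' : Perm Δ} (hu : ∀ i, u (f i) = f (u' i))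
    (hw : ∀ i, w (f' i) = f' (w' i)) {σ τ : Perm Δ} (h : sign τ = -sign σ) (h1 : Good p u' (σ * w' * σ⁻¹))
    (h2 : Good p u' (τ * w' * τ⁻¹)) : P p u w := by
  obtain ⟨g, hg⟩ := Perm.exists_extending_pair f' f hf' hf
  have k : ∀ σ : Perm Δ, sign σ = sign g → Good p u' (σ * w' * σ⁻¹) → P p u w := fun σ a b => by
    have c : ∀ i, (σ.viaFintypeEmbedding ⟨f, hf⟩ * g) (f' i) = f (σ i) := fun i => by
      rw [Perm.mul_apply, hg]; exact σ.viaFintypeEmbedding_apply_image ⟨f, hf⟩ i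
    refine ⟨σ.viaFintypeEmbedding ⟨f, hf⟩ * g, by simp [viaFintypeEmbedding_sign, a], b.emb hf hu fun i => ?_⟩
    obtain ⟨i, rfl⟩ := σ.surjective i
    rw [← c, Perm.mul_apply, Perm.mul_apply _ w, Perm.inv_def, symm_apply_apply, hw, c]
    simp
  by_cases e : sign σ = sign g
  exacts [k σ e h1, k τ (by rw [h, Int.units_ne_iff_eq_neg.1 e, neg_neg]) h2]

variable (w) in
/-- the cycle through a point -/
noncomputable def cy (a : α) : Finset α := (range (minimalPeriod w a)).image (w^[·] a)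

omit [Fintype α] in
theorem card_cy (a : α) : #(cy w a) = minimalPeriod w a := by
  rw [cy, card_image_of_injOn (by simpa using iterate_injOn_Iio_minimalPeriod), card_range]

omit [DecidableEq α] in
theorem per_pos (a : α) : 0 < minimalPeriod w a := minimalPeriod_pos_of_mem_periodicPts (w.injective.mem_periodicPts a)

theorem mem_cy {a b : α} : b ∈ cy w a ↔ ∃ i, w^[i] a = b := by
  simp only [cy, mem_image, mem_range]
  exact ⟨fun ⟨i, _, h⟩ => ⟨i, h⟩, fun ⟨i, h⟩ => ⟨_, Nat.mod_lt i (per_pos a), iterate_mod_minimalPeriod_eq.trans h⟩⟩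

variable (w) in
/-- invariant sets -/
def Iv (S : Finset α) : Prop := ∀ b, w b ∈ S ↔ b ∈ S

theorem iv_cy (a : α) : Iv w (cy w a) := fun b => by
  rw [mem_cy, mem_cy]
  refine ⟨fun ⟨i, h⟩ => ⟨minimalPeriod w b - 1 + i, ?_⟩, fun ⟨i, h⟩ => ⟨i + 1, by rw [iterate_succ_apply', h]⟩⟩
  rw [iterate_add_apply, h, ← iterate_succ_apply, Nat.succ_eq_add_one, Nat.sub_add_cancel (per_pos b), iterate_minimalPeriod]

omit [Fintype α] [DecidableEq α] in
theorem Iv.iter {S : Finset α} (h : Iv w S) {a : α} (ha : a ∈ S) (i : ℕ) : w^[i] a ∈ S := by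
  induction i with
  | zero => exact ha
  | succ i ih => rw [iterate_succ_apply', h]; exact ih

theorem Iv.cy_sub {S : Finset α} (h : Iv w S) {a : α} (ha : a ∈ S) : cy w a ⊆ S := fun _ hb =>
  let ⟨i, e⟩ := mem_cy.1 hb; e ▸ h.iter ha i

theorem pack0 (hp : p.Prime) (n : ℕ) : ∀ (S : Finset α) (c N : ℕ), #S + c = n → Iv w S → (∀ a ∈ S, minimalPeriod w a ∣ p ^ c) →
    N ≤ #S → p ^ c ∣ N → ∃ T ⊆ S, Iv w T ∧ #T = N := by
  induction n using Nat.strong_induction_on with | _ n ih => ?_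
  intro S c N h1 h2 h3 h4 h5
  rcases N.eq_zero_or_pos with rfl | h0
  · exact ⟨∅, by simp, by simp [Iv], rfl⟩
  by_cases h : ∃ a ∈ S, minimalPeriod w a = p ^ c
  · obtain ⟨a, ha, e⟩ := h
    have b1 := card_sdiff_add_card_eq_card (h2.cy_sub ha)
    have b2 := Nat.le_of_dvd h0 h5
    have b3 := per_pos (w := w) a
    rw [card_cy] at b1
    obtain ⟨T, t1, t2, t3⟩ := ih _ (by omega) (S \ cy w a) c (N - p ^ c) rfl (fun b => by simp [h2 b, iv_cy a b])
      (fun b hb => h3 b (mem_sdiff.1 hb).1) (by omega) (Nat.dvd_sub h5 dvd_rfl)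
    refine ⟨T ∪ cy w a, union_subset (t1.trans sdiff_subset) (h2.cy_sub ha), fun b => by simp [t2 b, iv_cy a b], ?_⟩
    rw [card_union_of_disjoint (disjoint_of_subset_left t1 sdiff_disjoint), card_cy]
    omega
  rcases c with _ | c
  · obtain ⟨a, ha⟩ := card_pos.1 (h0.trans_le h4)
    exact absurd ⟨a, ha, Nat.dvd_one.1 (h3 a ha)⟩ h
  refine ih _ (by omega) S c N rfl h2 (fun a ha => ?_) h4 ((pow_dvd_pow p c.le_succ).trans h5)
  obtain ⟨j, hj, e⟩ := (Nat.dvd_prime_pow hp).1 (h3 a ha)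
  exact e ▸ pow_dvd_pow p (Nat.le_of_lt_succ (hj.lt_of_ne (by rintro rfl; exact h ⟨a, ha, e⟩)))

theorem pack (hp : p.Prime) {S : Finset α} {c m : ℕ} (h1 : Iv w S) (h2 : ∀ a, minimalPeriod w a ∣ p ^ c) (h3 : #S ≤ m)
    (h4 : m ≤ Fintype.card α) (h5 : p ^ c ∣ m - #S) : ∃ T, S ⊆ T ∧ Iv w T ∧ #T = m := by
  obtain ⟨T, t1, t2, t3⟩ := pack0 hp _ Sᶜ c (m - #S) rfl (fun b => by simp [h1 b]) (fun a _ => h2 a)
    (by rw [card_compl]; omega) h5
  refine ⟨T ∪ S, subset_union_right, fun b => by simp [t2 b, h1 b], ?_⟩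
  rw [card_union_of_disjoint (disjoint_of_subset_left t1 disjoint_compl_left)]
  omega

omit [Fintype α] [DecidableEq α] in
theorem exists_orb {m : ℕ} [Fact (1 < m)] {a : α} (h : minimalPeriod u a = m) :
    ∃ f : ZMod m → α, Injective f ∧ ∀ i, u (f i) = f (Equiv.addLeft 1 i) :=
  ⟨fun i => u^[i.val] a, fun i j e => ZMod.val_injective _ (iterate_injOn_Iio_minimalPeriod (h ▸ i.val_lt) (h ▸ j.val_lt) e),
    fun i => by
    change u (u^[i.val] a) = u^[(1 + i).val] a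
    rw [ZMod.val_add, ZMod.val_one, (show IsPeriodicPt u m a from h ▸ isPeriodicPt_minimalPeriod u a).iterate_mod_apply, add_comm, iterate_succ_apply']⟩

theorem pattern {m : ℕ} [Fact (1 < m)] (hm : 7 ≤ m) {a : α} (ha : minimalPeriod u a = m) {T : Finset α} (h1 : Iv w T)
    (h2 : #T = m) {c : Fin 5 → α} (hc : Injective c) (hT : ∀ k, c k ∈ T) {x : Fin 5 → ZMod m} (hx : Injective x)
    (H : ∀ w' : Perm (ZMod m), (∀ k l, w (c k) = c l → w' (x k) = x l) → Good p (Equiv.addLeft 1) w') : P p u w := by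
  obtain ⟨f, hf, hu⟩ := exists_orb ha
  let e : ZMod m ≃ T := Fintype.equivOfCardEq (by simp [h2])
  obtain ⟨σ, hσ⟩ := Perm.exists_extending_pair (fun k => e.symm ⟨c k, hT k⟩) x
    (fun k l h => hc (congrArg Subtype.val (e.symm.injective h))) hx
  obtain ⟨i, hi, j, hj, ij⟩ := one_lt_card.1 (show 1 < #(univ.image x)ᶜ by
    have := card_image_le (s := univ) (f := x)
    simp only [card_compl, ZMod.card, card_univ, Fintype.card_fin] at this ⊢; omega)
  have k : ∀ τ : Perm (ZMod m), (∀ k, τ (e.symm ⟨c k, hT k⟩) = x k) →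
      Good p (Equiv.addLeft 1) (τ * e.symm.permCongr (w.subtypePerm h1) * τ⁻¹) := fun τ hτ => H _ fun k l h => by
    simpa [← hτ] using Subtype.ext h
  refine model hf (Subtype.val_injective.comp e.injective) hu (w' := e.symm.permCongr (w.subtypePerm h1)) (fun i => by simp; rfl)
    (τ := swap i j * σ) (by simp [ij]) (k σ hσ) (k _ fun k => ?_)
  simp only [mem_compl, mem_image, mem_univ, true_and, not_exists] at hi hj
  rw [Perm.mul_apply, hσ, swap_apply_of_ne_of_ne (hi k) (hj k)]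

end H22.AP
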