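import Cfsg.Agent.H22.AP1

/-! Pairs of `p`-elements of alternating groups: the case analysis. -/

set_option autoImplicit false

namespace H22.AP

open Equiv Equiv.Perm Subgroup Function Finset
open scoped commutatorElement

variable {α : Type*} {p : ℕ} [Fintype α] [DecidableEq α] {u w : Perm α}

theorem ne_cast {m a b : ℕ} (ha : a < m) (hb : b < m) (h : a ≠ b) : (a : ZMod m) ≠ b := fun e =>
  h (by rwa [ZMod.natCast_eq_natCast_iff', Nat.mod_eq_of_lt ha, Nat.mod_eq_of_lt hb] at e)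

theorem inj_cast {m : ℕ} {v : Fin 5 → ℕ} (h : ∀ k, v k < m) (hv : Injective v) : Injective fun k => (v k : ZMod m) :=
  fun k l e => hv (by_contra fun e' => ne_cast (h k) (h l) e' e)

theorem inj5 {a b c d e : ℕ} (h : a ≠ b ∧ a ≠ c ∧ a ≠ d ∧ a ≠ e ∧ b ≠ c ∧ b ≠ d ∧ b ≠ e ∧ c ≠ d ∧ c ≠ e ∧ d ≠ e) :
    Injective ![a, b, c, d, e] := fun k l e => by
  fin_cases k <;> fin_cases l <;> simp at e ⊢ <;> omega

omit [DecidableEq α] in
theorem exists_max (hp : p.Prime) {A : ℕ} (h : w ^ p ^ A = 1) (h1 : w ≠ 1) :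
    ∃ a c, minimalPeriod w a = p ^ (c + 1) ∧ ∀ b, minimalPeriod w b ∣ p ^ (c + 1) := by
  have k : ∀ b, ∃ j, minimalPeriod w b = p ^ j := fun b =>
    let ⟨j, _, e⟩ := (Nat.dvd_prime_pow hp).1 (IsPeriodicPt.minimalPeriod_dvd (f := w) (n := p ^ A) (x := b)
      (by rw [IsPeriodicPt, ← Perm.coe_pow, h]; rfl)); ⟨j, e⟩
  choose j hj using k
  obtain ⟨x, hx⟩ : ∃ x, w x ≠ x := by by_contra! e; exact h1 (Perm.ext e)
  obtain ⟨a, -, ha⟩ := exists_max_image univ j ⟨x, mem_univ x⟩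
  have : j x ≠ 0 := fun e => hx (minimalPeriod_eq_one_iff_isFixedPt.1 (by rw [hj, e, pow_zero]))
  obtain ⟨c, hc⟩ : ∃ c, j a = c + 1 := ⟨j a - 1, by have := ha x (mem_univ x); omega⟩
  exact ⟨a, c, hc ▸ hj a, fun b => hj b ▸ pow_dvd_pow p (hc ▸ ha b (mem_univ b))⟩

/-- a 3-cycle -/
def c1 : Perm (Fin 6) := swap 0 2 * swap 0 1

/-- two 3-cycles -/
def c2 : Perm (Fin 6) := swap 0 2 * swap 0 1 * (swap 3 5 * swap 3 4)

/-- a 3-cycle -/
def c0 : Perm (Fin 5) := swap 0 2 * swap 0 1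

theorem three (h : ∀ b, w (w (w b)) = b) (h1 : w ≠ 1) (h5 : 5 ≤ Fintype.card α) :
    (∃ f : Fin 6 → α, Injective f ∧ ∀ i, w (f i) = f (c2 i)) ∨ (∃ f : Fin 5 → α, Injective f ∧ ∀ i, w (f i) = f (c0 i)) ∧
      (6 ≤ Fintype.card α → ∃ f : Fin 6 → α, Injective f ∧ ∀ i, w (f i) = f (c1 i)) := by
  obtain ⟨a, ha⟩ : ∃ x, w x ≠ x := by by_contra! e; exact h1 (Perm.ext e)
  have k : ∀ {a}, w a ≠ a → w (w a) ≠ a := fun {a} ha e => ha ((congrArg w e).symm.trans (h a))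
  have k' : ∀ T : Finset α, #T < Fintype.card α → ∃ c, c ∉ T := fun T hT => by
    by_contra! h
    rw [eq_univ_of_forall h, card_univ] at hT
    omega
  by_cases c : ∃ b, w b ≠ b ∧ b ≠ a ∧ b ≠ w a ∧ b ≠ w (w a)
  · obtain ⟨b, hb, b1, b2, b3⟩ := c
    have b4 : w b ≠ a := fun e => b3 (by rw [← e, h])
    have b5 : w (w b) ≠ a := fun e => b2 (by rw [← e, h])
    refine .inl ⟨![a, w a, w (w a), b, w b, w (w b)], List.nodup_ofFn.1 ?_, fun i => by fin_cases i <;> first | rfl | exact h _⟩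
    simp [ha.symm, (k ha).symm, hb.symm, (k hb).symm, b1.symm, b2.symm, b3.symm, b4.symm, b5.symm]
  have c' : ∀ b, b ≠ a → b ≠ w a → b ≠ w (w a) → w b = b := fun b b1 b2 b3 => by_contra fun e => c ⟨b, e, b1, b2, b3⟩
  obtain ⟨b, hb⟩ := k' {a, w a, w (w a)} (card_le_three.trans_lt (by omega))
  obtain ⟨d, hd⟩ := k' {a, w a, w (w a), b} ((card_insert_le _ _).trans_lt (by have := card_le_three (a := w a) (b := w (w a)) (c := b); omega))
  simp only [mem_insert, mem_singleton, not_or] at hb hd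
  have b1 := c' b hb.1 hb.2.1 hb.2.2
  have b2 := c' d hd.1 hd.2.1 hd.2.2.1
  refine .inr ⟨⟨![a, w a, w (w a), b, d], List.nodup_ofFn.1 ?_, fun i => by
    fin_cases i <;> first | rfl | exact h _ | assumption⟩, fun h6 => ?_⟩
  · simp [ha.symm, (k ha).symm, Ne.symm hb.1, Ne.symm hb.2.1, Ne.symm hb.2.2, Ne.symm hd.1, Ne.symm hd.2.1, Ne.symm hd.2.2.1,
      Ne.symm hd.2.2.2]
  obtain ⟨e, he⟩ := k' [a, w a, w (w a), b, d].toFinset ((List.toFinset_card_le _).trans_lt h6)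
  simp at he
  have b3 := c' e he.1 he.2.1 he.2.2.1
  refine ⟨![a, w a, w (w a), b, d, e], List.nodup_ofFn.1 ?_, fun i => by fin_cases i <;> first | rfl | exact h _ | assumption⟩
  simp [ha.symm, (k ha).symm, Ne.symm hb.1, Ne.symm hb.2.1, Ne.symm hb.2.2, Ne.symm hd.1, Ne.symm hd.2.1, Ne.symm hd.2.2.1,
    Ne.symm hd.2.2.2, Ne.symm he.1, Ne.symm he.2.1, Ne.symm he.2.2.1, Ne.symm he.2.2.2.1, Ne.symm he.2.2.2.2]

theorem good5 {G : Type*} [Group G] {a b : G} (h1 : (a * b) ^ 5 = 1) (h2 : a * b ≠ 1)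
    (h3 : a = ⁅b * a * a * b, b * a * b⁆) (h4 : b = ⁅a * b * a * a, a * b * a⁆) : Good 3 a b :=
  good_of (by decide) h1 h2 fun K ha hb => by
    constructor
    · rw [h3]; apply commutator_mem_commutator <;> apply_rules [mul_mem]
    · rw [h4]; apply commutator_mem_commutator <;> apply_rules [mul_mem]

theorem good6' {G : Type*} [Group G] {a b : G} (h1 : (a * b) ^ 5 = 1) (h2 : a * b ≠ 1)
    (h3 : a = ⁅b * a * b * a * a * b * a * b * b, a⁆) (h4 : b = ⁅a * a * b * a * b * b * a * b * a, b⁆) : Good 3 a b :=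
  good_of (by decide) h1 h2 fun K ha hb => ⟨h3 ▸ commutator_mem_commutator (by repeat' first | assumption | apply mul_mem) ha,
    h4 ▸ commutator_mem_commutator (by repeat' first | assumption | apply mul_mem) hb⟩

theorem good6 : Good 3 c2 (swap 0 1 * swap 0 3) :=
  good6' (by decide +kernel) (by decide) (by decide +kernel) (by decide +kernel)

theorem small (hu : ∀ b, u (u (u b)) = b) (hw : ∀ b, w (w (w b)) = b) (h1 : u ≠ 1) (h2 : w ≠ 1) (h5 : 5 ≤ Fintype.card α) :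
    P 3 u w := by
  have k : ∀ {u w : Perm α} {f : Fin 6 → α}, Injective f → (∀ i, u (f i) = f (c2 i)) →
      (6 ≤ Fintype.card α → ∃ f : Fin 6 → α, Injective f ∧ ∀ i, w (f i) = f (c1 i)) → P 3 u w := fun hf a h => by
    obtain ⟨g, hg, b⟩ := h (by simpa using Fintype.card_le_of_injective _ hf)
    exact model hf hg a b (σ := swap 0 1 * swap 2 3) (τ := swap 4 5 * (swap 0 1 * swap 2 3)) (by decide)
      (by convert good6 using 1; decide) (by convert good6 using 1; decide)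
  rcases three hu h1 h5 with ⟨f, hf, a⟩ | ⟨⟨f, hf, a⟩, a'⟩ <;> rcases three hw h2 h5 with ⟨g, hg, b⟩ | ⟨⟨g, hg, b⟩, b'⟩
  · exact model hf hg a b (σ := swap 2 3 * swap 4 5) (τ := swap 0 4 * (swap 2 3 * swap 4 5)) (by decide)
      (good5 (by decide +kernel) (by decide) (by decide +kernel) (by decide +kernel)) (good5 (by decide +kernel) (by decide) (by decide +kernel) (by decide +kernel))
  · exact k hf a b'
  · exact (k hg b a').symm
  · exact model hf hg a b (σ := swap 0 3 * swap 1 4) (τ := swap 0 1 * (swap 0 3 * swap 1 4)) (by decide)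
      (good5 (by decide +kernel) (by decide) (by decide +kernel) (by decide +kernel)) (good5 (by decide +kernel) (by decide) (by decide +kernel) (by decide +kernel))

instance fact5 : Fact (Nat.Prime 5) := ⟨by norm_num⟩

instance fact5' : Fact (1 < 5 ^ (0 + 1)) := ⟨by norm_num⟩

theorem five {a b : α} (ha : minimalPeriod u a = 5) (hb : minimalPeriod w b = 5) : P 5 u w := by
  obtain ⟨f, hf, hu⟩ := exists_orb (m := 5 ^ (0 + 1)) ha
  obtain ⟨g, hg, hw⟩ := exists_orb (m := 5 ^ (0 + 1)) hb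
  exact model hf hg hu hw (σ := swap 3 4) (τ := swap 1 2 * swap 3 4) (by decide)
    (good_tr 1 rfl (i := 0) (j := 1) (by decide) (by decide) (r := 2) (by decide) (x := 0) (by decide) (by decide))
    (good_tr 1 rfl (i := 2) (j := 0) (by decide) (by decide) (r := 3) (by decide) (x := 0) (by decide) (by decide))

theorem long [hp : Fact p.Prime] (hp2 : p.Coprime 2) {a b c y : ℕ} {x z : α} (h1 : minimalPeriod u x = p ^ (a + 1))
    (h2 : minimalPeriod w z = p ^ b) (h3 : ∀ z, minimalPeriod w z ∣ p ^ b) (h4 : b ≤ a + 1) (h5 : 5 ≤ p ^ b)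
    (h6 : y = c * p ^ a) (h7 : 2 ≤ y) (h8 : 2 * y + 1 < p ^ (a + 1)) (h9 : 7 ≤ p ^ (a + 1)) : P p u w := by
  have : Fact (1 < p ^ (a + 1)) := ⟨by omega⟩
  obtain ⟨T, t1, t2, t3⟩ := pack hp.out (m := p ^ (a + 1)) (iv_cy z) h3 (by rw [card_cy, h2]; exact Nat.pow_le_pow_right hp.out.pos h4)
    (by rw [← h1, ← card_cy]; exact card_le_univ _) (by rw [card_cy, h2]; exact Nat.dvd_sub (pow_dvd_pow p h4) dvd_rfl)
  refine pattern h9 h1 t2 t3 (c := fun k => w^[k] z) (fun k l e => Fin.ext (iterate_injOn_Iio_minimalPeriod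
    (k.2.trans_le (h2 ▸ h5)) (l.2.trans_le (h2 ▸ h5)) e)) (fun k => t1 (mem_cy.2 ⟨k, rfl⟩))
    (inj_cast (v := ![0, y, 2 * y, y + 1, p ^ (a + 1) - 1]) (fun k => by fin_cases k <;> simp <;> omega) (inj5 (by omega)))
    fun w' h => ?_
  have a0 := h 0 1 rfl
  have a1 := h 1 2 rfl
  have a2 := h 2 3 rfl
  have a3 := h 3 4 rfl
  simp [Nat.cast_sub this.out.le, two_mul, -Nat.cast_pow] at a0 a1 a2 a3
  exact good_tr c (y := y) (h6 ▸ rfl) (i := 0) (j := y) (by rw [a0, a1]) (by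
      simpa [a1, a2, two_mul] using ne_cast (m := p ^ (a + 1)) (a := 1) (b := 2 * y) (by omega) (by omega) (by omega))
    hp2 (x := 0) (by simp [sq, a0, add_comm, a3])
    (by simpa [a0, add_comm] using ne_cast (m := p ^ (a + 1)) (a := y + 1) (b := 0) (by omega) (by omega) (by omega))

theorem short {a : ℕ} {x : α} (h1 : minimalPeriod u x = 3 ^ (a + 1 + 1)) (hw : ∀ b, w (w (w b)) = b) (h2 : w ≠ 1) :
    P 3 u w := by
  have : Fact (Nat.Prime 3) := ⟨by norm_num⟩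
  obtain ⟨y, hy⟩ : ∃ y, y = 3 ^ (a + 1) := ⟨_, rfl⟩
  have y3 : 3 ≤ y := hy ▸ Nat.le_self_pow (by omega) 3
  have e : 3 ^ (a + 1 + 1) = 3 * y := by rw [pow_succ', hy]
  have : Fact (1 < 3 ^ (a + 1 + 1)) := ⟨by omega⟩
  have hc : 3 ^ (a + 1 + 1) ≤ Fintype.card α := by rw [← h1, ← card_cy]; exact card_le_univ _
  have k : ∀ {f : Fin 6 → α} {w0 : Perm (Fin 6)} {v : Fin 5 → ℕ}, Injective f → (∀ i, w (f i) = f (w0 i)) →
      (∀ k, v k < 3 * y) → Injective v → (∀ w' : Perm (ZMod (3 ^ (a + 1 + 1))), (∀ k l : Fin 5, w0 k.castSucc = l.castSucc →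
        w' (v k) = v l) → Good 3 (Equiv.addLeft 1) w') → P 3 u w := fun {f w0 v} hf a1 a2 a3 H => by
    obtain ⟨T, t1, t2, t3⟩ := pack (w := w) Nat.prime_three (c := 1) (S := univ.image f) (fun b => by
        simp only [mem_image, mem_univ, true_and]
        exact ⟨fun ⟨i, e⟩ => ⟨w0⁻¹ i, w.injective (by simp [a1, e])⟩, fun ⟨i, e⟩ => ⟨w0 i, by rw [← a1, e]⟩⟩)
      (fun b => IsPeriodicPt.minimalPeriod_dvd (hw b)) (by rw [card_image_of_injective _ hf]; simp; omega) hc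
      (by rw [card_image_of_injective _ hf]; simp; omega)
    exact pattern (by omega) h1 t2 t3 (hf.comp (Fin.castSucc_injective 5)) (fun k => t1 (mem_image_of_mem f (mem_univ _)))
      (inj_cast (e ▸ a2) a3) fun w' h => H w' fun k l b => h k l (by simp [a1, b])
  rcases three hw h2 (by omega) with ⟨f, hf, b⟩ | ⟨-, b⟩
  · refine k hf b (v := ![0, y, 1, y + 1, 3 ^ (a + 1 + 1) - 1]) (fun k => by fin_cases k <;> simp <;> omega) (inj5 (by omega))
      fun w' h => ?_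
    have a0 := h 0 1 rfl
    have a1 := h 1 2 rfl
    have a2 := h 2 0 rfl
    have a3 := h 3 4 rfl
    simp [Nat.cast_sub this.out.le, -Nat.cast_pow] at a0 a1 a2 a3
    exact good_tr 1 (y := y) (by rw [one_mul, hy]) (i := 1) (j := 0) (by simp [a0, a2]) (by
        simpa [a1, a3, ← sub_eq_add_neg, eq_sub_iff_add_eq, one_add_one_eq_two] using
          ne_cast (m := 3 ^ (a + 1 + 1)) (a := 2) (b := y) (by omega) (by omega) (by omega))
      (r := 2) (by decide) (x := 0) (by simp [sq, a0, add_comm, a3])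
      (by simpa [a0, add_comm] using ne_cast (m := 3 ^ (a + 1 + 1)) (a := y + 1) (b := 0) (by omega) (by omega) (by omega))
  · obtain ⟨f, hf, b⟩ := b (by omega)
    refine k hf b (v := ![y, 1, 3 ^ (a + 1 + 1) - 1, 0, 3 ^ (a + 1 + 1) - y]) (fun k => by fin_cases k <;> simp <;> omega)
      (inj5 (by omega)) fun w' h => ?_
    have a0 := h 0 1 rfl
    have a1 := h 1 2 rfl
    have a2 := h 3 3 rfl
    have a3 := h 4 4 rfl
    simp [Nat.cast_sub this.out.le, Nat.cast_sub (show y ≤ 3 ^ (a + 1 + 1) by omega), -Nat.cast_pow] at a0 a1 a2 a3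
    exact good_tr 1 (y := y) (by rw [one_mul, hy]) (i := -y) (j := 0) (by simp [a2, a3]) (by
        simpa [a0, a2] using ne_cast (m := 3 ^ (a + 1 + 1)) (a := 1) (b := y) (by omega) (by omega) (by omega))
      (r := 2) (by decide) (x := 0) (by simp [sq, a1, a2]) (by simp [a2])

theorem main (hp : p.Prime) (hp3 : 3 ≤ p) (h5 : 5 ≤ Fintype.card α) {A B : ℕ} (hu : u ^ p ^ A = 1) (hw : w ^ p ^ B = 1)
    (h1 : u ≠ 1) (h2 : w ≠ 1) : P p u w := by
  obtain ⟨x, a, a1, a2⟩ := exists_max hp hu h1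
  obtain ⟨z, b, b1, b2⟩ := exists_max hp hw h2
  clear hu hw
  wlog h : b ≤ a generalizing u w x z a b
  · exact (this h2 h1 z b b1 b2 x a a1 a2 (by omega)).symm
  have := Fact.mk hp
  have hp2 : p.Coprime 2 := (Nat.coprime_primes hp Nat.prime_two).2 (by omega)
  have k : ∀ {w : Perm α}, (∀ z, minimalPeriod w z ∣ 3 ^ (0 + 1)) → ∀ b, w (w (w b)) = b :=
    fun h b => isPeriodicPt_iff_minimalPeriod_dvd.2 (h b)
  have p4 : p ≠ 4 := by rintro rfl; exact absurd hp (by decide)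
  have p6 : p ≠ 6 := by rintro rfl; exact absurd hp (by decide)
  rcases a with _ | a
  · obtain rfl : b = 0 := by omega
    by_cases e : p = 3
    · subst e; exact small (k a2) (k b2) h1 h2 h5
    by_cases e' : p = 5
    · subst e'; exact five a1 b1
    exact long hp2 (c := 2) a1 b1 b2 le_rfl (by simp; omega) rfl (by simp) (by simp; omega) (by simp; omega)
  by_cases e : p = 3 ∧ b = 0
  · obtain ⟨rfl, rfl⟩ := e
    exact short a1 (k b2) h2
  have y3 : p ≤ p ^ (a + 1) := Nat.le_self_pow (by omega) p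
  have : 3 * p ^ (a + 1) ≤ p ^ (a + 1 + 1) := by rw [pow_succ' p (a + 1)]; exact Nat.mul_le_mul_right _ hp3
  refine long hp2 (c := 1) a1 b1 b2 (by omega) ?_ rfl (by omega) (by omega) (by omega)
  rcases b with _ | b
  · simp at e ⊢; omega
  · have := Nat.le_self_pow (show b + 1 ≠ 0 by omega) p
    rw [pow_succ']; nlinarith

theorem s2276 (hp : p.Prime) (hp3 : 3 ≤ p) (h5 : 5 ≤ Fintype.card α) {u w : alternatingGroup α} (h1 : u ≠ 1) (h2 : w ≠ 1)
    (hu : ∃ k, orderOf u = p ^ k) (hw : ∃ k, orderOf w = p ^ k) : ∃ g : alternatingGroup α,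
      (¬ ∃ k, orderOf (u * (g * w * g⁻¹)) = p ^ k) ∧ ¬ Group.IsSolvable (Subgroup.closure {u, g * w * g⁻¹}) := by
  obtain ⟨A, hu⟩ := hu
  obtain ⟨B, hw⟩ := hw
  obtain ⟨g, a, b⟩ := main hp hp3 h5 (u := u) (w := w) (congrArg Subtype.val (hu ▸ pow_orderOf_eq_one u))
    (congrArg Subtype.val (hw ▸ pow_orderOf_eq_one w)) (fun e => h1 (Subtype.ext e)) fun e => h2 (Subtype.ext e)
  have := Good.map (alternatingGroup α).subtype (u := u) (w := ⟨g, a⟩ * w * ⟨g, a⟩⁻¹) b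
  exact ⟨⟨g, a⟩, fun ⟨k, hk⟩ => this.1 k (hk ▸ pow_orderOf_eq_one _), this.2⟩

end H22.AP
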