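import Mathlib

/-! Cyclic vectors, feedback equivalence, and products of cyclic conjugacy classes over finite fields. -/

set_option autoImplicit false
set_option linter.unusedSectionVars false

namespace H22.CY

open Module Submodule LinearMap

universe u

variable {K : Type u} [Field K] {V V' W W' : Type u} [AddCommGroup V] [Module K V] [AddCommGroup V'] [Module K V']
  [AddCommGroup W] [Module K W] [AddCommGroup W'] [Module K W']

/-- `v` is a cyclic vector for `X` -/
def Cyc (X : End K V) (v : V) : Prop := ∀ p : Submodule K V, v ∈ p → (∀ u ∈ p, X u ∈ p) → p = ⊤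

theorem Cyc.map {X : End K V} {v : V} (h : Cyc X v) (e : V ≃ₗ[K] V') {Y : End K V'} (hY : ∀ u, Y (e u) = e (X u)) :
    Cyc Y (e v) := fun p h1 h2 => eq_top_iff.2 fun u _ => by
  simpa using (h (p.comap e.toLinearMap) h1 fun u hu => by simpa [← hY] using h2 _ hu).ge (mem_top (x := e.symm u))

theorem Cyc.fb {X Y : End K V} {v : V} (h : Cyc X v) (hY : ∀ u, ∃ c : K, X u = Y u + c • v) : Cyc Y v :=
  fun p h1 h2 => h p h1 fun u hu => let ⟨c, e⟩ := hY u; e ▸ p.add_mem (h2 u hu) (p.smul_mem c h1)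

theorem Cyc.ne_zero [Nontrivial V] {X : End K V} {v : V} (h : Cyc X v) : v ≠ 0 := by
  rintro rfl
  exact bot_ne_top (h ⊥ rfl (by simp))

theorem Cyc.red {X : End K (W × K)} (h : Cyc X (0, 1)) : Cyc (fst K W K ∘ₗ X ∘ₗ inl K W K) (X (0, 1)).1 :=
  fun p h1 h2 => eq_top_iff.2 fun u _ => (h (p.comap (fst K W K)) (by simp) fun ⟨w, c⟩ hw => by
    rw [show (w, c) = (w, 0) + c • ((0, 1) : W × K) by simp, map_add, map_smul]
    exact p.add_mem (h2 w hw) (p.smul_mem c h1)).ge (mem_top (x := (u, 0)))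

theorem Cyc.lift {X : End K (W × K)} (h : Cyc (fst K W K ∘ₗ X ∘ₗ inl K W K) (X (0, 1)).1) : Cyc X (0, 1) := by
  intro p h1 h2
  have h3 : ∀ u ∈ p, (u.1, 0) ∈ p := fun ⟨a, c⟩ hu => by simpa using p.sub_mem hu (p.smul_mem c h1)
  refine eq_top_iff.2 fun u _ => ?_
  simpa using p.add_mem ((h (p.comap (inl K W K)) (h3 _ (h2 _ h1)) fun w hw => h3 _ (h2 _ hw)).ge (mem_top (x := u.1)))
    (p.smul_mem u.2 h1)

/-- splitting off a line -/
def spl {φ : Dual K V} {v : V} (hv : φ v = 1) : V ≃ₗ[K] ker φ × K where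
  toFun u := (⟨u - φ u • v, by simp [hv]⟩, φ u)
  invFun x := x.1 + x.2 • v
  map_add' _ _ := by ext <;> simp; module
  map_smul' _ _ := by ext <;> simp; module
  left_inv u := by simp
  right_inv x := by ext <;> simp [hv, show φ x.1 = 0 from x.1.2]

theorem spl_self {φ : Dual K V} {v : V} (hv : φ v = 1) : spl hv v = (0, 1) := by ext <;> simp [spl, hv]

theorem finrank_ker [FiniteDimensional K V] {φ : Dual K V} {v : V} (hv : φ v = 1) {n : ℕ} (h : finrank K V = n + 1) :
    finrank K (ker φ) = n := by simpa [h] using (spl hv).finrank_eq.symm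

/-- feedback equivalence of cyclic pairs -/
theorem br (n : ℕ) : ∀ {V V' : Type u} [AddCommGroup V] [Module K V] [AddCommGroup V'] [Module K V']
    [FiniteDimensional K V] [FiniteDimensional K V'], finrank K V = n → finrank K V' = n →
    ∀ {X : End K V} {v : V} {Y : End K V'} {v' : V'}, Cyc X v → Cyc Y v' →
    ∃ (e : V' ≃ₗ[K] V) (l : Dual K V'), e v' = v ∧ ∀ u, X (e u) = e (Y u) + l u • v := by
  induction n with
  | zero =>
    intro V V' _ _ _ _ _ _ h h' X v Y v' _ _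
    have := finrank_zero_iff.1 h
    exact ⟨.ofFinrankEq _ _ (h'.trans h.symm), 0, Subsingleton.elim _ _, fun _ => Subsingleton.elim _ _⟩
  | succ n ih =>
    intro V V' _ _ _ _ _ _ h h' X v Y v' hX hY
    have := nontrivial_of_finrank_eq_succ h
    have := nontrivial_of_finrank_eq_succ h'
    obtain ⟨φ, hφ⟩ := Projective.exists_dual_eq_one K hX.ne_zero
    obtain ⟨ψ, hψ⟩ := Projective.exists_dual_eq_one K hY.ne_zero
    have h1 := hX.map (spl hφ) (Y := (spl hφ).conj X) (by simp)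
    have h2 := hY.map (spl hψ) (Y := (spl hψ).conj Y) (by simp)
    rw [spl_self] at h1 h2
    obtain ⟨e, l, h3, h4⟩ := ih (finrank_ker hφ h) (finrank_ker hψ h') h1.red h2.red
    generalize hX' : (spl hφ).conj X = X' at h1 h3 h4
    generalize hY' : (spl hψ).conj Y = Y' at h2 h3 h4
    let E := e.skewProd (.refl K K) (-l)
    have h5 : ∀ u, (X' (E u)).1 = (E (Y' u)).1 := fun ⟨w, c⟩ => by
      rw [show E (w, c) = (e w, 0) + (c - l w) • ((0, 1) : _ × K) by simp [E, sub_eq_add_neg],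
        show (w, c) = (w, 0) + c • ((0, 1) : _ × K) by simp]
      have := h4 w
      simp only [comp_apply, fst_apply, inl_apply] at this
      simp only [map_add, map_smul, Prod.fst_add, Prod.smul_fst, this, E, LinearEquiv.skewProd_apply, h3]
      module
    refine ⟨((spl hψ).trans E).trans (spl hφ).symm, (snd K _ K ∘ₗ (X' ∘ₗ E.toLinearMap - E.toLinearMap ∘ₗ Y')) ∘ₗ
      (spl hψ).toLinearMap, by simp [spl_self, E, LinearEquiv.symm_apply_eq], fun u => (spl hφ).injective ?_⟩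
    have e1 : ∀ u, spl hφ (X ((spl hφ).symm u)) = X' u := fun u => by simp [← hX']
    have e2 : spl hψ (Y u) = Y' (spl hψ u) := by simp [← hY']
    simp only [LinearEquiv.trans_apply, e1, e2, map_add, map_smul, spl_self, LinearEquiv.apply_symm_apply]
    ext <;> simp [h5]

theorem half [Finite K] [FiniteDimensional K V] {v : V} (hv : v ≠ 0) :
    Nat.card (V ≃ₗ[K] V) < 2 * Set.ncard {X : V ≃ₗ[K] V | Cyc X.toLinearMap v} := by
  have := Module.finite_of_finite K (M := V)
  have : Finite (V ≃ₗ[K] V) := DFunLike.finite _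
  have : Nontrivial V := ⟨⟨v, 0, hv⟩⟩
  obtain ⟨n, hn⟩ := Nat.exists_eq_succ_of_ne_zero (finrank_pos (R := K) (M := V)).ne'
  obtain ⟨b, hb⟩ : ∃ b : Basis (Fin (n + 1)) K V, b 0 = v := by
    obtain ⟨φ, hφ⟩ := Projective.exists_dual_eq_one K hv
    exact ⟨Basis.mkFinCons v (finBasisOfFinrankEq K (ker φ) (finrank_ker hφ hn)) (fun c x hx e => by
      simpa [hφ, show φ x = 0 from hx] using congrArg φ e) fun z => ⟨-φ z, by simp [hφ]⟩, by simp⟩
  let X : V → End K V := fun w => b.constr K (Fin.lastCases w fun i => b i.succ)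
  have X1 : ∀ w (i : Fin n), X w (b i.castSucc) = b i.succ := by simp [X]
  have X2 : ∀ w, X w (b (Fin.last n)) = w := by simp [X]
  have X3 : ∀ w, b.repr w 0 ≠ 0 → Function.Bijective (X w) := fun w hw => by
    have : Function.Surjective (X w) := range_eq_top.1 (eq_top_iff.2 (b.span_eq.ge.trans (span_le.2 ?_)))
    · exact ⟨injective_iff_surjective.2 this, this⟩
    rintro _ ⟨i, rfl⟩
    induction i using Fin.cases with
    | succ i => exact ⟨_, X1 w i⟩
    | zero =>
      refine (smul_mem_iff _ hw).1 (((range (X w)).add_mem_iff_left (sum_mem (t := Finset.univ)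
        fun (i : Fin n) _ => smul_mem _ (b.repr w i.succ) ⟨_, X1 w i⟩)).1 ?_)
      rw [← Fin.sum_univ_succ fun i => b.repr w i • b i, b.sum_repr]
      exact ⟨_, X2 w⟩
  have X4 : ∀ w, Cyc (X w) v := fun w p h1 h2 => eq_top_iff.2 (b.span_eq.ge.trans (span_le.2 (by
    rintro _ ⟨i, rfl⟩
    induction i using Fin.induction with
    | zero => exact hb ▸ h1
    | succ i ih => exact X1 w i ▸ h2 _ ih)))
  let f : MulAction.stabilizer (V ≃ₗ[K] V) v × {w // b.repr w 0 ≠ 0} → {X : V ≃ₗ[K] V | Cyc X.toLinearMap v} := fun x =>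
    ⟨x.1 * .ofBijective _ (X3 _ x.2.2) * x.1⁻¹, by
      have := (X4 x.2).map x.1.1 (Y := (x.1 * .ofBijective _ (X3 _ x.2.2) * x.1⁻¹ : V ≃ₗ[K] V)) (by simp)
      rwa [show x.1.1 v = v from x.1.2] at this⟩
  have h1 : Function.Injective f := fun ⟨g, w⟩ ⟨g', w'⟩ e => by
    have e1 : ∀ u, g.1 (X w (g.1.symm u)) = g'.1 (X w' (g'.1.symm u)) := DFunLike.congr_fun (Subtype.mk.inj e)
    obtain rfl : g = g' := Subtype.ext (b.ext' fun i => by
      induction i using Fin.induction with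
      | zero => exact hb ▸ g.2.trans g'.2.symm
      | succ i ih =>
        have := e1 (g.1 (b i.castSucc))
        rwa [g.1.symm_apply_apply, ih, g'.1.symm_apply_apply, X1, X1] at this)
    simpa [X2, Subtype.ext_iff] using e1 (g.1 (b (Fin.last n)))
  have h2 := Nat.card_le_card_of_injective f h1
  have h3 := Nat.card_congr (MulAction.orbitProdStabilizerEquivGroup (V ≃ₗ[K] V) v)
  have h4 : Nat.card (MulAction.orbit (V ≃ₗ[K] V) v) < Nat.card V :=
    Finite.card_subtype_lt (x := 0) fun ⟨g, h⟩ => hv (g.map_eq_zero_iff.1 h)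
  have h5 : Nat.card V ≤ 2 * Nat.card {w // b.repr w 0 ≠ 0} := by
    classical
    have := Nat.card_le_card_of_injective (fun w : {w // ¬ b.repr w 0 ≠ 0} => (⟨w + b 0, by simp [not_not.1 w.2]⟩ :
      {w // b.repr w 0 ≠ 0})) fun _ _ e => by simpa [Subtype.ext_iff] using e
    rw [← Nat.card_congr (Equiv.sumCompl fun w => b.repr w 0 ≠ 0), Nat.card_sum]
    omega
  rw [Nat.card_prod] at h2 h3
  rw [← h3, ← Nat.card_coe_set_eq]
  nlinarith [Nat.card_pos (α := MulAction.stabilizer (V ≃ₗ[K] V) v)]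

theorem exists_cyc [Finite K] [FiniteDimensional K V] {v v' : V} (hv : v ≠ 0) (hv' : v' ≠ 0) (T : V ≃ₗ[K] V) :
    ∃ R : V ≃ₗ[K] V, Cyc R.toLinearMap v ∧ Cyc (T * R).toLinearMap v' := by
  have := Module.finite_of_finite K (M := V)
  have : Finite (V ≃ₗ[K] V) := DFunLike.finite _
  by_contra! H
  have h1 := Set.ncard_union_eq (s := {X : V ≃ₗ[K] V | Cyc X.toLinearMap v})
    (t := (T * ·) ⁻¹' {X : V ≃ₗ[K] V | Cyc X.toLinearMap v'}) (Set.disjoint_left.2 H)
  have h2 := Set.ncard_le_card ({X : V ≃ₗ[K] V | Cyc X.toLinearMap v} ∪ (T * ·) ⁻¹' {X | Cyc X.toLinearMap v'})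
  rw [Set.ncard_preimage_of_injective_subset_range (mul_right_injective T)
    ((Set.subset_univ _).trans (mul_left_surjective T).range_eq.ge)] at h1
  have := half (K := K) hv
  have := half (K := K) hv'
  omega

/-- a block of the model -/
def blk (Y : End K W) (μ : K) : End K (W × K) := Y.prodMap (μ • 1)

theorem blk_apply (Y : End K W) (μ : K) (x : W × K) : blk Y μ x = (Y x.1, μ * x.2) := rfl

theorem det_blk [FiniteDimensional K W] (Y : End K W) (μ : K) : (blk Y μ).det = Y.det * μ := by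
  simp [blk, det_prodMap]

theorem Cyc.blk {Y : End K W} {y : W} {μ : K} (h : Cyc Y y) (hY : Function.Bijective (Y - μ • 1 : End K W)) :
    Cyc (blk Y μ) (y, 1) := fun p h1 h2 => eq_top_iff.2 fun ⟨u, c⟩ _ => by
  have := h.map (.ofBijective _ hY) (Y := Y) (by simp) (p.comap (inl K W K))
    (by simpa [blk_apply] using p.sub_mem (h2 _ h1) (p.smul_mem μ h1)) fun w hw => by simpa [blk_apply] using h2 _ hw
  simpa using p.add_mem (this.ge (mem_top (x := u - c • y))) (p.smul_mem c h1)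

theorem det_eq_of {X : End K V} {Y : End K V'} (e : V' ≃ₗ[K] V) (h : ∀ u, X (e u) = e (Y u)) : X.det = Y.det := by
  rw [← det_conj Y e]; congr 1; ext u; simpa using h (e.symm u)

theorem Cyc.smul {X : End K V} {v : V} (h : Cyc X v) {c : K} (hc : c ≠ 0) : Cyc X (c • v) :=
  fun p h1 => h p ((p.smul_mem_iff hc).1 h1)

theorem fac_prod [Finite K] [FiniteDimensional K W] [FiniteDimensional K V'] [FiniteDimensional K W'] {n : ℕ}
    (hW : finrank K W = n) (hV' : finrank K V' = n + 1) (hW' : finrank K W' = n) {A : End K (W × K)}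
    (h2 : Function.Injective (fst K _ K ∘ₗ A ∘ₗ inl K _ K)) (h3 : (A (0, 1)).1 ≠ 0) {Y : End K W'} {y : W'} {μ : K}
    (hY : Cyc Y y) (hY' : Function.Bijective (Y - μ • 1 : End K W'))
    {Z : End K V'} {z : V'} (hZ : Cyc Z z) (hd : Z.det = A.det * (Y.det * μ)) (h0 : Z.det ≠ 0) :
    ∃ (h₁ : (W' × K) ≃ₗ[K] W × K) (h₂ : V' ≃ₗ[K] W × K), ∀ u, A (h₁ (blk Y μ (h₁.symm (h₂ u)))) = h₂ (Z u) := by
  have hμ : μ ≠ 0 := right_ne_zero_of_mul (right_ne_zero_of_mul (hd ▸ h0))
  let T := LinearEquiv.ofInjectiveEndo _ h2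
  obtain ⟨R, r1, r2⟩ := exists_cyc (T.symm.map_ne_zero_iff.2 h3) h3 T
  obtain ⟨ε, l, -, r3⟩ := br n hW hW' r1 hY
  have c0 : (A * blk (ε.conj Y) μ).det = Z.det := by
    rw [map_mul, det_blk, hd, det_eq_of ε (X := ε.conj Y) (Y := Y) (by simp)]
  have c1 : Cyc (A * blk (ε.conj Y) μ) (0, 1) := Cyc.lift (by
    rw [show ((A * blk (ε.conj Y) μ) (0, 1)).1 = μ • (A (0, 1)).1 by simp [blk_apply, ← Prod.smul_fst, ← map_smul]]
    refine (r2.fb fun w => ⟨l (ε.symm w), ?_⟩).smul hμ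
    have := congrArg T (r3 (ε.symm w))
    rw [map_add, map_smul, T.apply_symm_apply, ε.apply_symm_apply] at this
    refine this.trans ?_
    simp [blk_apply, T])
  obtain ⟨δ, m, -, c2⟩ := br (n + 1) (by simp [hW]) hV'
    (c1.map (equivOfDetNeZero _ (c0 ▸ h0)) (Y := A * blk (ε.conj Y) μ) fun _ => rfl) hZ
  let ψ : Dual K (W × K) := -m ∘ₗ δ.symm.toLinearMap
  have c3 : ∀ u, (A * blk (ε.conj Y) μ * transvection ψ (0, 1)) (δ u) = δ (Z u) := fun u => by
    rw [End.mul_apply, transvection.apply, map_add, map_smul, c2]; simp [ψ]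
  clear_value ψ
  have c4 : ψ (0, 1) = 0 := by
    have := det_eq_of δ c3
    rw [map_mul, c0, transvection.det] at this
    simpa [h0] using this
  let S := LinearEquiv.ofBijective _ hY'
  let h₁ := ε.skewProd (.refl K K) (μ • ψ ∘ₗ inl K W K ∘ₗ ε.toLinearMap ∘ₗ S.symm.toLinearMap)
  refine ⟨h₁, δ, fun u => (congrArg A ?_).trans (c3 u)⟩
  obtain ⟨⟨w, c⟩, e⟩ := h₁.surjective (δ u)
  obtain ⟨w, rfl⟩ := S.surjective w
  have c5 : ∀ w c, ψ (w, c) = ψ (w, 0) := fun w c => by
    rw [show (w, c) = (w, 0) + c • ((0, 1) : _ × K) by simp, map_add, map_smul, c4]; simp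
  have c6 : Y (S w) = S (Y w) := by simp [S]
  have c7 : ψ (ε (S w), 0) = ψ (ε (Y w), 0) - μ * ψ (ε w, 0) := by
    rw [← smul_eq_mul, ← map_smul, ← map_sub]; simp [S]
  rw [← e, h₁.symm_apply_apply, transvection.apply]
  ext
  · simp [h₁, blk_apply]
  · simp [h₁, blk_apply, c6, c5 _ (c + _), c7]; ring

/-- a non-scalar element times a suitable element of a cyclic class with a simple eigenvalue lies in any given
cyclic class -/
theorem fac [Finite K] [FiniteDimensional K V] [FiniteDimensional K V'] [FiniteDimensional K W'] {n : ℕ}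
    (hV : finrank K V = n + 1) (hV' : finrank K V' = n + 1) (hW' : finrank K W' = n) {A : End K V}
    (hA : ∀ c : K, A ≠ c • 1) {Y : End K W'} {y : W'} {μ : K} (hY : Cyc Y y)
    (hY' : Function.Bijective (Y - μ • 1 : End K W'))
    {Z : End K V'} {z : V'} (hZ : Cyc Z z) (hd : Z.det = A.det * (Y.det * μ)) (h0 : Z.det ≠ 0) :
    ∃ (h₁ : (W' × K) ≃ₗ[K] V) (h₂ : V' ≃ₗ[K] V), ∀ u, A (h₁ (blk Y μ (h₁.symm (h₂ u)))) = h₂ (Z u) := by
  obtain ⟨e, he⟩ : ∃ e, A e ∉ K ∙ e := by
    by_contra! H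
    obtain ⟨c, hc⟩ := exists_eq_smul_id_of_forall_notLinearIndependent (f := A) fun v h => by
      obtain ⟨c, e⟩ := mem_span_singleton.1 (H v)
      simpa using (LinearIndependent.pair_iff.1 h c (-1) (by simp [e])).2
    exact hA c hc
  obtain ⟨A, rfl⟩ : ∃ B : V ≃ₗ[K] V, B.toLinearMap = A := ⟨equivOfDetNeZero A (left_ne_zero_of_mul (hd ▸ h0)), rfl⟩
  have he0 : e ≠ 0 := by rintro rfl; simp at he
  obtain ⟨φ, hφ, hφ'⟩ : ∃ φ : Dual K V, φ e = 1 ∧ φ (A.symm e) ≠ 0 := by
    obtain ⟨φ, h1⟩ := Projective.exists_dual_eq_one K he0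
    obtain ⟨ψ, h2⟩ := Projective.exists_dual_eq_one K (A.symm.map_ne_zero_iff.2 he0)
    by_cases h3 : φ (A.symm e) = 0
    · exact ⟨ψ + (1 - ψ e) • φ, by simp [h1], by simp [h2, h3]⟩
    · exact ⟨φ, h1, h3⟩
  have h1 : ∀ u, (spl hφ u).1 = 0 → u ∈ K ∙ e := fun u h =>
    mem_span_singleton.2 ⟨φ u, (sub_eq_zero.1 (Subtype.ext_iff.1 h)).symm⟩
  obtain ⟨h₁, h₂, h⟩ := fac_prod (finrank_ker hφ hV) hV' hW' (A := (spl hφ).conj A.toLinearMap)
    ((injective_iff_map_eq_zero _).2 fun w hw => by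
      obtain ⟨c, hc⟩ := mem_span_singleton.1 (h1 _ hw)
      have h3 : (w : V) = c • A.symm e := by simpa [spl, ← map_smul, A.eq_symm_apply] using hc.symm
      have h4 := w.2
      rw [h3, mem_ker, map_smul, smul_eq_zero_iff_left hφ'] at h4
      exact Subtype.ext (by simp [h3, h4])) (fun h => he (h1 _ (by simpa [← spl_self hφ] using h))) hY hY' hZ
    (by rw [hd, det_eq_of (spl hφ) (Y := A.toLinearMap) (by simp)]) h0
  exact ⟨h₁.trans (spl hφ).symm, h₂.trans (spl hφ).symm, fun u => (spl hφ).injective (by simpa using h u)⟩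

open Polynomial in
theorem exists_model {n : ℕ} {f : K[X]} (hf : f.Monic) (hn : f.natDegree = n) :
    ∃ (Y : End K (Fin n → K)) (y : Fin n → K), Cyc Y y ∧ Y.det = (-1) ^ n * f.coeff 0 ∧
      ∀ μ, f.eval μ ≠ 0 → Function.Bijective (Y - μ • 1 : End K (Fin n → K)) := by
  let pb := AdjoinRoot.powerBasis hf.ne_zero
  have := pb.finite
  let e : AdjoinRoot f ≃ₗ[K] (Fin n → K) := .ofFinrankEq _ _ (by simp [pb.finrank, pb, hn])
  have h1 : Cyc (Algebra.lmul K _ (AdjoinRoot.root f)) 1 := fun p h1 h2 => eq_top_iff.2 fun u _ => by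
    obtain ⟨g, rfl⟩ := AdjoinRoot.mk_surjective u
    induction g using Polynomial.induction_on with
    | C a => simpa [Algebra.smul_def] using p.smul_mem a h1
    | add _ _ a b => exact map_add (AdjoinRoot.mk f) _ _ ▸ p.add_mem (a trivial) (b trivial)
    | monomial k a ih =>
      rw [pow_succ, ← mul_assoc, mul_comm, map_mul, AdjoinRoot.mk_X]; exact h2 _ (ih trivial)
  refine ⟨e.conj (Algebra.lmul K _ (AdjoinRoot.root f)), e 1, h1.map e (by simp), ?_, fun μ h => ?_⟩
  · rw [det_eq_of e (Y := Algebra.lmul K _ (AdjoinRoot.root f)) (by simp), ← hn]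
    have := Algebra.PowerBasis.norm_gen_eq_coeff_zero_minpoly pb
    rwa [AdjoinRoot.minpoly_powerBasis_gen_of_monic hf] at this
  · obtain ⟨g, hg⟩ := X_sub_C_dvd_sub_C_eval (p := f) (a := μ)
    have h2 : IsUnit (AdjoinRoot.root f - algebraMap K _ μ) := by
      have := congrArg (AdjoinRoot.mk f) hg
      simp only [map_sub, AdjoinRoot.mk_self, AdjoinRoot.mk_C, AdjoinRoot.mk_X, map_mul, zero_sub] at this
      exact isUnit_of_mul_isUnit_left (this ▸ (h.isUnit.map (AdjoinRoot.of f)).neg)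
    have := (End.isUnit_iff _).1 ((h2.map (Algebra.lmul K _)).map (e.conjAlgEquiv K))
    rwa [map_sub, map_sub, AlgHom.commutes, AlgEquiv.commutes, Algebra.algebraMap_eq_smul_one] at this

open Polynomial in
theorem comm_of_poly [Finite K] [FiniteDimensional K V] {n : ℕ} (hV : finrank K V = n + 1) {A : End K V}
    (hA : ∀ c : K, A ≠ c • 1) (hd : A.det = 1) {f : K[X]} (hf : f.Monic) (hn : f.natDegree = n) {μ : K}
    (h1 : f.eval μ ≠ 0) (h2 : (-1) ^ n * f.coeff 0 * μ = 1) :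
    ∃ D G : End K V, D.det = 1 ∧ G.det = 1 ∧ A * D * G = G * D := by
  obtain ⟨Y, y, a1, a2, a3⟩ := exists_model hf hn
  have a4 : (blk Y μ).det = 1 := by rw [det_blk, a2, h2]
  obtain ⟨h₁, h₂, h⟩ := fac hV (by simp) (by simp) hA a1 (a3 μ h1) (a1.blk (a3 μ h1)) (by rw [hd, one_mul, det_blk])
    (a4 ▸ one_ne_zero)
  let d := LinearMap.det (h₂.toLinearMap ∘ₗ h₁.symm.toLinearMap)
  refine ⟨h₁.conj (blk Y μ), h₂.toLinearMap ∘ₗ h₁.symm.toLinearMap * h₁.conj (blk 1 d⁻¹),
    (det_eq_of h₁ (by simp)).trans a4, ?_, LinearMap.ext fun u => ?_⟩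
  · rw [map_mul, det_eq_of h₁ (X := h₁.conj _) (Y := blk 1 d⁻¹) (by simp), det_blk, map_one, one_mul]
    exact mul_inv_cancel₀ (h₁.symm.trans h₂).isUnit_det'.ne_zero
  · simp only [End.mul_apply, comp_apply, LinearEquiv.conj_apply_apply, LinearEquiv.coe_coe, h₁.symm_apply_apply, h]
    simp [blk_apply, mul_left_comm]

open Polynomial in
theorem comm_nonscalar [Fintype K] [FiniteDimensional K V] {n : ℕ} (hV : finrank K V = n + 2)
    (hK : n = 0 → 4 ≤ Fintype.card K) {A : End K V} (hA : ∀ c : K, A ≠ c • 1) (hd : A.det = 1) :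
    ∃ D G : End K V, D.det = 1 ∧ G.det = 1 ∧ A * D * G = G * D := by
  classical
  rcases n with _ | n
  · obtain ⟨μ, -, hμ⟩ := Finset.exists_mem_notMem_of_card_lt_card (s := {0, 1, -1}) (t := (Finset.univ : Finset K))
      (Finset.card_le_three.trans_lt (hK rfl))
    simp only [Finset.mem_insert, Finset.mem_singleton, not_or] at hμ
    refine comm_of_poly hV hA hd (monic_X_sub_C μ⁻¹) (natDegree_X_sub_C _) (μ := μ) ?_ (by simp [hμ.1])
    rw [eval_sub, eval_X, eval_C, sub_ne_zero, Ne, ← mul_eq_one_iff_eq_inv₀ hμ.1, mul_self_eq_one_iff, not_or]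
    exact hμ.2
  · refine comm_of_poly hV hA hd (f := X ^ (n + 2) + (C (-(-1) ^ n) * X + C ((-1) ^ n))) (μ := 1) ?_ ?_ (by simp)
      (by simp [pow_succ, ← mul_pow, -map_pow])
    · exact monic_X_pow_add (degree_linear_lt.trans_le (by exact_mod_cast (by omega : 2 ≤ n + 2)))
    · rw [natDegree_add_eq_left_of_natDegree_lt] <;> rw [natDegree_X_pow]
      exact natDegree_linear_le.trans_lt (by omega)

open Matrix in
theorem scal_block {k h : ℕ} (J M : Matrix (Fin k) (Fin k) K) (c : K) (hJ : M * J = c ^ (h + 1) • (J * M)) :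
    ∃ a b : Matrix (Fin k × Fin (h + 1)) (Fin k × Fin (h + 1)) K, a.det = (-1) ^ (h * k) * J.det ∧
      b.det = c ^ (k * ∑ i : Fin (h + 1), i.1) * M.det ^ (h + 1) ∧ b * a = c • (a * b) := by
  let σ := Equiv.prodCongrRight fun _ : Fin k => (finRotate (h + 1)).symm
  refine ⟨(blockDiagonal fun j => if j = Fin.last h then J else 1).submatrix σ _root_.id, blockDiagonal fun j => c ^ j.1 • M,
    ?_, ?_, ?_⟩
  · rw [det_permute, det_blockDiagonal, Equiv.Perm.sign_prodCongrRight]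
    simp [apply_ite det, pow_mul]
  · simp [det_blockDiagonal, Finset.prod_mul_distrib, Finset.prod_pow_eq_pow_sum, ← pow_mul, Finset.sum_mul, mul_comm,
      Finset.mul_sum]
  · have : (blockDiagonal fun j : Fin (h + 1) => c ^ j.1 • M) =
        (blockDiagonal fun j : Fin (h + 1) => c ^ (finRotate _ j).1 • M).submatrix σ σ := by
      ext ⟨i, j⟩ ⟨i', j'⟩; simp [σ, blockDiagonal_apply]
    nth_rw 1 [this]
    rw [submatrix_mul_equiv]
    change _ = submatrix (c • (blockDiagonal (fun j => if j = Fin.last h then J else 1) *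
      blockDiagonal fun j => c ^ j.1 • M)) σ _root_.id
    rw [← blockDiagonal_mul, ← blockDiagonal_mul, ← blockDiagonal_smul]
    congr 2
    funext j
    induction j using Fin.lastCases with
    | last => simp [hJ, smul_smul, pow_succ']
    | cast j => simp [smul_smul, pow_succ', (Fin.castSucc_lt_last j).ne, Fin.val_add_one_of_lt (Fin.castSucc_lt_last j)]

open Matrix Polynomial in
theorem comm_scalar [Fintype K] {n : ℕ} {c : K} (hc : c ^ (n + 1) = 1) :
    ∃ a b : Matrix (Fin (n + 1)) (Fin (n + 1)) K, a.det = 1 ∧ b.det = 1 ∧ b * a = c • (a * b) := by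
  have key : ∀ {k h : ℕ}, k * (h + 1) = n + 1 → ∀ J M : Matrix (Fin k) (Fin k) K, M * J = c ^ (h + 1) • (J * M) →
      (-1) ^ (h * k) * J.det = 1 → c ^ (k * ∑ i : Fin (h + 1), i.1) * M.det ^ (h + 1) = 1 →
      ∃ a b : Matrix (Fin (n + 1)) (Fin (n + 1)) K, a.det = 1 ∧ b.det = 1 ∧ b * a = c • (a * b) := by
    intro k h e J M h1 h2 h3
    obtain ⟨a, b, a1, a2, a3⟩ := scal_block J M c h1
    let σ := finProdFinEquiv.trans (finCongr e)
    exact ⟨reindexAlgEquiv K K σ a, reindexAlgEquiv K K σ b, by simpa [a1], by simpa [a2],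
      by rw [← map_mul, a3, map_smul, map_mul]⟩
  have h0 : ∀ h, (∑ i : Fin (h + 1), i.1) * 2 = (h + 1) * h := fun h => by
    rw [Fin.sum_univ_eq_sum_range fun i => i, Finset.sum_range_id_mul_two]; rfl
  obtain ⟨r, rfl | rfl⟩ := n.even_or_odd'
  · refine key (one_mul _) 1 1 (by simp [hc]) (by simp) ?_
    rw [show 1 * ∑ i : Fin (2 * r + 1), i.1 = (2 * r + 1) * r by nlinarith [h0 (2 * r)], pow_mul, hc]; simp
  · have h1 := h0 r
    rw [mul_comm] at h1
    by_cases h : c ^ (r + 1) = 1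
    · exact key (k := 2) (h := r) (by ring) 1 1 (by simp [h]) (by simp [pow_mul']) (by simp [h1, pow_mul, h])
    have h2 : c ^ (r + 1) = -1 := (mul_self_eq_one_iff.1 (by rw [← hc]; ring)).resolve_left h
    obtain ⟨s, t, e⟩ := FiniteField.exists_root_sum_quadratic (f := X ^ 2) (g := X ^ 2 - C c) (by simp)
      (degree_X_pow_sub_C (by simp) _) (FiniteField.odd_card_of_char_ne_two fun e => h (by
        have := ringChar.of_eq e
        rw [h2, CharTwo.neg_eq]))
    refine key (k := 2) (h := r) (by ring) !![0, -1; 1, 0] !![s, t; t, -s] (by simp [h2]) (by simp [pow_mul']) ?_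
    rw [h1, pow_mul, h2, det_fin_two_of, show s * -s - t * t = -1 * c by simp at e; linear_combination -e, mul_pow, h2]
    simp [pow_succ, ← mul_pow]

open Matrix in
theorem comm_SL [Fintype K] (n : ℕ) (hn : 2 ≤ n) (hex : n = 2 → 4 ≤ Fintype.card K)
    (g : SpecialLinearGroup (Fin n) K) : ∃ a b : SpecialLinearGroup (Fin n) K, g = a * b * a⁻¹ * b⁻¹ := by
  obtain ⟨n, rfl⟩ : ∃ k, n = k + 2 := ⟨n - 2, by omega⟩
  suffices ∃ a b : Matrix _ _ K, a.det = 1 ∧ b.det = 1 ∧ g.1 * a * b = b * a by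
    obtain ⟨a, b, h1, h2, h⟩ := this
    exact ⟨⟨b, h2⟩, ⟨a, h1⟩, eq_mul_inv_iff_mul_eq.2 (eq_mul_inv_iff_mul_eq.2 (Subtype.ext h))⟩
  by_cases h : ∃ c : K, toLin' g.1 = c • 1
  · obtain ⟨c, hc⟩ := h
    replace hc : g.1 = c • 1 := toLin'.injective (by rw [hc, map_smul, toLin'_one]; rfl)
    obtain ⟨a, b, h1, h2, h3⟩ := comm_scalar (n := n + 1) (c := c) (by simpa [hc] using g.2)
    exact ⟨a, b, h1, h2, by simp [hc, h3]⟩
  · obtain ⟨D, G, h1, h2, h3⟩ := comm_nonscalar (V := Fin (n + 2) → K) (n := n) (by simp) (fun e => hex (by omega))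
      (not_exists.1 h) (by simp)
    exact ⟨toMatrix' D, toMatrix' G, by simpa, by simpa, by rw [← toMatrix'_mul, ← h3]; simp [toMatrix'_mul]⟩

end H22.CY
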