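import Cfsg.Agent.H8.FP2

/-! Frobenius groups of automorphisms: the Clifford step for a nonabelian acting `q`-group. -/

set_option autoImplicit false
set_option linter.style.haveILetI false

namespace H22.FH

open Subgroup H2 Cfsg H4.Fa
open scoped Pointwise IsMulCommutative

universe u v w

variable {A : Type v} [Group A] [Finite A] {F H : Subgroup A}

theorem cop [hn : F.Normal] (hf : Fpf F H) : (Nat.card H).Coprime (Nat.card F) := by
  refine Nat.coprime_of_dvd fun r hr h1 h2 => ?_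
  haveI := Fact.mk hr
  obtain ⟨h, hh⟩ := exists_prime_orderOf_dvd_card' (G := H) r h1
  have hp : IsPGroup r (zpowers (h : A)) :=
    IsPGroup.of_card (n := 1) (by rw [Nat.card_zpowers, orderOf_coe, hh, pow_one])
  obtain ⟨x, hx, x1, hx2⟩ := exists_fixed_of_pgroup (φ := MulAut.conj) (X := F) hp
    (fun b _ w hw => hn.conj_mem w hw b) h2
  have e := mem_fx.1 hx2 h (mem_zpowers _)
  rw [MulAut.conj_apply, mul_inv_eq_iff_eq_mul] at e
  rcases hf h h.2 x hx e with e1 | e1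
  · rw [← orderOf_coe, e1, orderOf_one] at hh
    exact hr.one_lt.ne hh
  · exact x1 e1

theorem comm_inj [hn : F.Normal] (hf : Fpf F H) {h : A} (hh : h ∈ H) (h1 : h ≠ 1) {x y : A}
    (hx : x ∈ F) (hy : y ∈ F) (e : x⁻¹ * h * x * h⁻¹ = y⁻¹ * h * y * h⁻¹) : x = y := by
  have e1 : x⁻¹ * h * x = y⁻¹ * h * y := mul_right_cancel e
  have e2 : h * (x * y⁻¹) = (x * y⁻¹) * h := by
    calc h * (x * y⁻¹) = x * (x⁻¹ * h * x) * y⁻¹ := by group
      _ = _ := by rw [e1]; group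
  exact mul_inv_eq_one.1 ((hf h hh _ (mul_mem hx (inv_mem hy)) e2).resolve_left h1)

theorem comm_surj [hn : F.Normal] (hf : Fpf F H) {S : Subgroup A} {h : A} (hh : h ∈ H)
    (h1 : h ≠ 1) (hS : h ∈ S) {y : A} (hy : y ∈ F ⊓ S) :
    ∃ x ∈ F ⊓ S, y = x⁻¹ * h * x * h⁻¹ := by
  let g : (F ⊓ S : Subgroup A) → (F ⊓ S : Subgroup A) := fun x => ⟨x.1⁻¹ * h * x.1 * h⁻¹, by
    obtain ⟨x1, x2⟩ := mem_inf.1 x.2
    refine mem_inf.2 ⟨?_, mul_mem (mul_mem (mul_mem (inv_mem x2) hS) x2) (inv_mem hS)⟩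
    have := mul_mem (inv_mem x1) (hn.conj_mem _ x1 h)
    simpa [mul_assoc] using this⟩
  have hg : Function.Injective g := fun x y e =>
    Subtype.ext (comm_inj hf hh h1 x.2.1 y.2.1 (congrArg Subtype.val e))
  obtain ⟨x, e⟩ := Finite.surjective_of_injective hg ⟨y, hy⟩
  exact ⟨x, x.2, (congrArg Subtype.val e).symm⟩

theorem mem_of_conj [hn : F.Normal] (hf : Fpf F H) {S : Subgroup A} {h : A} (hh : h ∈ H)
    (h1 : h ≠ 1) (hS : h ∈ S) {f : A} (hF : f ∈ F) (e : f⁻¹ * h * f ∈ S) : f ∈ S := by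
  obtain ⟨x, hx, e1⟩ := comm_surj hf hh h1 hS (y := f⁻¹ * h * f * h⁻¹) (mem_inf.2 ⟨by
    have := mul_mem (inv_mem hF) (hn.conj_mem _ hF h)
    simpa [mul_assoc] using this, mul_mem e (inv_mem hS)⟩)
  rw [comm_inj hf hh h1 hF hx.1 e1]
  exact hx.2

/-- in an `F`-orbit at most one point has a nontrivial stabilizer in `H` -/
theorem stab_uniq [hn : F.Normal] (hF : Group.IsNilpotent F) (hf : Fpf F H) {S : Subgroup A}
    {h k f : A} (hh : h ∈ H) (h1 : h ≠ 1) (hS : h ∈ S) (hk : k ∈ H) (k1 : k ≠ 1) (hf' : f ∈ F)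
    (e : f⁻¹ * k * f ∈ S) : f ∈ S := by
  have hs : ∀ a : A, a • ((1 : A) : A ⧸ S) = (a : A ⧸ S) := fun a => by
    rw [MulAction.Quotient.smul_coe, smul_eq_mul, mul_one]
  obtain ⟨x, hx, h2⟩ := glauberman_fixed (X := A ⧸ S) (A := H ⊓ (F ⊔ S)) (K := F)
    (by rw [normalizer_eq_top]; exact le_top)
    ((cop hf).coprime_dvd_left (card_dvd_of_le inf_le_left)) (Or.inr inferInstance)
    ((1 : A) : A ⧸ S) fun a ha => by
      obtain ⟨y, hy, s, hs', rfl⟩ := mem_sup_of_normal_left.1 ha.2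
      exact ⟨y, hy, by rw [hs, hs, QuotientGroup.eq]; simpa using hs'⟩
  have h3 : ∀ a ∈ H ⊓ (F ⊔ S), x⁻¹ * a * x ∈ S := fun a ha => by
    have := h2 a ha
    rw [← mul_smul, hs, hs, eq_comm, QuotientGroup.eq, ← mul_assoc] at this
    exact this
  have h4 : x ∈ S := mem_of_conj hf hh h1 hS hx (h3 h ⟨hh, mem_sup_right hS⟩)
  have h5 : k ∈ S := by
    have h6 : k ∈ F ⊔ S := by
      have : k = f * (f⁻¹ * k * f) * f⁻¹ := by group
      rw [this]
      exact mul_mem (mul_mem (mem_sup_left hf') (mem_sup_right e)) (mem_sup_left (inv_mem hf'))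
    have := mul_mem (mul_mem h4 (h3 k ⟨hk, h6⟩)) (inv_mem h4)
    simpa [mul_assoc] using this
  exact mem_of_conj hf hk k1 h5 hf' e

section Cliff

variable {V : Type u} [CommGroup V] [Finite V] {U : Type w} [Group U] [Finite U]
  [IsMulCommutative U]

omit [Finite A] in
/-- a hyperplane whose fixed points are not contained in a given proper subgroup -/
theorem exists_hyp' {p q : ℕ} [Fact p.Prime] [Fact q.Prime] (hpq : p ≠ q) (hV : IsPGroup p V)
    (hU : ∀ u : U, u ^ q = 1) (ρ : U →* MulAut V) {J : Subgroup V} (hx : ¬ ∀ v, v ∈ J) :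
    ∃ K : Subgroup U, ¬ fx ρ K ≤ J ∧ ∀ y ∉ K, K ⊔ zpowers y = ⊤ := by
  obtain ⟨K, hK⟩ := Set.Finite.exists_maximal
    (s := {K : Subgroup U | ¬ fx ρ K ≤ J}) (Set.toFinite _)
    ⟨⊥, fun h => hx fun v => h (mem_fx.2 fun b hb => by rw [mem_bot.1 hb]; simp)⟩
  have hK1 : ¬ fx ρ K ≤ J := hK.1
  refine ⟨K, hK1, ?_⟩
  have hq : ∀ u : U ⧸ K, u ^ q = 1 := fun u => by
    obtain ⟨u, rfl⟩ := QuotientGroup.mk_surjective u
    rw [← QuotientGroup.mk_pow, hU, QuotientGroup.mk_one]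
  have hcyc : IsCyclic (U ⧸ K) := by
    by_contra hc
    let W := fx ρ K
    let ρ1 : U →* MulAut W := restrictAut ρ W (fx_ainv_comm ρ K)
    let ρ2 : U ⧸ K →* MulAut W := QuotientGroup.lift K ρ1 fun k hk => by
      ext w
      exact congrArg (fun z : V => z) (mem_fx.1 w.2 k hk)
    haveI : IsMulCommutative (U ⧸ K) := ⟨⟨fun a b => by
      obtain ⟨a, rfl⟩ := QuotientGroup.mk_surjective a
      obtain ⟨b, rfl⟩ := QuotientGroup.mk_surjective b
      rw [← QuotientGroup.mk_mul, ← QuotientGroup.mk_mul, mul_comm]⟩⟩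
    have hcop : (Nat.card (U ⧸ K)).Coprime (Nat.card (⊤ : Subgroup W)) := by
      obtain ⟨n, hn⟩ := IsPGroup.iff_card.1 (show IsPGroup q (U ⧸ K) from fun u => ⟨1, by
        rw [pow_one, hq]⟩)
      obtain ⟨m, hm⟩ := IsPGroup.iff_card.1 ((hV.to_subgroup W).to_subgroup ⊤)
      rw [hn, hm]
      exact Nat.Coprime.pow _ _ ((Nat.coprime_primes Fact.out Fact.out).2 hpq.symm)
    have := aut_le_of_fixed_le (φ := ρ2) hc (K := ⊤) (J := J.subgroupOf W)
      aInv_top hcop fun a a1 w _ hw => by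
        obtain ⟨a, rfl⟩ := QuotientGroup.mk_surjective a
        have ha : a ∉ K := fun h => a1 ((QuotientGroup.eq_one_iff a).2 h)
        have h1 : (w : V) ∈ fx ρ (K ⊔ zpowers a) :=
          fx_sup w.2 (fx_zpowers (congrArg Subtype.val hw))
        by_contra h2
        have h3 := hK.2 (y := K ⊔ zpowers a) (fun h => h2 (h h1)) le_sup_left
        exact ha (h3 (mem_sup_right (mem_zpowers a)))
    exact hK1 fun w hw => this (mem_top (⟨w, hw⟩ : W))
  intro y hy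
  have y1 : (y : U ⧸ K) ≠ 1 := fun h => hy ((QuotientGroup.eq_one_iff y).1 h)
  have hc : Nat.card (U ⧸ K) = q := by
    have h1 : Nat.card (U ⧸ K) ∣ q := by
      rw [← IsCyclic.exponent_eq_card]
      exact Monoid.exponent_dvd_of_forall_pow_eq_one hq
    refine ((Nat.dvd_prime Fact.out).1 h1).resolve_left fun e => y1 ?_
    haveI := (Nat.card_eq_one_iff_unique.1 e).1
    exact Subsingleton.elim _ _
  have h2 := zpowers_eq_top_of_prime_card hc y1
  rw [eq_top_iff]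
  intro u _
  obtain ⟨n, hn⟩ := (h2 ▸ mem_top (u : U ⧸ K) : (u : U ⧸ K) ∈ zpowers (y : U ⧸ K))
  have h3 : (y ^ n)⁻¹ * u ∈ K := QuotientGroup.eq.1 hn
  have : u = y ^ n * ((y ^ n)⁻¹ * u) := by group
  rw [this]
  exact mul_mem (mem_sup_right (zpow_mem (mem_zpowers y) n)) (mem_sup_left h3)

/-- the stabilizer of a subgroup -/
def St (θ : A →* MulAut U) (K : Subgroup U) : Subgroup A :=
  (MulAction.stabilizer (MulAut U) K).comap θ

omit [Finite A] [Finite U] [IsMulCommutative U] in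
theorem St_mem {θ : A →* MulAut U} {K : Subgroup U} {a : A} (ha : a ∈ St θ K) {k : U}
    (hk : k ∈ K) : θ a k ∈ K := by
  have : θ a • K = K := ha
  rw [← this]
  exact ⟨k, hk, rfl⟩

omit [Finite A] [IsMulCommutative U] in
theorem not_St {θ : A →* MulAut U} {K : Subgroup U} {a : A} (ha : a ∉ St θ K) :
    ∃ l ∈ K, θ a l ∉ K := by
  have h2 : ¬ θ a • K ≤ K := fun h => ha (show θ a • K = K from eq_of_le_of_card_ge h (le_of_eq
    (Nat.card_congr (K.equivSMul (θ a)).toEquiv)))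
  obtain ⟨_, ⟨l, hl, rfl⟩, hy⟩ := SetLike.not_le_iff_exists.1 h2
  exact ⟨l, hl, hy⟩

/-- an automorphism commuting with `U` and fixing the fixed points of `B` fixes the fixed points
of the stabilizer on the component of a hyperplane -/
theorem fix_comp {p q : ℕ} [Fact p.Prime] [Fact q.Prime] (hpq : p ≠ q)
    (hV : IsPGroup p V) (hU : ∀ u : U, u ^ q = 1) (σ : U →* MulAut V) (θ : A →* MulAut U)
    (ψ : A →* MulAut V) (hc : ∀ a u v, ψ a (σ u v) = σ (θ a u) (ψ a v)) (h1 : fx σ ⊤ = ⊥)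
    {K : Subgroup U} (hK : ∀ y ∉ K, K ⊔ zpowers y = ⊤) {α : MulAut V}
    (hα : ∀ u v, α (σ u v) = σ u (α v)) {B : Subgroup A} (hx : ∀ v ∈ fx ψ B, α v = v)
    {w : V} (hw : w ∈ fx σ K) (hw' : w ∈ fx ψ (B ⊓ St θ K)) : α w = w := by
  classical
  letI := Fintype.ofFinite A
  letI := Fintype.ofFinite U
  let π : V →* V :=
    { toFun := fun v => ∏ k ∈ Finset.univ.filter (· ∈ K), σ k v
      map_one' := by simp
      map_mul' := fun a b => by simp [Finset.prod_mul_distrib] }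
  have hπ : ∀ v, π v = ∏ k ∈ Finset.univ.filter (· ∈ K), σ k v := fun _ => rfl
  have hπc : ∀ β : MulAut V, (∀ u v, β (σ u v) = σ u (β v)) → ∀ v, π (β v) = β (π v) :=
    fun β hβ v => by
      rw [hπ, hπ, map_prod]
      exact Finset.prod_congr rfl fun k _ => (hβ k v).symm
  have hσ : ∀ y u v, σ y (σ u v) = σ u (σ y v) := fun y u v => by
    rw [← MulAut.mul_apply, ← MulAut.mul_apply, ← map_mul, ← map_mul, mul_comm]
  have ha : ∀ w ∈ fx σ K, w ∈ π.ker → w = 1 := by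
    intro w hw h
    rw [MonoidHom.mem_ker, hπ, Finset.prod_congr rfl (g := fun _ => w)
      (fun k hk => mem_fx.1 hw k (by simpa using hk)), Finset.prod_const] at h
    have e : (Finset.univ.filter (· ∈ K)).card = Nat.card K := by
      rw [Nat.card_eq_fintype_card, Fintype.card_subtype]
    rw [e] at h
    obtain ⟨n, hn⟩ := IsPGroup.iff_card.1 (show IsPGroup q K from fun u => ⟨1, Subtype.ext (by
      rw [pow_one, coe_pow, hU, coe_one])⟩)
    obtain ⟨m, hm⟩ := hV w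
    rw [hn] at h
    have h2 : orderOf w ∣ Nat.gcd (p ^ m) (q ^ n) :=
      Nat.dvd_gcd (orderOf_dvd_of_pow_eq_one hm) (orderOf_dvd_of_pow_eq_one h)
    rw [Nat.Coprime.pow _ _ ((Nat.coprime_primes Fact.out Fact.out).2 hpq), Nat.dvd_one] at h2
    exact orderOf_eq_one_iff.1 h2
  have hb : ∀ a ∉ St θ K, ψ a w ∈ π.ker := by
    intro a ha
    obtain ⟨l, hl, hy⟩ := not_St ha
    have h3 : π (ψ a w) ∈ fx σ (K ⊔ zpowers (θ a l)) := by
      refine fx_sup (prod_fixed K _) (fx_zpowers ?_)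
      rw [← hπc _ (hσ _), ← hc, mem_fx.1 hw l hl]
    rw [hK (θ a l) hy, h1] at h3
    exact h3
  obtain ⟨y, hy, h⟩ := orbit_prod (ψ := ψ) B w π.ker fun b hb' => by
    by_cases hs : b ∈ St θ K
    · exact Or.inl (mem_fx.1 hw' b ⟨hb', hs⟩)
    · exact Or.inr (hb b hs)
  have h4 : α (w⁻¹ * y) ∈ π.ker := by
    rw [MonoidHom.mem_ker] at h ⊢
    rw [hπc _ hα, h, map_one]
  have h5 : w⁻¹ * α w = 1 := by
    refine ha _ (mul_mem (inv_mem hw) (mem_fx.2 fun k hk => ?_)) ?_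
    · rw [← hα, mem_fx.1 hw k hk]
    · have := mul_mem h (inv_mem h4)
      rw [map_mul, map_inv, hx y hy] at this
      simpa [mul_assoc] using this
  exact (inv_mul_eq_one.1 h5).symm

omit [Finite V] [Finite U] in
/-- the kernel part of the stabilizer acts trivially on the cyclic quotient -/
theorem triv_quot [hn : F.Normal] (hf : Fpf F H) (θ : A →* MulAut U) {K : Subgroup U} {z : U}
    (hz : K ⊔ zpowers z = ⊤) {h : A} (hh : h ∈ H) (h1 : h ≠ 1) (hS : h ∈ St θ K) {f : A}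
    (hF : f ∈ F ⊓ St θ K) : z⁻¹ * θ f z ∈ K := by
  have hi : AInv (θ.comp (St θ K).subtype) K := fun a _ hk => St_mem a.2 hk
  let τ := quotAut (θ.comp (St θ K).subtype) K hi
  haveI : IsCyclic (U ⧸ K) := ⟨⟨z, fun u => by
    obtain ⟨u, rfl⟩ := QuotientGroup.mk_surjective u
    obtain ⟨k, hk, _, ⟨n, rfl⟩, rfl⟩ := mem_sup_of_normal_left.1 (hz ▸ mem_top u)
    exact ⟨n, by simp [(QuotientGroup.eq_one_iff k).2 hk]⟩⟩⟩
  have hcm : ∀ a b : MulAut (U ⧸ K), a * b = b * a := fun a b =>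
    (IsCyclic.mulAutMulEquiv (U ⧸ K)).injective (by rw [map_mul, map_mul, mul_comm])
  obtain ⟨x, hx, e⟩ := comm_surj hf hh h1 hS hF
  have e1 : (⟨f, hF.2⟩ : St θ K) = ⟨x, hx.2⟩⁻¹ * ⟨h, hS⟩ * ⟨x, hx.2⟩ * ⟨h, hS⟩⁻¹ := Subtype.ext e
  have e2 : τ ⟨f, hF.2⟩ = 1 := by
    rw [e1, map_mul, map_mul, map_mul, map_inv, map_inv, hcm (τ _)⁻¹]
    group
  have e3 := quotAut_mk (θ.comp (St θ K).subtype) K hi ⟨f, hF.2⟩ z
  change τ _ _ = _ at e3
  rw [e2, MulAut.one_apply] at e3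
  exact QuotientGroup.eq.1 e3

variable {Q : Type w} [Group Q] [Finite Q]

theorem core [hn : F.Normal] (hF : Group.IsNilpotent F) (hf : Fpf F H) {p q : ℕ} [Fact p.Prime]
    [Fact q.Prime] (hpq : p ≠ q) (hV : IsPGroup p V) (hU : ∀ u : U, u ^ q = 1)
    (ρ : Q →* MulAut V) (φ : A →* MulAut Q) (ψ : A →* MulAut V)
    (hc : ∀ a u v, ψ a (ρ u v) = ρ (φ a u) (ψ a v)) (ι : U →* Q) (hι : ∀ u x, x * ι u = ι u * x)
    (θ : A →* MulAut U) (hθ : ∀ a u, ι (θ a u) = φ a (ι u)) (h0 : fx φ F = ⊥)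
    (h1 : fx (ρ.comp ι) ⊤ = ⊥) {c : Q} (hcH : c ∈ fx φ H)
    (hgen : ∀ M : Subgroup Q, (∀ f ∈ F, φ f c ∈ M) → M = ⊤)
    (hx : ∀ v ∈ fx ψ H, ρ c v = v) : ∀ v, ρ c v = v := by
  classical
  letI := Fintype.ofFinite A
  by_contra hne
  set σ := ρ.comp ι with hσ
  have hσ' : ∀ u v, σ u v = ρ (ι u) v := fun _ _ => rfl
  obtain ⟨K, hW, hK⟩ := exists_hyp' hpq hV hU σ (J := fx ρ (zpowers c))
    fun h => hne fun v => mem_fx.1 (h v) c (mem_zpowers c)
  have hc' : ∀ a u v, ψ a (σ u v) = σ (θ a u) (ψ a v) := fun a u v => by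
    rw [hσ', hσ', hc, hθ]
  have hα : ∀ x u v, ρ x (σ u v) = σ u (ρ x v) := fun x u v => by
    rw [hσ', hσ', ← MulAut.mul_apply, ← MulAut.mul_apply, ← map_mul, ← map_mul, hι]
  have hWi : AInv ρ (fx σ K) := fun x w hw => mem_fx.2 fun k hk => by
    rw [← hα, mem_fx.1 hw k hk]
  let r := restrictAut ρ (fx σ K) hWi
  have hr : ∀ x, r x = 1 ↔ ∀ w ∈ fx σ K, ρ x w = w := fun x =>
    ⟨fun h w hw => congrArg Subtype.val (show r x ⟨w, hw⟩ = ⟨w, hw⟩ by rw [h]; rfl),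
      fun h => MulEquiv.ext fun w => Subtype.ext (h w w.2)⟩
  have hrc : r c ≠ 1 := fun h => hW fun w hw => fx_zpowers ((hr c).1 h w hw)
  have key : ∀ f : A, (∀ k ∈ H, f * k * f⁻¹ ∈ St θ K → k = 1) → r (φ f c) = 1 := by
    intro f h
    refine (hr _).2 fun w hw => fix_comp hpq hV hU σ θ ψ hc' h1 hK (hα _)
      (B := H.map (MulAut.conj f).toMonoidHom) (fun v hv => ?_) hw (mem_fx.2 ?_)
    · have h2 : ψ f⁻¹ v ∈ fx ψ H := mem_fx.2 fun k hk => by
        have := mem_fx.1 hv _ ⟨k, hk, rfl⟩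
        conv_rhs => rw [← this]
        simp
      have h3 := congrArg (ψ f) (hx _ h2)
      rw [hc] at h3
      simpa using h3
    · rintro _ ⟨⟨k, hk, rfl⟩, h2⟩
      rw [h k hk h2]
      simp
  obtain ⟨h, hh, hS, hh1⟩ : ∃ h ∈ H, h ∈ St θ K ∧ h ≠ 1 := by
    by_contra h
    push Not at h
    exact hrc (by simpa using key 1 (by simpa using h))
  have k2 : ∀ f ∈ F, f ∉ St θ K → r (φ f c) = 1 := fun f hf' hS' => key f fun k hk e => by
    by_contra k1
    exact hS' (inv_mem_iff.1 (stab_uniq hF hf hh hh1 hS hk k1 (inv_mem hf') (by simpa using e)))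
  have k3 : ∀ a ∈ St θ K, ∀ x, r x = 1 → r (φ a x) = 1 := fun a ha x h => (hr _).2 fun w hw => by
    have h2 : ψ a⁻¹ w ∈ fx σ K := mem_fx.2 fun k hk => by
      have := mem_fx.1 hw _ (St_mem ha hk)
      apply (ψ a).injective
      rw [hc']
      simpa using this
    have h3 := congrArg (ψ a) ((hr x).1 h _ h2)
    rw [hc] at h3
    simpa using h3
  obtain ⟨z, hz⟩ : ∃ z, z ∉ K := by
    by_contra h
    push Not at h
    rw [(eq_top_iff' K).2 h, h1] at hW
    exact hW bot_le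
  let M : Subgroup Q := ⨅ f ∈ {f | f ∈ F ∧ f ∉ St θ K}, r.ker.comap (φ f).toMonoidHom
  have hM : ∀ x, x ∈ M ↔ ∀ f ∈ F, f ∉ St θ K → r (φ f x) = 1 := fun x => by
    simp [M, mem_iInf]
  have hsup := hgen (M ⊔ r.ker) fun f hf' => by
    by_cases hS' : f ∈ St θ K
    · refine mem_sup_left ((hM _).2 fun g hg hg' => ?_)
      rw [← MulAut.mul_apply, ← map_mul]
      exact k2 _ (mul_mem hg hf') fun e => hg' ((mul_mem_cancel_right hS').1 e)
    · exact mem_sup_right (k2 f hf' hS')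
  obtain ⟨m, hm, n, hn', e⟩ := mem_sup_of_normal_right.1 (hsup ▸ mem_top (ι z))
  have k4 : ∀ f ∈ F, f ∈ St θ K → r (φ f m) = r (ι z) := fun f hf' hS' => by
    have h2 := triv_quot hf θ (hK z hz) hh hh1 hS ⟨hf', hS'⟩
    have h3 : r (ι (z⁻¹ * θ f z)) = 1 := (hr _).2 fun w hw => mem_fx.1 hw _ h2
    rw [map_mul, map_inv, map_mul, map_inv, inv_mul_eq_one, hθ] at h3
    rw [h3, ← e, map_mul, map_mul, k3 f hS' n hn', mul_one]
  have k5 : ∀ T : Finset A, (∀ t ∈ T, t ∈ F) → ∃ y, ∀ f ∈ F,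
      ((∃ t ∈ T, f * t ∈ St θ K) → r (φ f y) = r (ι z)) ∧
        ((∀ t ∈ T, f * t ∉ St θ K) → r (φ f y) = 1) := by
    intro T
    induction T using Finset.induction_on with
    | empty => exact fun _ => ⟨1, fun f _ => ⟨by simp, fun _ => by simp⟩⟩
    | insert t T _ ih =>
      intro hT
      obtain ⟨y, hy⟩ := ih fun s hs => hT s (Finset.mem_insert_of_mem hs)
      have ht := hT t (Finset.mem_insert_self _ _)
      by_cases h2 : ∃ s ∈ T, t⁻¹ * s ∈ St θ K
      · obtain ⟨s, hs, h2⟩ := h2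
        refine ⟨y, fun f hf' => ⟨fun ⟨u, hu, h3⟩ => (hy f hf').1 ?_,
          fun h3 => (hy f hf').2 fun u hu => h3 u (Finset.mem_insert_of_mem hu)⟩⟩
        rcases Finset.mem_insert.1 hu with rfl | hu
        · exact ⟨s, hs, by simpa [mul_assoc] using mul_mem h3 h2⟩
        · exact ⟨u, hu, h3⟩
      · push Not at h2
        refine ⟨y * φ t m, fun f hf' => ?_⟩
        rw [map_mul, map_mul, ← MulAut.mul_apply, ← map_mul φ]
        by_cases h3 : f * t ∈ St θ K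
        · refine ⟨fun _ => ?_, fun h4 => absurd h3 (h4 t (Finset.mem_insert_self _ _))⟩
          rw [k4 _ (mul_mem hf' ht) h3, (hy f hf').2 fun s hs h4 => h2 s hs (by
            simpa [mul_assoc] using mul_mem (inv_mem h3) h4), one_mul]
        · rw [(hM m).1 hm _ (mul_mem hf' ht) h3, mul_one]
          refine ⟨fun ⟨u, hu, h4⟩ => (hy f hf').1 ?_,
            fun h4 => (hy f hf').2 fun u hu => h4 u (Finset.mem_insert_of_mem hu)⟩
          rcases Finset.mem_insert.1 hu with rfl | hu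
          · exact absurd h4 h3
          · exact ⟨u, hu, h4⟩
  obtain ⟨y, hy⟩ := k5 (Finset.univ.filter (· ∈ F)) (by simp)
  have hy' : ∀ f ∈ F, r (φ f y) = r (ι z) := fun f hf' =>
    (hy f hf').1 ⟨f⁻¹, by simpa using hf', by simp⟩
  let N : Subgroup Q := ⨅ f ∈ F, r.ker.comap (φ f).toMonoidHom
  have hN : ∀ x, x ∈ N ↔ ∀ f ∈ F, r (φ f x) = 1 := fun x => by simp [N, mem_iInf]
  obtain ⟨n', hn'', h2⟩ := H8.FP.coc (φ := φ) hF (M := N) (fun b hb x hx => (hN _).2 fun f hf' => by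
      rw [← MulAut.mul_apply, ← map_mul]
      exact (hN x).1 hx _ (mul_mem hf' hb)) (by rw [h0, inf_bot_eq]) (g := y) fun a ha =>
    (hN _).2 fun f hf' => by
      rw [map_mul, map_inv, map_mul, map_inv, ← MulAut.mul_apply, ← map_mul, hy' f hf',
        hy' _ (mul_mem hf' ha), inv_mul_cancel]
  rw [h0, mem_bot, mul_eq_one_iff_eq_inv] at h2
  have h3 := (hN y).1 (h2 ▸ inv_mem hn'') 1 (one_mem _)
  rw [hy' 1 (one_mem _)] at h3
  refine hW fun w hw => ?_
  have h4 : w ∈ fx σ (K ⊔ zpowers z) := fx_sup hw (fx_zpowers ((hr _).1 h3 w hw))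
  rw [hK z hz, h1, mem_bot] at h4
  rw [h4]
  exact one_mem _

end Cliff

end H22.FH
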