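import Cfsg.Agent.H22.FH1
import Cfsg.Agent.H1.Frattini
import Cfsg.Agent.S4396

/-! Frobenius groups of automorphisms with fixed-point-free kernel: the kernel of the action on
the fixed points of the complement and the order formula. -/

set_option autoImplicit false
set_option linter.style.haveILetI false

namespace H22.FH

open Subgroup H2 Cfsg H4.Fa
open scoped Pointwise IsMulCommutative

universe u v w

variable {A : Type v} [Group A] [Finite A] {F H : Subgroup A}

omit [Finite A] in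
theorem fx_res0 {G : Type u} [Group G] {φ : A →* MulAut G} {M : Subgroup G} (hM : AInv φ M)
    (B : Subgroup A) : fx (restrictAut φ M hM) B = (fx φ B).subgroupOf M := by
  ext w
  exact ⟨fun h => mem_fx.2 fun b hb => congrArg Subtype.val (mem_fx.1 h b hb),
    fun h => mem_fx.2 fun b hb => Subtype.ext (mem_fx.1 h b hb)⟩

omit [Finite A] in
theorem fx_res1 {G : Type u} [Group G] {φ : A →* MulAut G} {M : Subgroup G} (hM : AInv φ M)
    (h0 : fx φ F = ⊥) : fx (restrictAut φ M hM) F = ⊥ := by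
  rw [fx_res0, h0, bot_subgroupOf]

theorem fx_quo1 (hF : Group.IsNilpotent F) {G : Type u} [Group G] [Finite G]
    {φ : A →* MulAut G} {N : Subgroup G} [N.Normal] (hN : AInv φ N) (h0 : fx φ F = ⊥) :
    fx (quotAut φ N hN) F = ⊥ := by
  have := H8.FP.fx_quo (φ := φ) hF (N := ⊤) hN le_top (by rw [h0, inf_bot_eq])
  rwa [map_top_of_surjective _ (QuotientGroup.mk'_surjective N), top_inf_eq] at this

theorem fx_quo0 [F.Normal] (hF : Group.IsNilpotent F) (hf : Fpf F H) {G : Type u} [Group G]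
    [Finite G] {φ : A →* MulAut G} {N : Subgroup G} [N.Normal] (hN : AInv φ N)
    (h0 : fx φ F = ⊥) : fx (quotAut φ N hN) H = (fx φ H).map (QuotientGroup.mk' N) := by
  refine le_antisymm (fun y hy => ?_) ?_
  · obtain ⟨g, rfl⟩ := QuotientGroup.mk_surjective y
    obtain ⟨v, hv, hx⟩ := H8.FP.cov hF hf _ G φ N rfl hN (by rw [h0, inf_bot_eq]) g fun h hh =>
      QuotientGroup.eq.1 ((mem_fx.1 hy h hh).symm.trans (quotAut_mk φ N hN h g))
    exact ⟨g * v, hx, by simp [hv]⟩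
  · rintro _ ⟨g, hg, rfl⟩
    exact mem_fx.2 fun h hh => congrArg (QuotientGroup.mk' N) (mem_fx.1 hg h hh)

theorem card_quot_lt {G : Type u} [Group G] [Finite G] {N : Subgroup G} [N.Normal] (h : N ≠ ⊥) :
    Nat.card (G ⧸ N) < Nat.card G := by
  rw [card_eq_card_quotient_mul_card_subgroup N]
  have h2 : 1 < Nat.card N := (one_lt_card_iff_ne_bot N).mpr h
  have h3 : 0 < Nat.card (G ⧸ N) := Nat.card_pos
  nlinarith

/-- the elements of order dividing `q` in an abelian subgroup -/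
def om (q : ℕ) {G : Type u} [Group G] (V : Subgroup G) [IsMulCommutative V] : Subgroup G :=
  (powMonoidHom q : V →* V).ker.map V.subtype

theorem mem_om {q : ℕ} {G : Type u} [Group G] {V : Subgroup G} [IsMulCommutative V] {x : G} :
    x ∈ om q V ↔ x ∈ V ∧ x ^ q = 1 :=
  ⟨by rintro ⟨y, hy, rfl⟩; exact ⟨y.2, congrArg Subtype.val (show y ^ q = 1 from hy)⟩,
    fun h => ⟨⟨x, h.1⟩, Subtype.ext h.2, rfl⟩⟩

theorem om_ne_bot {q : ℕ} [Fact q.Prime] {G : Type u} [Group G] [Finite G] {V : Subgroup G}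
    [IsMulCommutative V] (hV : IsPGroup q V) (h : V ≠ ⊥) : om q V ≠ ⊥ := by
  obtain ⟨n, hn⟩ := IsPGroup.iff_card.1 hV
  obtain ⟨y, hy⟩ := exists_prime_orderOf_dvd_card' (G := V) q (by
    rw [hn]
    exact dvd_pow_self _ fun e => h (card_eq_one.1 (by rw [hn, e, pow_zero])))
  intro e
  have h1 : (y : G) ∈ om q V := mem_om.2 ⟨y.2, by
    rw [← hy]; exact congrArg Subtype.val (pow_orderOf_eq_one y)⟩
  rw [e, mem_bot] at h1
  rw [← orderOf_coe, h1, orderOf_one] at hy
  exact (Fact.out : q.Prime).one_lt.ne hy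

theorem cop_pq {p q : ℕ} [Fact p.Prime] [Fact q.Prime] (hpq : p ≠ q) {X Y : Type*} [Group X]
    [Group Y] [Finite X] [Finite Y] (hX : IsPGroup q X) (hY : IsPGroup p Y) :
    (Nat.card X).Coprime (Nat.card Y) := by
  obtain ⟨n, hn⟩ := IsPGroup.iff_card.1 hX
  obtain ⟨m, hm⟩ := IsPGroup.iff_card.1 hY
  rw [hn, hm]
  exact Nat.Coprime.pow _ _ ((Nat.coprime_primes Fact.out Fact.out).2 hpq.symm)

theorem keyA [hn : F.Normal] (hF : Group.IsNilpotent F) (hf : Fpf F H) (hs : F ⊔ H = ⊤)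
    {p q : ℕ} [Fact p.Prime] [Fact q.Prime] (hpq : p ≠ q) {V : Type u} [CommGroup V] [Finite V]
    (hV : IsPGroup p V) (ψ : A →* MulAut V) (n : ℕ) :
    ∀ (Q : Type w) [Group Q] [Finite Q], Nat.card Q = n → IsPGroup q Q →
      ∀ (ρ : Q →* MulAut V) (φ : A →* MulAut Q), (∀ a u v, ψ a (ρ u v) = ρ (φ a u) (ψ a v)) →
        fx φ F = ⊥ → ∀ c ∈ fx φ H, (∀ v ∈ fx ψ H, ρ c v = v) → ∀ v, ρ c v = v := by
  induction n using Nat.strong_induction_on with
  | _ n ih =>
  intro Q _ _ hcard hQ ρ φ hc h0 c hcH hx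
  let M : Subgroup Q := closure {x | ∃ f ∈ F, x = φ f c}
  have hMi : AInv φ M := by
    intro a x hx
    obtain ⟨f, hf', h, hh, rfl⟩ := mem_sup_of_normal_left.1 (hs ▸ mem_top a)
    have : M ≤ M.comap (φ (f * h)).toMonoidHom := by
      refine (closure_le _).2 ?_
      rintro _ ⟨f', hf'', rfl⟩
      refine subset_closure ⟨f * (h * f' * h⁻¹), mul_mem hf' (hn.conj_mem _ hf'' _), ?_⟩
      conv_rhs => rw [← mem_fx.1 hcH h hh]
      simp
    exact this hx
  have hcM : c ∈ M := subset_closure ⟨1, one_mem _, by simp⟩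
  by_cases hM : M ≠ ⊤
  · exact ih _ (by
      rw [← hcard, ← card_top (G := Q)]
      exact card_lt_of_lt (lt_top_iff_ne_top.2 hM)) M rfl (hQ.to_subgroup M) (ρ.comp M.subtype)
      (restrictAut φ M hMi) (fun a u v => hc a u v) (fx_res1 hMi h0) ⟨c, hcM⟩
      (by rw [fx_res0]; exact hcH) hx
  have hgen : ∀ N : Subgroup Q, (∀ f ∈ F, φ f c ∈ N) → N = ⊤ := fun N h => by
    rw [eq_top_iff, ← not_not.1 hM]
    refine (closure_le _).2 ?_
    rintro _ ⟨f, hf', rfl⟩
    exact h f hf'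
  have hKi : AInv φ ρ.ker := fun a u hu => by
    rw [MonoidHom.mem_ker] at hu ⊢
    ext v
    have := hc a u (ψ a⁻¹ v)
    rw [hu] at this
    simpa using this.symm
  by_cases hK : ρ.ker ≠ ⊥
  · exact ih _ (hcard ▸ card_quot_lt hK) (Q ⧸ ρ.ker) rfl (hQ.to_quotient _)
      (QuotientGroup.kerLift ρ) (quotAut φ _ hKi) (fun a u v => by
        obtain ⟨u, rfl⟩ := QuotientGroup.mk_surjective u
        exact hc a u v) (fx_quo1 hF hKi h0) c
      (mem_fx.2 fun h hh => congrArg (QuotientGroup.mk' _) (mem_fx.1 hcH h hh)) hx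
  rw [not_not] at hK
  by_contra hne
  haveI : Nontrivial Q := ⟨c, 1, fun e => hne (by simp [e])⟩
  have hZ := om_ne_bot (hQ.to_subgroup (center Q)) (nontrivial_iff_ne_bot _ |>.1 hQ.center_nontrivial)
  set Z := om q (center Q)
  have hZi : AInv φ Z := fun a z hz => mem_om.2 ⟨aInv_of_characteristic (φ := φ) _ a z (mem_om.1 hz).1,
    by rw [← map_pow, (mem_om.1 hz).2, map_one]⟩
  have hZc : ∀ (u : Z) (x : Q), x * u = u * x := fun u x => mem_center_iff.1 (mem_om.1 u.2).1 x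
  haveI : IsMulCommutative Z := ⟨⟨fun a b => Subtype.ext (hZc b a)⟩⟩
  let σ := ρ.comp Z.subtype
  have hcop : (Nat.card Z).Coprime (Nat.card (⊤ : Subgroup V)) :=
    cop_pq hpq (hQ.to_subgroup _) (hV.to_subgroup _)
  have hb := autFixed_inf_autComm_eq_bot (φ := σ) aInv_top hcop
  set W := autComm σ ⊤
  have hW1 : AInv ψ W := fun a => by
    have : W ≤ W.comap (ψ a).toMonoidHom := autComm_le_iff.2 fun z g _ => by
      have := inv_mul_mem_autComm (φ := σ) (restrictAut φ Z hZi a z) (mem_top (ψ a g))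
      rw [mem_comap, map_mul, map_inv]
      exact (congrArg (fun t => (ψ a g)⁻¹ * t ∈ W) (hc a z g)).mpr this
    exact fun x hx => this hx
  have hW2 : AInv ρ W := fun x => by
    have : W ≤ W.comap (ρ x).toMonoidHom := autComm_le_iff.2 fun z g _ => by
      have := inv_mul_mem_autComm (φ := σ) z (mem_top (ρ x g))
      rw [mem_comap, map_mul, map_inv]
      have e : ρ x (ρ z g) = ρ z (ρ x g) := by
        rw [← MulAut.mul_apply, ← MulAut.mul_apply, ← map_mul, ← map_mul, hZc]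
      exact (congrArg (fun t => (ρ x g)⁻¹ * t ∈ W) e).mpr this
    exact fun x hx => this hx
  have h1 := core hF hf hpq (hV.to_subgroup W) (U := Z) (fun u => Subtype.ext (mem_om.1 u.2).2)
    (restrictAut ρ W hW2) φ (restrictAut ψ W hW1) (fun a u v => Subtype.ext (hc a u v)) Z.subtype
    hZc (restrictAut φ Z hZi) (fun _ _ => rfl) h0 (eq_bot_iff.2 fun w hw => by
      have : (w : V) ∈ autFixed σ ⊓ W :=
        mem_inf.2 ⟨fun z => congrArg Subtype.val (mem_fx.1 hw z (mem_top _)), w.2⟩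
      rw [hb] at this
      exact Subtype.ext this) hcH hgen fun v hv => Subtype.ext (hx v (by rwa [fx_res0] at hv))
  have h2 := hgen (restrictAut ρ W hW2).ker fun f _ => by
    rw [MonoidHom.mem_ker]
    refine MulEquiv.ext fun w => Subtype.ext (show ρ (φ f c) w = w from ?_)
    have := congrArg (ψ f) (congrArg Subtype.val (h1 ⟨_, hW1 f⁻¹ w w.2⟩))
    change ψ f (ρ c _) = _ at this
    rw [hc] at this
    simpa using this
  have h3 : W = ⊥ := by
    rw [← hb, eq_comm, inf_eq_right]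
    intro w hw z
    have : restrictAut ρ W hW2 z = 1 := (h2 ▸ mem_top (z : Q) : (z : Q) ∈ MonoidHom.ker _)
    exact congrArg Subtype.val (show restrictAut ρ W hW2 z ⟨w, hw⟩ = ⟨w, hw⟩ by rw [this]; rfl)
  refine hZ (eq_bot_iff.2 fun z hz => hK ▸ ?_)
  rw [MonoidHom.mem_ker]
  ext v
  exact autComm_eq_bot_iff.1 h3 (mem_top v) ⟨z, hz⟩

theorem keyP [hn : F.Normal] (hF : Group.IsNilpotent F) (hf : Fpf F H) (hs : F ⊔ H = ⊤)
    {p q : ℕ} [Fact p.Prime] [Fact q.Prime] (hpq : p ≠ q) {P : Type u} [Group P] [Finite P]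
    (hP : IsPGroup p P) (ψ : A →* MulAut P) (h1 : fx ψ F = ⊥) {Q : Type w} [Group Q] [Finite Q]
    (hQ : IsPGroup q Q) (ρ : Q →* MulAut P) (φ : A →* MulAut Q)
    (hc : ∀ a u v, ψ a (ρ u v) = ρ (φ a u) (ψ a v)) (h0 : fx φ F = ⊥) {c : Q} (hcH : c ∈ fx φ H)
    (hx : ∀ v ∈ fx ψ H, ρ c v = v) (v : P) : ρ c v = v := by
  haveI : IsMulCommutative (P ⧸ frattini P) := Normal.quotient_commutative_iff_commutator_le.2
    (H1.commutator_le_frattini_of_isNilpotent hP.isNilpotent)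
  have i1 : AInv ψ (frattini P) := aInv_of_characteristic _
  have i2 : AInv ρ (frattini P) := aInv_of_characteristic _
  have h2 := keyA hF hf hs hpq (hP.to_quotient (frattini P)) (quotAut ψ _ i1) _ Q rfl hQ
    (quotAut ρ _ i2) φ (fun a u v => by
      obtain ⟨v, rfl⟩ := QuotientGroup.mk_surjective v
      exact congrArg (QuotientGroup.mk' _) (hc a u v)) h0 c hcH (by
      rw [fx_quo0 hF hf i1 h1]
      rintro _ ⟨w, hw, rfl⟩
      exact congrArg (QuotientGroup.mk' _) (hx w hw))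
  exact autFixed_eq_top_of_frattini (φ := ρ.comp (zpowers c).subtype)
    (cop_pq hpq (hQ.to_subgroup _) (hP.to_subgroup _)) (fun a g => QuotientGroup.eq.1
      (mem_fx.1 (fx_zpowers (h2 (g : P ⧸ frattini P))) a a.2).symm) ⟨c, mem_zpowers c⟩ v

variable {G : Type u} [Group G] [Finite G] {φ : A →* MulAut G}

/-- a `q`-element fixed by `H` and centralizing `C_P(H)` centralizes `P` -/
theorem key [hn : F.Normal] (hF : Group.IsNilpotent F) (hf : Fpf F H) (hs : F ⊔ H = ⊤)
    (h0 : fx φ F = ⊥) {p q : ℕ} [Fact p.Prime] [Fact q.Prime] (hpq : p ≠ q) {P Q : Subgroup G}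
    (hP : IsPGroup p P) (hQ : IsPGroup q Q) (iP : AInv φ P) (iQ : AInv φ Q)
    (hN : Q ≤ normalizer (P : Set G)) {c : G} (hc : c ∈ Q) (hcH : c ∈ fx φ H)
    (hx : ∀ v ∈ P, v ∈ fx φ H → c * v * c⁻¹ = v) : ∀ v ∈ P, c * v * c⁻¹ = v := fun v hv =>
  congrArg Subtype.val (keyP hF hf hs hpq hP (restrictAut φ P iP) (fx_res1 iP h0) hQ
    (restrictAut (MulAut.conj.comp Q.subtype) P fun a x hx => (mem_normalizer_iff.1 (hN a.2) x).1 hx)
    (restrictAut φ Q iQ) (fun a u v => Subtype.ext (by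
      show φ a (u * v * (u : G)⁻¹) = φ a u * φ a v * (φ a u)⁻¹
      simp)) (fx_res1 iQ h0) (c := ⟨c, hc⟩) (by rwa [fx_res0])
    (fun w hw => Subtype.ext (hx w w.2 (by rwa [fx_res0] at hw))) ⟨v, hv⟩)

theorem card_elem [F.Normal] (hF : Group.IsNilpotent F) (hf : Fpf F H) {p : ℕ} [Fact p.Prime]
    {V : Type u} [CommGroup V] [Finite V] (hV : ∀ v : V, v ^ p = 1) {ψ : A →* MulAut V}
    (h0 : fx ψ F = ⊥) : Nat.card V = Nat.card (fx ψ H) ^ Nat.card H := by
  letI : Module (ZMod p) (Additive V) := AddCommGroup.zmodModule (n := p) fun v => hV v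
  let ρ : A →* Module.End (ZMod p) (Additive V) :=
    { toFun := fun a => (ψ a).toMonoidHom.toAdditive.toZModLinearMap p
      map_one' := by ext v; simp
      map_mul' := fun _ _ => by ext v; simp }
  have h1 := Cfsg.Agent.S4396.dim_fix (F := F) (H := H) hF (fun x hx x1 => eq_bot_iff.2 fun f h =>
    (hf x hx f h.1 (mem_centralizer_singleton_iff.1 h.2).symm).resolve_left x1) ρ
    (eq_bot_iff.2 fun v hv => (h0 ▸ mem_fx.2 hv : Additive.toMul v ∈ (⊥ : Subgroup V)))
  have h2 := Module.natCard_eq_pow_finrank (K := ZMod p) (V := Additive V)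
  have h3 := Module.natCard_eq_pow_finrank (K := ZMod p) (V := H18.fix ρ H)
  have h4 : Nat.card (fx ψ H) = Nat.card (H18.fix ρ H) :=
    Nat.card_congr (Equiv.subtypeEquivRight fun v => mem_fx)
  rw [h4, h3, ← pow_mul, mul_comm, ← h1]
  exact h2

omit [Finite A] [Finite G] in
theorem card_subgroupOf' (X Y : Subgroup G) :
    Nat.card (X.subgroupOf Y) = Nat.card (X ⊓ Y : Subgroup G) := by
  rw [← inf_subgroupOf_right]
  exact Nat.card_congr (subgroupOfEquivOfLe inf_le_right).toEquiv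

/-- the order formula -/
theorem card_eq [F.Normal] (hF : Group.IsNilpotent F) (hf : Fpf F H) (n : ℕ) :
    ∀ (G : Type u) [Group G] [Finite G] (φ : A →* MulAut G), Nat.card G = n →
      Group.IsSolvable G → fx φ F = ⊥ → Nat.card G = Nat.card (fx φ H) ^ Nat.card H := by
  induction n using Nat.strong_induction_on with
  | _ n ih =>
  intro G _ _ φ hc hs h0
  rcases subsingleton_or_nontrivial G with h | h
  · rw [Nat.card_of_subsingleton (1 : G), Nat.card_of_subsingleton (1 : fx φ H), one_pow]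
  obtain ⟨p, hp, h1⟩ := H1.exists_pCore_ne_bot_of_isSolvable hs
  haveI := Fact.mk hp
  obtain ⟨V, hVN, hVn, hV, hV0, _, -⟩ := exists_min (φ := φ) (aInv_of_characteristic _) h1
    H1.pCore_isPGroup
  have hW0 := om_ne_bot (H1.pCore_isPGroup.to_le hVN) hV0
  set W := om p V
  have hWi : AInv φ W := fun a z hz => mem_om.2 ⟨hV a z (mem_om.1 hz).1,
    by rw [← map_pow, (mem_om.1 hz).2, map_one]⟩
  haveI : W.Normal := ⟨fun z hz g => mem_om.2 ⟨hVn.conj_mem z (mem_om.1 hz).1 g,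
    by rw [conj_pow, (mem_om.1 hz).2, mul_one, mul_inv_cancel]⟩⟩
  haveI : IsMulCommutative W := ⟨⟨fun a b => Subtype.ext (congrArg (Subtype.val : V → G)
    (mul_comm (⟨a, (mem_om.1 a.2).1⟩ : V) ⟨b, (mem_om.1 b.2).1⟩))⟩⟩
  have h2 := ih _ (hc ▸ card_quot_lt hW0) (G ⧸ W) (quotAut φ W hWi) rfl inferInstance
    (fx_quo1 hF hWi h0)
  have h3 := card_elem hF hf (p := p) (V := W) (fun v => Subtype.ext (mem_om.1 v.2).2)
    (fx_res1 hWi h0)
  rw [card_eq_card_quotient_mul_card_subgroup W, h2, h3, ← mul_pow, fx_quo0 hF hf hWi h0, fx_res0,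
    ← relIndex_ker, QuotientGroup.ker_mk', card_subgroupOf', inf_comm, ← card_subgroupOf',
    relIndex, index_mul_card]

/-- the invariant Sylow subgroup contains a Sylow subgroup of the fixed points of `H` -/
theorem syl [F.Normal] (hF : Group.IsNilpotent F) (hf : Fpf F H) (hs : Group.IsSolvable G)
    (h0 : fx φ F = ⊥) (q : ℕ) [Fact q.Prime] : ∃ Q : Subgroup G, IsPGroup q Q ∧ AInv φ Q ∧
      H10.IsSylowIn q (Q ⊓ fx φ H) (fx φ H) := by
  obtain ⟨Q, hQ, iQ⟩ := H8.FP.sylA (φ := φ) hF aInv_top (by rw [h0, inf_bot_eq]) q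
  refine ⟨Q, hQ.isPGroup, iQ, H10.isSylowIn_of_not_dvd inf_le_right hQ.isPGroup.to_inf_left
    fun hd => hQ.not_dvd_relIndex ?_⟩
  have h1 := card_eq hF hf _ G φ rfl hs h0
  have h2 := card_eq hF hf _ Q (restrictAut φ Q iQ) rfl inferInstance (fx_res1 iQ h0)
  rw [fx_res0, card_subgroupOf', inf_comm, ← card_subgroupOf'] at h2
  rw [← index_mul_card Q, ← index_mul_card (Q.subgroupOf (fx φ H)), mul_pow, ← h2] at h1
  rw [relIndex_top_right, Nat.eq_of_mul_eq_mul_right Nat.card_pos h1]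
  rw [inf_relIndex_right] at hd
  exact hd.trans (dvd_pow_self _ Nat.card_pos.ne')

end H22.FH
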