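import Cfsg.Agent.H22.FH2
import Cfsg.Agent.H1.FL
import Cfsg.Agent.H1.PSolv
import Cfsg.Agent.H8.FS0

/-! Frobenius groups of automorphisms with fixed-point-free kernel: cores, Fitting subgroup,
`p`-length and Fitting height of the fixed points of the complement. -/

set_option autoImplicit false
set_option linter.style.haveILetI false

namespace H22.FH

open Subgroup H2 Cfsg H4.Fa
open scoped Pointwise

universe u v

variable {A : Type v} [Group A] [Finite A] {F H : Subgroup A} {G : Type u} [Group G] [Finite G]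
  {φ : A →* MulAut G}

/-- the standing hypotheses -/
structure Hy (φ : A →* MulAut G) (F H : Subgroup A) : Prop where
  nor : F.Normal
  nil : Group.IsNilpotent F
  fpf : Fpf F H
  sup : F ⊔ H = ⊤
  sol : Group.IsSolvable G
  fx0 : fx φ F = ⊥

theorem Hy.quo (h : Hy φ F H) {N : Subgroup G} [N.Normal] (hN : AInv φ N) :
    Hy (quotAut φ N hN) F H :=
  haveI := h.sol
  ⟨h.nor, h.nil, h.fpf, h.sup, inferInstance, fx_quo1 h.nil hN h.fx0⟩

theorem Hy.map_fx (h : Hy φ F H) {N : Subgroup G} [N.Normal] (hN : AInv φ N) :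
    fx (quotAut φ N hN) H = (fx φ H).map (QuotientGroup.mk' N) :=
  haveI := h.nor
  fx_quo0 h.nil h.fpf hN h.fx0

theorem Hy.card (h : Hy φ F H) : Nat.card G = Nat.card (fx φ H) ^ Nat.card H :=
  haveI := h.nor
  card_eq h.nil h.fpf _ G φ rfl h.sol h.fx0

theorem Hy.top_eq_bot (h : Hy φ F H) (h1 : fx φ H = ⊥) : (⊤ : Subgroup G) = ⊥ := by
  rw [← card_eq_one, card_top, h.card, h1, card_bot, one_pow]

theorem Hy.eq_top (h : Hy φ F H) {N : Subgroup G} [N.Normal] (hN : AInv φ N) (h1 : fx φ H ≤ N) :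
    N = ⊤ := by
  have := (h.quo hN).top_eq_bot (by
    rw [h.map_fx hN, Subgroup.map_eq_bot_iff, QuotientGroup.ker_mk']; exact h1)
  rw [← map_top_of_surjective _ (QuotientGroup.mk'_surjective N), Subgroup.map_eq_bot_iff,
    QuotientGroup.ker_mk'] at this
  exact top_le_iff.1 this

theorem Hy.pi0 (h : Hy φ F H) {π : Set ℕ} (hπ : piCore π G = ⊥) {D : Subgroup G}
    (h1 : D ≤ fx φ H) (h2 : fx φ H ≤ normalizer (D : Set G))
    (h3 : ∀ q : ℕ, q.Prime → q ∣ Nat.card D → q ∈ π) : D = ⊥ := by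
  haveI := h.nor
  by_contra hD
  obtain ⟨q, hq, hd⟩ := Nat.exists_prime_and_dvd (fun e => hD (card_eq_one.1 e))
  haveI := Fact.mk hq
  obtain ⟨Q, hQ, iQ, hS⟩ := syl h.nil h.fpf h.sol h.fx0 q
  have h4 : Q ⊓ fx φ H ⊓ D ≠ ⊥ := fun e => by
    have := (hS.inf_of_le_normalizer h1 h2).not_dvd_relIndex
    rw [e, relIndex_bot_left] at this
    exact this hd
  obtain ⟨⟨c, ⟨hcQ, hcH⟩, hcD⟩, c1⟩ := ne_bot_iff_exists_ne_one.1 h4
  have h5 : D ⊓ piCore πᶜ G = ⊥ := disjoint_iff.1 (disjoint_of_coprime_natCard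
    (Nat.coprime_of_dvd fun r hr a b => H1.piCore_isPi r hr b (h3 r hr a)))
  have h6 : ∀ (p : ℕ) [Fact p.Prime], p ∈ π → pCore p G = ⊥ := fun p _ hp =>
    le_bot_iff.1 (hπ ▸ H1.pCore_le_piCore hp)
  have h7 : fittingSubgroup G ≤ centralizer {c} := H1.fitting_le_iff.2 fun p _ => by
    by_cases hp : p ∈ π
    · rw [h6 p hp]; exact bot_le
    intro v hv
    have := key h.nil h.fpf h.sup h.fx0 (p := p) (q := q) (fun e => hp (e ▸ h3 q hq hd))
      H1.pCore_isPGroup hQ (aInv_of_characteristic _) iQ le_normalizer_of_normal hcQ hcH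
      (fun w hw hw' => by
        have h8 : c * (w * c⁻¹ * w⁻¹) ∈ D ⊓ piCore πᶜ G := by
          refine mem_inf.2 ⟨mul_mem hcD ((mem_normalizer_iff.1 (h2 hw') _).1 (inv_mem hcD)),
            H1.pCore_le_piCore (π := πᶜ) hp ?_⟩
          have := mul_mem (Normal.conj_mem inferInstance w hw c) (inv_mem hw)
          simpa [mul_assoc] using this
        rw [h5, mem_bot, ← mul_assoc, ← mul_assoc, mul_inv_eq_one] at h8
        exact h8) v hv
    exact mem_centralizer_singleton_iff.2 (mul_inv_eq_iff_eq_mul.1 this).symm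
  have h8 : c ∈ fittingSubgroup G := H1.centralizer_fitting_le h.sol
    (mem_centralizer_iff.2 fun v hv => mem_centralizer_singleton_iff.1 (h7 hv))
  have h9 : fittingSubgroup G ≤ piCore πᶜ G := H1.fitting_le_iff.2 fun p _ => by
    by_cases hp : p ∈ π
    · rw [h6 p hp]; exact bot_le
    · exact H1.pCore_le_piCore (π := πᶜ) hp
  exact c1 (Subtype.ext (mem_bot.1 (h5 ▸ mem_inf.2 ⟨hcD, h9 h8⟩)))

theorem Hy.pi_le (h : Hy φ F H) {π : Set ℕ} {D : Subgroup G}
    (h1 : D ≤ fx φ H) (h2 : fx φ H ≤ normalizer (D : Set G))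
    (h3 : ∀ q : ℕ, q.Prime → q ∣ Nat.card D → q ∈ π) : D ≤ piCore π G := by
  have hN : AInv φ (piCore π G) := aInv_of_characteristic _
  have := (h.quo hN).pi0 H1.piCore_quotient_piCore (D := D.map (QuotientGroup.mk' _))
    (by rw [h.map_fx hN]; exact map_mono h1)
    (by rw [h.map_fx hN]; exact (map_mono h2).trans (le_normalizer_map _))
    fun q hq hd => h3 q hq (hd.trans (card_map_dvd _ _))
  rwa [Subgroup.map_eq_bot_iff, QuotientGroup.ker_mk'] at this

theorem Hy.rel (h : Hy φ F H) {π : Set ℕ} {N : Subgroup G} [N.Normal] (hN : AInv φ N)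
    {D : Subgroup G} (h1 : D ≤ fx φ H) (h2 : fx φ H ≤ normalizer (D : Set G))
    (h3 : ∀ q : ℕ, q.Prime → q ∣ N.relIndex D → q ∈ π) :
    D ≤ (piCore π (G ⧸ N)).comap (QuotientGroup.mk' N) :=
  map_le_iff_le_comap.1 ((h.quo hN).pi_le (by rw [h.map_fx hN]; exact map_mono h1)
    (by rw [h.map_fx hN]; exact (map_mono h2).trans (le_normalizer_map _))
    (by rwa [H1.card_map_mk']))

theorem Hy.piCore_eq (h : Hy φ F H) (π : Set ℕ) :
    piCore π (fx φ H) = (piCore π G).subgroupOf (fx φ H) :=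
  le_antisymm (map_le_iff_le_comap.1 (h.pi_le (map_subtype_le _) (H1.le_normalizer_piCoreOf _)
    (H1.piCoreOf_isPi _))) (H1.piCore_subgroupOf_le _)

theorem Hy.fitting_eq (h : Hy φ F H) :
    fittingSubgroup (fx φ H) = (fittingSubgroup G).subgroupOf (fx φ H) := by
  refine le_antisymm (H1.fitting_le_iff.2 fun p _ => ?_) (H1.fitting_subgroupOf_le _)
  rw [H1.pCore_eq_piCore, h.piCore_eq, ← H1.pCore_eq_piCore]
  exact comap_mono H1.pCore_le_fitting

theorem Hy.ups_le (h : Hy φ F H) (p : ℕ) [Fact p.Prime] (n : ℕ) :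
    (upperPSeries p (fx φ H) n).1.map (fx φ H).subtype ≤ (upperPSeries p G n).1 := by
  induction n with
  | zero => exact (Subgroup.map_bot _).le
  | succ n ih =>
    have hN : AInv φ (upperPSeries p G n).1 := aInv_of_characteristic _
    have h1 := (H1.upsR_relIndex (p := p) (G := fx φ H) n).of_dvd
      ((relIndex_dvd_of_le_left _ ih).trans (H2.relIndex_map_dvd _ _ _))
    have h2 : fx φ H ≤ normalizer (((upperPSeries p (fx φ H) (n + 1)).1.map (fx φ H).subtype :
        Subgroup G) : Set G) :=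
      le_normalizer.trans (normalizer_le_normalizer_map_of_characteristic _ _)
    by_cases hn : Even n
    · rw [H1.ups_succ_of_even (G := G) hn, H1.pPrimeCore_eq_piCore]
      rw [H1.upsR_of_even hn] at h1
      refine h.rel hN (map_subtype_le _) h2 fun q _ hd e => ?_
      obtain rfl : q = p := e
      exact H1.coprime_iff_not_dvd.1 h1 hd
    · rw [H1.ups_succ_of_odd (G := G) hn, H1.pCore_eq_piCore]
      obtain ⟨k, hk⟩ := (H1.upsR_of_odd hn).1 h1
      refine h.rel hN (map_subtype_le _) h2 fun q hq hd => ?_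
      rw [hk] at hd
      exact (Nat.prime_dvd_prime_iff_eq hq Fact.out).1 (hq.dvd_of_dvd_pow hd)

theorem Hy.pLength (h : Hy φ F H) (p : ℕ) [Fact p.Prime] (k : ℕ) :
    PLengthLE p k G ↔ PLengthLE p k (fx φ H) := by
  refine ⟨fun e => ?_, fun e => h.eq_top (aInv_of_characteristic _) ?_⟩
  · have := H1.comap_ups_le (p := p) (fx φ H).subtype_injective (2 * k + 1)
    rw [show (upperPSeries p G (2 * k + 1)).1 = ⊤ from e, comap_top] at this
    exact top_le_iff.1 this
  · have := h.ups_le p (2 * k + 1)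
    rwa [show (upperPSeries p (fx φ H) (2 * k + 1)).1 = ⊤ from e, ← MonoidHom.range_eq_map,
      range_subtype] at this

theorem nresn_bot (n : ℕ) : ∀ (G : Type u) [Group G] [Finite G] (φ : A →* MulAut G), Hy φ F H →
    H1.nres^[n] (fx φ H) = ⊥ → H1.nres^[n] (⊤ : Subgroup G) = ⊥ := by
  induction n with
  | zero => exact fun G _ _ φ h e => h.top_eq_bot e
  | succ n ih =>
    intro G _ _ φ h e
    rw [Function.iterate_succ_apply', H1.nres_eq_bot] at e ⊢
    have hN : AInv φ (fittingSubgroup G) := aInv_of_characteristic _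
    have h1 := H1.le_fittingOf (H1.nresn_normal n (fx φ H)).1 (H1.nresn_normal n (fx φ H)).2 e
    rw [h.fitting_eq, subgroupOf_map_subtype] at h1
    have h2 := ih _ _ (h.quo hN) (by
      rw [h.map_fx hN, ← H1.map_nresn, Subgroup.map_eq_bot_iff, QuotientGroup.ker_mk']
      exact h1.trans inf_le_left)
    rw [← map_top_of_surjective _ (QuotientGroup.mk'_surjective (fittingSubgroup G)),
      ← H1.map_nresn, Subgroup.map_eq_bot_iff, QuotientGroup.ker_mk'] at h2
    exact H1.isNilpotent_of_le h2 H1.fitting_isNilpotent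

theorem Hy.height (h : Hy φ F H) (n : ℕ) :
    H1.nres^[n] (⊤ : Subgroup G) = ⊥ ↔ H1.nres^[n] (⊤ : Subgroup (fx φ H)) = ⊥ := by
  rw [← map_eq_bot_iff_of_injective _ (fx φ H).subtype_injective, H1.map_nresn,
    ← MonoidHom.range_eq_map, range_subtype]
  exact ⟨fun e => le_bot_iff.1 (e ▸ H1.nresn_mono n le_top), nresn_bot n G φ h⟩

omit [Finite A] in
/-- solvability from the main statement on fixed point free operator groups -/
theorem solv (hM : H8.FS.Main.{u}) (hF : Group.IsNilpotent F) (h0 : fx φ F = ⊥) :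
    Group.IsSolvable G := by
  let ψ := (F.map φ).subtype
  have h1 := H8.FP.nil_sdA (φ := ψ) (H1.isNilpotent_map hF φ)
  have h2 := hM (G ⋊[ψ] (F.map φ)) (sdA ψ) (sdK ψ ⊤) ⟨⊥, bot_le, le_normalizer_of_normal,
    by simp, ((isNilpotent_iff_lowerCentralSeries _).1 h1).imp fun n e => e.le⟩ aInv_top.sd (by
      rw [sdK_inf_centralizer, top_inf_eq, ← sdK_bot (φ := ψ), sdK_inj, ← le_bot_iff, ← h0]
      exact fun g hg => mem_fx.2 fun b hb => hg ⟨_, b, hb, rfl⟩)
  exact Group.isSolvable_of_surjective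
    (f := (topEquiv.symm.trans (sdKEquiv ψ ⊤)).symm.toMonoidHom) (MulEquiv.surjective _)

theorem hy (hM : H8.FS.Main.{u}) [MulDistribMulAction A G] [hn : F.Normal]
    (hH : IsFrobeniusComplement H) (hker : frobeniusKernel H = (F : Set A))
    (hCF : ∀ g : G, (∀ f ∈ F, f • g = g) → g = 1) :
    Hy (MulDistribMulAction.toMulAut A G) F H := by
  obtain ⟨h1, h2, h3⟩ := H8.FP.frob hH hker
  have h0 : fx (MulDistribMulAction.toMulAut A G) F = ⊥ :=
    eq_bot_iff.2 fun g hg => hCF g (mem_fx.1 hg)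
  exact ⟨hn, h1, h2, h3, solv hM h1 h0, h0⟩

omit [Finite A] [Finite G] in
theorem eq_fx [MulDistribMulAction A G] {C : Subgroup G}
    (hC : ∀ g : G, g ∈ C ↔ ∀ h ∈ H, h • g = g) : C = fx (MulDistribMulAction.toMulAut A G) H :=
  Subgroup.ext fun g => (hC g).trans (mem_fx (φ := MulDistribMulAction.toMulAut A G)).symm

section
variable (hM : H8.FS.Main.{u}) [MulDistribMulAction A G] [F.Normal]
  (hH : IsFrobeniusComplement H) (hker : frobeniusKernel H = (F : Set A))
  (hCF : ∀ g : G, (∀ f ∈ F, f • g = g) → g = 1)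
include hM hH hker hCF

theorem s4119 : Nat.card G = Nat.card {g : G | ∀ h ∈ H, h • g = g} ^ Nat.card H :=
  (hy hM hH hker hCF).card.trans (congrArg (· ^ Nat.card H)
    (Nat.card_congr (Equiv.subtypeEquivRight fun _ => mem_fx)))

variable (C : Subgroup G) (hC : ∀ g : G, g ∈ C ↔ ∀ h ∈ H, h • g = g)
include hC

theorem s4389 : fittingSubgroup C = (fittingSubgroup G).subgroupOf C :=
  eq_fx hC ▸ (hy hM hH hker hCF).fitting_eq

theorem s4390 (π : Set ℕ) : piCore π C = (piCore π G).subgroupOf C :=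
  eq_fx hC ▸ (hy hM hH hker hCF).piCore_eq π

theorem s4391 (p : ℕ) [Fact p.Prime] (k : ℕ) : PLengthLE p k G ↔ PLengthLE p k C :=
  eq_fx hC ▸ (hy hM hH hker hCF).pLength p k

theorem s4362 (n : ℕ) : (∃ F : Fin (n + 1) → Subgroup G, F 0 = ⊥ ∧ F (Fin.last n) = ⊤ ∧
    Monotone F ∧ (∀ i, (F i).Normal) ∧
      ∀ i : Fin n, ∃ k : ℕ, (F i.succ).lowerCentralSeries k ≤ F i.castSucc) ↔
    (∃ F : Fin (n + 1) → Subgroup C, F 0 = ⊥ ∧ F (Fin.last n) = ⊤ ∧ Monotone F ∧
      (∀ i, (F i).Normal) ∧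
        ∀ i : Fin n, ∃ k : ℕ, (F i.succ).lowerCentralSeries k ≤ F i.castSucc) := by
  rw [← H1.nresn_top_iff, ← H1.nresn_top_iff]
  exact eq_fx hC ▸ (hy hM hH hker hCF).height n

end

end H22.FH
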