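import Cfsg.Agent.H22.FH2

/-! A Frobenius group with complement of prime order acting on a `q`-group acting on a module
without fixed points of the kernel. -/

set_option autoImplicit false
set_option linter.style.haveILetI false

namespace H22.FH

open Subgroup H2 Cfsg H4.Fa SemidirectProduct
open scoped Pointwise IsMulCommutative

universe u v w

theorem genU {U : Type w} {B : Type v} {V : Type u} [Group U] [Finite U] [Group B] [Finite B]
    [Group V] [Finite V] (hU : Group.IsNilpotent U) (σ : U →* MulAut V) (θ : B →* MulAut U)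
    (ψ : B →* MulAut V) (hc : ∀ a u v, ψ a (σ u v) = σ (θ a u) (ψ a v))
    (hf : ∀ b u, θ b u = u → b = 1 ∨ u = 1) (h1 : fx σ ⊤ = ⊥) {J : Subgroup V} (hJ : AInv σ J)
    (h : ∀ v, (∀ b, ψ b v = v) → v ∈ J) : J = ⊤ := by
  let χ : U ⋊[θ] B →* MulAut V := lift σ ψ fun b => by
    ext u v
    simp [hc]
  haveI := sdK_top_normal (φ := θ)
  have h2 := H8.FP.gen_top (φ := χ) (F := sdK θ ⊤) (H := sdA θ)
    (H1.isNilpotent_map inferInstance _) (by
      rintro _ ⟨b, rfl⟩ _ ⟨u, -, rfl⟩ e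
      rw [← mul_inv_eq_iff_eq_mul, inr_mul_inl_mul_inv] at e
      exact (hf b u (inl_injective e)).imp (fun e => by rw [e, map_one]) fun e => by
        rw [e, map_one]) sdK_top_sup_sdA (eq_bot_iff.2 fun v hv => h1 ▸ mem_fx.2 fun u _ => by
      simpa [χ] using mem_fx.1 hv _ (inl_mem_sdK.2 (mem_top u)))
  rw [eq_top_iff, ← h2]
  refine (closure_le _).2 ?_
  rintro _ ⟨_, ⟨u, -, rfl⟩, v, hv, rfl⟩
  simpa [χ] using hJ u v (h v fun b => by simpa [χ] using mem_fx.1 hv _ (inr_mem_sdA b))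

theorem exists_ord {G : Type u} [Group G] [Finite G] {q : ℕ} [Fact q.Prime] {P : Subgroup G}
    (hP : IsPGroup q P) (h : P ≠ ⊥) : ∃ x ∈ P, x ≠ 1 ∧ x ^ q = 1 := by
  obtain ⟨n, hn⟩ := IsPGroup.iff_card.1 hP
  obtain ⟨y, hy⟩ := exists_prime_orderOf_dvd_card' (G := P) q (by
    rw [hn]
    exact dvd_pow_self _ fun e => h (card_eq_one.1 (by rw [hn, e, pow_zero])))
  refine ⟨y, y.2, fun e => ?_, by rw [← hy]; exact congrArg Subtype.val (pow_orderOf_eq_one y)⟩
  rw [← orderOf_coe, e, orderOf_one] at hy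
  exact (Fact.out : q.Prime).one_lt.ne hy

theorem prime_le {G : Type u} [Group G] {H : Subgroup G} (hH : (Nat.card H).Prime)
    (S : Subgroup G) : H ⊓ S = ⊥ ∨ H ≤ S := by
  haveI := Fact.mk hH
  rcases (S.subgroupOf H).eq_bot_or_eq_top_of_prime_card with h | h
  · exact Or.inl (by rw [inf_comm]; exact disjoint_iff.1 (subgroupOf_eq_bot.1 h))
  · exact Or.inr (subgroupOf_eq_top.1 h)

section
variable {A : Type v} [Group A] {V : Type u} [Group V] {Q : Type w} [Group Q]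
  {ρ : Q →* MulAut V} {φ : A →* MulAut Q} {ψ : A →* MulAut V}

theorem conj_fix (hc : ∀ a u v, ψ a (ρ u v) = ρ (φ a u) (ψ a v)) (a : A) {x : Q} {v : V}
    (h : ρ x (ψ a⁻¹ v) = ψ a⁻¹ v) : ρ (φ a x) v = v := by
  have := congrArg (ψ a) h
  rw [hc] at this
  simpa using this

theorem ker_inv (hc : ∀ a u v, ψ a (ρ u v) = ρ (φ a u) (ψ a v)) : AInv φ ρ.ker := fun a u hu => by
  rw [MonoidHom.mem_ker] at hu ⊢
  ext v
  exact conj_fix hc a (by rw [hu]; rfl)

theorem om_inv {q : ℕ} : AInv φ (om q (center Q)) := fun a z hz =>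
  mem_om.2 ⟨aInv_of_characteristic (φ := φ) _ a z (mem_om.1 hz).1,
    by rw [← map_pow, (mem_om.1 hz).2, map_one]⟩

theorem om_cent {q : ℕ} (u : om q (center Q)) (x : Q) : x * u = u * x :=
  mem_center_iff.1 (mem_om.1 u.2).1 x

instance om_comm {q : ℕ} : IsMulCommutative (om q (center Q)) :=
  ⟨⟨fun a b => Subtype.ext (om_cent b a)⟩⟩

theorem cm_inv1 (hc : ∀ a u v, ψ a (ρ u v) = ρ (φ a u) (ψ a v)) {Z : Subgroup Q}
    (hZ : AInv φ Z) : AInv ψ (autComm (ρ.comp Z.subtype) ⊤) := fun a => by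
  have : autComm (ρ.comp Z.subtype) ⊤ ≤ (autComm (ρ.comp Z.subtype) ⊤).comap (ψ a).toMonoidHom :=
    autComm_le_iff.2 fun z g _ => by
      have := inv_mul_mem_autComm (φ := ρ.comp Z.subtype) (restrictAut φ Z hZ a z)
        (mem_top (ψ a g))
      rw [mem_comap, map_mul, map_inv]
      exact (congrArg (fun t => (ψ a g)⁻¹ * t ∈ autComm (ρ.comp Z.subtype) ⊤) (hc a z g)).mpr this
  exact fun x hx => this hx

theorem rho_comm {x z : Q} (h : x * z = z * x) (g : V) : ρ x (ρ z g) = ρ z (ρ x g) := by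
  rw [← MulAut.mul_apply, ← MulAut.mul_apply, ← map_mul, ← map_mul, h]

theorem cm_inv2 {Z : Subgroup Q} (hZ : ∀ (u : Z) (x : Q), x * u = u * x) :
    AInv ρ (autComm (ρ.comp Z.subtype) ⊤) := fun x => by
  have : autComm (ρ.comp Z.subtype) ⊤ ≤ (autComm (ρ.comp Z.subtype) ⊤).comap (ρ x).toMonoidHom :=
    autComm_le_iff.2 fun z g _ => by
      have := inv_mul_mem_autComm (φ := ρ.comp Z.subtype) z (mem_top (ρ x g))
      rw [mem_comap, map_mul, map_inv]
      exact (congrArg (fun t => (ρ x g)⁻¹ * t ∈ autComm (ρ.comp Z.subtype) ⊤)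
        (rho_comm (hZ z x) g)).mpr this
  exact fun x hx => this hx

theorem cm_nt (hc : ∀ a u v, ψ a (ρ u v) = ρ (φ a u) (ψ a v)) {Z : Subgroup Q} (hZ : AInv φ Z)
    (hZc : ∀ (u : Z) (x : Q), x * u = u * x) (hK : ρ.ker = ⊥)
    (hb : autFixed (ρ.comp Z.subtype) ⊓ autComm (ρ.comp Z.subtype) ⊤ = ⊥) {c : Q}
    (hgen : ∀ N : Subgroup Q, (∀ a, φ a c ∈ N) → N = ⊤)
    (h1 : ∀ w ∈ autComm (ρ.comp Z.subtype) ⊤, ρ c w = w) : Z = ⊥ := by
  have hW2 := cm_inv2 (ρ := ρ) hZc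
  have h2 := hgen (restrictAut ρ _ hW2).ker fun f => by
    rw [MonoidHom.mem_ker]
    exact MulEquiv.ext fun w => Subtype.ext (conj_fix hc f (h1 _ (cm_inv1 hc hZ f⁻¹ w w.2)))
  have h3 : autComm (ρ.comp Z.subtype) ⊤ = ⊥ := by
    rw [← hb, eq_comm, inf_eq_right]
    intro w hw z
    have : restrictAut ρ _ hW2 z = 1 := (h2 ▸ mem_top (z : Q) : (z : Q) ∈ MonoidHom.ker _)
    exact congrArg Subtype.val (show restrictAut ρ _ hW2 z ⟨w, hw⟩ = ⟨w, hw⟩ by rw [this]; rfl)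
  refine eq_bot_iff.2 fun z hz => hK ▸ ?_
  rw [MonoidHom.mem_ker]
  ext v
  exact autComm_eq_bot_iff.1 h3 (mem_top v) ⟨z, hz⟩

theorem orb_inv (φ : A →* MulAut Q) (c : Q) : AInv φ (closure {x | ∃ a, x = φ a c}) := by
  intro a x hx
  have : closure {x | ∃ a, x = φ a c} ≤ (closure {x | ∃ a, x = φ a c}).comap (φ a).toMonoidHom := by
    refine (closure_le _).2 ?_
    rintro _ ⟨b, rfl⟩
    exact subset_closure ⟨a * b, by simp⟩
  exact this hx

theorem orb_gen {c : Q} (h : closure {x | ∃ a, x = φ a c} = ⊤) (N : Subgroup Q)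
    (hN : ∀ a, φ a c ∈ N) : N = ⊤ := by
  rw [eq_top_iff, ← h]
  refine (closure_le _).2 ?_
  rintro _ ⟨f, rfl⟩
  exact hN f

/-- the class two argument -/
theorem mem_cent [Finite Q] {H : Subgroup A} [Finite H] (hQ : Group.IsNilpotent Q)
    (hcop : (Nat.card H).Coprime (Nat.card Q)) (hZ : center Q ≤ fx φ H) {c : Q}
    (hcH : c ∈ fx φ H) (hc : ∀ x ∈ fx φ H, x * c = c * x)
    (hgen : ∀ N : Subgroup Q, (∀ a, φ a c ∈ N) → N = ⊤) : c ∈ center Q := by
  by_contra hne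
  have hZi : AInv φ (center Q) := aInv_of_characteristic _
  let Y := (center (Q ⧸ center Q)).comap (QuotientGroup.mk' (center Q))
  have hY : AInv φ Y := AInv.comap_quotAut _ hZi (aInv_of_characteristic _)
  have h1 : Y ≤ centralizer {c} := fun y hy => by
    obtain ⟨n, hn, d, hd, rfl⟩ := aut_exists_comm_mul_fixed (φ := φ.comp H.subtype)
      (iv_of_ainv H hY).ainv (hcop.coprime_dvd_right (card_subgroup_dvd_card _))
      (Or.inr inferInstance) hy
    refine mul_mem (autComm_le_iff.2 (fun a g hg => ?_) hn)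
      (mem_centralizer_singleton_iff.2 (hc d hd.2))
    have h2 : (g * c)⁻¹ * (c * g) ∈ center Q :=
      QuotientGroup.eq.1 (mem_center_iff.1 hg (c : Q ⧸ center Q)).symm
    have h3 := mem_fx.1 (hZ h2) a a.2
    rw [map_mul, map_inv, map_mul, map_mul, mem_fx.1 hcH a a.2] at h3
    rw [mem_centralizer_singleton_iff]
    change g⁻¹ * φ a g * c = c * (g⁻¹ * φ a g)
    have h4 := mem_center_iff.1 h2
    set z := (g * c)⁻¹ * (c * g) with hz
    have e1 : c * g = g * c * z := by rw [hz]; group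
    have e2 : c * φ a g = φ a g * c * z := by rw [← h3]; group
    have e3 : c * g⁻¹ * z = g⁻¹ * c := by
      calc c * g⁻¹ * z = g⁻¹ * (g * c * z) * g⁻¹ := by rw [mul_assoc c, h4]; group
        _ = _ := by rw [← e1]; group
    calc g⁻¹ * φ a g * c = g⁻¹ * (c * φ a g) * z⁻¹ := by rw [e2]; group
      _ = c * g⁻¹ * (z * φ a g) * z⁻¹ := by rw [← mul_assoc g⁻¹, ← e3]; group
      _ = _ := by rw [← h4]; group
  have h2 := hgen (centralizer (Y : Set Q)) fun a => mem_centralizer_iff.2 fun y hy => by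
    have := congrArg (φ a) (mem_centralizer_singleton_iff.1 (h1 (hY a⁻¹ y hy)))
    simpa using this
  have h3 := H1.inf_center_ne_bot_of_isNilpotent (G := Q ⧸ center Q) inferInstance ⊤ fun e =>
    hne ((QuotientGroup.eq_one_iff c).1 (mem_bot.1 (e ▸ mem_top _)))
  obtain ⟨⟨y, hy0, hy⟩, y1⟩ := ne_bot_iff_exists_ne_one.1 h3
  obtain ⟨y, rfl⟩ := QuotientGroup.mk_surjective y
  exact y1 (Subtype.ext ((QuotientGroup.eq_one_iff y).2 (mem_center_iff.2 fun g =>
    (mem_centralizer_iff.1 (h2 ▸ mem_top g) y hy).symm)))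

end

/-- the statement for bounded orders -/
def K2 (p q n : ℕ) : Prop :=
  ∀ (A : Type v) [Group A] [Finite A] (F H : Subgroup A) (V : Type u) [CommGroup V] [Finite V]
    (Q : Type w) [Group Q] [Finite Q], Nat.card V + Nat.card Q ≤ n → Group.IsNilpotent F →
    H ≤ normalizer (F : Set A) → Fpf F H → (Nat.card H).Prime → ¬ q ∣ Nat.card H →
    IsPGroup p V → IsPGroup q Q → ∀ (ρ : Q →* MulAut V) (φ : A →* MulAut Q) (ψ : A →* MulAut V),
    (∀ a u v, ψ a (ρ u v) = ρ (φ a u) (ψ a v)) → fx ψ F = ⊥ → ∀ c ∈ fx φ H,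
    (∀ v ∈ fx ψ H, ρ c v = v) → ∀ v, ρ c v = v

section
variable {A : Type v} [Group A] [Finite A] {F H : Subgroup A} {V : Type u} [CommGroup V] [Finite V]
  {Q : Type w} [Group Q] [Finite Q] {ρ : Q →* MulAut V} {φ : A →* MulAut Q} {ψ : A →* MulAut V}

theorem K2.sub {p q n : ℕ} (h : K2.{u, v, w} p q n) {S : Subgroup A} {W : Subgroup V}
    (hn : Nat.card W + Nat.card Q ≤ n) (hF : Group.IsNilpotent F)
    (hN : H ≤ normalizer (F : Set A)) (hf : Fpf (F ⊓ S) H) (hH : (Nat.card H).Prime)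
    (hq : ¬ q ∣ Nat.card H) (hV : IsPGroup p V) (hQ : IsPGroup q Q)
    (hc : ∀ a u v, ψ a (ρ u v) = ρ (φ a u) (ψ a v)) (hS : H ≤ S) (i1 : Iv ψ S W) (i2 : AInv ρ W)
    (h0 : W ⊓ fx ψ (F ⊓ S) = ⊥) {c : Q} (hcH : c ∈ fx φ H) (hx : ∀ v ∈ fx ψ H, ρ c v = v) :
    ∀ w ∈ W, ρ c w = w := by
  have e := Nat.card_congr (subgroupOfEquivOfLe hS).toEquiv
  intro w hw
  exact congrArg Subtype.val (h S (F.subgroupOf S) (H.subgroupOf S) W Q hn
    ((H1.isNilpotent_map_iff S.subtype_injective).1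
      (H1.isNilpotent_of_le (map_comap_le _ _) hF))
    ((comap_mono hN).trans (le_normalizer_comap _))
    (fun a ha f hf' e => (hf a ha f ⟨hf', f.2⟩ (congrArg Subtype.val e)).imp Subtype.ext
      Subtype.ext) (e ▸ hH) (e ▸ hq) (hV.to_subgroup W) hQ (restrictAut ρ W i2)
    (φ.comp S.subtype) (restrictAut (ψ.comp S.subtype) W i1.ainv)
    (fun a u v => Subtype.ext (hc a u v)) (eq_bot_iff.2 fun v hv => by
      have : (v : V) ∈ W ⊓ fx ψ (F ⊓ S) := mem_inf.2 ⟨v.2, mem_fx.2 fun b hb =>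
        congrArg Subtype.val (mem_fx.1 hv ⟨b, hb.2⟩ hb.1)⟩
      rw [h0] at this
      exact Subtype.ext this) c (mem_fx.2 fun b hb => mem_fx.1 hcH b hb)
    (fun v hv => Subtype.ext (hx v (mem_fx.2 fun b hb =>
      congrArg Subtype.val (mem_fx.1 hv ⟨b, hS hb⟩ hb)))) ⟨w, hw⟩)

variable {U : Type w} [Group U] [Finite U] [IsMulCommutative U]

omit [Finite A] [Finite V] [Finite U] [IsMulCommutative U] in
theorem iv_St {σ : U →* MulAut V} {θ : A →* MulAut U}
    (hc : ∀ a u v, ψ a (σ u v) = σ (θ a u) (ψ a v)) (K : Subgroup U) :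
    Iv ψ (St θ K) (fx σ K) := fun a ha w hw => mem_fx.2 fun k hk => by
  have := congrArg (ψ a) (mem_fx.1 hw _ (St_mem (inv_mem ha) hk))
  rw [hc] at this
  simpa using this

theorem fix_comp0 {p q : ℕ} [Fact p.Prime] [Fact q.Prime] (hpq : p ≠ q)
    (hV : IsPGroup p V) (hU : ∀ u : U, u ^ q = 1) (σ : U →* MulAut V) (θ : A →* MulAut U)
    (ψ : A →* MulAut V) (hc : ∀ a u v, ψ a (σ u v) = σ (θ a u) (ψ a v)) (h1 : fx σ ⊤ = ⊥)
    {K : Subgroup U} (hK : ∀ y ∉ K, K ⊔ zpowers y = ⊤) {z : U} (hz : z ∉ K) {B : Subgroup A}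
    (h0 : fx ψ B = ⊥) : fx σ K ⊓ fx ψ (B ⊓ St θ K) = ⊥ := eq_bot_iff.2 fun w hw => by
  have := fix_comp hpq hV hU σ θ ψ hc h1 hK (α := σ z) (fun u v => rho_comm (mul_comm _ _) v)
    (B := B) (fun v hv => by rw [h0, mem_bot] at hv; rw [hv, map_one]) hw.1 hw.2
  rw [← h1, ← hK z hz]
  exact fx_sup hw.1 (fx_zpowers this)

end

theorem key2 {p q : ℕ} [Fact p.Prime] [Fact q.Prime] (hpq : p ≠ q) (n : ℕ) :
    K2.{u, v, w} p q n := by
  induction n with
  | zero =>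
    intro A _ _ F H V _ _ Q _ _ h
    have := Nat.card_pos (α := V)
    omega
  | succ n ih =>
  intro A _ _ F H V _ _ Q _ _ hcard hF hN hf hH hq hV hQ ρ φ ψ hc h0 c₀ hcH₀ hx₀
  have hKi := ker_inv hc
  by_cases hK : ρ.ker ≠ ⊥
  · exact ih A F H V (Q ⧸ ρ.ker) (by have := card_quot_lt hK; omega) hF hN hf hH hq hV
      (hQ.to_quotient _) (QuotientGroup.kerLift ρ) (quotAut φ _ hKi) ψ (fun a u v => by
        obtain ⟨u, rfl⟩ := QuotientGroup.mk_surjective u
        exact hc a u v) h0 c₀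
      (mem_fx.2 fun h hh => congrArg (QuotientGroup.mk' _) (mem_fx.1 hcH₀ h hh)) hx₀
  rw [not_not] at hK
  by_contra hne₀
  have hWi : ∀ x ∈ fx φ H, ∀ v ∈ fx ψ H, ρ x v ∈ fx ψ H := fun x hx v hv =>
    mem_fx.2 fun h hh => by rw [hc, mem_fx.1 hx h hh, mem_fx.1 hv h hh]
  let L : Subgroup Q := fx φ H ⊓ ⨅ v ∈ fx ψ H, (MulAction.stabilizer (MulAut V) v).comap ρ
  have hL : ∀ x, x ∈ L ↔ x ∈ fx φ H ∧ ∀ v ∈ fx ψ H, ρ x v = v := fun x => by
    simp [L, mem_iInf]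
  obtain ⟨c, ⟨hcL, hcC⟩, c1, hcq⟩ := exists_ord (hQ.to_subgroup _)
    (H1.inf_centralizer_ne_bot_of_isPGroup (N := L) (K := fx φ H) (hQ.to_subgroup _)
      (hQ.to_subgroup _) (le_normalizer_iff.2 fun x hx y hy => (hL _).2
        ⟨mul_mem (mul_mem hx ((hL y).1 hy).1) (inv_mem hx), fun v hv => by
          rw [map_mul, map_mul, MulAut.mul_apply, MulAut.mul_apply,
            ((hL y).1 hy).2 _ (hWi _ (inv_mem hx) v hv)]
          simp⟩) fun e => hne₀ fun v => by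
        rw [show c₀ = 1 from mem_bot.1 (e ▸ (hL c₀).2 ⟨hcH₀, hx₀⟩)]
        simp)
  obtain ⟨hcH, hx⟩ := (hL c).1 hcL
  have hne : ¬ ∀ v, ρ c v = v := fun h => c1 (mem_bot.1 (hK ▸ MulEquiv.ext h))
  have hMi := orb_inv φ c
  have hcM : c ∈ closure {x | ∃ a, x = φ a c} := subset_closure ⟨1, by simp⟩
  by_cases hM : closure {x | ∃ a, x = φ a c} ≠ ⊤
  · exact hne (ih A F H V _ (by
      have := card_lt_of_lt (lt_top_iff_ne_top.2 hM)
      rw [card_top] at this
      omega) hF hN hf hH hq hV (hQ.to_subgroup _) (ρ.comp (Subgroup.subtype _))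
      (restrictAut φ _ hMi) ψ (fun a u v => hc a u v) h0 ⟨c, hcM⟩ (by rw [fx_res0]; exact hcH) hx)
  have hgen := orb_gen (not_not.1 hM)
  haveI : Nontrivial Q := ⟨c, 1, c1⟩
  have hZ := om_ne_bot (hQ.to_subgroup (center Q))
    (nontrivial_iff_ne_bot _ |>.1 hQ.center_nontrivial)
  have hZi : AInv φ (om q (center Q)) := om_inv
  set Z := om q (center Q)
  let σ := ρ.comp Z.subtype
  let θ := restrictAut φ Z hZi
  have hb := autFixed_inf_autComm_eq_bot (φ := σ) aInv_top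
    (cop_pq hpq (hQ.to_subgroup _) (hV.to_subgroup _))
  have lt : ∀ W : Subgroup V, W ≠ ⊤ → Nat.card W + Nat.card Q ≤ n := fun W hW => by
    have := card_lt_of_lt (lt_top_iff_ne_top.2 hW)
    rw [card_top] at this
    omega
  by_cases hW : autComm σ ⊤ ≠ ⊤
  · exact hZ (cm_nt hc hZi om_cent hK hb hgen (ih.sub (S := ⊤) (lt _ hW) hF hN
      (hf.mono inf_le_left le_rfl) hH hq hV hQ hc le_top (iv_of_ainv _ (cm_inv1 hc hZi))
      (cm_inv2 om_cent) (by rw [inf_top_eq, h0, inf_bot_eq]) hcH hx))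
  rw [not_not.1 hW, inf_top_eq] at hb
  have h1 : fx σ ⊤ = ⊥ := eq_bot_iff.2 fun v hv => hb ▸ fun z => mem_fx.1 hv z (mem_top z)
  have hU : ∀ u : Z, u ^ q = 1 := fun u => Subtype.ext (mem_om.1 u.2).2
  have hc' : ∀ a u v, ψ a (σ u v) = σ (θ a u) (ψ a v) := fun a u v => hc a u v
  have hα : ∀ x u v, ρ x (σ u v) = σ u (ρ x v) := fun x u v => rho_comm (om_cent u x) v
  obtain ⟨K, hW', hK'⟩ := exists_hyp' hpq hV hU σ (J := fx ρ (zpowers c))
    fun h => hne fun v => mem_fx.1 (h v) c (mem_zpowers c)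
  obtain ⟨z, hz⟩ : ∃ z, z ∉ K := by
    by_contra h
    push Not at h
    rw [(eq_top_iff' K).2 h, h1] at hW'
    exact hW' bot_le
  rcases prime_le hH (St θ K) with hS | hS
  · exact hW' fun w hw => fx_zpowers (fix_comp hpq hV hU σ θ ψ hc' h1 hK' (hα c) hx hw (by
      rw [hS]; exact mem_fx.2 fun b hb => by rw [mem_bot.1 hb]; simp))
  by_cases hT : fx σ K ≠ ⊤
  · exact hW' fun w hw => fx_zpowers (ih.sub (lt _ hT) hF hN (hf.mono inf_le_left le_rfl) hH hq
      hV hQ hc hS (iv_St hc' K) (fun x w hw => mem_fx.2 fun k hk => by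
        rw [← hα, mem_fx.1 hw k hk]) (fix_comp0 hpq hV hU σ θ ψ hc' h1 hK' hz h0) hcH hx w hw)
  have hK0 : K = ⊥ := eq_bot_iff.2 fun k hk => Subtype.ext (mem_bot.1 (hK ▸ MulEquiv.ext fun v =>
    mem_fx.1 (not_not.1 hT ▸ mem_top v : v ∈ fx σ K) k hk))
  subst hK0
  have hz1 : ∀ y : Z, y ≠ 1 → zpowers y = ⊤ := fun y hy => by
    simpa using hK' y hy
  by_cases hC : Z ≤ fx φ H
  · have hcop : (Nat.card H).Coprime (Nat.card Q) := by
      obtain ⟨m, hm⟩ := IsPGroup.iff_card.1 hQ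
      rw [hm]
      exact Nat.Coprime.pow_right _ ((Nat.Prime.coprime_iff_not_dvd Fact.out).2 hq).symm
    have h2 : center Q ≤ fx φ H := le_autFixed_of_prime_order (φ := φ.comp H.subtype)
      (aInv_of_characteristic _) (hcop.coprime_dvd_right (card_subgroup_dvd_card _))
      fun v hv ho a => mem_fx.1 (hC (mem_om.2 ⟨hv, by
        obtain ⟨m, hm⟩ := hQ v
        rw [← (Nat.prime_dvd_prime_iff_eq ho Fact.out).1
          (ho.dvd_of_dvd_pow (orderOf_dvd_of_pow_eq_one hm)), pow_orderOf_eq_one]⟩)) a a.2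
    have h3 := mem_cent hQ.isNilpotent hcop h2 hcH (mem_centralizer_iff.1 hcC) hgen
    have h4 := inf_fx_ne_bot (φ := ψ) hF hN hf (W := ⊤) (hV.to_subgroup _) (iv_of_ainv _ aInv_top)
      (iv_of_ainv _ aInv_top) (by rw [h0, inf_bot_eq]) (by
        rw [top_inf_eq, eq_bot_iff, ← h1, ← hz1 ⟨c, mem_om.2 ⟨h3, hcq⟩⟩ fun e =>
          c1 (congrArg Subtype.val e)]
        exact fun v hv => fx_zpowers (hx v hv))
    exact hne fun v => by rw [show v = 1 from mem_bot.1 (h4 ▸ mem_top v), map_one]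
  · have h2 := genU (U := Z) (B := H) inferInstance σ (θ.comp H.subtype) (ψ.comp H.subtype)
      (fun a u v => hc' a u v) (fun b u e => by
        by_contra h
        push Not at h
        refine hC fun y hy => ?_
        have h3 : (⟨y, hy⟩ : Z) ∈ fx θ (zpowers (b : A)) :=
          (hz1 u h.2).ge.trans (zpowers_le.2 (fx_zpowers (φ := θ) e)) (mem_top _)
        rw [fx_res0] at h3
        refine fx_anti ((prime_le hH _).resolve_left fun e => h.1 (Subtype.ext ?_)) h3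
        exact mem_bot.1 (e ▸ mem_inf.2 ⟨b.2, mem_zpowers _⟩)) h1 (J := fx ρ (zpowers c))
      (fun u v hv => fx_zpowers (by rw [hα, mem_fx.1 hv c (mem_zpowers c)]))
      fun v hv => fx_zpowers (hx v hv)
    exact hne fun v => mem_fx.1 (h2 ▸ mem_top v : v ∈ fx ρ (zpowers c)) c (mem_zpowers c)

end H22.FH
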