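import Cfsg.Agent.H22.FH4

/-! Frobenius-like groups of automorphisms with complement of prime order: the Clifford step. -/

set_option autoImplicit false
set_option linter.style.haveILetI false

namespace H22.FH

open Subgroup H2 Cfsg H4.Fa
open scoped Pointwise IsMulCommutative commutatorElement

universe u v w

variable {A : Type v} [Group A] [Finite A] {F H : Subgroup A}

/-- hypotheses on the acting group -/
structure Fl (F H : Subgroup A) : Prop where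
  nor : F.Normal
  nil : Group.IsNilpotent F
  pr : (Nat.card H).Prime
  cop : (Nat.card H).Coprime (Nat.card F)
  dich : ∀ T : Subgroup A, F ⊓ centralizer (H : Set A) ≤ T ∨ F ⊓ centralizer (H : Set A) ⊓ T = ⊥
  sup : F ⊔ H = ⊤

omit [Finite A] in
theorem le_zp (hH : (Nat.card H).Prime) {k : A} (hk : k ∈ H) (k1 : k ≠ 1) : H ≤ zpowers k :=
  (prime_le hH _).resolve_left fun e => k1 (mem_bot.1 (e ▸ mem_inf.2 ⟨hk, mem_zpowers _⟩))

section
variable {U : Type w} [Group U] [IsMulCommutative U]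

/-- the action of the stabilizer on the quotient -/
def tau (θ : A →* MulAut U) (K : Subgroup U) : St θ K →* MulAut (U ⧸ K) :=
  quotAut (θ.comp (St θ K).subtype) K fun a _ hk => St_mem a.2 hk

/-- the elements acting trivially on the quotient -/
def Tr (θ : A →* MulAut U) (K : Subgroup U) : Subgroup A := (tau θ K).ker.map (St θ K).subtype

omit [Finite A] in
theorem Tr_le (θ : A →* MulAut U) (K : Subgroup U) : Tr θ K ≤ St θ K := map_subtype_le _

omit [Finite A] in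
theorem Tr_mem {θ : A →* MulAut U} {K : Subgroup U} {a : A} (ha : a ∈ Tr θ K) (u : U) :
    u⁻¹ * θ a u ∈ K := by
  obtain ⟨a, ha, rfl⟩ := ha
  have : tau θ K a u = u := by rw [show tau θ K a = 1 from ha]; rfl
  exact QuotientGroup.eq.1 this.symm

omit [Finite A] in
theorem Tr_norm (θ : A →* MulAut U) (K : Subgroup U) : St θ K ≤ normalizer (Tr θ K : Set A) := by
  have := le_normalizer_map (H := (tau θ K).ker) (St θ K).subtype
  rwa [normalizer_eq_top, ← MonoidHom.range_eq_map, range_subtype] at this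

omit [Finite A] in
theorem gen_quot {K : Subgroup U} {z : U} (hz : K ⊔ zpowers z = ⊤) :
    zpowers (z : U ⧸ K) = ⊤ := eq_top_iff.2 fun u _ => by
  obtain ⟨u, rfl⟩ := QuotientGroup.mk_surjective u
  obtain ⟨k, hk, _, ⟨n, rfl⟩, rfl⟩ := mem_sup_of_normal_left.1 (hz ▸ mem_top u)
  exact ⟨n, by simp [(QuotientGroup.eq_one_iff k).2 hk]⟩

omit [Finite A] in
theorem comm_le_Tr (θ : A →* MulAut U) {K : Subgroup U} {z : U} (hz : K ⊔ zpowers z = ⊤) :
    ⁅St θ K, St θ K⁆ ≤ Tr θ K := by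
  haveI : IsCyclic (U ⧸ K) := ⟨⟨z, fun u => (gen_quot hz ▸ mem_top u : u ∈ zpowers _)⟩⟩
  have hcm : ∀ a b : MulAut (U ⧸ K), a * b = b * a := fun a b =>
    (IsCyclic.mulAutMulEquiv (U ⧸ K)).injective (by rw [map_mul, map_mul, mul_comm])
  refine commutator_le.2 fun a ha b hb => ⟨⁅(⟨a, ha⟩ : St θ K), ⟨b, hb⟩⁆, ?_, rfl⟩
  change tau θ K _ = 1
  rw [map_commutatorElement, commutatorElement_eq_one_iff_mul_comm, hcm]

theorem Fl.decomp (h : Fl F H) (θ : A →* MulAut U) {K : Subgroup U} {z : U}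
    (hz : K ⊔ zpowers z = ⊤) (hS : H ≤ St θ K) :
    F ⊓ St θ K ≤ (F ⊓ Tr θ K ⊓ St θ K) ⊔ (F ⊓ St θ K ⊓ centralizer (H : Set A)) := by
  haveI := h.nor
  haveI := h.nil
  have hn : H ≤ normalizer ((F ⊓ St θ K : Subgroup A) : Set A) := fun a ha =>
    inf_normalizer_le_normalizer_inf ⟨by rw [normalizer_eq_top]; trivial, le_normalizer (hS ha)⟩
  refine (commutator_sup_centralizer hn (h.cop.coprime_dvd_right (card_dvd_of_le inf_le_left))
    (Or.inr (H1.isSolvable_of_le inf_le_left inferInstance))).ge.trans (sup_le_sup_right ?_ _)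
  have h1 := commutator_le_of_le_normalizer hn
  exact le_inf (le_inf (h1.trans inf_le_left) ((commutator_mono inf_le_right hS).trans
    (comm_le_Tr θ hz))) (h1.trans inf_le_right)

end

theorem Fl.stab (h : Fl F H) {S : Subgroup A} (hS : H ≤ S)
    (hZ : F ⊓ centralizer (H : Set A) ≤ S) {k f : A} (hk : k ∈ H) (k1 : k ≠ 1) (hf : f ∈ F)
    (e : f * k * f⁻¹ ∈ S) : f ∈ S := by
  haveI := h.nor
  haveI := h.nil
  have hs : ∀ a : A, a • ((1 : A) : A ⧸ S) = (a : A ⧸ S) := fun a => by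
    rw [MulAction.Quotient.smul_coe, smul_eq_mul, mul_one]
  obtain ⟨x, hx, h2⟩ := glauberman_conj (X := A ⧸ S) (A := H) (K := F)
    (by rw [normalizer_eq_top]; exact le_top) h.cop (Or.inr inferInstance)
    (x := ((1 : A) : A ⧸ S)) (inv_mem hf) (fun a ha => by
      rw [hs, eq_comm, QuotientGroup.eq]; simpa using hS ha) fun a ha => by
      have : zpowers k ≤ S.comap (MulAut.conj f).toMonoidHom := zpowers_le.2 e
      rw [← mul_smul, hs, hs, eq_comm, QuotientGroup.eq]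
      simpa [mul_assoc] using this (le_zp h.pr hk k1 ha)
  rw [hs, hs, QuotientGroup.eq] at h2
  simpa using inv_mem (mul_mem (hZ hx) h2)

section
variable {V : Type u} [CommGroup V] [Finite V] {U : Type w} [Group U] [Finite U]
  [IsMulCommutative U] {Q : Type w} [Group Q] [Finite Q]

theorem core_end (hF : Group.IsNilpotent F)
    (ρ : Q →* MulAut V) (φ : A →* MulAut Q) (ψ : A →* MulAut V)
    (hc : ∀ a u v, ψ a (ρ u v) = ρ (φ a u) (ψ a v)) (ι : U →* Q) (hι : ∀ u x, x * ι u = ι u * x)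
    (θ : A →* MulAut U) (hθ : ∀ a u, ι (θ a u) = φ a (ι u)) (h0 : fx φ F = ⊥) {c : Q}
    (hgen : ∀ M : Subgroup Q, (∀ f ∈ F, φ f c ∈ M) → M = ⊤) {K : Subgroup U} {z : U}
    (k1 : ∀ f ∈ F, f ∉ St θ K → ∀ w ∈ fx (ρ.comp ι) K, ρ (φ f c) w = w)
    (k0 : ∀ f ∈ F, f ∈ St θ K → z⁻¹ * θ f z ∈ K) : ∀ w ∈ fx (ρ.comp ι) K, ρ (ι z) w = w := by
  classical
  letI := Fintype.ofFinite A
  set σ := ρ.comp ι with hσ
  have hσ' : ∀ u v, σ u v = ρ (ι u) v := fun _ _ => rfl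
  have hc' : ∀ a u v, ψ a (σ u v) = σ (θ a u) (ψ a v) := fun a u v => by
    rw [hσ', hσ', hc, hθ]
  have hWi : AInv ρ (fx σ K) := fun x w hw => mem_fx.2 fun k hk => by
    rw [hσ', ← rho_comm (hι k x), ← hσ', mem_fx.1 hw k hk]
  let r := restrictAut ρ (fx σ K) hWi
  have hr : ∀ x, r x = 1 ↔ ∀ w ∈ fx σ K, ρ x w = w := fun x =>
    ⟨fun h w hw => congrArg Subtype.val (show r x ⟨w, hw⟩ = ⟨w, hw⟩ by rw [h]; rfl),
      fun h => MulEquiv.ext fun w => Subtype.ext (h w w.2)⟩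
  have k2 : ∀ f ∈ F, f ∉ St θ K → r (φ f c) = 1 := fun f a b => (hr _).2 (k1 f a b)
  have k3 : ∀ a ∈ St θ K, ∀ x, r x = 1 → r (φ a x) = 1 := fun a ha x h => (hr _).2 fun w hw =>
    conj_fix hc a ((hr x).1 h _ (iv_St hc' K _ (inv_mem ha) w hw))
  let M : Subgroup Q := ⨅ f ∈ {f | f ∈ F ∧ f ∉ St θ K}, r.ker.comap (φ f).toMonoidHom
  have hM : ∀ x, x ∈ M ↔ ∀ f ∈ F, f ∉ St θ K → r (φ f x) = 1 := fun x => by
    simp [M, mem_iInf]
  have hsup := hgen (M ⊔ r.ker) fun f hf' => by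
    by_cases hS' : f ∈ St θ K
    · refine mem_sup_left ((hM _).2 fun g hg hg' => ?_)
      rw [← MulAut.mul_apply, ← map_mul]
      exact k2 _ (mul_mem hg hf') fun e => hg' ((mul_mem_cancel_right hS').1 e)
    · exact mem_sup_right (k2 f hf' hS')
  obtain ⟨m, hm, n, hn', e⟩ := mem_sup_of_normal_right.1 (hsup ▸ mem_top (ι z))
  have k4 : ∀ f ∈ F, f ∈ St θ K → r (φ f m) = r (ι z) := fun f hf' hS' => by
    have h3 : r (ι (z⁻¹ * θ f z)) = 1 := (hr _).2 fun w hw => mem_fx.1 hw _ (k0 f hf' hS')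
    rw [map_mul, map_inv, map_mul, map_inv, inv_mul_eq_one, hθ] at h3
    rw [h3, ← e, map_mul, map_mul, k3 f hS' n hn', mul_one]
  have k5 : ∀ T : Finset A, (∀ t ∈ T, t ∈ F) → ∃ y, ∀ f ∈ F,
      ((∃ t ∈ T, f * t ∈ St θ K) → r (φ f y) = r (ι z)) ∧
        ((∀ t ∈ T, f * t ∉ St θ K) → r (φ f y) = 1) := by
    intro T
    induction T using Finset.induction_on with
    | empty => exact fun _ => ⟨1, fun f _ => ⟨by simp, fun _ => by simp⟩⟩
    | insert t T _ ih =>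
      intro hT
      obtain ⟨y, hy⟩ := ih fun s hs => hT s (Finset.mem_insert_of_mem hs)
      have ht := hT t (Finset.mem_insert_self _ _)
      by_cases h2 : ∃ s ∈ T, t⁻¹ * s ∈ St θ K
      · obtain ⟨s, hs, h2⟩ := h2
        refine ⟨y, fun f hf' => ⟨fun ⟨u, hu, h3⟩ => (hy f hf').1 ?_,
          fun h3 => (hy f hf').2 fun u hu => h3 u (Finset.mem_insert_of_mem hu)⟩⟩
        rcases Finset.mem_insert.1 hu with rfl | hu
        · exact ⟨s, hs, by simpa [mul_assoc] using mul_mem h3 h2⟩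
        · exact ⟨u, hu, h3⟩
      · push Not at h2
        refine ⟨y * φ t m, fun f hf' => ?_⟩
        rw [map_mul, map_mul, ← MulAut.mul_apply, ← map_mul φ]
        by_cases h3 : f * t ∈ St θ K
        · refine ⟨fun _ => ?_, fun h4 => absurd h3 (h4 t (Finset.mem_insert_self _ _))⟩
          rw [k4 _ (mul_mem hf' ht) h3, (hy f hf').2 fun s hs h4 => h2 s hs (by
            simpa [mul_assoc] using mul_mem (inv_mem h3) h4), one_mul]
        · rw [(hM m).1 hm _ (mul_mem hf' ht) h3, mul_one]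
          refine ⟨fun ⟨u, hu, h4⟩ => (hy f hf').1 ?_,
            fun h4 => (hy f hf').2 fun u hu => h4 u (Finset.mem_insert_of_mem hu)⟩
          rcases Finset.mem_insert.1 hu with rfl | hu
          · exact absurd h4 h3
          · exact ⟨u, hu, h4⟩
  obtain ⟨y, hy⟩ := k5 (Finset.univ.filter (· ∈ F)) (by simp)
  have hy' : ∀ f ∈ F, r (φ f y) = r (ι z) := fun f hf' =>
    (hy f hf').1 ⟨f⁻¹, by simpa using hf', by simp⟩
  let N : Subgroup Q := ⨅ f ∈ F, r.ker.comap (φ f).toMonoidHom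
  have hN : ∀ x, x ∈ N ↔ ∀ f ∈ F, r (φ f x) = 1 := fun x => by simp [N, mem_iInf]
  obtain ⟨n', hn'', h2⟩ := H8.FP.coc (φ := φ) hF (M := N) (fun b hb x hx => (hN _).2 fun f hf' => by
      rw [← MulAut.mul_apply, ← map_mul]
      exact (hN x).1 hx _ (mul_mem hf' hb)) (by rw [h0, inf_bot_eq]) (g := y) fun a ha =>
    (hN _).2 fun f hf' => by
      rw [map_mul, map_inv, map_mul, map_inv, ← MulAut.mul_apply, ← map_mul, hy' f hf',
        hy' _ (mul_mem hf' ha), inv_mul_cancel]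
  rw [h0, mem_bot, mul_eq_one_iff_eq_inv] at h2
  have h3 := (hN y).1 (h2 ▸ inv_mem hn'') 1 (one_mem _)
  rw [hy' 1 (one_mem _)] at h3
  exact (hr _).1 h3

theorem Fl.fix_Tr (h : Fl F H) {p q : ℕ} [Fact p.Prime] [Fact q.Prime] (hpq : p ≠ q)
    (hV : IsPGroup p V) (hU : ∀ u : U, u ^ q = 1) (σ : U →* MulAut V) (θ : A →* MulAut U)
    (ψ : A →* MulAut V) (hc : ∀ a u v, ψ a (σ u v) = σ (θ a u) (ψ a v)) (h1 : fx σ ⊤ = ⊥)
    {K : Subgroup U} (hK : ∀ y ∉ K, K ⊔ zpowers y = ⊤) {z : U} (hz : z ∉ K) (h0 : fx ψ F = ⊥)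
    (hS : H ≤ St θ K) (hT : F ⊓ centralizer (H : Set A) ⊓ Tr θ K = ⊥) :
    fx σ K ⊓ fx ψ (F ⊓ Tr θ K ⊓ St θ K) = ⊥ := by
  haveI := h.nor
  set W := fx σ K ⊓ fx ψ (F ⊓ Tr θ K ⊓ St θ K)
  set B := F ⊓ St θ K ⊓ centralizer (H : Set A)
  have hB : B ≤ St θ K := inf_le_left.trans inf_le_right
  have i1 : AInv σ W := fun u w hw => mem_inf.2 ⟨fx_ainv_comm σ K u w hw.1, mem_fx.2 fun f hf => by
    have := congrArg (σ u) (mem_fx.1 hw.1 _ (Tr_mem hf.1.2 u))
    rw [← MulAut.mul_apply, ← map_mul, mul_inv_cancel_left] at this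
    rw [hc, mem_fx.1 hw.2 f hf, this]⟩
  have i2 : Iv ψ B W := fun b hb w hw => mem_inf.2 ⟨iv_St hc K b (hB hb) w hw.1, fx_norm
    (inf_normalizer_le_normalizer_inf ⟨inf_normalizer_le_normalizer_inf
      ⟨by rw [normalizer_eq_top]; trivial, Tr_norm θ K (hB hb)⟩, le_normalizer (hB hb)⟩) hw.2⟩
  let σ' : U ⧸ K →* MulAut W := QuotientGroup.lift K (restrictAut σ W i1) fun k hk =>
    MulEquiv.ext fun w => Subtype.ext (mem_fx.1 w.2.1 k hk)
  have h2 := genU (U := U ⧸ K) (B := B) inferInstance σ' ((tau θ K).comp (inclusion hB))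
    (restrictAut (ψ.comp B.subtype) W i2.ainv) (fun a u v => by
      obtain ⟨u, rfl⟩ := QuotientGroup.mk_surjective u
      exact Subtype.ext (hc a u v)) (fun b u e => by
      obtain ⟨u, rfl⟩ := QuotientGroup.mk_surjective u
      refine or_iff_not_imp_right.2 fun u1 => Subtype.ext (mem_bot.1 (hT ▸ mem_inf.2
        ⟨mem_inf.2 ⟨b.2.1.1, b.2.2⟩, inclusion hB b, MulEquiv.ext fun y => ?_, rfl⟩))
      exact mem_fx.1 ((gen_quot (hK u fun hu => u1 ((QuotientGroup.eq_one_iff u).2 hu))).ge.trans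
        (zpowers_le.2 (fx_zpowers (φ := tau θ K) e)) (mem_top y)) _ (mem_zpowers _))
    (eq_bot_iff.2 fun w hw => Subtype.ext (mem_bot.1 (h1 ▸ mem_fx.2 fun u _ =>
      congrArg Subtype.val (mem_fx.1 hw (u : U ⧸ K) (mem_top _))))) (J := ⊥) aInv_bot
    fun w hw => Subtype.ext (mem_bot.1 (fix_comp0 hpq hV hU σ θ ψ hc h1 hK hz h0 ▸ mem_inf.2
      ⟨w.2.1, fx_anti (h.decomp θ (hK z hz) hS) (fx_sup w.2.2 (mem_fx.2 fun b hb =>
        congrArg Subtype.val (hw ⟨b, hb⟩)))⟩))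
  refine eq_bot_iff.2 fun w hw => mem_bot.2 ?_
  have h3 : (⟨w, hw⟩ : W) = 1 := mem_bot.1 (h2 ▸ mem_top _)
  exact congrArg Subtype.val h3

theorem Fl.core (h : Fl F H) {p q : ℕ} [Fact p.Prime]
    [Fact q.Prime] (hpq : p ≠ q) (hV : IsPGroup p V) (hQ : IsPGroup q Q) (hq : ¬ q ∣ Nat.card H)
    (hU : ∀ u : U, u ^ q = 1) (ρ : Q →* MulAut V) (φ : A →* MulAut Q) (ψ : A →* MulAut V)
    (hc : ∀ a u v, ψ a (ρ u v) = ρ (φ a u) (ψ a v)) (ι : U →* Q) (hι : ∀ u x, x * ι u = ι u * x)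
    (θ : A →* MulAut U) (hθ : ∀ a u, ι (θ a u) = φ a (ι u)) (h0 : fx φ F = ⊥) (h0' : fx ψ F = ⊥)
    (h1 : fx (ρ.comp ι) ⊤ = ⊥) {c : Q} (hcH : c ∈ fx φ H)
    (hgen : ∀ M : Subgroup Q, (∀ f ∈ F, φ f c ∈ M) → M = ⊤)
    (hx : ∀ v ∈ fx ψ H, ρ c v = v) : ∀ v, ρ c v = v := by
  haveI := h.nor
  by_contra hne
  set σ := ρ.comp ι with hσ
  have hσ' : ∀ u v, σ u v = ρ (ι u) v := fun _ _ => rfl
  obtain ⟨K, hW, hK⟩ := exists_hyp' hpq hV hU σ (J := fx ρ (zpowers c))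
    fun h => hne fun v => mem_fx.1 (h v) c (mem_zpowers c)
  have hc' : ∀ a u v, ψ a (σ u v) = σ (θ a u) (ψ a v) := fun a u v => by
    rw [hσ', hσ', hc, hθ]
  have hα : ∀ x u v, ρ x (σ u v) = σ u (ρ x v) := fun x u v => rho_comm (hι u x) v
  obtain ⟨z, hz⟩ : ∃ z, z ∉ K := by
    by_contra h
    push Not at h
    rw [(eq_top_iff' K).2 h, h1] at hW
    exact hW bot_le
  rcases prime_le h.pr (St θ K) with hS | hS
  · exact hW fun w hw => fx_zpowers (fix_comp hpq hV hU σ θ ψ hc' h1 hK (hα c) hx hw (by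
      rw [hS]; exact mem_fx.2 fun b hb => by rw [mem_bot.1 hb]; simp))
  rcases h.dich (Tr θ K) with hT | hT
  · have h2 := core_end h.nil ρ φ ψ hc ι hι θ hθ h0 hgen (K := K) (z := z)
      (fun f hf hf' w hw => fix_comp hpq hV hU σ θ ψ hc' h1 hK (hα _)
        (B := H.map (MulAut.conj f).toMonoidHom) (fun v hv => conj_fix hc f (hx _
          (mem_fx.2 fun k hk => by
            have := mem_fx.1 hv _ ⟨k, hk, rfl⟩
            conv_rhs => rw [← this]
            simp))) hw (mem_fx.2 (by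
        rintro _ ⟨⟨k, hk, rfl⟩, h2⟩
        by_cases k1 : k = 1
        · simp [k1]
        · exact absurd (h.stab hS (hT.trans (Tr_le θ K)) hk k1 hf h2) hf')))
      fun f hf hf' => Tr_mem ((h.decomp θ (hK z hz) hS).trans (sup_le
        (inf_le_left.trans inf_le_right) ((inf_le_inf_right _ inf_le_left).trans hT)) ⟨hf, hf'⟩) z
    refine hW fun w hw => ?_
    have h4 : w ∈ fx σ (K ⊔ zpowers z) := fx_sup hw (fx_zpowers (h2 w hw))
    rw [hK z hz, h1, mem_bot] at h4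
    rw [h4]
    exact one_mem _
  · exact hW fun w hw => fx_zpowers ((key2 hpq _).sub (F := F ⊓ Tr θ K) le_rfl
      (H1.isNilpotent_of_le inf_le_left h.nil) (fun a ha => inf_normalizer_le_normalizer_inf
        ⟨by rw [normalizer_eq_top]; trivial, Tr_norm θ K (hS ha)⟩)
      (fun k hk f hf e => or_iff_not_imp_left.2 fun k1 => mem_bot.1 (hT ▸ mem_inf.2
        ⟨mem_inf.2 ⟨hf.1.1, mem_centralizer_iff.2 fun a ha => mem_centralizer_singleton_iff.1
          ((zpowers_le.2 (mem_centralizer_singleton_iff.2 e) : zpowers k ≤ centralizer {f})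
            (le_zp h.pr hk k1 ha))⟩, hf.1.2⟩)) h.pr hq hV hQ hc hS (iv_St hc' K)
      (fun x w hw => mem_fx.2 fun k hk => by rw [← hα, mem_fx.1 hw k hk])
      (h.fix_Tr hpq hV hU σ θ ψ hc' h1 hK hz h0' hS hT) hcH hx w hw)

end

theorem Fl.keyA (h : Fl F H)
    {p q : ℕ} [Fact p.Prime] [Fact q.Prime] (hpq : p ≠ q) (hq : ¬ q ∣ Nat.card H) {V : Type u}
    [CommGroup V] [Finite V] (hV : IsPGroup p V) (ψ : A →* MulAut V) (h0' : fx ψ F = ⊥) (n : ℕ) :
    ∀ (Q : Type w) [Group Q] [Finite Q], Nat.card Q = n → IsPGroup q Q →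
      ∀ (ρ : Q →* MulAut V) (φ : A →* MulAut Q), (∀ a u v, ψ a (ρ u v) = ρ (φ a u) (ψ a v)) →
        fx φ F = ⊥ → ∀ c ∈ fx φ H, (∀ v ∈ fx ψ H, ρ c v = v) → ∀ v, ρ c v = v := by
  haveI := h.nor
  induction n using Nat.strong_induction_on with
  | _ n ih =>
  intro Q _ _ hcard hQ ρ φ hc h0 c hcH hx
  have hMi := orb_inv φ c
  have hcM : c ∈ closure {x | ∃ a, x = φ a c} := subset_closure ⟨1, by simp⟩
  by_cases hM : closure {x | ∃ a, x = φ a c} ≠ ⊤
  · exact ih _ (by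
      rw [← hcard, ← card_top (G := Q)]
      exact card_lt_of_lt (lt_top_iff_ne_top.2 hM)) _ rfl (hQ.to_subgroup _)
      (ρ.comp (Subgroup.subtype _)) (restrictAut φ _ hMi) (fun a u v => hc a u v)
      (fx_res1 hMi h0) ⟨c, hcM⟩ (by rw [fx_res0]; exact hcH) hx
  have hgen := orb_gen (not_not.1 hM)
  have hKi := ker_inv hc
  by_cases hK : ρ.ker ≠ ⊥
  · exact ih _ (hcard ▸ card_quot_lt hK) (Q ⧸ ρ.ker) rfl (hQ.to_quotient _)
      (QuotientGroup.kerLift ρ) (quotAut φ _ hKi) (fun a u v => by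
        obtain ⟨u, rfl⟩ := QuotientGroup.mk_surjective u
        exact hc a u v) (fx_quo1 h.nil hKi h0) c
      (mem_fx.2 fun h hh => congrArg (QuotientGroup.mk' _) (mem_fx.1 hcH h hh)) hx
  rw [not_not] at hK
  by_contra hne
  haveI : Nontrivial Q := ⟨c, 1, fun e => hne (by simp [e])⟩
  have hZ := om_ne_bot (hQ.to_subgroup (center Q))
    (nontrivial_iff_ne_bot _ |>.1 hQ.center_nontrivial)
  have hZi : AInv φ (om q (center Q)) := om_inv
  have hb := autFixed_inf_autComm_eq_bot (φ := ρ.comp (om q (center Q)).subtype) aInv_top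
    (cop_pq hpq (hQ.to_subgroup _) (hV.to_subgroup _))
  have hW1 := cm_inv1 hc hZi
  have hW2 := cm_inv2 (ρ := ρ) (om_cent (q := q))
  have h1 := h.core hpq (hV.to_subgroup _) hQ hq (U := om q (center Q))
    (fun u => Subtype.ext (mem_om.1 u.2).2) (restrictAut ρ _ hW2) φ (restrictAut ψ _ hW1)
    (fun a u v => Subtype.ext (hc a u v)) (Subgroup.subtype _) om_cent (restrictAut φ _ hZi)
    (fun _ _ => rfl) h0 (fx_res1 hW1 h0') (eq_bot_iff.2 fun w hw => Subtype.ext (mem_bot.1 (hb ▸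
      mem_inf.2 ⟨fun z => congrArg Subtype.val (mem_fx.1 hw z (mem_top _)), w.2⟩))) hcH
    (fun M hM => hgen M fun a => by
      obtain ⟨f, hf', k, hk, rfl⟩ := mem_sup_of_normal_left.1 (h.sup ▸ mem_top a)
      rw [map_mul, MulAut.mul_apply, mem_fx.1 hcH k hk]
      exact hM f hf') fun v hv => Subtype.ext (hx v (by rwa [fx_res0] at hv))
  exact hZ (cm_nt hc hZi om_cent hK hb hgen fun w hw => congrArg Subtype.val (h1 ⟨w, hw⟩))

end H22.FH
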