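import Cfsg.Agent.H22.FH5
import Cfsg.Agent.H22.FH3
import Cfsg.Agent.H23.ExtBr

/-! Extraspecial kernel and complement of prime order: Fitting subgroup and Fitting height. -/

set_option autoImplicit false
set_option linter.style.haveILetI false

namespace H22.FH

open Subgroup H2 Cfsg H4.Fa SemidirectProduct
open scoped Pointwise IsMulCommutative commutatorElement

universe u v w

variable {A : Type v} [Group A] [Finite A] {F H : Subgroup A} {G : Type u} [Group G] [Finite G]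
  {φ : A →* MulAut G}

theorem fx_quoc (hH : (Nat.card H).Prime) {N : Subgroup G} [N.Normal] (hN : AInv φ N)
    (hc : (Nat.card H).Coprime (Nat.card G)) :
    fx (quotAut φ N hN) H = (fx φ H).map (QuotientGroup.mk' N) :=
  haveI := Fact.mk hH
  haveI : IsCyclic H := isCyclic_of_prime_card rfl
  autFixed_quotAut (φ := φ.comp H.subtype) N (iv_of_ainv H hN).ainv
    (hc.coprime_dvd_right (card_subgroup_dvd_card _)) (Or.inl inferInstance)

theorem Fl.keyP (h : Fl F H) {p q : ℕ} [Fact p.Prime] [Fact q.Prime] (hpq : p ≠ q)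
    (hq : ¬ q ∣ Nat.card H) {P : Type u} [Group P] [Finite P] (hP : IsPGroup p P)
    (hp : (Nat.card H).Coprime (Nat.card P)) (ψ : A →* MulAut P) (h1 : fx ψ F = ⊥) {Q : Type w}
    [Group Q] [Finite Q] (hQ : IsPGroup q Q) (ρ : Q →* MulAut P) (φ : A →* MulAut Q)
    (hc : ∀ a u v, ψ a (ρ u v) = ρ (φ a u) (ψ a v)) (h0 : fx φ F = ⊥) {c : Q} (hcH : c ∈ fx φ H)
    (hx : ∀ v ∈ fx ψ H, ρ c v = v) (v : P) : ρ c v = v := by
  haveI : IsMulCommutative (P ⧸ frattini P) := Normal.quotient_commutative_iff_commutator_le.2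
    (H1.commutator_le_frattini_of_isNilpotent hP.isNilpotent)
  have i1 : AInv ψ (frattini P) := aInv_of_characteristic _
  have i2 : AInv ρ (frattini P) := aInv_of_characteristic _
  have h2 := h.keyA hpq hq (hP.to_quotient (frattini P)) (quotAut ψ _ i1) (fx_quo1 h.nil i1 h1)
    _ Q rfl hQ (quotAut ρ _ i2) φ (fun a u v => by
      obtain ⟨v, rfl⟩ := QuotientGroup.mk_surjective v
      exact congrArg (QuotientGroup.mk' _) (hc a u v)) h0 c hcH (by
      rw [fx_quoc h.pr i1 hp]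
      rintro _ ⟨w, hw, rfl⟩
      exact congrArg (QuotientGroup.mk' _) (hx w hw))
  exact autFixed_eq_top_of_frattini (φ := ρ.comp (zpowers c).subtype)
    (cop_pq hpq (hQ.to_subgroup _) (hP.to_subgroup _)) (fun a g => QuotientGroup.eq.1
      (mem_fx.1 (fx_zpowers (h2 (g : P ⧸ frattini P))) a a.2).symm) ⟨c, mem_zpowers c⟩ v

/-- the standing hypotheses -/
structure Hz (φ : A →* MulAut G) (F H : Subgroup A) : Prop where
  fl : Fl F H
  sol : Group.IsSolvable G
  fx0 : fx φ F = ⊥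
  cop : (Nat.card H).Coprime (Nat.card G)

theorem Hz.quo (h : Hz φ F H) {N : Subgroup G} [N.Normal] (hN : AInv φ N) :
    Hz (quotAut φ N hN) F H :=
  haveI := h.sol
  ⟨h.fl, inferInstance, fx_quo1 h.fl.nil hN h.fx0,
    h.cop.coprime_dvd_right (card_quotient_dvd_card N)⟩

theorem Hz.key (h : Hz φ F H) {p q : ℕ} [Fact p.Prime] [Fact q.Prime] (hpq : p ≠ q)
    (hq : q ∣ Nat.card G) {P Q : Subgroup G}
    (hP : IsPGroup p P) (hQ : IsPGroup q Q) (iP : AInv φ P) (iQ : AInv φ Q)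
    (hN : Q ≤ normalizer (P : Set G)) {c : G} (hc : c ∈ Q) (hcH : c ∈ fx φ H)
    (hx : ∀ v ∈ P, v ∈ fx φ H → c * v * c⁻¹ = v) : ∀ v ∈ P, c * v * c⁻¹ = v := fun v hv =>
  congrArg Subtype.val (h.fl.keyP hpq
    (fun hd => (Fact.out : q.Prime).ne_one (Nat.eq_one_of_dvd_coprimes h.cop hd hq)) hP
    (h.cop.coprime_dvd_right (card_subgroup_dvd_card _)) (restrictAut φ P iP) (fx_res1 iP h.fx0) hQ
    (restrictAut (MulAut.conj.comp Q.subtype) P fun a x hx => (mem_normalizer_iff.1 (hN a.2) x).1 hx)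
    (restrictAut φ Q iQ) (fun a u v => Subtype.ext (by
      show φ a (u * v * (u : G)⁻¹) = φ a u * φ a v * (φ a u)⁻¹
      simp)) (fx_res1 iQ h.fx0) (c := ⟨c, hc⟩) (by rwa [fx_res0])
    (fun w hw => Subtype.ext (hx w w.2 (by rwa [fx_res0] at hw))) ⟨v, hv⟩)

theorem Hz.syl (h : Hz φ F H) (q : ℕ) [Fact q.Prime] : ∃ Q : Subgroup G, IsPGroup q Q ∧
    AInv φ Q ∧ H10.IsSylowIn q (Q ⊓ fx φ H) (fx φ H) := by
  haveI := h.fl.nor
  haveI := h.sol
  obtain ⟨Q, hQ, iQ⟩ := H8.FP.sylA (φ := φ) h.fl.nil aInv_top (by rw [h.fx0, inf_bot_eq]) q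
  obtain ⟨S, hS⟩ := H10.exists_isSylowIn q (fx φ H)
  obtain ⟨c, hc, e⟩ := aut_exists_fixed_conj_le_sylow (φ := φ.comp H.subtype) aInv_top
    (by rw [card_top]; exact h.cop) (Or.inr inferInstance) le_top hS.isPGroup
    (aInv_of_le_autFixed hS.le) le_top hQ.isPGroup hQ.not_dvd_relIndex (iv_of_ainv H iQ).ainv
  refine ⟨Q, hQ.isPGroup, iQ, hS.of_card_le hQ.isPGroup.to_inf_left inf_le_right ?_⟩
  rw [← H1.card_conj_smul c⁻¹ S]
  refine card_le_of_le (le_inf ?_ (hS.conj_of_mem (le_normalizer (inv_mem hc.2))).le)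
  rw [← H1.conj_inv_smul_conj_smul c Q]
  exact pointwise_smul_le_pointwise_smul_iff.2 e

theorem Hz.pi0 (h : Hz φ F H) {π : Set ℕ} (hπ : piCore π G = ⊥) {D : Subgroup G}
    (h1 : D ≤ fx φ H) (h2 : fx φ H ≤ normalizer (D : Set G))
    (h3 : ∀ q : ℕ, q.Prime → q ∣ Nat.card D → q ∈ π) : D = ⊥ := by
  by_contra hD
  obtain ⟨q, hq, hd⟩ := Nat.exists_prime_and_dvd (fun e => hD (card_eq_one.1 e))
  haveI := Fact.mk hq
  obtain ⟨Q, hQ, iQ, hS⟩ := h.syl q
  have h4 : Q ⊓ fx φ H ⊓ D ≠ ⊥ := fun e => by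
    have := (hS.inf_of_le_normalizer h1 h2).not_dvd_relIndex
    rw [e, relIndex_bot_left] at this
    exact this hd
  obtain ⟨⟨c, ⟨hcQ, hcH⟩, hcD⟩, c1⟩ := ne_bot_iff_exists_ne_one.1 h4
  have h5 : D ⊓ piCore πᶜ G = ⊥ := disjoint_iff.1 (disjoint_of_coprime_natCard
    (Nat.coprime_of_dvd fun r hr a b => H1.piCore_isPi r hr b (h3 r hr a)))
  have h6 : ∀ (p : ℕ) [Fact p.Prime], p ∈ π → pCore p G = ⊥ := fun p _ hp =>
    le_bot_iff.1 (hπ ▸ H1.pCore_le_piCore hp)
  have h7 : fittingSubgroup G ≤ centralizer {c} := H1.fitting_le_iff.2 fun p _ => by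
    by_cases hp : p ∈ π
    · rw [h6 p hp]; exact bot_le
    intro v hv
    have := h.key (p := p) (q := q) (fun e => hp (e ▸ h3 q hq hd))
      (hd.trans (card_subgroup_dvd_card _))
      H1.pCore_isPGroup hQ (aInv_of_characteristic _) iQ le_normalizer_of_normal hcQ hcH
      (fun w hw hw' => by
        have h8 : c * (w * c⁻¹ * w⁻¹) ∈ D ⊓ piCore πᶜ G := by
          refine mem_inf.2 ⟨mul_mem hcD ((mem_normalizer_iff.1 (h2 hw') _).1 (inv_mem hcD)),
            H1.pCore_le_piCore (π := πᶜ) hp ?_⟩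
          have := mul_mem (Normal.conj_mem inferInstance w hw c) (inv_mem hw)
          simpa [mul_assoc] using this
        rw [h5, mem_bot, ← mul_assoc, ← mul_assoc, mul_inv_eq_one] at h8
        exact h8) v hv
    exact mem_centralizer_singleton_iff.2 (mul_inv_eq_iff_eq_mul.1 this).symm
  have h8 : c ∈ fittingSubgroup G := H1.centralizer_fitting_le h.sol
    (mem_centralizer_iff.2 fun v hv => mem_centralizer_singleton_iff.1 (h7 hv))
  have h9 : fittingSubgroup G ≤ piCore πᶜ G := H1.fitting_le_iff.2 fun p _ => by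
    by_cases hp : p ∈ π
    · rw [h6 p hp]; exact bot_le
    · exact H1.pCore_le_piCore (π := πᶜ) hp
  exact c1 (Subtype.ext (mem_bot.1 (h5 ▸ mem_inf.2 ⟨hcD, h9 h8⟩)))

theorem Hz.pi_le (h : Hz φ F H) {π : Set ℕ} {D : Subgroup G}
    (h1 : D ≤ fx φ H) (h2 : fx φ H ≤ normalizer (D : Set G))
    (h3 : ∀ q : ℕ, q.Prime → q ∣ Nat.card D → q ∈ π) : D ≤ piCore π G := by
  have hN : AInv φ (piCore π G) := aInv_of_characteristic _
  have := (h.quo hN).pi0 H1.piCore_quotient_piCore (D := D.map (QuotientGroup.mk' _))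
    (by rw [fx_quoc h.fl.pr hN h.cop]; exact map_mono h1)
    (by rw [fx_quoc h.fl.pr hN h.cop]; exact (map_mono h2).trans (le_normalizer_map _))
    fun q hq hd => h3 q hq (hd.trans (card_map_dvd _ _))
  rwa [Subgroup.map_eq_bot_iff, QuotientGroup.ker_mk'] at this

theorem Hz.fitting_le (h : Hz φ F H) :
    (fittingSubgroup (fx φ H)).map (fx φ H).subtype ≤ fittingSubgroup G := by
  refine map_le_iff_le_comap.2 (H1.fitting_le_iff.2 fun p _ => ?_)
  rw [H1.pCore_eq_piCore, ← map_le_iff_le_comap]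
  refine (h.pi_le (map_subtype_le _) (H1.le_normalizer_piCoreOf _) (H1.piCoreOf_isPi _)).trans ?_
  rw [← H1.pCore_eq_piCore]
  exact H1.pCore_le_fitting

theorem xs_map {X Y : Type*} [Group X] [Group Y] {p : ℕ} (e : X ≃* Y) (h : IsExtraspecial p Y) :
    IsExtraspecial p X := by
  obtain ⟨⟨h1, h2, h3⟩, h4⟩ := h
  have i := map_injective (f := (e : X →* Y)) e.injective
  have c : (center X).map (e : X →* Y) = center Y := Subgroup.ext fun y =>
    ⟨fun ⟨x, hx, k⟩ => k ▸ (centerCongr e ⟨x, hx⟩).2,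
      fun h => ⟨e.symm y, (centerCongr e.symm ⟨y, h⟩).2, by simp⟩⟩
  refine ⟨⟨h1.of_equiv e.symm, i ?_, i ?_⟩, (Nat.card_congr (centerCongr e).toEquiv).trans h4⟩
  · rw [c, ← h2, H1.map_frattini_equiv]
  · rw [c, ← h3, map_commutator_eq, MonoidHom.range_eq_top.2 e.surjective, commutator_def]

theorem map_inf_cent {X Y : Type*} [Group X] [Group Y] {j : X →* Y} (hj : Function.Injective j)
    (F H : Subgroup X) : (F ⊓ centralizer (H : Set X)).map j =
      F.map j ⊓ centralizer ((H.map j : Subgroup Y) : Set Y) := by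
  refine le_antisymm ?_ ?_
  · rintro _ ⟨x, hx, rfl⟩
    refine mem_inf.2 ⟨⟨x, hx.1, rfl⟩, mem_centralizer_iff.2 ?_⟩
    rintro _ ⟨y, hy, rfl⟩
    rw [← map_mul, ← map_mul, mem_centralizer_iff.1 hx.2 y hy]
  · rintro _ ⟨⟨x, hx, rfl⟩, h⟩
    exact ⟨x, mem_inf.2 ⟨hx, mem_centralizer_iff.2 fun y hy => hj (by
      rw [map_mul, map_mul, mem_centralizer_iff.1 h _ ⟨y, hy, rfl⟩])⟩, rfl⟩

theorem card_Z {s : ℕ} (hE : IsExtraspecial s F) :
    Nat.card (F ⊓ centralizer (F : Set A) : Subgroup A) = s := by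
  rw [← H1.map_subtype_center, card_map_of_injective F.subtype_injective, hE.2]

theorem Hz.base (h : Hz φ F H) {s : ℕ} (hs : s.Prime) (hE : IsExtraspecial s F)
    (hZ : F ⊓ centralizer (H : Set A) ≤ centralizer (F : Set A))
    (hnF : ¬ ∃ k : ℕ, Nat.card H = 2 ^ k + 1) (h1 : fx φ H = ⊥) : (⊤ : Subgroup G) = ⊥ := by
  haveI := h.fl.nor
  haveI := Fact.mk hs
  have hn : H ≤ normalizer (F : Set A) := by rw [normalizer_eq_top]; exact le_top
  by_contra hG
  haveI : Nontrivial G := (nontrivial_iff (G := G)).1 ⟨⊤, ⊥, hG⟩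
  obtain ⟨p, hp, h2⟩ := H1.exists_pCore_ne_bot_of_isSolvable h.sol
  haveI := Fact.mk hp
  obtain ⟨V, hVN, hVn, hV, hV0, _, -⟩ := exists_min (φ := φ) (aInv_of_characteristic _) h2
    H1.pCore_isPGroup
  have hW0 := om_ne_bot (H1.pCore_isPGroup.to_le hVN) hV0
  set W := om p V
  have hWi : AInv φ W := fun a z hz => mem_om.2 ⟨hV a z (mem_om.1 hz).1,
    by rw [← map_pow, (mem_om.1 hz).2, map_one]⟩
  haveI : IsMulCommutative W := ⟨⟨fun a b => Subtype.ext (congrArg (Subtype.val : V → G)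
    (mul_comm (⟨a, (mem_om.1 a.2).1⟩ : V) ⟨b, (mem_om.1 b.2).1⟩))⟩⟩
  have hWp : IsPGroup p W := (H1.pCore_isPGroup.to_le hVN).to_le (map_subtype_le _)
  by_cases hk : F ⊓ centralizer (H : Set A) ≤ (restrictAut φ W hWi).ker
  · set ψ := restrictAut φ W hWi
    have e : ∀ B : Subgroup A, fx φ B = ⊥ → ⊤ ⊓ fx (MonoidHom.id _) (B.map ψ) = ⊥ := fun B hB => by
      rw [top_inf_eq, eq_bot_iff, ← fx_res1 hWi hB]
      exact fun w hw => mem_fx.2 fun b hb => mem_fx.1 hw _ ⟨b, hb, rfl⟩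
    have h3 := inf_fx_ne_bot (p := p) (φ := MonoidHom.id (MulAut W)) (F := F.map ψ) (H := H.map ψ)
      (H1.isNilpotent_map h.fl.nil ψ) ((map_mono hn).trans (le_normalizer_map _)) (by
        rintro _ ⟨k, hk', rfl⟩ _ ⟨f, hf, rfl⟩ e
        refine or_iff_not_imp_left.2 fun k1 => ?_
        haveI := h.fl.nil
        obtain ⟨n, hn', h3⟩ := exists_mul_mem_centralizer' (A := H) (N := F ⊓ ψ.ker) (k := f)
          le_normalizer_of_normal (h.fl.cop.coprime_dvd_right (card_dvd_of_le inf_le_left))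
          (Or.inr (H1.isSolvable_of_le inf_le_left inferInstance)) fun a ha => by
            refine mem_inf.2 ⟨mul_mem (inv_mem hf) (Normal.conj_mem inferInstance f hf a), ?_⟩
            have h4 : zpowers k ≤ (centralizer {ψ f}).comap ψ :=
              zpowers_le.2 (mem_centralizer_singleton_iff.2 e)
            have h5 := mem_centralizer_singleton_iff.1
              (h4 (le_zp h.fl.pr hk' (fun e => k1 (by rw [e, map_one])) ha))
            rw [MonoidHom.mem_ker, map_mul, map_mul, map_mul, h5]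
            simp
        exact (mul_mem_cancel_right (mem_inf.1 hn').2).1
          (hk (mem_inf.2 ⟨mul_mem hf (mem_inf.1 hn').1, h3⟩))) (W := ⊤)
      (hWp.to_subgroup _) (iv_of_ainv _ aInv_top) (iv_of_ainv _ aInv_top) (e F h.fx0) (e H h1)
    exact hW0 (eq_bot_iff.2 fun w hw => congrArg (Subtype.val : W → G)
      (show (⟨w, hw⟩ : W) = 1 from mem_bot.1 (h3 ▸ mem_top _)))
  have hZ' : F ⊓ centralizer (H : Set A) = F ⊓ centralizer (F : Set A) :=
    le_antisymm (le_inf inf_le_left hZ) ((prime_le (by rw [card_Z hE]; exact hs) _).resolve_left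
      fun e => hk (by rw [inf_eq_right.2 (le_inf inf_le_left hZ)] at e; rw [e]; exact bot_le))
  have hj := inr_injective (φ := φ)
  set j : A →* G ⋊[φ] A := inr
  have hE' := xs_map (F.equivMapOfInjective j hj).symm hE
  have cH : Nat.card (H.map j) = Nat.card H := card_map_of_injective hj
  have cF : Nat.card (F.map j) = Nat.card F := card_map_of_injective hj
  obtain ⟨m, hm⟩ := IsPGroup.iff_card.1 hE.1.1
  have pd : p ∣ Nat.card W := by
    obtain ⟨n, hn⟩ := IsPGroup.iff_card.1 hWp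
    rw [hn]
    exact dvd_pow_self _ fun e => hW0 (card_eq_one.1 (by rw [hn, e, pow_zero]))
  haveI := Fact.mk (cH ▸ h.fl.pr : (Nat.card (H.map j)).Prime)
  obtain ⟨d, h4, h5⟩ := H18.extraspecial_cyclic_cent (P := F.map j) (H := H.map j) (V := sdK φ W)
    hp (H23.extraspecial_amb hs hE') ((map_mono hn).trans (le_normalizer_map _))
    (by
      rw [cH]
      exact h.fl.cop.symm.coprime_dvd_left (cF ▸ card_dvd_of_le inf_le_left))
    (fun e => h.fl.pr.ne_one (by rw [← cH, e, card_bot])) (isCyclic_of_prime_card rfl)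
    (fun x hx x1 => by
      rw [← map_inf_cent hj, ← hZ', map_inf_cent hj]
      refine le_antisymm (fun y hy => mem_inf.2 ⟨hy.1, mem_centralizer_iff.2 fun a ha => ?_⟩)
        (inf_le_inf_left _ (centralizer_le (Set.singleton_subset_iff.2 hx)))
      exact mem_centralizer_singleton_iff.1 ((zpowers_le.2 (mem_centralizer_singleton_iff.2
        (mem_centralizer_singleton_iff.1 hy.2).symm) : zpowers x ≤ centralizer {y})
          (le_zp Fact.out hx x1 ha)))
    ⟨isMulCommutative_sdK W, by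
      rintro _ ⟨w, hw, rfl⟩
      rw [← map_pow, (mem_om.1 hw).2, map_one]⟩
    ((sup_le (map_le_range _ _) (map_le_range _ _)).trans hWi.sd) (fun hd => by
      rcases hp.dvd_mul.1 (hd.trans (H1.card_sup_dvd' ((map_mono hn).trans (le_normalizer_map _))))
        with hd | hd
      · rw [cF, hm] at hd
        obtain rfl := (Nat.prime_dvd_prime_iff_eq hp hs).1 (hp.dvd_of_dvd_pow hd)
        obtain ⟨x, -, x1, hx⟩ := exists_fixed_of_pgroup (φ := φ) hE.1.1 (iv_of_ainv _ hWi) pd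
        exact x1 (mem_bot.1 (h.fx0 ▸ hx))
      · exact hp.ne_one (Nat.eq_one_of_dvd_coprimes h.cop (cH ▸ hd)
          (pd.trans (card_subgroup_dvd_card _))))
    (fun hc => hk fun a ha => MulEquiv.ext fun w => Subtype.ext (inl_injective (φ := φ) (by
      rw [← map_inf_cent hj, ← hZ'] at hc
      have := mem_centralizer_iff.1 (hc ⟨a, ha, rfl⟩) _ (inl_mem_sdK.2 w.2)
      exact (inr_mul_inl_mul_inv a (w : G)).symm.trans (mul_inv_eq_iff_eq_mul.2 this.symm))))
    (eq_bot_iff.2 (by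
      rintro _ ⟨⟨w, hw, rfl⟩, e⟩
      have : w ∈ fx φ H := mem_fx.2 fun b hb => inl_injective (φ := φ)
        ((inr_mul_inl_mul_inv b w).symm.trans
          (mul_inv_eq_iff_eq_mul.2 (mem_centralizer_iff.1 e _ ⟨b, hb, rfl⟩)))
      rw [h1, mem_bot] at this
      rw [this, map_one]
      exact one_mem _))
  have h6 : d ∣ s ^ m := ((dvd_pow_self d two_ne_zero).trans h4.dvd).trans
    (hm ▸ cF ▸ relIndex_dvd_card _ _)
  obtain ⟨n, -, rfl⟩ := (Nat.dvd_prime_pow hs).1 h6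
  rw [cH] at h5
  rcases Nat.eq_zero_or_pos n with rfl | hn0
  · exact hnF ⟨0, h5.symm⟩
  · obtain rfl := H23.eq_two_of_pow_add_one hs h.fl.pr hn0 h5
    exact hnF ⟨n, h5.symm⟩

theorem nresn_bot' {s : ℕ} (hs : s.Prime) (hE : IsExtraspecial s F)
    (hZ : F ⊓ centralizer (H : Set A) ≤ centralizer (F : Set A))
    (hnF : ¬ ∃ k : ℕ, Nat.card H = 2 ^ k + 1) (n : ℕ) :
    ∀ (G : Type u) [Group G] [Finite G] (φ : A →* MulAut G), Hz φ F H →
    H1.nres^[n] (fx φ H) = ⊥ → H1.nres^[n] (⊤ : Subgroup G) = ⊥ := by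
  induction n with
  | zero => exact fun G _ _ φ h e => h.base hs hE hZ hnF e
  | succ n ih =>
    intro G _ _ φ h e
    rw [Function.iterate_succ_apply', H1.nres_eq_bot] at e ⊢
    have hN : AInv φ (fittingSubgroup G) := aInv_of_characteristic _
    have h1 := H1.le_fittingOf (H1.nresn_normal n (fx φ H)).1 (H1.nresn_normal n (fx φ H)).2 e
    have h2 := ih _ _ (h.quo hN) (by
      rw [fx_quoc h.fl.pr hN h.cop, ← H1.map_nresn, Subgroup.map_eq_bot_iff,
        QuotientGroup.ker_mk']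
      exact h1.trans h.fitting_le)
    rw [← map_top_of_surjective _ (QuotientGroup.mk'_surjective (fittingSubgroup G)),
      ← H1.map_nresn, Subgroup.map_eq_bot_iff, QuotientGroup.ker_mk'] at h2
    exact H1.isNilpotent_of_le h2 H1.fitting_isNilpotent

theorem fl_of [hn : F.Normal] {s : ℕ} (hs : s.Prime) (hE : IsExtraspecial s F)
    (hH : (Nat.card H).Prime) (hcomm : ⁅F, H⁆ = F) (hsup : F ⊔ H = ⊤) :
    Fl F H ∧ F ⊓ centralizer (H : Set A) ≤ centralizer (F : Set A) := by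
  haveI := Fact.mk hs
  obtain ⟨m, hm⟩ := IsPGroup.iff_card.1 hE.1.1
  have hcop : (Nat.card H).Coprime (Nat.card F) := by
    rw [hm]
    refine Nat.Coprime.pow_right _ ((Nat.coprime_primes hH hs).2 fun e => ?_)
    have h1 := H1.eq_bot_of_le_commutator_of_isNilpotent (N := F) (K := F ⊔ H)
      (IsPGroup.to_sup_of_normal_left hE.1.1
        (IsPGroup.of_card (n := 1) (by rw [e, pow_one]))).isNilpotent le_sup_left
      (hcomm.ge.trans (commutator_mono le_rfl le_sup_right))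
    have := card_Z hE
    rw [h1, bot_inf_eq, card_bot] at this
    exact hs.ne_one this.symm
  have hZ : F ⊓ centralizer (H : Set A) ≤ F ⊓ centralizer (F : Set A) := by
    intro x hx
    rw [← (H23.extraspecial_amb hs hE).der]
    let π := QuotientGroup.mk' ⁅F, F⁆
    haveI : IsMulCommutative (F.map π) := le_centralizer_iff_isMulCommutative.1
      (commutator_eq_bot_iff_le_centralizer.1 (by
        rw [← Subgroup.map_commutator, Subgroup.map_eq_bot_iff, QuotientGroup.ker_mk']))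
    have h1 := centralizer_inf_commutator_eq_bot (A := H.map π) (V := F.map π)
      ((map_mono le_normalizer_of_normal).trans (le_normalizer_map _))
      ((hcop.coprime_dvd_left (card_map_dvd _ _)).coprime_dvd_right (card_map_dvd _ _))
    rw [← Subgroup.map_commutator, hcomm] at h1
    refine (QuotientGroup.eq_one_iff x).1 (mem_bot.1 (h1 ▸ mem_inf.2
      ⟨mem_centralizer_iff.2 ?_, x, hx.1, rfl⟩))
    rintro _ ⟨y, hy, rfl⟩
    exact congrArg π (mem_centralizer_iff.1 hx.2 y hy)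
  have hp : (Nat.card (F ⊓ centralizer (F : Set A) : Subgroup A)).Prime := by
    rw [card_Z hE]; exact hs
  refine ⟨⟨hn, hE.1.1.isNilpotent, hH, hcop, fun T => ?_, hsup⟩, hZ.trans inf_le_right⟩
  rcases prime_le hp (F ⊓ centralizer (H : Set A)) with h | h
  · rw [inf_eq_right.2 hZ] at h
    exact Or.inl (h ▸ bot_le)
  · rw [le_antisymm hZ h]
    exact (prime_le hp T).symm

section
variable {Γ : Type u} [Group Γ] [Finite Γ] {R F X : Subgroup Γ} {r s : ℕ}

theorem fx_conj (h : R ⊔ F ≤ normalizer (X : Set Γ)) {B : Subgroup Γ} (hB : B ≤ R ⊔ F) :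
    fx (conjAut h) (B.subgroupOf (R ⊔ F)) = (X ⊓ centralizer (B : Set Γ)).subgroupOf X := by
  ext x
  rw [mem_fx, mem_subgroupOf]
  exact ⟨fun e => mem_inf.2 ⟨x.2, mem_centralizer_iff.2 fun b hb => mul_inv_eq_iff_eq_mul.1
    (congrArg Subtype.val (e ⟨b, hB hb⟩ hb))⟩, fun e b hb => Subtype.ext
      (mul_inv_eq_iff_eq_mul.2 (mem_centralizer_iff.1 e.2 b hb))⟩

theorem hz_of (hM : H8.FS.Main.{u}) (hr : r.Prime) (hs : s.Prime) (hR : Nat.card R = r)
    (hF : IsExtraspecial s F) (hRF : R ≤ normalizer (F : Set Γ)) (hcomm : ⁅F, R⁆ = F)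
    (h : R ⊔ F ≤ normalizer (X : Set Γ)) (hcop : ¬ r ∣ Nat.card X)
    (hCF : X ⊓ centralizer (F : Set Γ) = ⊥) :
    Hz (conjAut h) (F.subgroupOf (R ⊔ F)) (R.subgroupOf (R ⊔ F)) ∧
      IsExtraspecial s (F.subgroupOf (R ⊔ F)) ∧ Nat.card (R.subgroupOf (R ⊔ F)) = r ∧
      F.subgroupOf (R ⊔ F) ⊓ centralizer ((R.subgroupOf (R ⊔ F) : Subgroup _) : Set ↥(R ⊔ F)) ≤
        centralizer ((F.subgroupOf (R ⊔ F) : Subgroup _) : Set ↥(R ⊔ F)) := by
  haveI : (F.subgroupOf (R ⊔ F)).Normal :=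
    (normal_subgroupOf_iff_le_normalizer le_sup_right).2 (sup_le hRF le_normalizer)
  have hE := xs_map (subgroupOfEquivOfLe (le_sup_right : F ≤ R ⊔ F)) hF
  have hc : Nat.card (R.subgroupOf (R ⊔ F)) = r :=
    (Nat.card_congr (subgroupOfEquivOfLe le_sup_left).toEquiv).trans hR
  obtain ⟨h1, h2⟩ := fl_of (H := R.subgroupOf (R ⊔ F)) hs hE (hc ▸ hr)
    (map_injective (R ⊔ F).subtype_injective (by
      rw [Subgroup.map_commutator, map_subgroupOf_eq_of_le le_sup_right,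
        map_subgroupOf_eq_of_le le_sup_left, hcomm]))
    (by rw [← subgroupOf_sup le_sup_right le_sup_left, sup_comm, subgroupOf_self])
  have h0 : fx (conjAut h) (F.subgroupOf (R ⊔ F)) = ⊥ := by
    rw [fx_conj h le_sup_right, hCF, bot_subgroupOf]
  exact ⟨⟨h1, solv hM h1.nil h0, h0, hc ▸ (hr.coprime_iff_not_dvd).2 hcop⟩, hE, hc, h2⟩

theorem s4360 (hM : H8.FS.Main.{u}) (hr : r.Prime) (hs : s.Prime) (hR : Nat.card R = r)
    (hF : IsExtraspecial s F) (hRF : R ≤ normalizer (F : Set Γ)) (hcomm : ⁅F, R⁆ = F)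
    (hRX : R ≤ normalizer (X : Set Γ)) (hFX : F ≤ normalizer (X : Set Γ))
    (hcop : ¬ r ∣ Nat.card X) (hCF : X ⊓ centralizer (F : Set Γ) = ⊥) :
    (fittingSubgroup ↥(X ⊓ centralizer (R : Set Γ))).map (X ⊓ centralizer (R : Set Γ)).subtype ≤
      (fittingSubgroup X).map X.subtype := by
  have h := (hz_of hM hr hs hR hF hRF hcomm (sup_le hRX hFX) hcop hCF).1.fitting_le
  rw [fx_conj _ le_sup_left] at h
  rw [← H1.fittingOf_subgroupOf_map (inf_le_left : X ⊓ centralizer (R : Set Γ) ≤ X)]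
  exact map_mono h

theorem s4361 (hM : H8.FS.Main.{u}) (hr : r.Prime) (hnF : ¬ ∃ k : ℕ, r = 2 ^ k + 1)
    (hs : s.Prime) (hR : Nat.card R = r)
    (hF : IsExtraspecial s F) (hRF : R ≤ normalizer (F : Set Γ)) (hcomm : ⁅F, R⁆ = F)
    (hRX : R ≤ normalizer (X : Set Γ)) (hFX : F ≤ normalizer (X : Set Γ))
    (hcop : ¬ r ∣ Nat.card X) (hCF : X ⊓ centralizer (F : Set Γ) = ⊥) (n : ℕ) :
    H1.nres^[n] (⊤ : Subgroup X) = ⊥ ↔
      H1.nres^[n] (⊤ : Subgroup ↥(X ⊓ centralizer (R : Set Γ))) = ⊥ := by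
  obtain ⟨h1, h2, h3, h4⟩ := hz_of hM hr hs hR hF hRF hcomm (sup_le hRX hFX) hcop hCF
  have h := nresn_bot' hs h2 h4 (h3 ▸ hnF) n _ _ h1
  rw [fx_conj _ le_sup_left, ← map_eq_bot_iff_of_injective _ X.subtype_injective, H1.map_nresn,
    map_subgroupOf_eq_of_le inf_le_left] at h
  rw [← map_eq_bot_iff_of_injective _ (X ⊓ centralizer (R : Set Γ)).subtype_injective,
    H1.map_nresn, ← MonoidHom.range_eq_map, range_subtype]
  refine ⟨fun e => ?_, h⟩
  rw [← map_eq_bot_iff_of_injective _ X.subtype_injective, H1.map_nresn,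
    ← MonoidHom.range_eq_map, range_subtype] at e
  exact le_bot_iff.1 (e ▸ H1.nresn_mono n inf_le_left)

end

end H22.FH
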