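import Cfsg.Agent.H22.FS9
import Cfsg.Agent.S0723
import Cfsg.Agent.H17.Cent

/-! Primitive groups with a doubly transitive suborbit. -/

set_option autoImplicit false
set_option linter.unusedSectionVars false

namespace H22.FS
open Cfsg Subgroup H19 MulAction

universe u
variable {G : Type u} {Ω : Type*} [Group G] [Finite G] [MulAction G Ω] {α β : Ω}
  {a b c d g s t u v w x y z : G} {A B D E F K L M N X Y : Subgroup G}

local notation "cj" => H19.cj

theorem nm_top (N : Subgroup G) [N.Normal] (A : Subgroup G) : A ≤ N(N) := le_top.trans (normalIn_top (H := N)).norm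

/-- a splitting of `N` compatible with the point stabilizers -/
structure Sp (Ω : Type*) [MulAction G Ω] (N A B : Subgroup G) : Prop where
  l : A ≤ N
  r : B ≤ N
  c : A ≤ C(B)
  d : N ≤ A ⊔ B
  s : ∀ ω : Ω, ∀ a ∈ A, ∀ b ∈ B, (a * b) • ω = ω → a • ω = ω

namespace Sp
variable (h : Sp Ω N A B)
include h
theorem cm (ha : a ∈ A) (hb : b ∈ B) : a * b = b * a := (mem_cent.1 (h.c ha) b hb).symm
theorem symm : Sp Ω N B A := ⟨h.r, h.l, cents_symm h.c, sup_comm A B ▸ h.d, fun ω b hb a ha e => by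
  have := h.s ω a ha b hb (h.cm ha hb ▸ e)
  rwa [mul_smul, this] at e⟩
theorem nl : N ≤ N(A) := h.d.trans (sup_le le_normalizer (norms_of_cents (cents_symm h.c)))
theorem dec (hy : y ∈ N) : ∃ a ∈ A, ∃ b ∈ B, y = a * b := (mem_sup_of_norm (h.r.trans h.nl)).1 (h.d hy)
theorem one (z : N ⊓ C(N) = ⊥) (hb : b ∈ B) (k : b ∈ C(B)) : b = 1 :=
  z.le ⟨h.r hb, cent_mono h.d (by rw [cent_sup]; exact ⟨cents_symm h.c hb, k⟩)⟩
theorem cle (z : N ⊓ C(N) = ⊥) (ha : a ∈ A) (hb : b ∈ B) : N ⊓ C[a * b] ≤ N ⊓ C[a] := fun n hn => ⟨hn.1, by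
  have e : (n * b * n⁻¹) * b⁻¹ = (n * a * n⁻¹)⁻¹ * a := by
    calc _ = (n * a * n⁻¹)⁻¹ * (n * (a * b) * n⁻¹) * b⁻¹ := by group
      _ = _ := by rw [cj_eq (mem_cent1.1 hn.2)]; group
  have := h.one z (mul_mem (conj_mem_of_norm (h.symm.nl hn.1) hb) (inv_mem hb))
    (e ▸ h.c (mul_mem (inv_mem (conj_mem_of_norm (h.nl hn.1) ha)) ha))
  exact mem_cent1.2 (of_cj_eq (inv_mul_eq_one.1 (e ▸ this)))⟩
end Sp

variable [FaithfulSMul G Ω] [Finite Ω] [IsPreprimitive G Ω]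

theorem ntr (N : Subgroup G) [N.Normal] (h : N ≠ ⊥) (γ δ : Ω) : ∃ n ∈ N, n • γ = δ :=
  (H17.trans_sub_iff N).1 (H17.normal_trans N h) γ δ

theorem sreg (N : Subgroup G) [N.Normal] (h : N ≠ ⊥) (hg : g ∈ C(N)) (e : g • α = α) : g = 1 :=
  H17.semireg_of_comm N (H17.normal_trans N h) g (mem_cent.1 hg) e

/-- the setting -/
structure On (α β : Ω) (N : Subgroup G) : Prop where
  ne : β ≠ α
  mv : ∃ g ∈ stabilizer G α, g • β ≠ β
  two : T2 (stabilizer G α) β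
  nb : N ≠ ⊥
  mn : ∀ M : Subgroup G, M.Normal → M ≤ N → M = ⊥ ∨ M = N

namespace On
variable [hN : N.Normal] (h : On α β N)
include h

theorem ab_reg (k : Ab N) (hn : x ∈ N) (e : x • α = α) : x = 1 := sreg N h.nb (comm_iff_le_cent.1 k hn) e

theorem uniq (hS : FSet.{u}) (M : Subgroup G) [M.Normal] (n : M ≠ ⊥) : N ≤ M := by
  refine ((h.mn (M ⊓ N) inferInstance inf_le_right).resolve_left fun e => n ?_).ge.trans inf_le_left
  have c : M ≤ C(N) := cents_of_norms_disjoint (nm_top M N) (nm_top N M) e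
  suffices k : Ab N by
    refine eq_bot_iff.2 fun m hm => ?_
    obtain ⟨x, hx, e'⟩ := ntr N h.nb α (m • α)
    exact e.le ⟨hm, inv_mul_eq_one.1 (sreg N h.nb (mul_mem (inv_mem (comm_iff_le_cent.1 k hx)) (c hm)) (st_of e')) ▸ hx⟩
  obtain ⟨x, hx, x1⟩ := ntr N h.nb α β
  obtain ⟨p, hp, hp'⟩ := exists_prime_dvd_card (ne_bot_of_mem (mem_zpowers x) fun k => h.ne (by rw [← x1, k, one_smul]))
  obtain ⟨y, hy, o⟩ := exists_orderOf_eq_prime hp hp'
  have y1 : y ∈ N := zpowers_le.2 hx hy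
  have y2 : (#(zpowers y)).Prime := by rwa [Nat.card_zpowers, o]
  have f : ∀ a ∈ stabilizer G α, a • β = β → a ∈ C(zpowers y) := fun a ha k => by
    rw [cent_zpowers]
    refine cent1_le_cent1_of_mem_zpowers hy (mem_cent1.2 (of_cj_eq (inv_mul_eq_one.1 (sreg (α := α) M n
      (cents_symm c (mul_mem (inv_mem hx) (hN.conj_mem x hx a))) (st_of ?_))).symm))
    rw [mul_smul, mul_smul, inv_mem ha, x1, k]
  have st : ∀ g : G, ∃ m ∈ M, g * m ∈ stabilizer G α := fun g =>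
    let ⟨m, hm, e⟩ := ntr M n α (g⁻¹ • α)
    ⟨m, hm, by rw [mem_stabilizer_iff, mul_smul, e, smul_inv_smul]⟩
  have l := cc_le (zpowers_le.2 y1) (nm_top N (stabilizer G α))
  have S := q3 hS h.two hp (abelem_zpowers (o ▸ pow_orderOf_eq_one y)) (fun a ha k => cent_le_norm _ (f a ha k))
    ((h.mn _ (NormalIn.normal ⟨le_top, fun g _ => by
      obtain ⟨m, hm, e⟩ := st g
      simpa using mul_mem (nm_cc _ _ e) (inv_mem (cent_le_norm _ (cent_mono l (c hm))))⟩) l).resolve_left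
      (ne_bot_mono (le_cc _ _) (ne_bot_of_prime y2)))
    (fun d hd => let ⟨m, hm, e⟩ := st d; ⟨_, e, by simpa using c hm, fun k => by
      simpa using mul_mem (f _ e k) (inv_mem (cent_mono (zpowers_le.2 y1) (c hm)))⟩)
    fun z hz z1 => cent_eq_cent1_of_prime y2 hz z1 ▸ inf_le_right
  exact comm_iff_der.2 ((h.mn _ inferInstance (der_le N)).resolve_right (sol_der_lt S h.nb).ne)

theorem mv' (n : N ⊓ stabilizer G α ≠ ⊥) : ∃ x ∈ N ⊓ stabilizer G α, x • β ≠ β := by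
  by_contra k
  push Not at k
  obtain ⟨x, hx, x1⟩ := ntr N h.nb α β
  have : Nontrivial Ω := ⟨_, _, h.ne⟩
  have m : x ∈ N(N ⊓ stabilizer G α) := mem_norm_of_le_cj fun y hy => mem_cj.2
    ⟨conj_mem_of_norm' (le_normalizer hx) hy.1, (by rw [mul_smul, mul_smul, x1, k y hy, ← x1, inv_smul_smul] : _ • α = α)⟩
  have := NormalIn.normal ⟨le_top, ((IsPreprimitive.isCoatom_stabilizer_of_isPreprimitive G α).2 _
    (lt_of_le_of_ne (norms_inf (nm_top N _) le_normalizer) fun e => h.ne (x1.symm.trans (e.ge m)))).ge⟩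
  obtain ⟨y, hy, e⟩ := ntr _ n α β
  exact h.ne (e.symm.trans hy.2)

theorem tr (n : N ⊓ stabilizer G α ≠ ⊥) (hg : g ∈ stabilizer G α) : ∃ x ∈ N ⊓ stabilizer G α, x • β = g • β := by
  by_cases e : g • β = β
  · exact ⟨1, one_mem _, by rw [one_smul, e]⟩
  obtain ⟨x, hx, x1⟩ := h.mv' n
  obtain ⟨a, ha, -, a2⟩ := h.two.one hx.2 hg x1 e
  exact ⟨_, conj_mem_of_norm (norms_inf (nm_top N _) le_normalizer ha) hx, a2⟩

theorem zn (k : ¬ Ab N) : N ⊓ C(N) = ⊥ :=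
  (h.mn _ inferInstance inf_le_left).resolve_right fun e => k (comm_iff_le_cent.2 (e.ge.trans inf_le_right))

theorem no_split (k : ¬ Ab N) (n : N ⊓ stabilizer G α ≠ ⊥) (S : Sp Ω N A B) (nA : A ≠ ⊥) (nB : B ≠ ⊥) : False := by
  have z := h.zn k
  have nX : stabilizer G α ≤ N(N ⊓ stabilizer G α) := norms_inf (nm_top N _) le_normalizer
  let T : Set G := {y | y ∈ N ⊓ stabilizer G α ∧ ∃ g ∈ stabilizer G α, (y * g) • β ≠ g • β}
  have T0 : ∀ x ∈ N ⊓ stabilizer G α, x • β ≠ β → x ∈ T := fun x hx e => ⟨hx, 1, one_mem _, by simpa using e⟩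
  obtain ⟨y, ⟨y1, g, hg, y2⟩, hm⟩ := Set.exists_max_image T (fun y => #(N ⊓ C[y])) (Set.toFinite _)
    (let ⟨x, hx, e⟩ := h.mv' n; ⟨x, T0 x hx e⟩)
  have P : ∀ {A B}, Sp Ω N A B → ∀ c : G, ∀ a ∈ A, ∀ b ∈ B, c * y * c⁻¹ = a * b → a ∈ T → B ≤ C[a * b] :=
    fun S c a ha b hb e t => ((le_inf S.r (le_cent1_iff.2 (S.c ha))).trans (eq_of_le_of_card_ge (S.cle z ha hb) (by
      rw [← e, ← cj_cent1, ← cj_of_mem_norm (nm_top N ⊤ (mem_top c)), ← cj_inf, card_cj, cj_of_mem_norm (nm_top N ⊤ (mem_top c))]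
      exact hm a t)).ge).trans inf_le_right
  have Q : ∀ {A B}, Sp Ω N A B → A ≠ ⊥ → ∃ x ∈ A ⊓ stabilizer G α, x • β ≠ β := fun {A B} S nA => by
    by_contra f
    push Not at f
    have e := (h.mn (N ⊓ C[y].normalCore) inferInstance inf_le_left).resolve_left (ne_bot_mono (le_inf S.l fun x hx c => by
      obtain ⟨m, hm, e⟩ := ntr N h.nb α (c⁻¹ • α)
      have c1 : c * m ∈ stabilizer G α := by rw [mem_stabilizer_iff, mul_smul, e, smul_inv_smul]
      have c2 := conj_mem_of_norm (nX (inv_mem c1)) y1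
      obtain ⟨a, ha, b, hb, e⟩ := S.dec c2.1
      have a1 : a • α = α := S.s α a ha b hb (e ▸ c2.2)
      have c3 := mul_mem (inv_mem c1) hg
      obtain ⟨u, hu, u1⟩ := h.tr n c3
      have a2 : a • u • β = u • β := by
        have := f _ ⟨conj_mem_of_norm' (S.nl hu.1) ha, conj_mem_of_norm' (le_normalizer hu.2) a1⟩
        rwa [mul_smul, mul_smul, inv_smul_eq_iff] at this
      have := P S.symm _ b hb a ha (e.trans (S.cm ha hb)) ⟨⟨S.r hb, S.symm.s α b hb a ha (S.cm ha hb ▸ e ▸ c2.2)⟩, _, c3,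
        fun k => y2 (by
          rw [u1] at a2
          rw [show y * g = c * m * (a * (b * ((c * m)⁻¹ * g))) by rw [← mul_assoc a, ← e]; group, mul_smul, mul_smul a, k, a2,
            ← mul_smul, mul_inv_cancel_left])⟩ (conj_mem_of_norm' (S.nl hm) hx)
      rw [← S.cm ha hb, ← e, ← cj_cent1, mem_cj] at this
      simpa [mul_assoc] using this) nA)
    exact y2 (by rw [show y = 1 from z.le ⟨y1.1, le_cent1_iff.1 (e.ge.trans (inf_le_right.trans (normalCore_le _)))⟩, one_mul])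
  obtain ⟨x, hx, x1⟩ := Q S nA
  obtain ⟨x', hx', x2⟩ := Q S.symm nB
  obtain ⟨c, hc, c1, c2⟩ := h.two g hg _ (mul_mem y1.2 hg) 1 (one_mem _) _ (mul_mem hx.2 hx'.2) y2.symm
    fun e => x1 (S.s β x hx.1 x' hx'.1 (by rw [← e, one_smul]))
  have c3 := conj_mem_of_norm (nX hc) y1
  obtain ⟨a, ha, b, hb, e⟩ := S.dec c3.1
  have e1 : (x⁻¹ * a * (x'⁻¹ * b)) • β = β := by
    rw [mul_assoc, ← mul_assoc a, S.cm ha (inv_mem hx'.1), mul_assoc, ← e, ← mul_assoc, ← mul_inv_rev, ← S.cm hx.1 hx'.1]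
    refine st_of (c2.symm.trans ?_)
    rw [one_smul] at c1
    nth_rw 2 [← c1]
    simp only [mul_smul, inv_smul_smul]
  have m1 := A.mul_mem (A.inv_mem hx.1) ha
  have m2 := B.mul_mem (B.inv_mem hx'.1) hb
  have a1 := S.s β _ m1 _ m2 e1
  have b1 := S.symm.s β _ m2 _ m1 (S.cm m1 m2 ▸ e1)
  rw [mul_smul, inv_smul_eq_iff] at a1 b1
  have := P S c a ha b hb e (T0 a ⟨S.l ha, S.s α a ha b hb (e ▸ c3.2)⟩ (a1 ▸ x1))
  have := S.one z hb (by simpa using mul_mem (inv_mem (S.c ha)) (le_cent1_iff.1 this))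
  exact x2 (by rw [← b1, this, one_smul])

end On

end H22.FS
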