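import Cfsg.Agent.H22.FS10

/-! Primitive groups with a doubly transitive suborbit: the O'Nan-Scott cases. -/

set_option autoImplicit false
set_option linter.unusedSectionVars false

namespace H22.FS
open Cfsg Subgroup H19 MulAction

universe u
variable {G : Type u} {Ω : Type*} [Group G] [Finite G] [MulAction G Ω] {α β : Ω} {N : Subgroup G}
  [FaithfulSMul G Ω] [Finite Ω] [IsPreprimitive G Ω] {T ι : Type} [Group T]

/-- the elements supported in `S` -/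
def pt (e : N ≃* (ι → T)) (S : ι → Prop) : Subgroup G :=
  ((Subgroup.pi {j | ¬ S j} fun _ => ⊥).comap e.toMonoidHom).map N.subtype

theorem mem_pt {e : N ≃* (ι → T)} {S : ι → Prop} {x : G} : x ∈ pt e S ↔ ∃ n : N, (∀ j, ¬ S j → e n j = 1) ∧ n = x := Iff.rfl

theorem pt_ne [Nontrivial T] (e : N ≃* (ι → T)) {S : ι → Prop} {i : ι} (h : S i) : pt e S ≠ ⊥ := by
  classical
  obtain ⟨t, ht⟩ := exists_ne (1 : T)
  refine ne_bot_of_mem (mem_pt.2 ⟨e.symm (Pi.mulSingle i t), fun j hj => ?_, rfl⟩) fun k => ht ?_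
  · rw [e.apply_symm_apply, Pi.mulSingle_eq_of_ne (by rintro rfl; exact hj h)]
  · simpa using congrFun (e.symm.map_eq_one_iff.1 (Subtype.ext k)) i

namespace On
variable [hN : N.Normal] (h : On α β N)
include h

theorem sp (e : N ≃* (ι → T)) (S : ι → Prop) (hs : ∀ a b : N, (∀ j, ¬ S j → e a j = 1) → (∀ j, S j → e b j = 1) →
    ((a * b : N) : G) • α = α → (a : G) • α = α) : Sp Ω N (pt e S) (pt e fun j => ¬ S j) := by
  classical
  refine ⟨map_subtype_le _, map_subtype_le _, ?_, fun n hn => ?_, ?_⟩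
  · rintro _ ⟨a, ha, rfl⟩ _ ⟨b, hb, rfl⟩
    refine congrArg Subtype.val (e.injective (funext fun j => ?_) : b * a = a * b)
    by_cases k : S j
    · simp [show e b j = 1 from hb j (not_not.2 k)]
    · simp [show e a j = 1 from ha j k]
  · have := mul_mem (mem_sup_left (mem_pt.2 ⟨e.symm fun j => if S j then e ⟨n, hn⟩ j else 1, fun j k => by simp [k], rfl⟩))
      (mem_sup_right (mem_pt.2 ⟨e.symm fun j => if S j then 1 else e ⟨n, hn⟩ j, fun j k => by simp [not_not.1 k], rfl⟩) :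
        _ ∈ pt e S ⊔ pt e fun j => ¬ S j)
    rwa [← coe_mul, ← map_mul, show ((fun j => if S j then e ⟨n, hn⟩ j else 1) * fun j => if S j then 1 else e ⟨n, hn⟩ j)
      = e ⟨n, hn⟩ from funext fun j => by by_cases k : S j <;> simp [k], e.symm_apply_apply] at this
  · rintro ω _ ⟨a, ha, rfl⟩ _ ⟨b, hb, rfl⟩ k
    obtain ⟨n, hn, rfl⟩ := ntr N h.nb α ω
    have := hs ((⟨n, hn⟩ : N)⁻¹ * a * ⟨n, hn⟩) ((⟨n, hn⟩ : N)⁻¹ * b * ⟨n, hn⟩)
      (fun j k => by simp [show e a j = 1 from ha j k]) (fun j k => by simp [show e b j = 1 from hb j (not_not.2 k)])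
      (by simpa [mul_smul, inv_smul_eq_iff] using k)
    simpa [mul_smul, inv_smul_eq_iff] using this

theorem ons (u : ∀ M : Subgroup G, M.Normal → M ≠ ⊥ → N ≤ M) (k : ¬ Ab N) :
    ∃ (T : Type) (_ : Group T) (m : ℕ) (e : N ≃* (Fin m → T)), IsSimpleGroup T ∧ ¬ IsMulCommutative T ∧ 0 < m ∧
      ((∃ K : Fin m → Subgroup T, ∀ n : N, (n : G) • α = α ↔ ∀ i, e n i ∈ K i) ∨
      ∃ c : Fin m → Fin m, ∀ n : N, (n : G) • α = α ↔ ∀ i j, c i = c j → e n i = e n j) := by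
  let ψ := MonoidHom.ofInjective (f := toPermHom G Ω) toPerm_injective
  have : IsPreprimitive (toPermHom G Ω).range Ω := IsPreprimitive.of_surjective
    (f := (⟨id, fun _ _ => rfl⟩ : Ω →ₑ[ψ] Ω)) Function.surjective_id
  have := hN.map ψ.toMonoidHom ψ.surjective
  have nb : N.map ψ.toMonoidHom ≠ ⊥ := fun e => h.nb ((map_eq_bot_iff_of_injective _ ψ.injective).1 e)
  have u' : ∀ L : Subgroup (toPermHom G Ω).range, L.Normal → L ≠ ⊥ → N.map ψ.toMonoidHom ≤ L := fun L _ n =>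
    map_le_iff_le_comap.2 (u _ inferInstance fun e => n (by
      rw [← map_comap_eq_self_of_surjective ψ.surjective (f := ψ.toMonoidHom) L, e, Subgroup.map_bot]))
  let φ : N ≃* N.map ψ.toMonoidHom := equivMapOfInjective _ _ ψ.injective
  obtain ⟨T, _, m, e, h1, h2, h3, h4⟩ := Agent.S0723.result (toPermHom G Ω).range (N.map ψ.toMonoidHom) nb
    (fun M _ l => or_iff_not_imp_left.2 fun n => l.antisymm (u' M inferInstance n))
    (fun L _ n l => ((l _ this (u' L inferInstance n)).resolve_left nb).symm)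
    (fun c => k ⟨⟨fun x y => φ.injective (by rw [map_mul, map_mul, c.is_comm.comm])⟩⟩) α
  exact ⟨T, _, m, φ.trans e, h1, h2, h3, h4.imp (fun ⟨K, _, k⟩ => ⟨K, fun n => k (φ n)⟩)
    fun ⟨_, c, _, _, k⟩ => ⟨c, fun n => k (φ n)⟩⟩

theorem diag (hS : FSet.{u}) [IsSimpleGroup T] (na : ¬ IsMulCommutative T) [Nonempty ι] (e : N ≃* (ι → T))
    (k : ∀ n : N, (n : G) • α = α ↔ ∀ i j, e n i = e n j)
    (h2 : IsMultiplyPretransitive (stabilizer G α) (orbit (stabilizer G α) β) 2) : False := by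
  let δ : T →* N := e.symm.toMonoidHom.comp (Pi.constMonoidHom ι T)
  have d0 : ∀ t i, e (δ t) i = t := fun t i => by simp [δ]
  let f : T →* stabilizer G α := (N.subtype.comp δ).codRestrict _ fun t => (k _).2 fun i j => by rw [d0, d0]
  obtain ⟨i₀⟩ := ‹Nonempty ι›
  have fi : Function.Injective f := fun s t c => by
    rw [← d0 s i₀, show δ s = δ t from Subtype.ext (congrArg Subtype.val c :), d0]
  have r : N.subgroupOf (stabilizer G α) = f.range := le_antisymm (fun x hx => ⟨e ⟨x, hx⟩ i₀, Subtype.ext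
    (congrArg Subtype.val (e.injective (funext fun j => (d0 _ j).trans ((k ⟨x, hx⟩).1 x.2 _ _)) : δ _ = ⟨x, hx⟩) :)⟩)
    (by rintro _ ⟨t, rfl⟩; exact (δ t).2)
  obtain ⟨n, hn, n1⟩ := ntr N h.nb α β
  obtain ⟨i, j, c⟩ : ∃ i j, e ⟨n, hn⟩ i ≠ e ⟨n, hn⟩ j := by
    by_contra c
    push Not at c
    exact h.ne (n1.symm.trans ((k _).2 c))
  obtain ⟨t, ht⟩ := exists_ne (1 : T)
  obtain ⟨x, hx, x1⟩ := h.mv' (ne_bot_of_mem (x := f t) ⟨(δ t).2, (f t).2⟩ fun c => ht (fi (by rw [map_one]; exact Subtype.ext c)))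
  refine simple_case (fun a b c d => is_two_pretransitive_iff.1 h2) (β := (⟨β, mem_orbit_self β⟩ : orbit (stabilizer G α) β))
    (D := N.subgroupOf (stabilizer G α)) hS (fun L hL => ?_) (fun c => na ⟨⟨fun s t => fi ?_⟩⟩) (d := ⟨x, hx.2⟩) hx.1
    (fun c => x1 (congrArg Subtype.val c :)) (s := f (e ⟨n, hn⟩ i * (e ⟨n, hn⟩ j)⁻¹)) (δ _).2
    (fun k => c (mul_inv_eq_one.1 (fi (k.trans (map_one f).symm)))) fun y hy => ?_
  · rw [r] at hL ⊢
    rw [← map_comap_eq_self hL.le]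
    refine (IsSimpleGroup.eq_bot_or_eq_top_of_normal (L.comap f) ⟨fun s hs t => ?_⟩).imp (fun e => by rw [e, Subgroup.map_bot])
      fun e => by rw [e, MonoidHom.range_eq_map]
    simpa using hL.conj_mem ⟨t, rfl⟩ hs
  · rw [map_mul, map_mul]; exact mul_comm_of_comm c (δ s).2 (δ t).2
  · obtain ⟨t, rfl⟩ := r.le hy.1
    have := (k ((⟨n, hn⟩ : N)⁻¹ * δ t * ⟨n, hn⟩)).1 (by
      have : (δ t : G) • β = β := congrArg Subtype.val hy.2
      simp only [coe_mul, coe_inv, mul_smul, n1, this, inv_smul_eq_iff]) i j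
    simp only [map_mul, map_inv, Pi.mul_apply, Pi.inv_apply, d0] at this
    rw [mem_cent1, ← map_mul, ← map_mul]
    congr 1
    calc _ = e ⟨n, hn⟩ i * ((e ⟨n, hn⟩ i)⁻¹ * t * e ⟨n, hn⟩ i) * (e ⟨n, hn⟩ j)⁻¹ := by group
      _ = _ := by rw [this]; group

end On

theorem main (hS : FSet.{u}) (hβ : β ≠ α) (h2 : 2 ≤ Nat.card (orbit (stabilizer G α) β))
    (h2t : IsMultiplyPretransitive (stabilizer G α) (orbit (stabilizer G α) β) 2) :
    (∃ T : Subgroup G, T.Normal ∧ IsSimpleGroup T ∧ ¬ IsMulCommutative T ∧ centralizer (T : Set G) = ⊥) ∨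
    (∃ N : Subgroup G, N.Normal ∧ N ≠ ⊥ ∧ (∀ M : Subgroup G, M.Normal → M ≠ ⊥ → N ≤ M) ∧
      IsPretransitive N Ω ∧ ∀ ω : Ω, stabilizer N ω = ⊥) := by
  have := Finite.one_lt_card_iff_nontrivial.1 h2
  obtain ⟨⟨_, g, rfl⟩, hg⟩ := exists_ne (⟨β, mem_orbit_self β⟩ : orbit (stabilizer G α) β)
  have mv : (g : G) • β ≠ β := fun k => hg (Subtype.ext k)
  obtain ⟨N, ⟨hN, nb⟩, hm⟩ := exists_minimal_of_wellFoundedLT (fun N : Subgroup G => N.Normal ∧ N ≠ ⊥)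
    ⟨⊤, inferInstance, ne_bot_of_mem (mem_top (g : G)) fun k => mv (by rw [k, one_smul])⟩
  have h : On α β N := ⟨hβ, ⟨g, g.2, mv⟩, fun g₁ k₁ g₂ k₂ g₃ k₃ g₄ k₄ n n' => by
    obtain ⟨a, a1, a2⟩ := @is_two_pretransitive_iff.1 h2t ⟨_, ⟨g₁, k₁⟩, rfl⟩ ⟨_, ⟨g₂, k₂⟩, rfl⟩
      ⟨_, ⟨g₃, k₃⟩, rfl⟩ ⟨_, ⟨g₄, k₄⟩, rfl⟩ (fun k => n (congrArg Subtype.val k)) fun k => n' (congrArg Subtype.val k)
    exact ⟨a, a.2, (mul_smul _ _ _).trans (congrArg Subtype.val a1), (mul_smul _ _ _).trans (congrArg Subtype.val a2)⟩,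
    nb, fun M k l => or_iff_not_imp_left.2 fun n => l.antisymm (hm ⟨k, n⟩ l)⟩
  have u : ∀ M : Subgroup G, M.Normal → M ≠ ⊥ → N ≤ M := fun M _ => h.uniq hS M
  by_cases n : N ⊓ stabilizer G α = ⊥
  · refine .inr ⟨N, hN, nb, u, H17.normal_trans N nb, fun ω => (H17.stabilizer_sub_eq_bot_iff N ω).2 fun x hx e => ?_⟩
    obtain ⟨y, hy, rfl⟩ := ntr N nb α ω
    have : y⁻¹ * x * y = 1 := n.le ⟨conj_mem_of_norm' (le_normalizer hy) hx,
      (by rw [mul_smul, mul_smul, e, inv_smul_smul] : _ • α = α)⟩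
    simpa [mul_assoc, inv_mul_eq_one] using this
  have k : ¬ Ab N := fun k => n (eq_bot_iff.2 fun x hx => h.ab_reg k hx.1 hx.2)
  refine .inl ⟨N, hN, by_contra fun ns => ?_, k, by_contra fun c => k (comm_iff_le_cent.2 (u _ inferInstance c))⟩
  obtain ⟨T, _, m, e, h1, h3, h4, h5⟩ := h.ons u k
  obtain rfl | hm := (show 1 ≤ m from h4).eq_or_lt
  · exact ns (e.trans (MulEquiv.piUnique _)).isSimpleGroup
  rcases h5 with ⟨K, h5⟩ | ⟨c, h5⟩
  · refine h.no_split k n (h.sp e (· = ⟨0, h4⟩) fun a b ha hb q => (h5 a).2 fun i => ?_) (pt_ne e rfl)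
      (pt_ne e (i := ⟨1, hm⟩) (by simp))
    by_cases r : i = ⟨0, h4⟩
    · simpa [hb i r] using (h5 _).1 q i
    · exact ha i r ▸ one_mem _
  by_cases q : ∀ i j, c i = c j
  · have : Nonempty (Fin m) := ⟨⟨0, h4⟩⟩
    exact h.diag hS h3 e (fun n => (h5 n).trans ⟨fun r i j => r i j (q i j), fun r i j _ => r i j⟩) h2t
  push Not at q
  obtain ⟨i₀, j₀, q⟩ := q
  refine h.no_split k n (h.sp e (c · = c i₀) fun a b ha hb q => (h5 a).2 fun i j r => ?_) (pt_ne e rfl) (pt_ne e q.symm)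
  by_cases r' : c i = c i₀
  · simpa [hb i r', hb j (r ▸ r')] using (h5 _).1 q i j r
  · rw [ha i r', ha j (r ▸ r')]

end H22.FS
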