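import Cfsg.Agent.H22.FS6
import Cfsg.Agent.H7.ZStar
import Cfsg.Agent.S0205
import Cfsg.Agent.S0042
import Cfsg.Agent.S0035

/-! Doubly transitive classes of elementary abelian subgroups: reductions. -/

set_option autoImplicit false
set_option linter.unusedSectionVars false

namespace H22.FS
open Cfsg Subgroup H19
open scoped commutatorElement

universe u
variable {G : Type u} [Group G] [Finite G] {p r : ℕ} {𝓔 : Set (Subgroup G)}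
  {a b c d g s t u v w x y z : G} {A B E F E' F' H K L P U X Y : Subgroup G}

local notation "cj" => H19.cj

theorem sol_odd (h : PiG {2}ᶜ H) : Sol H :=
  Agent.S0205.result (Nat.not_even_iff_odd.1 fun k => h.not_dvd Nat.prime_two rfl k.two_dvd)

theorem frob (hz : center G ≤ H) (h1 : ¬ H ≤ center G) (h2 : H ≠ ⊤)
    (h3 : ∀ g ∉ H, ∀ x ∈ H, g⁻¹ * x * g ∈ H → x ∈ center G) : ∃ L : Subgroup G, L.Normal ∧ Sol L ∧ ¬ L ≤ center G := by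
  let f := QuotientGroup.mk' (center G)
  have hf : Function.Surjective f := QuotientGroup.mk'_surjective _
  have hk : f.ker = center G := QuotientGroup.ker_mk' _
  have m : ∀ x, f x ∈ H.map f ↔ x ∈ H := fun x => by
    rw [← mem_comap, comap_map_eq_self (hk.le.trans hz)]
  have nt : H.map f ≠ ⊤ := fun e => h2 (eq_top_iff.2 fun x _ => (m x).1 (e ▸ mem_top _))
  have F : IsFrobeniusComplement (H.map f) := ⟨fun e => h1 (hk ▸ (Subgroup.map_eq_bot_iff _).1 e), nt, fun g hg => by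
    obtain ⟨g, rfl⟩ := hf g
    refine eq_bot_iff.2 fun x hx => ?_
    obtain ⟨x, rfl⟩ := hf x
    rw [← cj_eq_smul] at hx
    have := mem_cj.1 hx.2
    rw [← map_inv, ← map_mul, ← map_mul, m] at this
    exact (QuotientGroup.eq_one_iff _).2 (h3 g (fun k => hg ((m g).2 k)) x ((m x).1 hx.1) this)⟩
  obtain ⟨N, n1, n2, n3⟩ := Agent.S0042.result _ F
  obtain ⟨N', n4, -, n5⟩ := Agent.S0035.result _ F
  obtain rfl : N = N' := SetLike.coe_injective (n1.trans n4.symm)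
  have e : (N.comap f).map f = N := map_comap_eq_self_of_surjective hf N
  refine ⟨N.comap f, n2.comap f, sol_of_nil (nil_of_map (by rwa [e])), fun l => nt ?_⟩
  rw [← e, (Subgroup.map_eq_bot_iff _).2 (l.trans hk.ge)] at n5
  simpa using n5.sup_eq_top

/-- a doubly transitive class of elementary abelian subgroups -/
structure Qs (p : ℕ) (𝓔 : Set (Subgroup G)) : Prop where
  pp : p.Prime
  ab : ∀ E ∈ 𝓔, Abelem p E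
  inv : ∀ g ∈ sSup 𝓔, ∀ E ∈ 𝓔, cj g E ∈ 𝓔
  two : ∀ E ∈ 𝓔, ∀ F ∈ 𝓔, ∀ E' ∈ 𝓔, ∀ F' ∈ 𝓔, E ≠ F → E' ≠ F' →
    ∃ a, (∀ X ∈ 𝓔, cj a X ∈ 𝓔) ∧ cj a E = E' ∧ cj a F = F'
  nc : ∀ E ∈ 𝓔, sSup 𝓔 ⊓ N(E) ≤ C(E)
  sr : ∀ E ∈ 𝓔, ∀ z ∈ E, z ≠ 1 → sSup 𝓔 ⊓ C[z] ≤ C(E)

/-- a transitive normal `r`-subgroup -/
structure Tr (r : ℕ) (𝓔 : Set (Subgroup G)) (H : Subgroup G) : Prop where
  pg : PG r H
  le : H ≤ sSup 𝓔
  nm : sSup 𝓔 ≤ N(H)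
  tr : ∀ E ∈ 𝓔, ∀ F ∈ 𝓔, ∃ u ∈ H, cj u E = F

theorem nm_sSup (h : ∀ X ∈ 𝓔, cj a X ∈ 𝓔) : a ∈ N(sSup 𝓔) :=
  mem_norm_of_cj_le (cj_le_iff.2 (sSup_le fun X hX => cj_le_iff.1 (le_sSup (h X hX))))

theorem Tr.le_sup (h : Tr r 𝓔 H) (hE : E ∈ 𝓔) : sSup 𝓔 ≤ H ⊔ E := sSup_le fun F hF => by
  obtain ⟨u, hu, rfl⟩ := h.tr E hE F hF
  exact cj_le_of_mem (mem_sup_left hu) le_sup_right

/-- the noncommuting case -/
structure Qn (p : ℕ) (𝓔 : Set (Subgroup G)) : Prop extends Qs p 𝓔 where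
  ex : ∃ E ∈ 𝓔, ∃ F ∈ 𝓔, E ≠ F
  no : ∀ E ∈ 𝓔, ∀ F ∈ 𝓔, E ≠ F → ¬ E ≤ C(F)

theorem Qs.qn (h : Qs p 𝓔) (n : ¬ Ab (sSup 𝓔)) : Qn p 𝓔 := by
  obtain ⟨E, hE, F, hF, k⟩ : ∃ E ∈ 𝓔, ∃ F ∈ 𝓔, ¬ E ≤ C(F) := by
    by_contra k
    push Not at k
    exact n (comm_iff_le_cent.2 (sSup_le fun E hE => cents_symm (sSup_le fun F hF => k F hF E hE)))
  have ne : E ≠ F := fun e => k (e ▸ comm_iff_le_cent.1 (h.ab E hE).1)
  refine ⟨h, ⟨E, hE, F, hF, ne⟩, fun X hX Y hY n l => k ?_⟩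
  obtain ⟨a, -, rfl, rfl⟩ := h.two X hX Y hY E hE F hF n ne
  rw [← cj_cent]; exact cj_mono a l

namespace Qn
variable (h : Qn p 𝓔)
include h

theorem pg (hE : E ∈ 𝓔) : PG p E := abelem_pg h.pp (h.ab E hE)
theorem oth (hE : E ∈ 𝓔) : ∃ F ∈ 𝓔, E ≠ F := by
  obtain ⟨X, hX, Y, hY, n⟩ := h.ex
  by_cases e : E = X
  exacts [⟨Y, hY, e ▸ n⟩, ⟨X, hX, e⟩]
theorem nn (hE : E ∈ 𝓔) (hF : F ∈ 𝓔) (n : E ≠ F) : ¬ E ≤ N(F) := fun l =>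
  h.no E hE F hF n ((le_inf (le_sSup hE) l).trans (h.nc F hF))
theorem nz (hE : E ∈ 𝓔) (hz : z ∈ E) (z1 : z ≠ 1) : z ∉ C(sSup 𝓔) := fun k => by
  obtain ⟨F, hF, n⟩ := h.oth hE
  exact h.no F hF E hE n.symm ((le_inf (le_sSup hF) (le_cent1_iff.2 (cent_mono (le_sSup hF) k))).trans (h.sr E hE z hz z1))
theorem exz (hE : E ∈ 𝓔) : ∃ z ∈ E, z ≠ 1 := by
  obtain ⟨F, hF, n⟩ := h.oth hE
  exact exists_ne_one fun e => h.no E hE F hF n (e ▸ bot_le)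

/-- elements of distinct members do not commute -/
theorem cm (hE : E ∈ 𝓔) (hF : F ∈ 𝓔) (hx : x ∈ E) (hy : y ∈ F) (x1 : x ≠ 1) (y1 : y ≠ 1) (c : x * y = y * x) :
    E = F := by_contra fun n => h.no E hE F hF n ((le_inf (le_sSup hE) (le_cent1_iff.2
      (h.sr E hE x hx x1 ⟨le_sSup hF hy, mem_cent1.2 c.symm⟩))).trans (h.sr F hF y hy y1))

theorem up (hL : L ⊴ sSup 𝓔) (s : Sol L) (n : ¬ L ≤ C(sSup 𝓔)) : ∃ r ≠ p, ∃ H, Tr r 𝓔 H := by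
  obtain ⟨r, k⟩ : ∃ r, ¬ Oc {r} (sSup 𝓔) ≤ C(sSup 𝓔) := by
    by_contra k
    push Not at k
    have := (Fit_le_Fit hL).trans (Fit_le_of_Oc fun r _ => k r)
    exact n ((le_inf le_rfl (cents_symm (this.trans (cent_mono hL.le)))).trans ((cent_Fit_le s).trans this))
  obtain ⟨E, hE, k⟩ : ∃ E ∈ 𝓔, ¬ Oc {r} (sSup 𝓔) ≤ N(E) := by
    by_contra l
    push Not at l
    exact k (cents_symm (sSup_le fun E hE => cents_symm ((le_inf (Oc_le _ _) (l E hE)).trans (h.nc E hE))))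
  obtain ⟨u, hu, k⟩ := SetLike.not_le_iff_exists.1 k
  have T : Tr r 𝓔 (Oc {r} (sSup 𝓔)) := ⟨Oc_pi _ _, Oc_le _ _, Oc_norm _ _, fun X hX Y hY => by
    by_cases e : X = Y
    · exact ⟨1, one_mem _, by rw [cj_one, e]⟩
    obtain ⟨a, a1, rfl, rfl⟩ := h.two E hE _ (h.inv u (Oc_le _ _ hu) E hE) X hX Y hY
      (fun e => k (mem_norm_iff_cj.2 e.symm)) e
    exact ⟨_, conj_mem_of_norm (norm_le_norm_Oc _ _ (nm_sSup a1)) hu, by rw [cj_cj, cj_cj, inv_mul_cancel_right]⟩⟩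
  refine ⟨r, ?_, _, T⟩
  rintro rfl
  have P : PG r (sSup 𝓔) := (T.pg.sup (h.pg hE) ((le_sSup hE).trans T.nm)).of_le (T.le_sup hE)
  obtain ⟨g, g1, g2⟩ := SetLike.exists_of_lt (P.lt_norm (H := sSup 𝓔 ⊓ N(E))
    (inf_le_left.lt_of_ne fun e => k (e.ge (Oc_le _ _ hu)).2))
  refine h.nn hE (h.inv g g1.1 E hE) (fun e => g2 ⟨g1.1, mem_norm_iff_cj.2 e.symm⟩) ?_
  rw [← cj_norm]
  exact (le_inf (le_sSup hE) le_normalizer).trans ((cj_of_mem_norm g1.2).ge.trans (cj_mono g inf_le_right))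

theorem up' (k : ∃ L : Subgroup ↥(sSup 𝓔), L.Normal ∧ Sol L ∧ ¬ L ≤ center _) : ∃ r ≠ p, ∃ H, Tr r 𝓔 H := by
  obtain ⟨L, _, s, n⟩ := k
  refine h.up (normalIn_map_subtype L)
    (Group.isSolvable_of_surjective (f := (equivMapOfInjective L _ (subtype_injective _)).toMonoidHom) (MulEquiv.surjective _)) fun l => n fun x hx => ?_
  exact mem_center_iff.2 fun y => Subtype.ext (mem_cent.1 (l ⟨x, hx, rfl⟩) _ y.2)

theorem two_case (e : p = 2) : ∃ r ≠ p, ∃ H, Tr r 𝓔 H := by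
  obtain ⟨E, hE, -⟩ := h.ex
  obtain ⟨z, hz, z1⟩ := h.exz hE
  have z2 : z * z = 1 := by rw [← sq, ← e, (h.ab E hE).2 z hz]
  have I : IsIsolatedInvolution (⟨z, le_sSup hE hz⟩ : ↥(sSup 𝓔)) :=
    ⟨orderOf_eq_prime (Subtype.ext (by rwa [sq])) fun k => z1 (congrArg Subtype.val k), fun g c => Subtype.ext (cj_eq
      (mem_cent.1 (h.nc E hE ⟨g.2, mem_norm_iff_cj.2 (h.cm hE (h.inv g g.2 E hE) hz (conj_mem_cj.2 hz) z1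
        (fun k => z1 (by simpa [mul_inv_eq_iff_eq_mul] using k)) (congrArg Subtype.val c)).symm⟩) z hz).symm)⟩
  refine h.up (Oc_normal {2}ᶜ _) (sol_odd (Oc_pi _ _)) fun l => h.nz hE hz z1 (mem_cent.2 fun g hg => ?_)
  have k : z * g * z⁻¹ * g⁻¹ ∈ Oc {2}ᶜ (sSup 𝓔) :=
    pPrimeCore_map_eq Nat.prime_two (sSup 𝓔) ▸ ⟨_, H7.zstar I ⟨g, hg⟩, rfl⟩
  have := PiN.e_eq_one (pe2 (a := z * g * z⁻¹ * g⁻¹) (by
    calc _ = (z * g * z⁻¹ * g⁻¹ * z) * (g * z⁻¹ * g⁻¹) := by group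
      _ = 1 := by rw [← mem_cent.1 (l k) z (le_sSup hE hz), inv2 z2]; simp [mul_assoc, ← mul_assoc z z, z2])) ((Oc_pi _ _).elt k)
  rw [mul_inv_eq_one, mul_inv_eq_iff_eq_mul] at this
  exact this.symm

theorem line (hE : E ∈ 𝓔) (hF : F ∈ 𝓔) (hX : X ∈ 𝓔) (hY : Y ∈ 𝓔) (n : E ≠ F) (n' : X ≠ Y) : #(X ⊔ Y) = #(E ⊔ F) := by
  obtain ⟨a, -, rfl, rfl⟩ := h.two E hE F hF X hX Y hY n n'
  rw [← cj_sup, card_cj]

theorem line' (hE : E ∈ 𝓔) (hF : F ∈ 𝓔) (hX : X ∈ 𝓔) (hY : Y ∈ 𝓔) (n : E ≠ F) (n' : X ≠ Y) (l : X ≤ E ⊔ F)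
    (l' : Y ≤ E ⊔ F) : X ⊔ Y = E ⊔ F := eq_of_le_of_card_eq (sup_le l l') (h.line hE hF hX hY n n')

theorem frob_case (hE : E ∈ 𝓔) (hF : F ∈ 𝓔) (n : E ≠ F) (e : sSup 𝓔 ≤ E ⊔ F) : ∃ r ≠ p, ∃ H, Tr r 𝓔 H := by
  have c : ∀ x : ↥(sSup 𝓔), x ∈ center _ ↔ (x : G) ∈ C(sSup 𝓔) := fun x =>
    ⟨fun k => mem_cent.2 fun y hy => congrArg Subtype.val (mem_center_iff.1 k ⟨y, hy⟩),
      fun k => mem_center_iff.2 fun y => Subtype.ext (mem_cent.1 k _ y.2)⟩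
  obtain ⟨z, hz, z1⟩ := h.exz hE
  refine h.up' (frob (H := N(E).subgroupOf _) (fun x hx => cent_le_norm _ (cent_mono (le_sSup hE) ((c x).1 hx)))
    (fun l => h.nz hE hz z1 ((c ⟨z, le_sSup hE hz⟩).1 (l (le_normalizer hz))))
    (fun k => h.nn hF hE n.symm ((le_sSup hF).trans (subgroupOf_eq_top.1 k))) fun g hg x hx k => (c x).2 ?_)
  have E2 := h.inv g g.2 E hE
  rw [← h.line' hE hF hE E2 n (fun e => hg (mem_norm_iff_cj.2 e.symm)) le_sup_left ((le_sSup E2).trans e)] at e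
  refine cent_mono e ?_
  rw [cent_sup]
  exact ⟨h.nc E hE ⟨x.2, hx⟩, h.nc _ E2 ⟨x.2, by rw [← cj_norm]; exact mem_cj.2 k⟩⟩

/-- the subclass on a line -/
theorem sub (hE : E ∈ 𝓔) (hF : F ∈ 𝓔) (n : E ≠ F) :
    Qn p {X ∈ 𝓔 | X ≤ E ⊔ F} ∧ sSup {X ∈ 𝓔 | X ≤ E ⊔ F} = E ⊔ F := by
  have e : sSup {X ∈ 𝓔 | X ≤ E ⊔ F} = E ⊔ F := le_antisymm (sSup_le fun _ k => k.2)
    (sup_le (le_sSup ⟨hE, le_sup_left⟩) (le_sSup ⟨hF, le_sup_right⟩))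
  have l : sSup {X ∈ 𝓔 | X ≤ E ⊔ F} ≤ sSup 𝓔 := sSup_le_sSup fun _ k => k.1
  refine ⟨⟨⟨h.pp, fun X k => h.ab X k.1, fun g hg X k => ⟨h.inv g (l hg) X k.1, cj_le_of_mem (e ▸ hg) k.2⟩,
    fun X hX Y hY X' hX' Y' hY' n1 n2 => ?_, fun X k => (inf_le_inf_right _ l).trans (h.nc X k.1),
    fun X k z hz z1 => (inf_le_inf_right _ l).trans (h.sr X k.1 z hz z1)⟩,
    ⟨E, ⟨hE, le_sup_left⟩, F, ⟨hF, le_sup_right⟩, n⟩, fun X hX Y hY => h.no X hX.1 Y hY.1⟩, e⟩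
  obtain ⟨a, a1, a2, a3⟩ := h.two X hX.1 Y hY.1 X' hX'.1 Y' hY'.1 n1 n2
  refine ⟨a, fun W k => ⟨a1 W k.1, cj_le_of_mem_norm (mem_norm_iff_cj.2 ?_) k.2⟩, a2, a3⟩
  rw [← h.line' hE hF hX.1 hY.1 n n1 hX.2 hY.2, cj_sup, a2, a3, h.line' hE hF hX'.1 hY'.1 n n2 hX'.2 hY'.2,
    h.line' hE hF hX.1 hY.1 n n1 hX.2 hY.2]

theorem card_eq (T : Tr r 𝓔 H) (ne : r ≠ p) (hE : E ∈ 𝓔) : #E = p := by
  obtain ⟨F, hF, n⟩ := h.oth hE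
  obtain ⟨u, hu, rfl⟩ := T.tr E hE F hF
  have c : Cyc E := by_contra fun c => n (cj_of_mem_cent (le_of_cent1_le (h.ab E hE).1 c ((le_sSup hE).trans T.nm)
    (PiN.coprime' (T.pg.sing_ne ne) (h.pg hE)) (fun x hx x1 => (inf_le_inf_right _ T.le).trans (h.sr E hE x hx x1)) hu)).symm
  obtain ⟨z, e⟩ := c.exists_generator
  obtain ⟨y, hy, y1⟩ := h.exz hE
  rw [← orderOf_eq_card_of_forall_mem_zpowers e]
  refine orderOf_of_pow h.pp (Subtype.ext ((h.ab E hE).2 _ z.2)) fun k => y1 ?_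
  simpa [k] using e ⟨y, hy⟩

end Qn

end H22.FS
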