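import Cfsg.Agent.H22.FS7

/-! Doubly transitive classes of elementary abelian subgroups generate a solvable group. -/

set_option autoImplicit false
set_option linter.unusedSectionVars false

namespace H22.FS
open Cfsg Subgroup H19
open scoped commutatorElement

universe u
variable {G : Type u} [Group G] [Finite G] {p r : ℕ} {𝓔 : Set (Subgroup G)} {𝒞 : Set G}
  {a b c d g s t u v w x y z : G} {A B E F E' F' H K L P U X Y : Subgroup G}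

local notation "cj" => H19.cj

/-- Fischer's theorem on classes of subgroups of odd prime order -/
def FSet : Prop := ∀ {G : Type u} [Group G] [Finite G], ¬ IsMulCommutative G → ∀ p : ℕ, p.Prime → p ≠ 2 →
  ∀ D : Set (Subgroup G), (∀ A ∈ D, Nat.card A = p) → (∀ A ∈ D, ∀ g : G, A.map (MulAut.conj g).toMonoidHom ∈ D) →
  sSup D = ⊤ → ∀ {F : Type u} [Group F] [Finite F], Odd (Nat.card F) →
  (∀ A ∈ D, ∀ B ∈ D, A ≠ B → Nonempty (↥(A ⊔ B) ≃* F)) → Odd (Nat.card (G ⧸ center G))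

namespace Qn
variable (h : Qn p 𝓔)
include h

theorem nab : ¬ Ab (sSup 𝓔) := fun k => by
  obtain ⟨E, hE, F, hF, n⟩ := h.ex
  exact h.no E hE F hF n (cents_of_comm k (le_sSup hE) (le_sSup hF))

theorem odd_case (hS : FSet.{u}) (p2 : p ≠ 2) (c : ∀ E ∈ 𝓔, #E = p) (hE : E ∈ 𝓔) (hF : F ∈ 𝓔) (n : E ≠ F)
    (o : Odd #(E ⊔ F)) : ∃ r ≠ p, ∃ H, Tr r 𝓔 H := by
  let i := (sSup 𝓔).subtype
  have hi : Function.Injective i := subtype_injective _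
  have k := hS h.nab p h.pp p2 {A | A.map i ∈ 𝓔} (fun A hA => by rw [← c _ hA, card_map_of_injective hi])
    (fun A hA g => by
      have := h.inv g g.2 _ hA
      rwa [cj_def, map_map, show (MulAut.conj (g : G)).toMonoidHom.comp i = i.comp (MulAut.conj g).toMonoidHom from rfl,
        ← map_map] at this)
    (map_injective hi (le_antisymm (map_mono le_top) (by
      rw [← MonoidHom.range_eq_map, range_subtype]
      refine sSup_le fun X hX => ?_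
      have e := map_subgroupOf_eq_of_le (le_sSup hX)
      exact e.ge.trans (map_mono (le_sSup (by rwa [Set.mem_ofPred_eq, e])))))) o fun A hA B hB n' => by
      obtain ⟨a, -, a1, a2⟩ := h.two _ hA _ hB E hE F hF (fun e => n' (map_injective hi e)) n
      exact ⟨(equivMapOfInjective _ i hi).trans ((cjEquiv a _).trans (MulEquiv.subgroupCongr (by
        rw [Subgroup.map_sup, cj_sup, a1, a2])))⟩
  have := Agent.S0205.result k
  have : Group.IsSolvable (center ↥(sSup 𝓔)) := sol_of_ab inferInstance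
  exact h.up (NormalIn.refl _) (Group.isSolvable_of_ker_le_range (center _).subtype (QuotientGroup.mk' (center _)) (by simp))
    fun l => h.nab (comm_iff_le_cent.2 l)

end Qn

theorem ex_inv (hY : Ab Y) (n : x ∈ N(Y)) (c : (#Y).Coprime #(zpowers x)) (p2 : PG 2 Y) (k : ¬ Y ≤ C[x]) :
    ∃ w ∈ Y, w * w = 1 ∧ w * x ≠ x * w := by
  have l : ⁅Y, zpowers x⁆ ≤ Y := commg_le_left (zpowers_le.2 n)
  rw [← cent_zpowers, ← commg_eq_bot] at k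
  obtain ⟨a, ha, o⟩ := exists_orderOf_eq_prime Nat.prime_two ((p2.of_le l).dvd_of_ne_bot k)
  refine ⟨a, l ha, by rw [← sq, ← o, pow_orderOf_eq_one], fun e => ?_⟩
  have : a ∈ ⁅Y, zpowers x⁆ ⊓ C(zpowers x) := ⟨ha, by rw [cent_zpowers]; exact mem_cent1.2 e⟩
  rw [ab_commg_inf_cent hY (zpowers_le.2 n) c, mem_bot] at this
  simp [this] at o

/-- the class of generators -/
structure Qc (p : ℕ) (𝓔 : Set (Subgroup G)) (𝒞 : Set G) : Prop extends Qn p 𝓔 where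
  cl : Cl p 2 𝒞
  mem : ∀ x ∈ 𝒞, zpowers x ∈ 𝓔
  inj : ∀ x ∈ 𝒞, ∀ y ∈ 𝒞, zpowers x = zpowers y → x = y
  nm : sSup 𝓔 ≤ normalizer 𝒞

namespace Qc
variable (h : Qc p 𝓔 𝒞)
include h

theorem ex1 (hx : x ∈ 𝒞) (hy : y ∈ 𝒞) (n : x ≠ y) (e : x⁻¹ * y * (x⁻¹ * y) = 1) :
    ∃ E ∈ 𝓔, ∃ F ∈ 𝓔, E ≠ F ∧ ∀ b ∈ E ⊔ F, PiE {2} b → b * b = 1 := by
  have T := h.cl.ln hx hy
  have x1 : x ∈ Ln 𝒞 x y := ln_l hx
  have l : UU (Ln 𝒞 x y) ≤ zpowers x ⊔ zpowers y := UU_le_cl.trans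
    (ln_le (mem_sup_left (mem_zpowers x)) (mem_sup_right (mem_zpowers y)))
  have l0 : zpowers x ⊔ zpowers y ≤ sSup 𝓔 := sup_le (le_sSup (h.mem x hx)) (le_sSup (h.mem y hy))
  by_cases k : ∀ x' ∈ Ln 𝒞 x y, ∀ Y ≤ UU (Ln 𝒞 x y), Ab Y → x' ∈ N(Y) → Y ≤ C[x']
  swap
  · push Not at k
    obtain ⟨v, v1, Y, y1, y2, y3, y4⟩ := k
    obtain ⟨w, w1, w2, w3⟩ := ex_inv y2 y3 (T.cop v1 (T.pg.of_le y1)) (T.pg.of_le y1) y4
    have v2 := (T.cs.pt (y1 w1) v1).1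
    have m := norm_le_norm_Ohm1 2 Y y3
    refine ⟨_, h.mem v v1.1, _, h.mem _ v2, fun e => w3 (of_cj_eq (h.inj _ v1.1 _ v2 e).symm), fun b hb b2 => ?_⟩
    rw [← sq]
    rw [← cj_zpowers] at hb
    exact pow_of_mem_Ohm1 y2 (mem_of_pe m (h.cl.pe' v1.1) ((sup_le le_sup_right
      (cj_le_of_mem (mem_sup_left (mem_Ohm1 w1 (by rwa [sq]))) le_sup_right) : _ ≤ Ohm1 2 Y ⊔ zpowers v) hb) b2)
  have A : Ga p 2 (Ln 𝒞 x y) := ⟨T, k⟩
  have t1 := df_mem x1 (ln_r hy)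
  have n' : zpowers x ≠ zpowers y := fun e => n (h.inj x hx y hy e)
  have m : ∀ b ∈ zpowers x ⊔ zpowers y, PiE {2} b → b ∈ UU (Ln 𝒞 x y) := fun b hb =>
    mem_of_pe (T.cs.xu x1) (h.cl.pe' hx) (sup_le le_sup_right (zpowers_le.2 (by
      simpa using mul_mem (mem_sup_right (mem_zpowers x)) (mem_sup_left t1 : _ ∈ _ ⊔ zpowers x))) hb)
  have q : ∀ b ∈ UU (Ln 𝒞 x y), b * x ≠ x * b → cj b (zpowers x) ∈ 𝓔 ∧ zpowers x ≠ cj b (zpowers x) ∧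
      zpowers x ⊔ cj b (zpowers x) = zpowers x ⊔ zpowers y := fun b hb c => by
    have q1 := h.inv b (l0 (l hb)) _ (h.mem x hx)
    have q2 : zpowers x ≠ cj b (zpowers x) := fun e =>
      c (of_cj_eq (h.inj _ hx _ (T.cs.pt hb x1).1 (e.trans (cj_zpowers _ _))).symm)
    exact ⟨q1, q2, h.line' (h.mem x hx) (h.mem y hy) (h.mem x hx) q1 n' q2 le_sup_left (cj_le_of_mem (l hb) le_sup_left)⟩
  refine ⟨_, h.mem x hx, _, h.mem y hy, n', fun b hb b2 => ?_⟩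
  have hb := m b hb b2
  by_cases c : b * x = x * b
  · rw [← sq]; exact A.zr x1 (A.cx x1 hb c)
  obtain ⟨b1, b3, b4⟩ := q b hb c
  obtain ⟨t2, t3, t4⟩ := q _ t1 fun c => n (h.cl.iso hx hy (by
    calc x * y = x * (x * (x⁻¹ * y)) := by group
      _ = _ := by rw [← c]; group))
  have t5 := l t1
  generalize x⁻¹ * y = t at *
  obtain ⟨a, -, a1, a2⟩ := h.two _ (h.mem x hx) _ t2 _ (h.mem x hx) _ b1 t3 b3
  have s2 : a * t * a⁻¹ * (a * t * a⁻¹) = 1 := by rw [conj_mul, e]; simp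
  have s1 := m (a * t * a⁻¹) (by rw [← b4, ← a2]; nth_rw 1 [← a1]; rw [← cj_sup, t4]; exact conj_mem_cj.2 t5) (pe2 s2)
  have s3 := (A.pt_eq x1 s1 hb).1 (h.inj _ (T.cs.pt s1 x1).1 _ (T.cs.pt hb x1).1 (by
    rw [← cj_zpowers, ← cj_zpowers, ← a2]; nth_rw 1 [← a1]; rw [cj_cj, cj_cj, inv_mul_cancel_right]))
  generalize a * t * a⁻¹ = s at *
  calc b * b = s * ((s⁻¹ * b) * s) * (s⁻¹ * b) := by group
    _ = s * s * (s⁻¹ * b) ^ 2 := by rw [zu s3 s1, sq]; group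
    _ = 1 := by rw [s2, A.zr x1 s3, mul_one]

theorem sol : Sol (UU 𝒞) := by
  by_cases an : An 𝒞
  · exact (t2 h.cl an).sol
  simp only [An, not_forall] at an
  obtain ⟨x, hx, y, hy, e, n⟩ := an
  obtain ⟨E, hE, F, hF, n, k⟩ := h.ex1 hx hy n e
  have d : ∀ v ∈ 𝒞, ∀ w ∈ 𝒞, v⁻¹ * w * (v⁻¹ * w) = 1 := fun v hv w hw => by
    by_cases e : v = w
    · simp [e]
    obtain ⟨a, -, a1, a2⟩ := h.two _ (h.mem v hv) _ (h.mem w hw) E hE F hF (fun k => e (h.inj v hv w hw k)) n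
    have := k _ (by
      rw [← a1, ← a2, ← cj_sup]
      exact conj_mem_cj.2 (mul_mem (inv_mem (mem_sup_left (mem_zpowers v))) (mem_sup_right (mem_zpowers w))))
      ((h.cl.de hv hw).e_conj a)
    simpa [conj_mul, mul_inv_eq_iff_eq_mul] using this
  refine sol_of_ab (comm_mono (ab_closure (S := {d | ∃ y ∈ 𝒞, d = x⁻¹ * y}) ?_) (UU_le' hx fun y hy => subset_closure ⟨y, hy, rfl⟩))
  rintro _ ⟨v, hv, rfl⟩ _ ⟨w, hw, rfl⟩
  calc x⁻¹ * v * (x⁻¹ * w) = (x⁻¹ * v)⁻¹ * (x⁻¹ * w) := by rw [inv2 (d x hx v hv)]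
    _ = v⁻¹ * w := by group
    _ = (x⁻¹ * w)⁻¹ * (x⁻¹ * v) := by rw [← inv2 (d v hv w hw)]; group
    _ = _ := by rw [inv2 (d x hx w hw)]

end Qc

theorem Qn.even_case (h : Qn p 𝓔) (p2 : p ≠ 2) (c : ∀ E ∈ 𝓔, #E = p)
    (ih : ∀ E ∈ 𝓔, ∀ F ∈ 𝓔, E ≠ F → ∃ H, PG 2 H ∧ H ≤ sSup 𝓔 ∧ E ≤ N(H) ∧ ∃ u ∈ H, cj u E = F) :
    ∃ r ≠ p, ∃ H, Tr r 𝓔 H := by
  obtain ⟨E, hE, -⟩ := h.ex
  obtain ⟨z, hz, z1⟩ := h.exz hE
  obtain rfl := eq_zpowers_of_prime (c E hE ▸ h.pp) hz z1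
  let 𝒞 : Set G := {x | ∃ g ∈ sSup 𝓔, x = g * z * g⁻¹}
  have z0 : z ∈ 𝒞 := ⟨1, one_mem _, by group⟩
  have mem : ∀ x ∈ 𝒞, zpowers x ∈ 𝓔 := by
    rintro _ ⟨g, hg, rfl⟩; exact cj_zpowers g z ▸ h.inv g hg _ hE
  have nm : sSup 𝓔 ≤ normalizer 𝒞 := fun a ha => mem_nm (by
    rintro _ ⟨g, hg, rfl⟩; exact ⟨a * g, mul_mem ha hg, by group⟩)
  have inj : ∀ x ∈ 𝒞, ∀ y ∈ 𝒞, zpowers x = zpowers y → x = y := by
    rintro _ ⟨g, hg, rfl⟩ _ ⟨g', hg', rfl⟩ e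
    rw [← cj_zpowers, ← cj_zpowers, cj_eq_iff, cj_cj] at e
    have := mem_cent.1 (h.nc _ hE ⟨(sSup 𝓔).mul_mem (inv_mem hg) hg', mem_norm_iff_cj.2 e.symm⟩) z hz
    calc g * z * g⁻¹ = g * (z * (g⁻¹ * g')) * g'⁻¹ := by group
      _ = _ := by rw [this]; group
  have le : ∀ x ∈ 𝒞, x ∈ sSup 𝓔 := fun x hx => le_sSup (mem x hx) (mem_zpowers x)
  have Q : Qc p 𝓔 𝒞 := ⟨h, ⟨h.pp, p2.symm, fun x hx => by rw [← Nat.card_zpowers, c _ (mem x hx)],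
    fun x hx y hy => nm_conj (nm (le x hx)) hy, fun x hx y hy => by
      by_cases e : x = y
      · exact ⟨⊥, PiN.bot, by rw [norm_bot]; trivial, by simp [e]⟩
      obtain ⟨H, h1, h2, h3, u, hu, k⟩ := ih _ (mem x hx) _ (mem y hy) fun k => e (inj x hx y hy k)
      obtain rfl := inj _ (nm_conj (nm (h2 hu)) hx) y hy (cj_zpowers u x ▸ k)
      refine ⟨H, h1, h3 (mem_zpowers x), ?_⟩
      simpa [mul_assoc] using mul_mem (conj_mem_of_norm' (h3 (mem_zpowers x)) hu) (inv_mem hu)⟩, mem, inj, nm⟩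
  refine h.up ⟨UU_le_cl.trans ((closure_le _).2 le), nm.trans nm_UU⟩ Q.sol fun l => h.nz hE hz z1 (mem_cent.2 fun g hg => ?_)
  have y0 := nm_conj (nm hg) z0
  refine of_cj_eq (Q.cl.iso z0 y0 ?_).symm
  have := mem_cent.1 (l (df_mem z0 y0)) z (le z z0)
  calc _ = z * (z * (z⁻¹ * (g * z * g⁻¹))) := by group
    _ = _ := by rw [this]; group

theorem Qn.main (hS : FSet.{u}) (h : Qn p 𝓔) : ∃ r ≠ p, ∃ H, Tr r 𝓔 H := by
  induction 𝓔 using WellFoundedLT.induction with | _ 𝓔 ih =>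
  by_cases p2 : p = 2
  · exact h.two_case p2
  by_cases k : ∃ E ∈ 𝓔, ∃ F ∈ 𝓔, E ≠ F ∧ sSup 𝓔 ≤ E ⊔ F
  · obtain ⟨E, hE, F, hF, n, e⟩ := k
    exact h.frob_case hE hF n e
  push Not at k
  have I : ∀ E ∈ 𝓔, ∀ F ∈ 𝓔, E ≠ F → #E = p ∧ ∃ r H, PG r H ∧ H ≤ E ⊔ F ∧ E ⊔ F ≤ N(H) ∧ E ⊔ F ≤ H ⊔ E ∧
      ∃ u ∈ H, cj u E = F := fun E hE F hF n => by
    obtain ⟨q, e⟩ := h.sub hE hF n
    obtain ⟨r, ne, H, T⟩ := ih _ ((Set.sep_subset _ _).ssubset_of_ne fun e' => k E hE F hF n (by rw [← e, e'])) q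
    exact ⟨q.card_eq T ne ⟨hE, le_sup_left⟩, r, H, T.pg, e ▸ T.le, e ▸ T.nm, e ▸ T.le_sup ⟨hE, le_sup_left⟩,
      T.tr E ⟨hE, le_sup_left⟩ F ⟨hF, le_sup_right⟩⟩
  have c : ∀ E ∈ 𝓔, #E = p := fun E hE => let ⟨F, hF, n⟩ := h.oth hE; (I E hE F hF n).1
  obtain ⟨E, hE, F, hF, n⟩ := h.ex
  rcases Nat.even_or_odd #(E ⊔ F) with o | o
  swap
  · exact h.odd_case hS p2 c hE hF n o
  refine h.even_case p2 c fun X hX Y hY n' => ?_
  obtain ⟨-, r, H, h1, h2, h3, h4, h5⟩ := I X hX Y hY n'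
  by_cases e : r = 2
  · exact ⟨H, e ▸ h1, h2.trans (sup_le (le_sSup hX) (le_sSup hY)), le_sup_left.trans h3, h5⟩
  exact ((((h1.sing_ne e).sup ((h.pg hX).sing_ne p2) (le_sup_left.trans h3)).of_le h4).not_dvd Nat.prime_two rfl
    (h.line hE hF hX hY n n' ▸ o.two_dvd)).elim

/-- the group generated by a doubly transitive class is solvable -/
theorem Qs.sol (hS : FSet.{u}) (h : Qs p 𝓔) : Sol (sSup 𝓔) := by
  by_cases n : Ab (sSup 𝓔)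
  · exact sol_of_ab n
  obtain ⟨r, -, H, T⟩ := (h.qn n).main hS
  obtain ⟨E, hE, -⟩ := (h.qn n).ex
  exact sol_mono (sol_sup T.pg.sol (sol_of_ab (h.ab E hE).1) ((le_sSup hE).trans T.nm)) (T.le_sup hE)

end H22.FS
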