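import Cfsg.Agent.H22.FS8

/-! Doubly transitive actions: the class of conjugates of a subgroup attached to a point. -/

set_option autoImplicit false
set_option linter.unusedSectionVars false

namespace H22.FS
open Cfsg Subgroup H19 MulAction

universe u
variable {G : Type u} {Ω : Type*} [Group G] [Finite G] [MulAction G Ω] {p : ℕ} {β : Ω}
  {a b c d g s t u v w x y z : G} {A B D E F K L M X Y : Subgroup G}

local notation "cj" => H19.cj

theorem st_of (h : a • β = b • β) : a⁻¹ * b ∈ stabilizer G β := by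
  rw [mem_stabilizer_iff, mul_smul, ← h, inv_smul_smul]

/-- `K` is doubly transitive on the orbit of `β` -/
def T2 (K : Subgroup G) (β : Ω) : Prop := ∀ g₁ ∈ K, ∀ g₂ ∈ K, ∀ g₃ ∈ K, ∀ g₄ ∈ K, g₁ • β ≠ g₂ • β → g₃ • β ≠ g₄ • β →
  ∃ a ∈ K, (a * g₁) • β = g₃ • β ∧ (a * g₂) • β = g₄ • β

theorem T2.one (h : T2 K β) (hg : g ∈ K) (hx : x ∈ K) (n : g • β ≠ β) (n' : x • β ≠ β) :
    ∃ a ∈ K, a • β = β ∧ (a * g * a⁻¹) • β = x • β := by
  obtain ⟨a, ha, a1, a2⟩ := h 1 (one_mem _) g hg 1 (one_mem _) x hx (by simpa using n.symm) (by simpa using n'.symm)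
  rw [mul_one, one_smul] at a1
  exact ⟨a, ha, a1, by rw [mul_smul, inv_smul_eq_iff.2 a1.symm, a2]⟩

/-- the group generated by the conjugates -/
def cc (K E : Subgroup G) : Subgroup G := sSup {X | ∃ g ∈ K, X = cj g E}

theorem le_cc (K E : Subgroup G) : E ≤ cc K E := le_sSup ⟨1, one_mem _, (cj_one E).symm⟩
theorem cc_le (h : E ≤ D) (n : K ≤ N(D)) : cc K E ≤ D := sSup_le (by
  rintro _ ⟨g, hg, rfl⟩; exact cj_le_of_mem_norm (n hg) h)
theorem nm_cc (K E : Subgroup G) : K ≤ N(cc K E) := fun a ha => nm_sSup (by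
  rintro _ ⟨g, hg, rfl⟩; exact ⟨_, mul_mem ha hg, cj_cj _ _ _⟩)

theorem q3 (hS : FSet.{u}) (h2 : T2 K β) (hp : p.Prime) (ab : Abelem p E) (n : ∀ a ∈ K, a • β = β → a ∈ N(E))
    (hD : cc K E = D) (h1 : ∀ d ∈ D, ∃ a ∈ K, a⁻¹ * d ∈ C(D) ∧ (a • β = β → d ∈ C(E)))
    (h3 : ∀ z ∈ E, z ≠ 1 → D ⊓ C[z] ≤ C(E)) : Sol D := by
  subst hD
  have e : ∀ g ∈ K, ∀ g' ∈ K, g • β = g' • β → cj g E = cj g' E := fun g hg g' hg' k => by
    rw [cj_eq_iff, cj_cj, cj_of_mem_norm (n _ (mul_mem (inv_mem hg) hg') (st_of k))]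
  have e1 : ∀ a d, a⁻¹ * d ∈ C(cc K E) → ∀ X ≤ cc K E, cj d X = cj a X := fun a d k X l => by
    rw [← mul_inv_cancel_left a d, cj_mul, cj_of_mem_cent (cent_mono l k)]
  refine Qs.sol hS ⟨hp, ?_, ?_, ?_, ?_, ?_⟩
  · rintro _ ⟨g, -, rfl⟩; exact abelem_J ab g
  · rintro d hd _ ⟨g, hg, rfl⟩
    obtain ⟨a, ha, k, -⟩ := h1 d hd
    exact ⟨_, mul_mem ha hg, (e1 a d k _ (le_sSup ⟨g, hg, rfl⟩)).trans (cj_cj _ _ _)⟩
  · rintro _ ⟨g₁, k₁, rfl⟩ _ ⟨g₂, k₂, rfl⟩ _ ⟨g₃, k₃, rfl⟩ _ ⟨g₄, k₄, rfl⟩ n1 n2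
    obtain ⟨a, ha, a1, a2⟩ := h2 _ k₁ _ k₂ _ k₃ _ k₄ (fun k => n1 (e _ k₁ _ k₂ k)) fun k => n2 (e _ k₃ _ k₄ k)
    exact ⟨a, by rintro _ ⟨g, hg, rfl⟩; exact ⟨_, mul_mem ha hg, cj_cj _ _ _⟩,
      (cj_cj _ _ _).trans (e _ (mul_mem ha k₁) _ k₃ a1), (cj_cj _ _ _).trans (e _ (mul_mem ha k₂) _ k₄ a2)⟩
  · rintro _ ⟨g, hg, rfl⟩ d hd
    obtain ⟨hd, hn⟩ := mem_inf.1 hd
    rw [← cj_cent, mem_cj]
    rw [← cj_norm, mem_cj] at hn
    have hd := conj_mem_of_norm' (nm_cc K E hg) hd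
    obtain ⟨a, ha, k, k'⟩ := h1 _ hd
    by_cases c : a • β = β
    · exact k' c
    have := (e1 _ _ k _ (le_cc K E)).symm.trans (cj_of_mem_norm hn)
    refine comm_iff_le_cent.1 ab.1 (cc_le le_rfl (fun x hx => ?_) hd)
    by_cases c' : x • β = β
    · exact n x hx c'
    obtain ⟨b, hb, b1, b2⟩ := h2.one ha hx c c'
    rw [mem_norm_iff_cj, ← e _ (mul_mem (mul_mem hb ha) (inv_mem hb)) _ hx b2, cj_mul, cj_mul,
      cj_of_mem_norm (inv_mem (n b hb b1)), this, cj_of_mem_norm (n b hb b1)]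
  · rintro _ ⟨g, hg, rfl⟩ z hz z1 d hd
    obtain ⟨d1, hc⟩ := mem_inf.1 hd
    obtain ⟨y, hy, rfl⟩ := mem_cj'.1 hz
    rw [← cj_cent, mem_cj]
    rw [← cj_cent1, mem_cj] at hc
    exact h3 y hy (fun k => z1 (by simp [k])) ⟨conj_mem_of_norm' (nm_cc K E hg) d1, hc⟩

variable [Finite Ω] (h2 : ∀ a b c d : Ω, a ≠ b → c ≠ d → ∃ g : G, g • a = c ∧ g • b = d)
include h2

/-- a normal subgroup with an element fixing two points, but not all, is primitive -/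
theorem prim [hN : D.Normal] {n : G} (hn : n ∈ D) (h1 : ¬ ∀ d : Ω, n • d = d) {a b : Ω} (hab : a ≠ b)
    (ha : n • a = a) (hb : n • b = b) (r : Ω → Ω → Prop) (hr : Equivalence r)
    (hi : ∀ g ∈ D, ∀ u v, r u v → r (g • u) (g • v)) {x y : Ω} (hxy : r x y) (h : x ≠ y) (c : Ω) : r x c := by
  let L : Ω → Ω → Set Ω := fun x y => {z | ∀ r : Ω → Ω → Prop, Equivalence r →
    (∀ g ∈ D, ∀ u v, r u v → r (g • u) (g • v)) → r x y → r x z}
  have l1 : ∀ (g : G) x y, ∀ z ∈ L x y, g • z ∈ L (g • x) (g • y) := fun g x y z hz r hr hi =>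
    hz (fun u v => r (g • u) (g • v)) ⟨fun _ => hr.1 _, hr.2, hr.3⟩ fun m hm u v h => by
      simpa [mul_smul] using hi _ (hN.conj_mem _ hm g) _ _ h
  have l2 : ∀ x y, L x y = L y x := fun x y => Set.ext fun z =>
    ⟨fun h r hr hi h' => hr.3 h' (h r hr hi (hr.2 h')), fun h r hr hi h' => hr.3 h' (h r hr hi (hr.2 h'))⟩
  have l3 : ∀ x y, y ∈ L x y := fun x y _ _ _ h => h
  have l4 : ∀ x y z, x ≠ y → x ≠ z → z ∈ L x y → L x z = L x y := fun x y z hy hz h => by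
    obtain ⟨g, g1, g2⟩ := h2 x y x z hy hz
    exact Set.eq_of_subset_of_ncard_le (fun w hw r hr hi h' => hw r hr hi (h r hr hi h'))
      (Set.ncard_le_ncard_of_injOn (g • ·) (fun w hw => by simpa [g1, g2] using l1 g x y w hw)
        (MulAction.injective g).injOn)
  have l5 : ∀ x y, n • x = x → n • y ∈ L y x := fun x y h => l2 x y ▸ fun r hr hi h' => by
    simpa [h] using hi n hn _ _ h'
  have l6 : ∀ x y z, x ≠ y → n • x = x → n • y = y → z ∉ L x y → n • z = z := by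
    intro x y z hxy hx hy hz
    by_contra h
    have e1 : z ≠ x := by rintro rfl; exact h hx
    have e2 : z ≠ y := by rintro rfl; exact h hy
    have e3 := (l4 z x _ e1 (Ne.symm h) (l5 x z hx)).symm.trans (l4 z y _ e2 (Ne.symm h) (l5 y z hy))
    exact hz (l2 x y ▸ l4 y z x e2.symm hxy.symm (l2 z y ▸ e3 ▸ l3 z x) ▸ l3 y z)
  obtain ⟨g, g1, g2⟩ := h2 a b x y hab h
  have l7 : ∀ c, c ∈ L a b := fun c => by
    by_contra hc
    refine h1 fun d => ?_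
    have e1 : a ≠ c := by rintro rfl; exact hc fun r hr _ _ => hr.1 _
    by_contra hd
    have e2 : a ≠ d := by rintro rfl; exact hd ha
    refine hd (l6 a c d e1 ha (l6 a b c hab ha hb hc) fun h => hc ?_)
    rw [← l4 a b d hab e2 (by_contra fun h => hd (l6 a b d hab ha hb h)), l4 a c d e1 e2 h]
    exact l3 a c
  simpa [g1, g2] using l1 g a b _ (l7 (g⁻¹ • c)) r hr hi (by rwa [g1, g2])

theorem t2_top : T2 (⊤ : Subgroup G) β := fun g₁ _ g₂ _ g₃ _ g₄ _ n n' =>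
  let ⟨a, a1, a2⟩ := h2 _ _ _ _ n n'
  ⟨a, trivial, by rwa [mul_smul], by rwa [mul_smul]⟩

theorem tr_of (n : stabilizer G β ≤ N(L)) (hw : w ∈ L) (mv : w • β ≠ β) (γ : Ω) : ∃ d ∈ L, d • β = γ := by
  by_cases e : γ = β
  · exact ⟨1, one_mem _, by rw [one_smul, e]⟩
  obtain ⟨a, a1, a2⟩ := h2 β _ β γ mv.symm (Ne.symm e)
  exact ⟨_, conj_mem_of_norm (n a1) hw, by rw [mul_smul, mul_smul, inv_smul_eq_iff.2 a1.symm, a2]⟩

/-- a simple normal subgroup has no nontrivial element centralizing a point stabilizer -/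
theorem simple_case (hS : FSet.{u}) [hN : D.Normal] (sm : ∀ L, L ⊴ D → L = ⊥ ∨ L = D) (na : ¬ Ab D) (hd : d ∈ D)
    (mv : d • β ≠ β) (hs : s ∈ D) (s1 : s ≠ 1) (hc : D ⊓ stabilizer G β ≤ C[s]) : False := by
  have nD : ∀ A : Subgroup G, A ≤ N(D) := fun A => le_top.trans (normalIn_top (H := D)).norm
  have ns : ¬ Sol D := fun k => (sm _ (der_normal D)).elim (fun e => na (comm_iff_der.2 e))
    (sol_der_lt k (ne_bot_of_mem hs s1)).ne
  have nR : stabilizer G β ≤ N(D ⊓ stabilizer G β) := norms_inf (nD _) le_normalizer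
  have nW : stabilizer G β ≤ N(D ⊓ C(D ⊓ stabilizer G β)) := norms_inf (nD _) (norms_cent nR)
  have lW : D ⊓ C(D ⊓ stabilizer G β) ≤ stabilizer G β := fun w hw => by_contra fun k => by
    have e := (sm (D ⊓ stabilizer G β) ⟨inf_le_left, fun x hx => by
      obtain ⟨w, hw, e⟩ := tr_of h2 nW hw k (x • β)
      simpa using mul_mem (cent_le_norm _ hw.2) (le_normalizer (show w⁻¹ * x ∈ D ⊓ stabilizer G β from
        ⟨D.mul_mem (D.inv_mem hw.1) hx, st_of e⟩))⟩).resolve_right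
      fun e => mv (e.ge hd).2
    have reg : ∀ x ∈ D, x • β = β → x = 1 := fun x hx k => e.le ⟨hx, k⟩
    obtain ⟨p, hp, hp'⟩ := exists_prime_dvd_card (ne_bot_of_mem hs s1)
    obtain ⟨y, hy, o⟩ := exists_orderOf_eq_prime hp hp'
    refine ns (PiN.sol (p := p) (PiN.of_elt fun x hx => ?_))
    by_cases x1 : x = 1
    · exact x1 ▸ PiN.e_one
    obtain ⟨a, -, -, a2⟩ := (t2_top h2).one (mem_top y) (mem_top x) (fun k => hp.one_lt.ne' (by simp [← o, reg y hy k]))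
      fun k => x1 (reg x hx k)
    rw [inv_mul_eq_one.1 (reg (x⁻¹ * (a * y * a⁻¹)) (mul_mem (inv_mem hx) (hN.conj_mem y hy a)) (st_of a2.symm))]
    exact (pe_of hp (o ▸ pow_orderOf_eq_one y)).e_conj a
  have cW : D ⊓ stabilizer G β ≤ C(D ⊓ C(D ⊓ stabilizer G β)) := cents_symm inf_le_right
  obtain ⟨p, hp, hp'⟩ := exists_prime_dvd_card (ne_bot_of_mem (H := D ⊓ C(D ⊓ stabilizer G β)) ⟨hs, le_cent1_iff.1 hc⟩ s1)
  have cE := cents_mono cW le_rfl (Ohm1_le p _)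
  have lE := (Ohm1_le p _).trans (inf_le_left : D ⊓ C(D ⊓ stabilizer G β) ≤ D)
  refine ns (q3 hS (t2_top (β := β) h2) hp (abelem_Ohm1 (comm_iff_le_cent.2 ((le_inf inf_le_left lW).trans cW)) p)
    (fun a _ k => norms_Ohm1 p nW k) ((sm _ ⟨cc_le lE (nD _), le_top.trans (nm_cc _ _)⟩).resolve_left
      (ne_bot_mono (le_cc _ _) (Ohm1_ne_bot hp hp')))
    (fun d hd => ⟨d, trivial, by rw [inv_mul_cancel]; exact one_mem _, fun k => cE ⟨hd, k⟩⟩) fun z hz z1 c hc => ?_)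
  by_cases k : c • β = β
  · exact cE ⟨hc.1, k⟩
  have z2 : z • β = β := lW (Ohm1_le p _ hz)
  have z3 : D ⊓ stabilizer G β ≤ C[z] := cE.trans (cent_le_cent1 hz)
  have st : ∀ a ∈ D, ∀ b ∈ D, a • β = b • β → a⁻¹ * b ∈ C[z] := fun a ha b hb e =>
    z3 ⟨D.mul_mem (D.inv_mem ha) hb, st_of e⟩
  have P := prim h2 (lE hz) (fun f => by
      have := (sm (D ⊓ (toPermHom G Ω).ker) ⟨inf_le_left, norms_inf le_normalizer (le_top.trans normalIn_top.norm)⟩).resolve_right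
        fun e => mv (Equiv.congr_fun (e.ge hd).2 β)
      exact z1 (this.le ⟨lE hz, Equiv.ext f⟩)) (Ne.symm k) z2 (by rw [← mul_smul, ← mem_cent1.1 hc.2, mul_smul, z2])
    (fun γ δ => ∃ a ∈ D, ∃ b ∈ D, a • β = γ ∧ b • β = δ ∧ a⁻¹ * b ∈ C[z])
    ⟨fun γ => let ⟨a, ha, e⟩ := tr_of h2 (nD _) hd mv γ; ⟨a, ha, a, ha, e, e, st a ha a ha rfl⟩,
      fun ⟨a, ha, b, hb, e1, e2, e3⟩ => ⟨b, hb, a, ha, e2, e1, by simpa using inv_mem e3⟩,
      fun ⟨a, ha, b, hb, e1, e2, e3⟩ ⟨a', ha', b', hb', e4, e5, e6⟩ => ⟨a, ha, b', hb', e1, e5, by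
        simpa [mul_assoc] using mul_mem (mul_mem e3 (st b hb a' ha' (e2.trans e4.symm))) e6⟩⟩
    (fun g hg u v ⟨a, ha, b, hb, e1, e2, e3⟩ => ⟨g * a, mul_mem hg ha, g * b, mul_mem hg hb, by rw [mul_smul, e1],
      by rw [mul_smul, e2], by simpa [mul_assoc] using e3⟩)
    (x := β) ⟨1, one_mem _, c, hc.1, one_smul _ _, rfl, by simpa using hc.2⟩ (Ne.symm k)
  refine ((sm _ (center_normal D)).elim (fun e => z1 (e.le ⟨lE hz, le_cent1_iff.1 fun x hx => ?_⟩))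
    fun e => na (comm_iff_le_cent.2 (e.ge.trans inf_le_right))).elim
  obtain ⟨a, ha, b, hb, e1, e2, e3⟩ := P (x • β)
  simpa [mul_assoc] using mul_mem (mul_mem (z3 ⟨ha, e1⟩) e3) (st b hb x hx e2)

end H22.FS
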