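import Cfsg.Agent.H9.FV1

/-! S5720, chunk `CH`: the kernel of `e ^ d` on two neighbouring weight spaces. -/

set_option autoImplicit false
set_option linter.unusedSectionVars false

open Module H17.FV H9.FV

namespace H22.FV

universe v w

section
variable {K A M : Type*} [Field K] [Ring A] [Algebra K A] [AddCommGroup M] [Module K M] [Module A M]
  [IsScalarTower K A M] [FiniteDimensional K M] {p : ℕ} [Fact p.Prime] [CharP K p] {D : Dat K A p}

theorem chA (ef : D.EF) (m : ℕ) : ∀ j : ℕ,
    finrank K ↥(LinearMap.ker (act K M (D.e ^ m)) ⊓ LinearMap.range (act K M (D.π j))) ≤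
      ∑ i ∈ Finset.range m, finrank K ↥(LinearMap.ker (act K M D.e) ⊓
        LinearMap.range (act K M (D.π (j + 2 * i)))) := by
  induction m with
  | zero =>
    intro j
    rw [Finset.sum_range_zero, Nat.le_zero, Submodule.finrank_eq_zero, eq_bot_iff]
    rintro x ⟨h, -⟩
    have h' : D.e ^ 0 • x = 0 := h
    rwa [pow_zero, one_smul] at h'
  | succ m ih =>
    intro j
    rw [Finset.sum_range_succ', rn (act K M D.e)]
    refine add_le_add (le_trans (Submodule.finrank_mono ?_) ((ih (j + 2)).trans_eq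
      (Finset.sum_congr rfl fun i _ => by rw [show j + 2 + 2 * i = j + 2 * (i + 1) by ring])))
      (Submodule.finrank_mono (inf_le_inf_left _ inf_le_right))
    rintro _ ⟨x, ⟨h1, h2⟩, rfl⟩
    have h1' : D.e ^ (m + 1) • x = 0 := h1
    refine ⟨?_, (memV ef).2 ?_⟩
    · show D.e ^ m • D.e • x = 0
      rwa [← mul_smul, ← pow_succ]
    · have := eV ef ((memV (K := K) ef).1 h2) 1
      rw [pow_one, mul_one] at this
      exact this

theorem chB (ef : D.EF) (W : Submodule K M) (j n : ℕ) (hn : n ≤ p - 1) : ∃ T ≤ W,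
    (∀ k, n ≤ k → k < p - 1 → ∀ x ∈ T, D.π (j + k) • x = 0) ∧
    ∑ i ∈ Finset.range n, finrank K ↥(W ⊓ LinearMap.range (act K M (D.π (j + i)))) ≤ finrank K T := by
  induction n with
  | zero => exact ⟨⊥, bot_le, fun k _ _ x hx => by rw [(Submodule.mem_bot K).1 hx, smul_zero], by simp⟩
  | succ n ih =>
    obtain ⟨T, hT, h0, hs⟩ := ih (by omega)
    refine ⟨T ⊔ (W ⊓ LinearMap.range (act K M (D.π (j + n)))), sup_le hT inf_le_left, ?_, ?_⟩
    · intro k h1 h2 x hx
      obtain ⟨y, hy, z, ⟨-, hz⟩, rfl⟩ := Submodule.mem_sup.1 hx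
      rw [smul_add, h0 k (by omega) h2 y hy, ← (memV ef).1 hz, ← mul_smul, ef.orth, zero_smul, add_zero]
      intro h
      have := Nat.ModEq.eq_of_lt_of_lt (Nat.ModEq.add_left_cancel' j h) h2 (by omega)
      omega
    · have e := Submodule.finrank_sup_add_finrank_inf_eq T
        (W ⊓ LinearMap.range (act K M (D.π (j + n))))
      have z : T ⊓ (W ⊓ LinearMap.range (act K M (D.π (j + n)))) = ⊥ := by
        rw [eq_bot_iff]
        rintro x ⟨h1, -, h2⟩
        exact ((memV ef).1 h2).symm.trans (h0 n le_rfl (by omega) x h1)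
      rw [z, finrank_bot] at e
      rw [Finset.sum_range_succ]
      omega
end

theorem chS (f : ℕ → ℕ) (j d : ℕ) : ∑ i ∈ Finset.range d, f (j + 2 * i) +
    ∑ i ∈ Finset.range d, f (j + 1 + 2 * i) = ∑ i ∈ Finset.range (2 * d), f (j + i) := by
  induction d with
  | zero => rfl
  | succ d ih =>
    rw [show 2 * (d + 1) = 2 * d + 1 + 1 by ring]
    simp only [Finset.sum_range_succ]
    rw [← ih, show j + 1 + 2 * d = j + (2 * d + 1) by ring]
    omega

theorem ch : CH.{v, w} := by
  intro K A M _ _ _ _ _ _ _ _ p _ _ D ν hp hν ef j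
  obtain ⟨T, hT, -, hs⟩ := chB ef (LinearMap.ker (act K M D.e)) j (2 * ((p - 1) / 2)) (by omega)
  refine (add_le_add (chA ef _ j) (chA ef _ (j + 1))).trans ?_
  exact (chS (fun i => finrank K ↥(LinearMap.ker (act K M D.e) ⊓
    LinearMap.range (act K M (D.π i)))) j _).trans_le (hs.trans (Submodule.finrank_mono hT))

end H22.FV
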