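/-
Fusion systems on a Sylow 2-subgroup of a Ree group of type `F₄`, part 1: coordinates.
-/
import Cfsg.Agent.H22.RF11
import Cfsg.Agent.H25.Syl

set_option autoImplicit false

namespace H22.FZ
open Subgroup

/-- coordinates of `x₁(a) y₂(b) x₂(e₁) x₃(e₂) y₄(d) x₄(e₃) x₅(e₄) y₆(f) x₆(e₅) x₇(g) y₈(s) x₈(t)` -/
@[ext] structure Cd {K : Type*} [Field K] (σ : K →+* K) where
  (a b e1 e2 d e3 e4 f e5 g s t : K)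

variable {G : Type*} [Group G] {K : Type*} [Field K] {σ : K →+* K}
namespace Cd
@[simps] instance : One (Cd σ) := ⟨⟨0, 0, 0, 0, 0, 0, 0, 0, 0, 0, 0, 0⟩⟩
@[simps] instance : Mul (Cd σ) := ⟨fun c c' => {
  a := c.a + c'.a
  b := c.b + c'.b + c'.a * c.s
  e1 := c.e1 + c'.e1 + c'.a * c.d + σ c'.a * c.f + c.b * σ c'.b + c'.a * σ c'.a * c.t + c'.a * σ c'.b * c.s +
    σ c'.a * c.b * σ c.s
  e2 := c.e2 + c'.e2 + c'.a * σ c.f + σ c'.a * c.g + c'.b * c.d + c'.e1 * c.s + c'.a * σ c'.a * σ c.t + c'.a * c.d * c.s +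
    σ c'.a * c'.b * c.t + c'.b * σ c'.b * c.s + c'.a * σ c'.a * c.s * c.t + c'.a * σ c'.a * c.s * c.s * σ c.s
  d := c.d + c'.d + σ c'.a * c.t + σ c'.b * c.s
  e3 := c.e3 + c'.e3 + c'.a * c.e5 + c'.b * c.e4 + c.d * σ c'.d + c'.e1 * c.g + σ c'.e1 * c.t + c'.e2 * c.f +
    σ c'.e2 * c.s + c'.a * c'.b * σ c.g + c'.a * c'.e1 * σ c.t + c'.a * c'.e2 * c.t + c'.a * c.e4 * c.s +
    σ c'.a * σ c'.d * c.t + σ c'.a * c.f * c.g + c'.b * σ c'.b * c.g + c'.b * c'.e1 * c.t + c'.b * c'.e2 * σ c.s +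
    σ c'.b * σ c'.d * c.s + c'.e1 * c.f * c.s + c'.a * σ c'.a * c.f * σ c.t + c'.a * σ c'.a * c.g * c.t +
    c'.a * c'.b * σ c'.b * σ c.t + c'.a * c'.e2 * c.s * σ c.s + c'.a * c'.a * c.d * σ c.t + c'.a * c'.a * σ c.g * c.s +
    σ c'.a * c'.b * c.f * c.t + σ c'.a * c'.b * c.g * σ c.s + c'.b * σ c'.b * c.f * c.s + c'.b * c'.e1 * c.s * σ c.s +
    c'.b * c'.b * σ c'.b * c.t + c'.b * c'.b * c.d * σ c.s + c'.a * σ c'.a * c'.b * σ c.s * σ c.t +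
    c'.a * σ c'.a * c'.b * c.t * c.t + c'.a * σ c'.a * c.f * c.s * c.t + c'.a * σ c'.a * c.g * c.s * σ c.s +
    c'.a * c'.a * σ c'.a * c.t * σ c.t + σ c'.a * c'.b * c'.b * σ c.s * c.t + c'.b * c'.b * σ c'.b * c.s * σ c.s +
    c'.a * σ c'.a * c.f * c.s * c.s * σ c.s + c'.a * c'.a * σ c'.a * c.s * σ c.s * σ c.t +
    c'.a * c'.a * σ c'.a * c.s * c.t * c.t + c'.a * σ c'.a * c'.b * c.s * c.s * σ c.s * σ c.s +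
    c'.a * c'.a * σ c'.a * c.s * c.s * c.s * σ c.s * σ c.s
  e4 := c.e4 + c'.e4 + c'.a * σ c.g + σ c'.b * c.g + c'.d * c.f + c'.e1 * c.t + c'.e2 * σ c.s + c'.a * σ c'.b * σ c.t +
    c'.a * c'.d * c.t + σ c'.a * c.f * c.t + σ c'.a * c.g * σ c.s + c'.b * c'.d * σ c.s + σ c'.b * c.f * c.s +
    c'.e1 * c.s * σ c.s + c'.a * σ c'.a * σ c.s * σ c.t + c'.a * σ c'.a * c.t * c.t + c'.a * c'.d * c.s * σ c.s +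
    c'.a * σ c'.a * c.s * c.s * σ c.s * σ c.s
  f := c.f + c'.f + c'.a * c.t + c'.b * σ c.s + c'.a * c.s * σ c.s
  e5 := c.e5 + c'.e5 + c'.b * σ c.g + c'.d * c.g + c'.e1 * σ c.t + c'.e2 * c.t + c'.e4 * c.s + c.f * σ c'.f +
    c'.a * c'.d * σ c.t + c'.a * σ c'.f * c.t + c'.a * σ c.g * c.s + σ c'.a * c.f * σ c.t + σ c'.a * c.g * c.t +
    c'.b * σ c'.b * σ c.t + c'.b * c'.d * c.t + c'.b * σ c'.f * σ c.s + σ c'.b * c.g * c.s + c'.e1 * c.s * c.t +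
    c'.a * σ c'.b * c.s * σ c.t + c'.a * c'.d * c.s * c.t + c'.a * σ c'.f * c.s * σ c.s +
    σ c'.a * c'.b * σ c.s * σ c.t + σ c'.a * c'.b * c.t * c.t + σ c'.b * c.f * c.s * c.s + c'.e1 * c.s * c.s * σ c.s +
    c'.a * σ c'.a * c.s * σ c.s * σ c.t + c'.a * σ c'.a * c.s * c.t * c.t + c'.a * c'.d * c.s * c.s * σ c.s +
    σ c'.a * c.f * c.s * c.s * σ c.s + σ c'.a * c'.b * c.s * c.s * σ c.s * σ c.s +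
    c'.a * σ c'.a * c.s * c.s * c.s * σ c.s * σ c.s
  g := c.g + c'.g + c'.a * σ c.t + c'.b * c.t + c'.f * c.s + c'.a * c.s * c.t + c'.a * c.s * c.s * σ c.s
  s := c.s + c'.s
  t := c.t + c'.t + c.s * σ c'.s }⟩
@[simps] instance : Inv (Cd σ) := ⟨fun c => {
  a := c.a
  b := c.b + c.a * c.s
  e1 := c.e1 + c.a * c.d + σ c.a * c.f + c.b * σ c.b + c.a * σ c.a * c.t + c.a * σ c.b * c.s + c.a * σ c.a * c.s * σ c.s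
  e2 := c.e2 + c.a * σ c.f + σ c.a * c.g + c.b * c.d + c.e1 * c.s + c.a * σ c.a * σ c.t + c.a * c.d * c.s +
    σ c.a * c.b * c.t + σ c.a * c.f * c.s + c.a * σ c.a * c.s * c.t + σ c.a * c.b * c.s * σ c.s +
    c.a * σ c.a * c.s * c.s * σ c.s
  d := c.d + σ c.a * c.t + σ c.b * c.s + σ c.a * c.s * σ c.s
  e3 := c.e3 + c.a * c.e5 + c.b * c.e4 + c.d * σ c.d + c.e1 * c.g + σ c.e1 * c.t + c.e2 * c.f + σ c.e2 * c.s +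
    c.a * c.b * σ c.g + c.a * c.d * c.g + c.a * c.e1 * σ c.t + c.a * c.e2 * c.t + c.a * c.f * σ c.f +
    σ c.a * c.f * c.g + c.b * c.d * c.f + c.b * c.e1 * c.t + c.b * c.e2 * σ c.s + σ c.e1 * c.s * σ c.s +
    c.a * σ c.a * c.f * σ c.t + c.a * σ c.a * c.g * c.t + c.a * c.b * σ c.f * σ c.s + c.a * c.a * c.d * σ c.t +
    c.a * c.a * σ c.g * c.s + σ c.a * c.b * c.f * c.t + σ c.a * c.b * c.g * σ c.s + σ c.a * c.f * c.f * c.s +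
    c.b * c.b * σ c.b * c.t + c.b * c.b * c.d * σ c.s + c.a * σ c.a * c.b * σ c.s * σ c.t +
    c.a * σ c.a * c.b * c.t * c.t + c.a * c.e1 * c.s * c.s * σ c.s + c.a * c.a * σ c.a * c.t * σ c.t +
    c.a * c.a * σ c.f * c.s * σ c.s + σ c.a * c.b * c.b * σ c.s * c.t + c.b * c.b * σ c.b * c.s * σ c.s +
    c.a * σ c.a * c.f * c.s * c.s * σ c.s + c.a * c.a * σ c.a * c.s * c.t * c.t + c.a * c.a * c.d * c.s * c.s * σ c.s +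
    σ c.a * c.b * c.b * c.s * σ c.s * σ c.s + c.a * σ c.a * c.b * c.s * c.s * σ c.s * σ c.s +
    c.a * c.a * σ c.a * c.s * c.s * σ c.s * c.t
  e4 := c.e4 + c.a * σ c.g + σ c.b * c.g + c.d * c.f + c.e1 * c.t + c.e2 * σ c.s + c.a * σ c.b * σ c.t +
    c.a * σ c.f * σ c.s + σ c.a * c.f * c.t + σ c.a * c.g * σ c.s + c.b * σ c.b * c.t + c.a * σ c.a * σ c.s * σ c.t +
    c.a * σ c.a * c.t * c.t + c.a * σ c.b * c.s * c.s * σ c.s + c.a * σ c.a * c.s * c.s * σ c.s * σ c.s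
  f := c.f + c.a * c.t + c.b * σ c.s
  e5 := c.e5 + c.b * σ c.g + c.d * c.g + c.e1 * σ c.t + c.e2 * c.t + c.e4 * c.s + c.f * σ c.f + c.a * σ c.g * c.s +
    σ c.a * c.f * σ c.t + σ c.a * c.g * c.t + c.b * σ c.f * σ c.s + σ c.b * c.g * c.s + c.d * c.f * c.s +
    c.e1 * c.s * c.t + c.e2 * c.s * σ c.s + c.a * σ c.b * c.s * σ c.t + c.a * σ c.f * c.s * σ c.s +
    σ c.a * c.b * σ c.s * σ c.t + σ c.a * c.b * c.t * c.t + σ c.a * c.f * c.s * c.t + σ c.a * c.g * c.s * σ c.s +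
    c.b * σ c.b * c.s * c.t + c.e1 * c.s * c.s * σ c.s + c.a * σ c.a * c.s * σ c.s * σ c.t +
    c.a * σ c.a * c.s * c.t * c.t + σ c.a * c.f * c.s * c.s * σ c.s + c.a * σ c.b * c.s * c.s * c.s * σ c.s +
    σ c.a * c.b * c.s * c.s * σ c.s * σ c.s + c.a * σ c.a * c.s * c.s * c.s * σ c.s * σ c.s
  g := c.g + c.a * σ c.t + c.b * c.t + c.f * c.s + c.a * c.s * c.t + c.b * c.s * σ c.s + c.a * c.s * c.s * σ c.s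
  s := c.s
  t := c.t + c.s * σ c.s }⟩
def x1 (u : K) : Cd σ := ⟨u, 0, 0, 0, 0, 0, 0, 0, 0, 0, 0, 0⟩
def y2 (u : K) : Cd σ := ⟨0, u, 0, 0, 0, 0, 0, 0, 0, 0, 0, 0⟩
def x2 (u : K) : Cd σ := ⟨0, 0, u, 0, 0, 0, 0, 0, 0, 0, 0, 0⟩
def x3 (u : K) : Cd σ := ⟨0, 0, 0, u, 0, 0, 0, 0, 0, 0, 0, 0⟩
def y4 (u : K) : Cd σ := ⟨0, 0, 0, 0, u, 0, 0, 0, 0, 0, 0, 0⟩
def x4 (u : K) : Cd σ := ⟨0, 0, 0, 0, 0, u, 0, 0, 0, 0, 0, 0⟩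
def x5 (u : K) : Cd σ := ⟨0, 0, 0, 0, 0, 0, u, 0, 0, 0, 0, 0⟩
def y6 (u : K) : Cd σ := ⟨0, 0, 0, 0, 0, 0, 0, u, 0, 0, 0, 0⟩
def x6 (u : K) : Cd σ := ⟨0, 0, 0, 0, 0, 0, 0, 0, u, 0, 0, 0⟩
def x7 (u : K) : Cd σ := ⟨0, 0, 0, 0, 0, 0, 0, 0, 0, u, 0, 0⟩
def y8 (u : K) : Cd σ := ⟨0, 0, 0, 0, 0, 0, 0, 0, 0, 0, u, 0⟩
def x8 (u : K) : Cd σ := ⟨0, 0, 0, 0, 0, 0, 0, 0, 0, 0, 0, u⟩
end Cd

/-- coordinates on `S` -/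
structure Co (S : Subgroup G) (σ : K →+* K) (ev : Cd σ → G) : Prop where
  two : (2 : K) = 0
  ss : ∀ s, σ (σ s) = s * s
  mul : ∀ c c', ev c * ev c' = ev (c * c')
  inv : ∀ c, (ev c)⁻¹ = ev c⁻¹
  one : ev 1 = 1
  inj : Function.Injective ev
  mem : ∀ w, w ∈ S ↔ ∃ c, w = ev c

open H22.RF in
/-- the normal form -/
def evN (σ : K →+* K) (x y : ℤ → K → G) (c : Cd σ) : G := nf x y c.a c.b c.e1 c.e2 c.d c.e3 c.e4 c.f c.e5 c.g c.s c.t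

open H22.RF H3.TB in
set_option maxHeartbeats 4000000 in
theorem co_of_mo {U : ℤ → Subgroup G} {x y : ℤ → K → G} (h : Mo U σ x y) : Co (seg U 1 8) σ (evN σ x y) where
  two := h.two
  ss s := (h.c.ss s).trans (sq s)
  mul c c' := by simp only [evN, Cd.mul_a, Cd.mul_b, Cd.mul_e1, Cd.mul_e2, Cd.mul_d, Cd.mul_e3, Cd.mul_e4, Cd.mul_f, Cd.mul_e5,
    Cd.mul_g, Cd.mul_s, Cd.mul_t]; colc h
  inv c := h.pad (by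
    simp only [evN, Cd.inv_a, Cd.inv_b, Cd.inv_e1, Cd.inv_e2, Cd.inv_d, Cd.inv_e3, Cd.inv_e4, Cd.inv_f, Cd.inv_e5,
      Cd.inv_g, Cd.inv_s, Cd.inv_t]; colc h)
  one := h.nf0
  inj c c' e := let ⟨h1, h2, h3, h4, h5, h6, h7, h8, h9, h10, h11, h12⟩ := h.inj e
    Cd.ext h1 h2 h3 h4 h5 h6 h7 h8 h9 h10 h11 h12
  mem w := ⟨fun hw => let ⟨a, b, e1, e2, d, e3, e4, f, e5, g, s, t, e⟩ := h.exS hw
    ⟨⟨a, b, e1, e2, d, e3, e4, f, e5, g, s, t⟩, e⟩, fun ⟨_, e⟩ => e ▸ h.mS⟩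

/-- a property of coordinates that defines a subgroup -/
structure Cl (p : Cd σ → Prop) : Prop where
  one : p 1
  mul : ∀ c c', p c → p c' → p (c * c')
  inv : ∀ c, p c → p c⁻¹
macro "cl" : tactic => `(tactic| exact ⟨by simp, fun _ _ h h' => by simp [h, h'], fun _ h => by simp [h]⟩)

/-- `[A, B] ≤ C` -/
def CC (A B C : Subgroup G) : Prop := ∀ x ∈ A, ∀ y ∈ B, x * y * x⁻¹ * y⁻¹ ∈ C

namespace Co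
variable {S : Subgroup G} {ev : Cd σ → G} (h : Co S σ ev) {c : Cd σ} {p : Cd σ → Prop} {hp : Cl p} {w : G}
def sub (p : Cd σ → Prop) (hp : Cl p) : Subgroup G where
  carrier := {w | ∃ c, p c ∧ w = ev c}
  one_mem' := ⟨1, hp.one, h.one.symm⟩
  mul_mem' := by rintro _ _ ⟨c, hc, rfl⟩ ⟨c', hc', rfl⟩; exact ⟨_, hp.mul _ _ hc hc', h.mul _ _⟩
  inv_mem' := by rintro _ ⟨c, hc, rfl⟩; exact ⟨_, hp.inv _ hc, h.inv _⟩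
theorem mem_sub : ev c ∈ h.sub p hp ↔ p c := ⟨fun ⟨_, hc, e⟩ => h.inj e ▸ hc, fun hc => ⟨c, hc, rfl⟩⟩
theorem sub_le : h.sub p hp ≤ S := fun _ ⟨c, _, e⟩ => (h.mem _).2 ⟨c, e⟩
include h in
theorem mS (c : Cd σ) : ev c ∈ S := (h.mem _).2 ⟨c, rfl⟩
include h in
theorem ex (hw : w ∈ S) : ∃ c, True ∧ w = ev c := let ⟨c, e⟩ := (h.mem w).1 hw; ⟨c, trivial, e⟩
include h in
theorem cp : CharP K 2 := CharTwo.of_one_ne_zero_of_two_eq_zero one_ne_zero h.two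
include h in
theorem eq1 : ev c = 1 ↔ c = 1 := by rw [← h.one, h.inj.eq_iff]
def Z1 : Subgroup G := h.sub (fun c => c.a = 0 ∧ c.b = 0 ∧ c.e1 = 0 ∧ c.e2 = 0 ∧ c.d = 0 ∧ c.e4 = 0 ∧ c.f = 0 ∧ c.e5 = 0 ∧ c.g = 0 ∧ c.s = 0 ∧ c.t = 0) (by cl)
theorem mZ1 : ev c ∈ h.Z1 ↔ c.a = 0 ∧ c.b = 0 ∧ c.e1 = 0 ∧ c.e2 = 0 ∧ c.d = 0 ∧ c.e4 = 0 ∧ c.f = 0 ∧ c.e5 = 0 ∧ c.g = 0 ∧ c.s = 0 ∧ c.t = 0 := h.mem_sub
theorem lZ1 : h.Z1 ≤ S := h.sub_le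
def Z2 : Subgroup G := h.sub (fun c => c.a = 0 ∧ c.b = 0 ∧ c.e1 = 0 ∧ c.e2 = 0 ∧ c.d = 0 ∧ c.e4 = 0 ∧ c.f = 0 ∧ c.g = 0 ∧ c.s = 0 ∧ c.t = 0) (by cl)
theorem mZ2 : ev c ∈ h.Z2 ↔ c.a = 0 ∧ c.b = 0 ∧ c.e1 = 0 ∧ c.e2 = 0 ∧ c.d = 0 ∧ c.e4 = 0 ∧ c.f = 0 ∧ c.g = 0 ∧ c.s = 0 ∧ c.t = 0 := h.mem_sub
theorem lZ2 : h.Z2 ≤ S := h.sub_le
def W : Subgroup G := h.sub (fun c => c.a = 0 ∧ c.b = 0 ∧ c.e1 = 0 ∧ c.e2 = 0 ∧ c.d = 0 ∧ c.f = 0 ∧ c.g = 0 ∧ c.s = 0 ∧ c.t = 0) (by cl)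
theorem mW : ev c ∈ h.W ↔ c.a = 0 ∧ c.b = 0 ∧ c.e1 = 0 ∧ c.e2 = 0 ∧ c.d = 0 ∧ c.f = 0 ∧ c.g = 0 ∧ c.s = 0 ∧ c.t = 0 := h.mem_sub
theorem lW : h.W ≤ S := h.sub_le
def Z4 : Subgroup G := h.sub (fun c => c.a = 0 ∧ c.b = 0 ∧ c.e1 = 0 ∧ c.d = 0 ∧ c.f = 0 ∧ c.g = 0 ∧ c.s = 0 ∧ c.t = 0) (by cl)
theorem mZ4 : ev c ∈ h.Z4 ↔ c.a = 0 ∧ c.b = 0 ∧ c.e1 = 0 ∧ c.d = 0 ∧ c.f = 0 ∧ c.g = 0 ∧ c.s = 0 ∧ c.t = 0 := h.mem_sub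
theorem lZ4 : h.Z4 ≤ S := h.sub_le
def E : Subgroup G := h.sub (fun c => c.a = 0 ∧ c.b = 0 ∧ c.d = 0 ∧ c.f = 0 ∧ c.g = 0 ∧ c.s = 0 ∧ c.t = 0) (by cl)
theorem mE : ev c ∈ h.E ↔ c.a = 0 ∧ c.b = 0 ∧ c.d = 0 ∧ c.f = 0 ∧ c.g = 0 ∧ c.s = 0 ∧ c.t = 0 := h.mem_sub
theorem lE : h.E ≤ S := h.sub_le
def D : Subgroup G := h.sub (fun c => c.a = 0 ∧ c.b = 0 ∧ c.e1 = 0 ∧ c.d = 0 ∧ c.f = 0 ∧ c.s = 0 ∧ c.t = 0) (by cl)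
theorem mD : ev c ∈ h.D ↔ c.a = 0 ∧ c.b = 0 ∧ c.e1 = 0 ∧ c.d = 0 ∧ c.f = 0 ∧ c.s = 0 ∧ c.t = 0 := h.mem_sub
theorem lD : h.D ≤ S := h.sub_le
def Z5 : Subgroup G := h.sub (fun c => c.a = 0 ∧ c.b = 0 ∧ c.d = 0 ∧ c.f = 0 ∧ c.s = 0 ∧ c.t = 0) (by cl)
theorem mZ5 : ev c ∈ h.Z5 ↔ c.a = 0 ∧ c.b = 0 ∧ c.d = 0 ∧ c.f = 0 ∧ c.s = 0 ∧ c.t = 0 := h.mem_sub
theorem lZ5 : h.Z5 ≤ S := h.sub_le
def CE : Subgroup G := h.sub (fun c => c.a = 0 ∧ c.b = 0 ∧ c.f = 0 ∧ c.g = 0 ∧ c.s = 0 ∧ c.t = 0) (by cl)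
theorem mCE : ev c ∈ h.CE ↔ c.a = 0 ∧ c.b = 0 ∧ c.f = 0 ∧ c.g = 0 ∧ c.s = 0 ∧ c.t = 0 := h.mem_sub
theorem lCE : h.CE ≤ S := h.sub_le
def C4 : Subgroup G := h.sub (fun c => c.a = 0 ∧ c.b = 0 ∧ c.f = 0 ∧ c.s = 0 ∧ c.t = 0) (by cl)
theorem mC4 : ev c ∈ h.C4 ↔ c.a = 0 ∧ c.b = 0 ∧ c.f = 0 ∧ c.s = 0 ∧ c.t = 0 := h.mem_sub
theorem lC4 : h.C4 ≤ S := h.sub_le
def Z6 : Subgroup G := h.sub (fun c => c.a = 0 ∧ c.b = 0 ∧ c.s = 0 ∧ c.t = 0) (by cl)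
theorem mZ6 : ev c ∈ h.Z6 ↔ c.a = 0 ∧ c.b = 0 ∧ c.s = 0 ∧ c.t = 0 := h.mem_sub
theorem lZ6 : h.Z6 ≤ S := h.sub_le
def R0 : Subgroup G := h.sub (fun c => c.a = 0 ∧ c.b = 0 ∧ c.s = 0) (by cl)
theorem mR0 : ev c ∈ h.R0 ↔ c.a = 0 ∧ c.b = 0 ∧ c.s = 0 := h.mem_sub
theorem lR0 : h.R0 ≤ S := h.sub_le
def QR : Subgroup G := h.sub (fun c => c.a = 0 ∧ c.s = 0 ∧ c.t = 0) (by cl)
theorem mQR : ev c ∈ h.QR ↔ c.a = 0 ∧ c.s = 0 ∧ c.t = 0 := h.mem_sub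
theorem lQR : h.QR ≤ S := h.sub_le
def Z7 : Subgroup G := h.sub (fun c => c.a = 0 ∧ c.s = 0) (by cl)
theorem mZ7 : ev c ∈ h.Z7 ↔ c.a = 0 ∧ c.s = 0 := h.mem_sub
theorem lZ7 : h.Z7 ≤ S := h.sub_le
def Q : Subgroup G := h.sub (fun c => c.s = 0 ∧ c.t = 0) (by cl)
theorem mQ : ev c ∈ h.Q ↔ c.s = 0 ∧ c.t = 0 := h.mem_sub
theorem lQ : h.Q ≤ S := h.sub_le
def R : Subgroup G := h.sub (fun c => c.a = 0) (by cl)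
theorem mR : ev c ∈ h.R ↔ c.a = 0 := h.mem_sub
theorem lR : h.R ≤ S := h.sub_le
def QV : Subgroup G := h.sub (fun c => c.s = 0) (by cl)
theorem mQV : ev c ∈ h.QV ↔ c.s = 0 := h.mem_sub
theorem lQV : h.QV ≤ S := h.sub_le
def E6 : Subgroup G := h.sub (fun c => c.a = 0 ∧ c.b = 0 ∧ c.e1 = 0 ∧ c.e2 = 0 ∧ c.d = 0 ∧ c.f = 0 ∧ c.s = 0) (by cl)
theorem mE6 : ev c ∈ h.E6 ↔ c.a = 0 ∧ c.b = 0 ∧ c.e1 = 0 ∧ c.e2 = 0 ∧ c.d = 0 ∧ c.f = 0 ∧ c.s = 0 := h.mem_sub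
theorem lE6 : h.E6 ≤ S := h.sub_le
def UE : Subgroup G := h.sub (fun c => c.d = 0 ∧ c.f = 0 ∧ c.g = 0 ∧ c.s = 0 ∧ c.t = 0) (by cl)
theorem mUE : ev c ∈ h.UE ↔ c.d = 0 ∧ c.f = 0 ∧ c.g = 0 ∧ c.s = 0 ∧ c.t = 0 := h.mem_sub
theorem lUE : h.UE ≤ S := h.sub_le
def Y3 : Subgroup G := h.sub (fun c => c.a = 0 ∧ c.b = 0 ∧ c.d = 0 ∧ c.e4 = 0 ∧ c.f = 0 ∧ c.e5 = 0 ∧ c.g = 0 ∧ c.s = 0 ∧ c.t = 0) (by cl)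
theorem mY3 : ev c ∈ h.Y3 ↔ c.a = 0 ∧ c.b = 0 ∧ c.d = 0 ∧ c.e4 = 0 ∧ c.f = 0 ∧ c.e5 = 0 ∧ c.g = 0 ∧ c.s = 0 ∧ c.t = 0 := h.mem_sub
theorem lY3 : h.Y3 ≤ S := h.sub_le
def V6 : Subgroup G := h.sub (fun c => c.a = 0 ∧ c.b = 0 ∧ c.e1 = 0 ∧ c.e2 = 0 ∧ c.d = 0 ∧ c.e3 = 0 ∧ c.e4 = 0 ∧ c.f = 0 ∧ c.g = 0 ∧ c.s = 0 ∧ c.t = 0) (by cl)
theorem mV6 : ev c ∈ h.V6 ↔ c.a = 0 ∧ c.b = 0 ∧ c.e1 = 0 ∧ c.e2 = 0 ∧ c.d = 0 ∧ c.e3 = 0 ∧ c.e4 = 0 ∧ c.f = 0 ∧ c.g = 0 ∧ c.s = 0 ∧ c.t = 0 := h.mem_sub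
theorem lV6 : h.V6 ≤ S := h.sub_le
def S3 : Subgroup G := h.sub (fun c => c.a = 0 ∧ c.b = 0 ∧ c.e1 = 0) (by cl)
theorem mS3 : ev c ∈ h.S3 ↔ c.a = 0 ∧ c.b = 0 ∧ c.e1 = 0 := h.mem_sub
theorem lS3 : h.S3 ≤ S := h.sub_le
end Co

/-- translation to coordinates -/
macro "cs" h:term:max "[" ls:Lean.Parser.Tactic.simpLemma,* "]" loc:(Lean.Parser.Tactic.location)? : tactic => `(tactic| simp only [Co.mul $h, Co.inv $h, Co.eq1 $h,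
  (Co.inj $h).eq_iff, Co.mS $h, Cd.ext_iff, Co.mZ1 $h, Co.mZ2 $h, Co.mW $h, Co.mZ4 $h, Co.mE $h, Co.mD $h, Co.mZ5 $h, Co.mCE $h, Co.mC4 $h, Co.mZ6 $h,
  Co.mR0 $h, Co.mQR $h, Co.mZ7 $h, Co.mQ $h, Co.mR $h, Co.mQV $h, Co.mE6 $h, Co.mUE $h, Co.mY3 $h, Co.mV6 $h,
  Co.mS3 $h,
  Cd.mul_a, Cd.mul_b, Cd.mul_e1, Cd.mul_e2, Cd.mul_d, Cd.mul_e3, Cd.mul_e4, Cd.mul_f, Cd.mul_e5, Cd.mul_g,
  Cd.mul_s, Cd.mul_t, Cd.inv_a, Cd.inv_b, Cd.inv_e1, Cd.inv_e2, Cd.inv_d, Cd.inv_e3, Cd.inv_e4, Cd.inv_f,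
  Cd.inv_e5, Cd.inv_g, Cd.inv_s, Cd.inv_t, Cd.one_a, Cd.one_b, Cd.one_e1, Cd.one_e2, Cd.one_d, Cd.one_e3,
  Cd.one_e4, Cd.one_f, Cd.one_e5, Cd.one_g, Cd.one_s, Cd.one_t,
  Cd.x1, Cd.y2, Cd.x2, Cd.x3, Cd.y4, Cd.x4, Cd.x5, Cd.y6, Cd.x6, Cd.x7, Cd.y8, Cd.x8,
  map_add, map_mul, map_zero, map_one, Co.ss $h, mul_zero, zero_mul, add_zero, zero_add, mul_one, one_mul, and_self, and_true,
  true_and, $ls,*] $[$loc]?)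
/-- polynomial identities in characteristic two -/
macro "cg2" h:term:max : tactic => `(tactic| (have := Co.cp $h; (repeat' apply And.intro) <;> grind))
/-- coordinates of an element of a pattern subgroup -/
macro "ob" h:term:max hx:ident c:ident hc:ident : tactic => `(tactic| (
  first | obtain ⟨$c:ident, -, e⟩ := Co.ex $h $hx | obtain ⟨$c:ident, $hc:ident, e⟩ := $hx
  subst e))
/-- inclusions between pattern subgroups -/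
macro "sl" h:term:max : tactic => `(tactic| (intro x hx; ob $h hx c hc; cs $h [hc]))
/-- commutator relations between pattern subgroups -/
macro "cc" h:term:max : tactic => `(tactic| (
  intro x hx y hy
  try rw [Subgroup.mem_bot]
  ob $h hx c hc
  ob $h hy c' hc'
  first | cs $h [hc, hc'] | cs $h [hc'] | cs $h [hc] | cs $h []
  all_goals cg2 $h))

end H22.FZ
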