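/-
Fusion systems on a Sylow 2-subgroup of a Ree group of type `F₄`, part 2: essential subgroups, general lemmas.
-/
import Cfsg.Agent.H22.FZ1
import Cfsg.Agent.H25.PC
import Cfsg.Agent.H25.Ess
import Cfsg.Agent.H10.StrongEmb

set_option autoImplicit false
set_option linter.unusedSectionVars false

namespace H22.FZ
open Subgroup H25 H25.FS
universe u
variable {Γ : Type u} [Group Γ] [Finite Γ] {S P A B V X Y Z : Subgroup Γ} {a b g s t u v w x y : Γ} {l : List (Subgroup Γ)}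

instance : Fact (Nat.Prime 2) := ⟨Nat.prime_two⟩

/-- the image of `X` in `A / Inn(P)` is strongly embedded -/
structure TI (S P A X : Subgroup Γ) : Prop where
  le : ai S P ≤ X
  XA : X ≤ A
  ne : ¬ A ≤ X
  ti : ∀ g ∈ A, ∀ u ∈ ai S P, u ∉ ai P P → g * u * g⁻¹ ∈ ai S P → g ∈ X

/-- automizer of a centric, fully normalized subgroup -/
structure Au (S P A : Subgroup Γ) : Prop where
  pg : IsPGroup 2 S
  le : P ≤ S
  cen : S ⊓ cz P ≤ P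
  nA : ai S P ≤ A
  An : A ≤ nz P
  syl : Syl 2 (ai S P) A

/-- essential subgroup -/
structure Es (S P A : Subgroup Γ) : Prop extends Au S P A where
  ne : P ≠ S
  ti : ∃ X, TI S P A X

theorem es_of {F : FS Γ} (hF : F.Sat 2) (h : F.Ess P) : Es F.S P (F.A P) where
  pg := hF.pg
  le := h.le
  ne := h.lt.ne
  cen := h.centric.C_le
  nA := F.ai_le_A P
  An := F.A_le_nz P
  syl := hF.syl h.fn
  ti := ⟨F.Hx P, ai_le_Hx h.lt, F.Hx_le_A P, h.not_le, fun _ hg _ hu hu' e => hF.mem_Hx_of_ai h.fn hg hu hu' e⟩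

theorem Es.conj (e : Es S P A) (hs : s ∈ S) : Es S (cj s P) (cj s A) := by
  have k : cj s S = S := cj_eq_of_mem hs
  have k' : cj s (ai S P) = ai S (cj s P) := by rw [cj_ai, k]
  obtain ⟨X, x⟩ := e.ti
  refine ⟨⟨e.pg, cj_le_of_mem hs e.le, ?_, k' ▸ cj_mono s e.nA, cj_nz s P ▸ cj_mono s e.An, k' ▸ e.syl.cj s⟩,
    fun c => e.ne (cj_inj.1 (c.trans k.symm)), cj s X, k' ▸ cj_mono s x.le, cj_mono s x.XA, fun c => x.ne (cj_le_cj.1 c), ?_⟩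
  · rw [← cj_cz, ← k, ← cj_inf]; exact cj_mono s e.cen
  · rw [← k', ← cj_ai]
    rintro _ ⟨g, hg, rfl⟩ _ ⟨u, hu, rfl⟩ h1 h2
    refine conj_mem_cj s (x.ti g hg u hu (fun c => h1 (conj_mem_cj s c)) ?_)
    simpa [mem_cj, mul_assoc] using h2

/-- the stabilizer of a chain -/
def kk (B : Subgroup Γ) : Subgroup Γ → List (Subgroup Γ) → Subgroup Γ
  | P, [] => stab P B
  | P, Y :: l => stab P Y ⊓ kk B Y l
/-- `[x, P] ≤ Y` -/
def Cm (x : Γ) (P Y : Subgroup Γ) : Prop := ∀ y ∈ P, x * y * x⁻¹ * y⁻¹ ∈ Y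
/-- `x` acts trivially on the factors of a chain -/
def Ch (x : Γ) (B : Subgroup Γ) : Subgroup Γ → List (Subgroup Γ) → Prop
  | P, [] => Cm x P B
  | P, Y :: l => Cm x P Y ∧ Ch x B Y l

theorem kk_cop (hl : ∀ Y ∈ l, IsPGroup 2 Y) (hc : (orderOf a).Coprime 2) (h : a ∈ kk B P l) : a ∈ stab P B := by
  induction l generalizing P with
  | nil => exact h
  | cons Y l ih => exact stab_of_coprime (hl Y (by simp)) hc h.1 (ih (fun Z hZ => hl Z (by simp [hZ])) h.2)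
theorem kk_nz (hl : ∀ Y ∈ l, g ∈ nz Y) (hB : g ∈ nz B) (hP : g ∈ nz P) : g ∈ nz (kk B P l) := by
  induction l generalizing P with
  | nil => exact mem_nz_stab hP (mem_nz_inf hP hB)
  | cons Y l ih =>
    exact mem_nz_inf (mem_nz_stab hP (mem_nz_inf hP (hl Y (by simp)))) (ih (fun Z hZ => hl Z (by simp [hZ])) (hl Y (by simp)))
theorem kk_mem (hl : ∀ Y ∈ l, x ∈ nz Y) (hP : x ∈ nz P) (h : Ch x B P l) : x ∈ kk B P l := by
  induction l generalizing P with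
  | nil => exact mem_stab'.2 ⟨hP, h⟩
  | cons Y l ih => exact ⟨mem_stab'.2 ⟨hP, h.1⟩, ih (fun Z hZ => hl Z (by simp [hZ])) (hl Y (by simp)) h.2⟩
theorem kk_cz (hl : ∀ Y ∈ l, Y ≤ P) (hX : X ≤ P) : cz P ≤ kk B X l := by
  induction l generalizing X with
  | nil => exact (cz_anti hX).trans (cz_le_stab _ _)
  | cons Y l ih => exact le_inf ((cz_anti hX).trans (cz_le_stab _ _)) (ih (fun Z hZ => hl Z (by simp [hZ])) (hl Y (by simp)))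
theorem kk_pel (hP : IsPGroup 2 P) (hl : ∀ Y ∈ l, Y ≤ P) (h : a ∈ kk (fr P) P l) : PEl 2 (cz P) a :=
  let ⟨n, hn⟩ := exists_coprime_pow (p := 2) a
  ⟨n, cz_of_stab_fr hP hn (kk_cop (fun Y hY => hP.to_le (hl Y hY)) hn (pow_mem h _))⟩

theorem Cm.mono {P' Y' : Subgroup Γ} (h : Cm x P Y) (h1 : P' ≤ P) (h2 : Y ≤ Y') : Cm x P' Y' := fun y hy => h2 (h y (h1 hy))
theorem CC.cm {C P' Y' : Subgroup Γ} (h : CC A B C) (hx : x ∈ A) (h1 : P' ≤ B) (h2 : C ≤ Y') : Cm x P' Y' :=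
  Cm.mono (h x hx) h1 h2
theorem CC.symm {C : Subgroup Γ} (h : CC A B C) : CC B A C := fun x hx y hy => by
  simpa [mul_assoc] using inv_mem (h y hy x hx)
theorem CC.nz (h : CC A B B) : A ≤ nz B := le_nz_iff.2 fun g hg x hx => by simpa using mul_mem (h g hg x hx) hx
theorem CC.nz' {C : Subgroup Γ} (h : CC A B C) (h1 : P ≤ B) (h2 : C ≤ P) : A ≤ H25.nz P :=
  CC.nz fun _ hx => h.cm hx h1 h2
theorem CC.cz (h : CC A B ⊥) : A ≤ cz B := fun x hx => mem_cz.2 fun y hy => mul_inv_eq_one.1 (mem_bot.1 (h x hx y hy))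
theorem cm_of_cz (h : x ∈ cz P) : Cm x P Y := fun y hy => by simp [mem_cz.1 h y hy]
theorem nz_of_char (h : ∀ w, w ∈ Y ↔ w ∈ P ∧ Cm w X Z) (h1 : g ∈ nz P) (h2 : g ∈ nz X) (h3 : g ∈ nz Z) : g ∈ nz Y :=
  mem_nz_of_conj_mem fun w hw => (h _).2 ⟨conj_mem_of_mem_nz h1 ((h w).1 hw).1, fun x hx => by
    simpa [mul_assoc] using conj_mem_of_mem_nz h3 (((h w).1 hw).2 _ (conj_mem_of_mem_nz' h2 hx))⟩
theorem nz_bot (g : Γ) : g ∈ nz (⊥ : Subgroup Γ) := mem_nz_of_conj_mem fun w hw => by simp [mem_bot.1 hw]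

/-- `Ω₁(Z(P))` -/
def zo (P : Subgroup Γ) : Subgroup Γ where
  carrier := {w | w ∈ P ∧ w ∈ cz P ∧ w * w = 1}
  one_mem' := ⟨one_mem _, one_mem _, one_mul _⟩
  mul_mem' := fun {a b} ha hb => ⟨mul_mem ha.1 hb.1, mul_mem ha.2.1 hb.2.1, by
    rw [mul_assoc, ← mul_assoc b, mem_cz'.1 ha.2.1 b hb.1, mul_assoc, hb.2.2, mul_one, ha.2.2]⟩
  inv_mem' := fun {a} ha => ⟨inv_mem ha.1, inv_mem ha.2.1, by rw [← mul_inv_rev, ha.2.2, inv_one]⟩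
/-- generated by the involutions that are central modulo `Y` -/
def om (P Y : Subgroup Γ) : Subgroup Γ := closure {w | w ∈ P ∧ w * w = 1 ∧ Cm w P Y}
theorem zo_le : zo P ≤ P := fun _ h => h.1
theorem le_cz_zo : P ≤ cz (zo P) := le_cz_comm.1 fun _ h => h.2.1
theorem sq_cj (h : w * w = 1) (g : Γ) : g * w * g⁻¹ * (g * w * g⁻¹) = 1 := by
  rw [show g * w * g⁻¹ * (g * w * g⁻¹) = g * (w * w) * g⁻¹ by group, h]; group
theorem nz_zo (h : g ∈ nz P) : g ∈ nz (zo P) := mem_nz_of_conj_mem fun _ hw =>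
  ⟨conj_mem_of_mem_nz h hw.1, conj_mem_of_mem_nz (mem_nz_cz h) hw.2.1, sq_cj hw.2.2 g⟩
theorem cj_zo (g : Γ) (P : Subgroup Γ) : cj g (zo P) = zo (cj g P) := by
  ext w
  have : g⁻¹ * w * g * (g⁻¹ * w * g) = 1 ↔ w * w = 1 := ⟨fun e => by simpa [mul_assoc] using sq_cj e g,
    fun e => by simpa using sq_cj e g⁻¹⟩
  rw [mem_cj]
  exact and_congr mem_cj.symm (and_congr (by rw [← cj_cz, mem_cj]) this)
theorem om_le : om P Y ≤ P := (closure_le _).2 fun _ h => h.1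
theorem om_le_of (h : ∀ w ∈ P, w * w = 1 → Cm w P Y → w ∈ X) : om P Y ≤ X := (closure_le _).2 fun w k => h w k.1 k.2.1 k.2.2
theorem mem_om (h1 : w ∈ P) (h2 : w * w = 1) (h3 : Cm w P Y) : w ∈ om P Y := subset_closure ⟨h1, h2, h3⟩
theorem nz_om (h : g ∈ nz P) (h' : g ∈ nz Y) : g ∈ nz (om P Y) := mem_nz_of_le (by
  rw [cj_le_iff]
  refine om_le_of fun w h1 h2 h3 => mem_cj.2 ?_
  rw [inv_inv]
  exact mem_om (conj_mem_of_mem_nz h h1) (sq_cj h2 g) fun x hx => by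
    simpa [mul_assoc] using conj_mem_of_mem_nz h' (h3 _ (conj_mem_of_mem_nz' h hx)))
theorem cm_self (h : w ∈ P) : Cm w P P := fun _ hy => mul_mem (mul_mem (mul_mem h hy) (inv_mem h)) (inv_mem hy)
theorem ai_cz (h : V ≤ P) (h' : P ≤ cz V) : ai P P ≤ cz V := ai_le (inf_le_left.trans h') (cz_anti h)
theorem mem_of_odd {n : ℕ} (hn : Odd n) (h : a ^ n ∈ X) (h' : a * a ∈ X) : a ∈ X := by
  obtain ⟨m, rfl⟩ := hn
  rwa [pow_succ, pow_mul, pow_two, mul_mem_cancel_left (pow_mem h' _)] at h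
theorem PEl.odd {n : ℕ} (hn : Odd n) (h : a ^ n ∈ X) (h' : PEl 2 X a) : a ∈ X := by
  obtain ⟨k, hk⟩ := h'
  induction k with
  | zero => simpa using hk
  | succ k ih =>
    refine ih (mem_of_odd hn (by rw [← pow_mul, mul_comm, pow_mul]; exact pow_mem h _) ?_)
    rwa [← pow_add, ← two_mul, ← pow_succ']
theorem ex_sq (h : PEl 2 X a) (h' : a ∉ X) : ∃ n : ℕ, a ^ n ∉ X ∧ a ^ n * a ^ n ∈ X := by
  obtain ⟨k, hk⟩ := h
  induction k with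
  | zero => exact (h' (by simpa using hk)).elim
  | succ k ih =>
    by_cases c : a ^ 2 ^ k ∈ X
    · exact ih c
    · exact ⟨_, c, by rwa [← pow_add, ← two_mul, ← pow_succ']⟩

/-- involution of `A / Inn(P)` -/
structure Iv (P A : Subgroup Γ) (u : Γ) : Prop where
  mem : u ∈ A
  ne : u ∉ ai P P
  sq : u * u ∈ ai P P

namespace Au
variable (e : Au S P A)
include e
theorem cA : cz P ≤ A := (cz_le_ai _ _).trans e.nA
theorem mA (h1 : x ∈ S) (h2 : x ∈ nz P) : x ∈ A := e.nA (mem_ai_of_mem h1 h2)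
theorem PA : ai P P ≤ A := (ai_mono e.le P).trans e.nA
theorem An' : A ≤ nz (ai P P) := e.An.trans (nz_le_nz_ai_self P)
theorem mem (h1 : x ∈ S) (h2 : x ∈ ai P P) : x ∈ P := by
  obtain ⟨-, p, hp, k⟩ := mem_ai.1 h2
  exact (mul_mem_cancel_left (inv_mem hp)).1 (e.cen (mem_inf.2 ⟨mul_mem (inv_mem (e.le hp)) h1, agree_iff.1 k⟩))
theorem iv (h1 : x ∈ S) (h2 : x ∈ nz P) (h3 : x ∉ P) (h4 : x * x ∈ P) : Iv P A x :=
  ⟨e.mA h1 h2, fun c => h3 (e.mem h1 c), le_ai_self P h4⟩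
theorem ivc (h : Iv P A u) (hg : g ∈ A) : Iv P A (g * u * g⁻¹) :=
  ⟨mul_mem (mul_mem hg h.mem) (inv_mem hg), fun c => h.ne (by simpa [mul_assoc] using conj_mem_of_mem_nz' (e.An' hg) c),
    by simpa [mul_assoc] using conj_mem_of_mem_nz (e.An' hg) h.sq⟩
/-- the chain stabilizer is the image of `S` when it contains it -/
theorem kk_eq (hl : ∀ Y ∈ l, Y ≤ P) (h : ai S P ≤ kk (fr P) P l) : ai S P = A ⊓ kk (fr P) P l :=
  (e.syl.mono_right (le_inf e.nA h) inf_le_left).eq_of_pel (cz_le_ai _ _) (inf_le_left.trans (e.An.trans (nz_le_nz_cz P)))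
    fun _ hk => kk_pel (e.pg.to_le e.le) hl hk.2
theorem exX (x : TI S P A X) (h : Iv P A t) (ht : t ∈ X) : ∃ k ∈ X, k * t * k⁻¹ ∈ ai S P := by
  obtain ⟨k, hk, c⟩ := (e.syl.mono_right x.le x.XA).exists_cj_le_of_pel (K := zpowers t) (cz_le_ai _ _)
    (x.XA.trans (e.An.trans (nz_le_nz_cz P))) (PEl.zpowers (PEl.of_pow (n := 1)
      (by simpa [pow_two] using pel_ai (e.pg.to_le e.le) _ h.sq))) (zpowers_le.2 ht)
  exact ⟨k, hk, c (conj_mem_cj k (mem_zpowers t))⟩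
theorem memX (x : TI S P A X) (h : Iv P A t) (ht : t ∈ X) (hg : g ∈ A) (c : g * t * g⁻¹ ∈ X) : g ∈ X := by
  obtain ⟨k, hk, c1⟩ := e.exX x h ht
  obtain ⟨k', hk', c2⟩ := e.exX x (e.ivc h hg) c
  have := x.ti (k' * g * k⁻¹) (mul_mem (mul_mem (x.XA hk') hg) (inv_mem (x.XA hk))) _ c1 (e.ivc h (x.XA hk)).ne
    (by simpa [mul_assoc] using c2)
  rwa [mul_mem_cancel_right (inv_mem hk), mul_mem_cancel_left hk'] at this
theorem nrm : ((ai P P).subgroupOf A).Normal := (normal_subgroupOf_iff_le_normalizer e.PA).2 e.An'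
theorem se (x : TI S P A X) (h : Iv P A t) (ht : t ∈ X) : ∃ (Q : Type u) (_ : Group Q) (_ : Finite Q) (q : A →* Q) (Y : Subgroup Q),
    Cfsg.IsStronglyEmbedded Y ∧ Function.Surjective q ∧ (∀ a, q a = 1 ↔ (a : Γ) ∈ ai P P) ∧ (∀ a, q a ∈ Y ↔ (a : Γ) ∈ X) ∧
      ∀ a, orderOf (q a) = 2 ↔ Iv P A a := by
  have := e.nrm
  let q := QuotientGroup.mk' ((ai P P).subgroupOf A)
  have sj : Function.Surjective q := QuotientGroup.mk'_surjective _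
  have h1 : ∀ a, q a = 1 ↔ (a : Γ) ∈ ai P P := fun a => QuotientGroup.eq_one_iff a
  have h2 : ∀ a, q a ∈ (X.subgroupOf A).map q ↔ (a : Γ) ∈ X := fun a => ⟨fun ⟨b, hb, c⟩ => by
    have : ((b⁻¹ * a : A) : Γ) ∈ ai P P := (h1 _).1 (by rw [map_mul, map_inv, c, inv_mul_cancel])
    exact (mul_mem_cancel_left (inv_mem hb)).1 (x.le (ai_mono e.le P this)), fun c => ⟨a, c, rfl⟩⟩
  have h3 : ∀ a, orderOf (q a) = 2 ↔ Iv P A a := fun a => by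
    rw [orderOf_eq_prime_iff, pow_two, ← map_mul, h1, ne_eq, h1]
    exact ⟨fun c => ⟨a.2, c.2, c.1⟩, fun c => ⟨c.sq, c.ne⟩⟩
  refine ⟨_, _, inferInstance, q, _, H10.isStronglyEmbedded_iff.2 ⟨fun c => x.ne fun a ha => (h2 ⟨a, ha⟩).1 (c.ge (mem_top _)),
    ⟨q ⟨t, h.mem⟩, (h2 _).2 ht, (h3 _).2 h⟩, fun a ha o g c => ?_⟩, sj, h1, h2, h3⟩
  obtain ⟨a, rfl⟩ := sj a
  obtain ⟨g, rfl⟩ := sj g
  rw [← map_inv, ← map_mul, ← map_mul, h2] at c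
  exact (h2 g).2 (e.memX x ((h3 a).1 o) ((h2 a).1 ha) g.2 c)
theorem conjI (x : TI S P A X) (h : Iv P A u) (hu : u ∈ X) (h' : Iv P A v) : ∃ g ∈ A, (g * u * g⁻¹)⁻¹ * v ∈ ai P P := by
  obtain ⟨Q, _, _, q, Y, se, sj, h1, -, h3⟩ := e.se x h hu
  obtain ⟨g, c⟩ := isConj_iff.1 (H10.SE.isConj se ((h3 ⟨u, h.mem⟩).2 h) ((h3 ⟨v, h'.mem⟩).2 h'))
  obtain ⟨g, rfl⟩ := sj g
  exact ⟨g, g.2, (h1 ((g * ⟨u, h.mem⟩ * g⁻¹)⁻¹ * ⟨v, h'.mem⟩)).1 (by simp only [map_mul, map_inv, c, inv_mul_cancel])⟩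
theorem oddI (x : TI S P A X) (h : Iv P A u) (hu : u ∈ X) (h' : Iv P A v) (hv : v ∉ X) : ∃ n, Odd n ∧ (u * v) ^ n ∈ ai P P := by
  obtain ⟨Q, _, _, q, Y, se, -, h1, h2, h3⟩ := e.se x h hu
  refine ⟨_, H10.SE.odd_mul se ((h2 ⟨u, h.mem⟩).2 hu) ((h3 _).2 h) (mt (h2 ⟨v, h'.mem⟩).1 hv) ((h3 _).2 h'), ?_⟩
  exact (h1 ((⟨u, h.mem⟩ * ⟨v, h'.mem⟩) ^ _)).1 (by rw [map_pow, map_mul, pow_orderOf_eq_one])
theorem interI (x : TI S P A X) (h : Iv P A u) (hu : u ∉ X) (h1 : Iv P A s) (hs : s ∈ X) (h2 : Iv P A t) (ht : t ∈ X) :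
    ∃ d ∈ X, u * d * (u * d) ∈ ai P P ∧ (d * s * d⁻¹)⁻¹ * t ∈ ai P P := by
  obtain ⟨Q, _, _, q, Y, se, sj, k1, k2, k3⟩ := e.se x h1 hs
  obtain ⟨d, hd, c1, c2⟩ := H10.SE.exists_conj_inter se (mt (k2 ⟨u, h.mem⟩).1 hu) ((k3 _).2 h) ((k2 ⟨s, h1.mem⟩).2 hs)
    ((k3 _).2 h1) ((k2 ⟨t, h2.mem⟩).2 ht) ((k3 _).2 h2)
  obtain ⟨d, rfl⟩ := sj d
  refine ⟨d, (k2 d).1 hd, (k1 (⟨u, h.mem⟩ * d * (⟨u, h.mem⟩ * d))).1 ?_,
    (k1 ((d * ⟨s, h1.mem⟩ * d⁻¹)⁻¹ * ⟨t, h2.mem⟩)).1 (by simp only [map_mul, map_inv, c2, inv_mul_cancel])⟩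
  have := (k1 (⟨u, h.mem⟩ * ⟨u, h.mem⟩)).2 h.sq
  rw [map_mul] at this
  rw [← eq_inv_of_mul_eq_one_left this] at c1
  simp only [map_mul, ← mul_assoc, c1, inv_mul_cancel]
end Au

namespace Es
variable (e : Es S P A)
include e
theorem rad (h1 : X ≤ A) (h2 : A ≤ nz X) (h3 : ∀ k ∈ X, PEl 2 (cz P) k) : X ≤ ai P P := fun u hu => by
  have k := e.syl.le_of_normal_pel (cz_le_ai _ _) (e.An.trans (nz_le_nz_cz P)) h3 h1 h2
  obtain ⟨Y, y⟩ := e.ti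
  by_contra c
  exact y.ne fun g hg => y.ti g hg u (k hu) c (k (conj_mem_of_mem_nz (h2 hg) hu))
theorem chain (l : List (Subgroup Γ)) (hl : ∀ Y ∈ l, Y ≤ P ∧ A ≤ nz Y) (h1 : x ∈ S) (h2 : x ∈ nz P) (h : Ch x (fr P) P l) :
    x ∈ P := e.mem h1 (e.rad (X := A ⊓ kk (fr P) P l) inf_le_left (fun _ hg => mem_nz_inf (le_nz_self A hg)
      (kk_nz (fun Y hY => (hl Y hY).2 hg) (nz_le_nz_fr P (e.An hg)) (e.An hg)))
    (fun _ hk => kk_pel (e.pg.to_le e.le) (fun Y hY => (hl Y hY).1) hk.2)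
    ⟨e.mA h1 h2, kk_mem (fun Y hY => (hl Y hY).2 (e.mA h1 h2)) h2 h⟩)
theorem le_of (h1 : B ≤ S) (h2 : P ≤ nz B) (h : ∀ x ∈ B, x ∈ nz P → x ∈ P) : B ≤ P := by
  by_contra c
  obtain ⟨x, hx, k1, k2⟩ := exists_mem_nz_of_not_le e.pg e.le h1 h2 c
  exact k2 (h x hx k1)
theorem zo_n : zo P ≤ P ∧ A ≤ nz (zo P) := ⟨zo_le, fun _ h => nz_zo (e.An h)⟩
theorem om_n (h : A ≤ nz Y) : om P Y ≤ P ∧ A ≤ nz (om P Y) := ⟨om_le, fun _ k => nz_om (e.An k) (h k)⟩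
theorem ok : S ⊓ cz (zo P) ≤ P ∨ ∀ x ∈ S, x ∈ nz P → x * x ∈ P → x ∈ cz (zo P) := by
  refine or_iff_not_imp_left.2 fun c x h1 h2 h3 => ?_
  obtain ⟨y, hy, k1, k2⟩ := exists_mem_nz_of_not_le e.pg e.le inf_le_left
    ((le_inf e.le le_cz_zo).trans (le_nz_self _)) c
  obtain ⟨n, k3, k4⟩ := ex_sq (X := P) (PEl.of_isPGroup e.pg hy.1) k2
  obtain ⟨X, t⟩ := e.ti
  by_cases c : x ∈ P
  · exact le_cz_zo c
  obtain ⟨g, hg, k⟩ := e.conjI t (e.iv (pow_mem hy.1 n) (pow_mem k1 n) k3 k4)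
    (t.le (mem_ai_of_mem (pow_mem hy.1 n) (pow_mem k1 n))) (e.iv h1 h2 c h3)
  exact (mul_mem_cancel_left (inv_mem (conj_mem_of_mem_nz (mem_nz_cz (e.zo_n.2 hg)) (pow_mem hy.2 n)))).1
    (ai_cz zo_le le_cz_zo k)
end Es

/-- the elements of `H` fixing `w` modulo `Z` -/
def fxm (H Z : Subgroup Γ) (h : H ≤ cz Z) (w : Γ) : Subgroup Γ where
  carrier := {a | a ∈ H ∧ a * w * a⁻¹ * w⁻¹ ∈ Z}
  one_mem' := ⟨one_mem _, by simp⟩
  mul_mem' := fun {a b} ha hb => ⟨mul_mem ha.1 hb.1, by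
    have := mul_mem (conj_mem_of_mem_nz (cz_le_nz Z (h ha.1)) hb.2) ha.2
    simpa [mul_assoc] using this⟩
  inv_mem' := fun {a} ha => ⟨inv_mem ha.1, by
    have := inv_mem (conj_mem_of_mem_nz' (cz_le_nz Z (h ha.1)) ha.2)
    simpa [mul_assoc] using this⟩

/-- quadratic action -/
theorem Es.kb (e : Es S P A) (hI : S ⊓ cz (zo P) ≤ P) (h1 : B ≤ S) (h2 : B ≤ nz P) (sq : ∀ b ∈ B, b * b ∈ P)
    (h3 : CC B (zo P) Y) (h4 : B ≤ cz Y) {K : Type*} [Finite K] [Nontrivial K] (φ : K × K → Γ) (hφ : ∀ i, φ i ∈ B)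
    (inj : ∀ i j, (φ i)⁻¹ * φ j ∈ P → i = j) (ψ : K → Γ) (x1 : x ∈ S) (x2 : x ∈ nz P) (x3 : x ∉ P) (x4 : x * x ∈ P)
    (hψ : ∀ v ∈ zo P, ∃ k, x * v * x⁻¹ * v⁻¹ = ψ k) : False := by
  obtain ⟨X, t⟩ := e.ti
  obtain ⟨g, hg, gX⟩ := SetLike.not_le_iff_exists.1 t.ne
  have ix := e.iv x1 x2 x3 x4
  have iy := e.ivc ix hg
  have yX := fun c => gX (e.memX t ix (t.le (mem_ai_of_mem x1 x2)) hg c)
  have gV := e.zo_n.2 hg
  have hθ : ∀ v ∈ zo P, ∃ k, g * x * g⁻¹ * v * (g * x * g⁻¹)⁻¹ * v⁻¹ = g * ψ k * g⁻¹ := fun v hv =>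
    let ⟨k, c⟩ := hψ _ (conj_mem_of_mem_nz' gV hv); ⟨k, by rw [← c]; group⟩
  generalize g * x * g⁻¹ = y at iy yX hθ
  have aV : ai P P ≤ cz (zo P) := ai_cz zo_le le_cz_zo
  have ab : ∀ u ∈ zo P, ∀ v ∈ zo P, u * v = v * u := fun u hu v hv => mem_cz'.1 hv.2.1 u hu.1
  have BG : B ≤ B ⊔ zpowers y := le_sup_left
  have yG : y ∈ B ⊔ zpowers y := mem_sup_right (mem_zpowers y)
  have GV : B ⊔ zpowers y ≤ nz (zo P) := (sup_le (fun b hb => e.mA (h1 hb) (h2 hb)) (zpowers_le.2 iy.mem)).trans e.zo_n.2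
  have mZ : ∀ v ∈ zo P, v ∈ cz B → y * v * y⁻¹ = v → v ∈ zo P ⊓ cz (B ⊔ zpowers y) := fun v hv c1 c2 =>
    mem_inf.2 ⟨hv, cz_sup B _ ▸ mem_inf.2 ⟨c1, mem_cz_zpowers.2 (by rw [← mul_inv_eq_iff_eq_mul.1 c2, mul_inv_cancel_right])⟩⟩
  have gen : ∀ T : Subgroup Γ, B ≤ T → y ∈ T → B ⊔ zpowers y ≤ T := fun T c1 c2 => sup_le c1 (zpowers_le.2 c2)
  generalize B ⊔ zpowers y = G at BG yG GV mZ gen
  have GZ : G ≤ cz (zo P ⊓ cz G) := le_cz_comm.1 inf_le_right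
  have dV : ∀ a ∈ G, ∀ v ∈ zo P, a * v * a⁻¹ * v⁻¹ ∈ zo P := fun a ha v hv => mul_mem (conj_mem_of_mem_nz (GV ha) hv) (inv_mem hv)
  have od : ∀ T : Subgroup Γ, G ⊓ cz (zo P) ≤ T → ∀ b ∈ B, b ∉ P → b ∈ T → y * b * y⁻¹ ∈ T → b * y ∈ T := fun T hT b hb c1 c2 c3 => by
    obtain ⟨n, hn, c⟩ := e.oddI t (e.iv (h1 hb) (h2 hb) c1 (sq b hb)) (t.le (mem_ai_of_mem (h1 hb) (h2 hb))) iy yX
    refine mem_of_odd hn (hT (mem_inf.2 ⟨pow_mem (mul_mem (BG hb) yG) n, aV c⟩)) ?_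
    simpa [mul_assoc] using mul_mem (mul_mem c2 c3) (hT (mem_inf.2 ⟨mul_mem yG yG, aV iy.sq⟩))
  have yBy : ∀ b ∈ B, y * b * y⁻¹ ∈ G := fun b hb => mul_mem (mul_mem yG (BG hb)) (inv_mem yG)
  by_cases c : ∃ w ∈ zo P, (∀ b ∈ B, y * b * y⁻¹ ∈ fxm G _ GZ w) ∧ ¬ G ≤ fxm G _ GZ w
  · obtain ⟨w, hw, c1, c2⟩ := c
    have k : ∀ b ∈ B, b ∈ fxm G _ GZ w → b ∈ P := fun b hb c3 => by_contra fun c4 => by
      have := (mul_mem_cancel_left c3).1 (od (fxm G _ GZ w) (fun a ha => ⟨ha.1, by simp [mem_cz.1 ha.2 w hw]⟩) b hb c4 c3 (c1 b hb))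
      exact c2 (gen _ (fun b hb => by simpa [mul_assoc] using mul_mem (mul_mem (inv_mem this) (c1 b hb)) this) this)
    choose κ hκ using fun i => hθ _ (dV _ (BG (hφ i)) w hw)
    have : Function.Injective κ := fun i j c3 => by
      have c4 := (hκ i).trans (c3 ▸ (hκ j).symm)
      have hb := mul_mem (inv_mem (hφ i)) (hφ j)
      have u1 := dV _ (BG (hφ i)) w hw
      have u2 := dV _ (BG hb) w hw
      have u3 := le_cz_comm.1 h4 (h3 _ hb w hw)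
      refine inj i j (k _ hb ⟨BG hb, mZ _ u2 u3 ?_⟩)
      have u4 : φ j * w * (φ j)⁻¹ * w⁻¹ = (φ i)⁻¹ * φ j * w * ((φ i)⁻¹ * φ j)⁻¹ * w⁻¹ * (φ i * w * (φ i)⁻¹ * w⁻¹) := by
        conv_rhs => rw [← mem_cz.1 (h4 (hφ i)) _ (h3 _ hb w hw)]
        group
      rw [u4] at c4
      generalize φ i * w * (φ i)⁻¹ * w⁻¹ = u at c4 u1
      generalize (φ i)⁻¹ * φ j * w * ((φ i)⁻¹ * φ j)⁻¹ * w⁻¹ = v at c4 u2
      have u5 := ab _ (conj_mem_of_mem_nz (GV yG) u2) _ (dV y yG u u1)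
      have : y * v * y⁻¹ * (y * u * y⁻¹ * u⁻¹) = y * u * y⁻¹ * u⁻¹ * v := by
        conv_rhs => rw [c4]
        group
      exact mul_left_cancel (u5.symm.trans this)
    have := Nat.card_le_card_of_injective κ this
    rw [Nat.card_prod] at this
    have := Finite.one_lt_card (α := K)
    nlinarith
  push Not at c
  let Z' : Subgroup Γ := ⟨⟨⟨{w | w ∈ zo P ∧ G ≤ fxm G _ GZ w}, fun {u v} hu hv => ⟨mul_mem hu.1 hv.1, fun a ha => ⟨ha, by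
      have := mul_mem (hu.2 ha).2 (hv.2 ha).2
      rw [← mul_assoc, mul_assoc _ u⁻¹, ab _ (inv_mem hu.1) _ (conj_mem_of_mem_nz (GV ha) hv.1), mul_assoc, mul_assoc _ u⁻¹,
        ab _ (inv_mem hu.1) _ (inv_mem hv.1)] at this
      simpa [mul_assoc] using this⟩⟩⟩, one_mem _, fun a ha => ⟨ha, by simp⟩⟩, fun {u} hu => by
    rwa [inv_eq_of_mul_eq_one_right hu.1.2.2]⟩
  have ZZ : zo P ⊓ cz G ≤ Z' := fun u hu => ⟨hu.1, fun a ha => ⟨ha, by simp [mem_cz.1 (GZ ha) u hu]⟩⟩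
  have GZ' : G ≤ stab Z' (zo P ⊓ cz G) := fun a ha => mem_stab'.2 ⟨le_nz_iff.2 (fun a ha u hu => by
    simpa using mul_mem (ZZ (hu.2 ha).2) hu) ha, fun u hu => (hu.2 ha).2⟩
  have k1 : ∀ b ∈ B, y * b * y⁻¹ ∈ stab (zo P) Z' := fun b hb => mem_stab'.2 ⟨GV (yBy b hb), fun v hv =>
    ⟨dV _ (yBy b hb) v hv, c _ (dV _ (yBy b hb) v hv) fun b' hb' => ⟨yBy b' hb', by
      have := mem_cz.1 (h4 hb') _ (h3 b hb _ (conj_mem_of_mem_nz' (GV yG) hv))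
      rw [show y * b * y⁻¹ * v * (y * b * y⁻¹)⁻¹ * v⁻¹ = y * (b * (y⁻¹ * v * y) * b⁻¹ * (y⁻¹ * v * y)⁻¹) * y⁻¹ by group]
      generalize b * (y⁻¹ * v * y) * b⁻¹ * (y⁻¹ * v * y)⁻¹ = u at this
      rw [show y * b' * y⁻¹ * (y * u * y⁻¹) * (y * b' * y⁻¹)⁻¹ = y * (b' * u * b'⁻¹) * y⁻¹ by group, this]; simp⟩⟩⟩
  have pV := e.pg.to_le (zo_le.trans e.le)
  have k2 : ∀ b ∈ B, b ∉ P → b * y ∈ cz (zo P) := fun b hb c1 => by
    have c2 := od _ (inf_le_right.trans (cz_le_stab _ Z')) b hb c1 (by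
      simpa [mul_assoc] using conj_mem_of_mem_nz' (mem_nz_stab (GV yG) (mem_nz_inf (GV yG) (GZ' yG).1)) (k1 b hb)) (k1 b hb)
    have c3 := mul_mem (BG hb) yG
    obtain ⟨n, hn, c4⟩ := e.oddI t (e.iv (h1 hb) (h2 hb) c1 (sq b hb)) (t.le (mem_ai_of_mem (h1 hb) (h2 hb))) iy yX
    exact PEl.odd hn (aV c4) (pel_of_stab (pV.to_le (H := Z') fun _ h => h.1) c2 (GZ' c3).1
      (pel_of_stab_cz (pV.to_le inf_le_left) (GZ' c3) (GZ c3)))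
  have k3 : ∀ i j, (φ i ∈ P ↔ φ j ∈ P) → i = j := fun i j c1 => inj i j (by
    by_cases c2 : φ i ∈ P
    · exact mul_mem (inv_mem c2) (c1.1 c2)
    · simpa [mul_assoc] using hI (mem_inf.2 ⟨mul_mem (mul_mem (inv_mem (h1 (hφ i))) (one_mem S)) (h1 (hφ j)), by
        simpa [mul_assoc] using mul_mem (k2 _ (inv_mem (hφ i)) (by simpa using c2))
          (inv_mem (k2 _ (inv_mem (hφ j)) (by simpa using mt c1.2 c2)))⟩))
  obtain ⟨a, b, ab⟩ := exists_pair_ne K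
  have a1 := mt (k3 (a, a) (a, b)) (by simpa using ab)
  have a2 := mt (k3 (a, a) (b, a)) (by simpa using ab)
  have a3 := mt (k3 (a, b) (b, a)) (by simp [ab])
  tauto

end H22.FZ
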