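/-
Fusion systems on a Sylow 2-subgroup of a Ree group of type `F₄`, part 3: structure of the Sylow subgroup.
-/
import Cfsg.Agent.H22.FZ2

set_option autoImplicit false
set_option linter.unusedSectionVars false

namespace H22.FZ
open Subgroup H25 H25.FS Cd
variable {Γ : Type*} [Group Γ] [Finite Γ] {K : Type*} [Field K] {σ : K →+* K} {S P X : Subgroup Γ} {ev : Cd σ → Γ} {c c' z : Cd σ}
  {u v w : Γ} {r s t : K}

theorem cm_eq : u * v * u⁻¹ * v⁻¹ = w ↔ u * v = w * (v * u) := by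
  rw [mul_inv_eq_iff_eq_mul, mul_inv_eq_iff_eq_mul, mul_assoc]
theorem sz (e : σ s = 0) : s = 0 := (map_eq_zero σ).1 e
theorem sn (e : s ≠ 0) : σ s ≠ 0 := mt sz e
theorem nz0 (e : s * σ s = 0) : s = 0 := (mul_eq_zero.1 e).elim id sz
theorem cj_le_n (h : P ≤ X) (hu : u ∈ nz X) : cj u P ≤ X := mem_nz.1 hu ▸ cj_mono u h
theorem le_cj_n (h : X ≤ P) (hu : u ∈ nz X) : X ≤ cj u P := mem_nz.1 hu ▸ cj_mono u h
theorem of_cj_le (h : cj u P ≤ X) (hu : u ∈ nz X) : P ≤ X := cj_le_cj.1 ((mem_nz.1 hu).symm ▸ h)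

/-- a conjugate of `x₁(a)` by `C(E)` -/
def T1 (c : Cd σ) : Prop := c.a ≠ 0 ∧ c.b = 0 ∧ c.d = 0 ∧ c.f = 0 ∧ c.e5 = 0 ∧ c.g = 0 ∧ c.s = 0 ∧ c.t = 0

namespace Co
variable (h : Co S σ ev)
include h
theorem cS1 : CC S h.Z1 ⊥ := by cc h
theorem cS2 : CC S h.Z2 h.Z1 := by cc h
theorem cSW : CC S h.W h.Z2 := by cc h
theorem cS4 : CC S h.Z4 h.W := by cc h
theorem cS5 : CC S h.Z5 h.Z4 := by cc h
theorem cS6 : CC S h.Z6 h.Z5 := by cc h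
theorem cS7 : CC S h.Z7 h.Z6 := by cc h
theorem cSS : CC S S h.Z7 := by cc h
theorem cSQ : CC S h.Q h.QR := by cc h
theorem cSV : CC S h.QV h.QR := by cc h
theorem cSC : CC S h.CE h.E := by cc h
theorem cR2 : CC h.R h.Z2 ⊥ := by cc h
theorem cRR : CC h.R h.R h.R0 := by cc h
theorem cR0 : CC h.R h.R0 h.D := by cc h
theorem cRD : CC h.R h.D h.W := by cc h
theorem cRC : CC h.R h.CE h.Z4 := by cc h
theorem c0W : CC h.R0 h.W ⊥ := by cc h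
theorem c04 : CC h.R0 h.Z4 h.Z2 := by cc h
theorem c0D : CC h.R0 h.D h.Z2 := by cc h
theorem c00 : CC h.R0 h.R0 h.W := by cc h
theorem c44 : CC h.C4 h.C4 h.Z2 := by cc h
theorem c4Z : CC h.C4 h.Z4 ⊥ := by cc h
theorem cQE : CC h.Q h.E h.Z1 := by cc h
theorem cQQ : CC h.Q h.Q h.E := by cc h
theorem cCE : CC h.CE h.E ⊥ := by cc h
theorem cDD : CC h.D h.D ⊥ := by cc h
theorem cCU : CC h.CE h.UE h.Y3 := by cc h
theorem cUY : CC h.UE h.Y3 ⊥ := by cc h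
theorem cVW : CC h.QV h.W h.Z1 := by cc h
theorem cV4 : CC h.QV h.Z4 h.Z2 := by cc h
theorem cVE : CC h.QV h.E h.W := by cc h
theorem c46 : CC h.Z4 h.E6 h.V6 := by cc h
theorem c74 : CC h.Z7 h.Z4 h.Z2 := by cc h
theorem c76 : CC h.Z7 h.Z6 h.Z4 := by cc h
theorem cr5 : CC h.QR h.Z5 h.W := by cc h
theorem c6D : CC h.Z6 h.D h.Z2 := by cc h

theorem n1 : S ≤ nz h.Z1 := h.cS1.nz' le_rfl bot_le
theorem n2 : S ≤ nz h.Z2 := h.cS2.nz' le_rfl (by sl h)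
theorem nW : S ≤ nz h.W := h.cSW.nz' le_rfl (by sl h)
theorem n4 : S ≤ nz h.Z4 := h.cS4.nz' le_rfl (by sl h)
theorem nE : S ≤ nz h.E := h.cS5.nz' (by sl h) (by sl h)
theorem nD : S ≤ nz h.D := h.cS5.nz' (by sl h) (by sl h)
theorem n5 : S ≤ nz h.Z5 := h.cS5.nz' le_rfl (by sl h)
theorem n6 : S ≤ nz h.Z6 := h.cS6.nz' le_rfl (by sl h)
theorem n0 : S ≤ nz h.R0 := h.cS7.nz' (by sl h) (by sl h)
theorem nr : S ≤ nz h.QR := h.cS7.nz' (by sl h) (by sl h)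
theorem n7 : S ≤ nz h.Z7 := h.cS7.nz' le_rfl (by sl h)
theorem nQ : S ≤ nz h.Q := h.cSQ.nz' le_rfl (by sl h)
theorem nR : S ≤ nz h.R := h.cSS.nz' h.lR (by sl h)
theorem nV : S ≤ nz h.QV := h.cSS.nz' h.lQV (by sl h)

theorem aa (s : K) : s + s = 0 := by rw [← two_mul, h.two, zero_mul]
theorem ex1 (hw : w ∈ h.Z1) : ∃ k, w = ev (x4 k) := by
  obtain ⟨c, hc, rfl⟩ := hw
  exact ⟨c.e3, by cs h [hc]⟩
theorem sqE (hw : w ∈ h.E) : w * w = 1 := by obtain ⟨c, hc, rfl⟩ := hw; cs h [hc, h.aa]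
theorem sqD (hw : w ∈ h.D) : w * w = 1 := by obtain ⟨c, hc, rfl⟩ := hw; cs h [hc, h.aa]
theorem sq4 (hw : w ∈ h.C4) : w * w ∈ h.Z2 := by obtain ⟨c, hc, rfl⟩ := hw; cs h [hc, h.aa]
theorem sqC (hw : w ∈ h.CE) : w * w ∈ h.Z1 := by obtain ⟨c, hc, rfl⟩ := hw; cs h [hc, h.aa]
theorem sq0 (hw : w ∈ h.R0) : w * w ∈ h.W := by obtain ⟨c, hc, rfl⟩ := hw; cs h [hc, h.aa]
theorem sqQ (hw : w ∈ h.Q) : w * w ∈ h.E := by obtain ⟨c, hc, rfl⟩ := hw; cs h [hc, h.aa]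
theorem nrm_inj (e : s * σ s = t * σ t) : s = t := by
  by_cases c : t * σ t = 0
  · rw [nz0 c, nz0 (e.trans c)]
  have := congrArg σ e
  rw [map_mul, map_mul, h.ss, h.ss] at this
  exact mul_right_cancel₀ c (by linear_combination this - s * e)
theorem nrm_sj [Finite K] (c : K) : ∃ s, s * σ s = c :=
  Finite.surjective_of_injective (f := fun s => s * σ s) (fun _ _ e => h.nrm_inj e) c

/-! ### involutions -/
theorem i_s (e : ev c * ev c = 1) : c.s = 0 := by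
  cs h [h.aa] at e; exact nz0 e.2.2.2.2.2.2.2.2.2
theorem i_t (e : ev c * ev c = 1) (ha : c.a ≠ 0) : c.t = 0 := by
  have s0 := h.i_s e
  cs h [h.aa, s0] at e
  exact (mul_eq_zero.1 e.2.2.1).resolve_left (sn ha)
theorem i_b (e : ev c * ev c = 1) (ha : c.a = 0) : c.b = 0 := by
  have s0 := h.i_s e
  cs h [h.aa, s0, ha] at e
  exact nz0 e.1
theorem i_q (e : ev c * ev c = 1) (ha : c.a = 0) (ht : c.t = 0) : c.d = 0 ∧ c.f = 0 ∧ (c.g = 0 ∨ c.e1 = 0) := by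
  have s0 := h.i_s e
  have b0 := h.i_b e ha
  cs h [h.aa, s0, ha, b0, ht] at e
  have := h.cp
  have d0 : c.d = 0 := by_contra fun d0 => by
    have := sn (σ := σ) d0
    grind
  have f0 : c.f = 0 := nz0 (σ := σ) (by grind)
  grind
theorem iR (hw : w ∈ h.R) (e : w * w = 1) : w ∈ h.R0 := by
  obtain ⟨c, hc, rfl⟩ := hw
  cs h [hc, h.i_s e, h.i_b e hc]
theorem iV (hw : w ∈ S) (e : w * w = 1) : w ∈ h.QV := by
  obtain ⟨c, -, rfl⟩ := h.ex hw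
  cs h [h.i_s e]
theorem iQ (hw : w ∈ h.QR) (e : w * w = 1) : w ∈ h.E ∨ w ∈ h.D := by
  obtain ⟨c, hc, rfl⟩ := hw
  obtain ⟨h1, h2, h3 | h3⟩ := h.i_q e hc.1 hc.2.2
  · left; cs h [hc, h1, h2, h3, h.i_b e hc.1]
  · right; cs h [hc, h1, h2, h3, h.i_b e hc.1]
theorem iQ5 (hw : w ∈ h.QR) (e : w * w = 1) : w ∈ h.Z5 := (h.iQ hw e).elim (fun k => (by sl h : h.E ≤ h.Z5) k) fun k => (by sl h : h.D ≤ h.Z5) k
theorem iC (hw : w ∈ h.CE) (e : w * w = 1) : w ∈ h.E := by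
  obtain ⟨c, hc, rfl⟩ := hw
  cs h [hc, (h.i_q e hc.1 hc.2.2.2.2.2).1]
theorem red1 (e : ev c * ev c = 1) (ha : c.a ≠ 0) : ∃ u ∈ S, ∃ c', u * ev c * u⁻¹ = ev c' ∧ T1 c' := by
  have := h.cp
  have k : ∀ c : Cd σ, ev c * ev c = 1 → c.a ≠ 0 → c.b = 0 → c.f = 0 → T1 c := fun c e ha hb hf => by
    have s0 := h.i_s e
    have t0 := h.i_t e ha
    have := sn (σ := σ) ha
    cs h [h.aa, s0, t0, hb, hf] at e
    have d0 : c.d = 0 := by grind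
    have g0 : c.g = 0 := by grind
    refine ⟨ha, hb, d0, hf, ?_, g0, s0, t0⟩
    simp only [d0, g0] at e; grind
  have k' : ∀ c : Cd σ, ev c * ev c = 1 → c.a ≠ 0 → c.b = 0 → ∃ u ∈ S, ∃ c', u * ev c * u⁻¹ = ev c' ∧ T1 c' :=
    fun c e ha hb => ⟨ev (x8 (c.f / c.a)), h.mS _, _, by rw [h.inv, h.mul, h.mul], k _ (by
      simpa only [h.mul, h.inv] using sq_cj e (ev (x8 (c.f / c.a)))) (by cs h []; exact ha)
      (by cs h [hb, h.i_s e]) (by cs h [hb, h.i_s e, h.i_t e ha]; grind)⟩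
  obtain ⟨u, hu, c', e1, e2⟩ := k' (y8 (c.b / c.a) * c * (y8 (c.b / c.a))⁻¹)
    (by simpa only [h.mul, h.inv] using sq_cj e (ev (y8 (c.b / c.a)))) (by cs h []; exact ha) (by cs h [h.i_s e]; grind)
  exact ⟨u * ev (y8 (c.b / c.a)), mul_mem hu (h.mS _), c', by rw [← e1, ← h.mul, ← h.mul, ← h.inv]; group, e2⟩
theorem red8 (e : ev c * ev c = 1) (ht : c.t ≠ 0) :
    ∃ u ∈ S, ∃ c', u * ev c * u⁻¹ = ev c' ∧ c'.t ≠ 0 ∧ ev c' ∈ h.E6 := by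
  have := h.cp
  have k : ∀ c : Cd σ, ev c * ev c = 1 → c.t ≠ 0 → c.f = 0 → ev c ∈ h.E6 := fun c e ht hf => by
    have s0 := h.i_s e
    have a0 : c.a = 0 := by_contra fun k => ht (h.i_t e k)
    have b0 := h.i_b e a0
    cs h [h.aa, s0, a0, b0, hf] at e ⊢
    have e0 : c.e1 = 0 := by grind
    simp only [e0, map_zero] at e
    have d0 : c.d = 0 := nz0 (σ := σ) (by grind)
    grind
  have a0 : c.a = 0 := by_contra fun k => ht (h.i_t e k)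
  exact ⟨ev (x1 (c.f / c.t)), h.mS _, _, by rw [h.inv, h.mul, h.mul], by cs h []; exact ht, k _ (by
    simpa only [h.mul, h.inv] using sq_cj e (ev (x1 (c.f / c.t)))) (by cs h []; exact ht)
    (by cs h [a0, h.i_s e, h.i_b e a0]; grind)⟩

/-! ### centralizers -/
theorem zT (hc : T1 c) (hw : w ∈ S) (e : w * ev c * w⁻¹ * (ev c)⁻¹ ∈ h.Z1) : w ∈ h.UE := by
  obtain ⟨c', -, rfl⟩ := h.ex hw
  obtain ⟨k, e⟩ := h.ex1 e
  have := h.cp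
  obtain ⟨ha, hc⟩ := hc
  have := sn (σ := σ) ha
  rw [cm_eq] at e
  cs h [hc] at e ⊢
  have s0 : c'.s = 0 := by grind
  simp only [s0, map_zero] at e
  have t0 : c'.t = 0 := by grind
  simp only [t0, map_zero] at e
  have g0 : c'.g = 0 := sz (σ := σ) (by grind)
  have f0 : c'.f = 0 := sz (σ := σ) (by grind)
  grind
theorem z2 (hw : w ∈ S) (e : w ∈ cz h.Z2) : w ∈ h.R := by
  obtain ⟨c, -, rfl⟩ := h.ex hw
  have := mem_cz'.1 e (ev (x6 1)) (by cs h [])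
  cs h [] at this ⊢; cg2 h
theorem zW (hw : w ∈ S) (e : w ∈ cz h.W) : w ∈ h.R0 := by
  obtain ⟨c, -, rfl⟩ := h.ex hw
  have := mem_cz'.1 e (ev (x6 1)) (by cs h [])
  have k := mem_cz'.1 e (ev (x5 1)) (by cs h [])
  cs h [] at this k ⊢; cg2 h
theorem z4 (hw : w ∈ S) (e : w ∈ cz h.Z4) : w ∈ h.C4 := by
  obtain ⟨c, hc, rfl⟩ := h.zW hw (cz_anti (by sl h) e)
  have := mem_cz'.1 e (ev (x3 1)) (by cs h [])
  cs h [hc] at this ⊢; cg2 h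
theorem zE (hw : w ∈ S) (e : w ∈ cz h.E) : w ∈ h.CE := by
  obtain ⟨c, hc, rfl⟩ := h.z4 hw (cz_anti (by sl h) e)
  have := mem_cz'.1 e (ev (x2 1)) (by cs h [])
  cs h [hc] at this ⊢; cg2 h
theorem zD (hw : w ∈ S) (e : w ∈ cz h.D) : w ∈ h.D := by
  obtain ⟨c, hc, rfl⟩ := h.z4 hw (cz_anti (by sl h) e)
  have := mem_cz'.1 e (ev (x7 1)) (by cs h [])
  cs h [hc] at this ⊢; cg2 h
theorem z5 (hw : w ∈ S) (e : w ∈ cz h.Z5) : w ∈ h.Z4 := by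
  obtain ⟨c, hc, rfl⟩ := h.zD hw (cz_anti (by sl h) e)
  cs h [hc, (h.mCE.1 (h.zE hw (cz_anti (by sl h) e))).2.2.2.1]
theorem toQ (hc : ev c ∈ h.E) (hc' : ev c ∉ h.W) (hw : w ∈ S) (e : w * ev c * w⁻¹ * (ev c)⁻¹ ∈ h.Z1) : w ∈ h.Q := by
  obtain ⟨c', -, rfl⟩ := h.ex hw
  obtain ⟨k, e⟩ := h.ex1 e
  have := h.cp
  rw [cm_eq] at e
  rw [h.mE] at hc
  cs h [hc] at e hc' ⊢
  have s0 : c'.s = 0 := by
    by_cases k : c.e1 = 0
    · exact sz (σ := σ) (by grind)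
    · grind
  simp only [s0, map_zero] at e
  grind
end Co

end H22.FZ
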