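/-
Fusion systems on a Sylow 2-subgroup of a Ree group of type `F₄`, part 4: automorphisms of `Q`, `R` and `S`.
-/
import Cfsg.Agent.H22.FZ3

set_option autoImplicit false
set_option linter.unusedSectionVars false

namespace H22.FZ
open Subgroup H25 H25.FS Cd
variable {Γ : Type*} [Group Γ] [Finite Γ] {K : Type*} [Field K] {σ : K →+* K} {S P A X Y : Subgroup Γ} {ev : Cd σ → Γ}
  {c c' z : Cd σ} {g u v w M0 M1 : Γ} {r s t : K}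

/-- commutator with a test element -/
macro "ts" h:term:max k:term:max t:term:max "[" ls:Lean.Parser.Tactic.simpLemma,* "]" e:ident : tactic => `(tactic| (
  obtain ⟨z, hz, $e:ident⟩ := $k $t (by cs $h [])
  rw [cm_eq] at $e:ident
  cs $h [hz, $ls,*] at $e:ident))

theorem nz_of_cz (h : ∀ w, w ∈ Y ↔ w ∈ P ∧ w ∈ cz X) (h1 : g ∈ nz P) (h2 : g ∈ nz X) : g ∈ nz Y :=
  (show Y = P ⊓ cz X from Subgroup.ext h) ▸ mem_nz_inf h1 (mem_nz_cz h2)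
theorem cj_mul' (g a b : Γ) : g * (a * b) * g⁻¹ = g * a * g⁻¹ * (g * b * g⁻¹) := by group
theorem cj_cm (g a b : Γ) : g * (a * b * a⁻¹ * b⁻¹) * g⁻¹ =
    g * a * g⁻¹ * (g * b * g⁻¹) * (g * a * g⁻¹)⁻¹ * (g * b * g⁻¹)⁻¹ := by group
theorem cj_com (e : u * v = v * u) (g : Γ) : g * u * g⁻¹ * (g * v * g⁻¹) = g * v * g⁻¹ * (g * u * g⁻¹) := by
  rw [← cj_mul', e, cj_mul']
theorem not_cj (hg : g ∈ nz X) (h : w ∉ X) : g * w * g⁻¹ ∉ X := fun c => h (by simpa [mul_assoc] using conj_mem_of_mem_nz' hg c)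

/-- the action of the reflection normalizing `Q` -/
@[simps] def m0 (c : Cd σ) : Cd σ := ⟨c.g, c.f, c.e5 + c.b * σ c.g + c.d * c.g, c.e4 + c.a * σ c.g + σ c.b * c.g + c.d * c.f, c.d,
  c.e3 + c.a * c.e5 + c.b * c.e4 + c.e1 * c.g + c.e2 * c.f + c.a * c.b * σ c.g + c.a * c.d * c.g + c.a * c.f * σ c.f +
    σ c.a * c.f * c.g + c.b * c.d * c.f,
  c.e2 + c.a * σ c.f + σ c.a * c.g + c.b * c.d, c.b, c.e1 + c.a * c.d + σ c.a * c.f, c.a, 0, 0⟩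
/-- the action of the reflection normalizing `R` -/
@[simps] def m1 (c : Cd σ) : Cd σ := ⟨0, c.s, c.t, c.g + c.b * c.t + c.f * c.s + c.b * c.s * σ c.s, c.f + c.b * σ c.s,
  c.e5 + c.b * σ c.g + c.d * c.g + c.e1 * σ c.t + c.e2 * c.t + c.e4 * c.s + σ c.b * c.g * c.s + c.d * c.f * c.s +
    c.e1 * c.s * c.t + c.e2 * c.s * σ c.s + c.b * σ c.b * c.s * c.t + σ c.b * c.f * c.s * c.s + c.e1 * c.s * c.s * σ c.s +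
    c.b * σ c.b * c.s * c.s * σ c.s,
  c.e4 + σ c.b * c.g + c.d * c.f + c.e1 * c.t + c.e2 * σ c.s + c.b * σ c.b * c.t, c.d + σ c.b * c.s,
  c.e3 + c.b * c.e4 + c.e1 * c.g + σ c.e1 * c.t + c.e2 * c.f + σ c.e2 * c.s + c.b * c.d * c.f + c.b * c.e1 * c.t +
    c.b * c.e2 * σ c.s + σ c.b * σ c.d * c.s + σ c.e1 * c.s * σ c.s + c.b * c.b * σ c.b * c.t,
  c.e2 + c.b * c.d + c.e1 * c.s, c.b, c.e1⟩

/-- coordinates together with the two reflections -/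
structure Mx (S : Subgroup Γ) (σ : K →+* K) (ev : Cd σ → Γ) (M0 M1 : Γ) : Prop extends Co S σ ev where
  i0 : M0⁻¹ = M0
  i1 : M1⁻¹ = M1
  f0 : ∀ c : Cd σ, c.s = 0 → c.t = 0 → M0 * ev c * M0⁻¹ = ev (m0 c)
  f1 : ∀ c : Cd σ, c.a = 0 → M1 * ev c * M1⁻¹ = ev (m1 c)

namespace Co
variable (h : Co S σ ev)
/-- the upper central series -/
def ch (P : Subgroup Γ) : List (Subgroup Γ) := [P ⊓ h.Z7, h.Z6, h.Z5, h.Z4, h.W, h.Z2, h.Z1]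
/-- the normalizer of the upper central series -/
def I7 (P : Subgroup Γ) : Subgroup Γ := nz P ⊓ nz h.E ⊓ ⨅ Y ∈ h.ch P, nz Y
theorem mI : g ∈ h.I7 P ↔ (g ∈ nz P ∧ g ∈ nz h.E) ∧ ∀ Y ∈ h.ch P, g ∈ nz Y := by simp [I7, mem_iInf]
theorem mI' : g ∈ h.I7 P ↔ (g ∈ nz P ∧ g ∈ nz h.E) ∧ g ∈ nz (P ⊓ h.Z7) ∧ g ∈ nz h.Z6 ∧ g ∈ nz h.Z5 ∧ g ∈ nz h.Z4 ∧
    g ∈ nz h.W ∧ g ∈ nz h.Z2 ∧ g ∈ nz h.Z1 := by simp only [mI, ch, List.forall_mem_cons, List.not_mem_nil, false_imp_iff,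
      implies_true, and_true]
theorem I7n (hg : g ∈ h.I7 P) : g ∈ nz P := (h.mI.1 hg).1.1
theorem I7E (hg : g ∈ h.I7 P) : g ∈ nz h.E := (h.mI.1 hg).1.2
theorem I77 (hg : g ∈ h.I7 P) : g ∈ nz (P ⊓ h.Z7) := (h.mI'.1 hg).2.1
theorem I76 (hg : g ∈ h.I7 P) : g ∈ nz h.Z6 := (h.mI'.1 hg).2.2.1
theorem I75 (hg : g ∈ h.I7 P) : g ∈ nz h.Z5 := (h.mI'.1 hg).2.2.2.1
theorem I74 (hg : g ∈ h.I7 P) : g ∈ nz h.Z4 := (h.mI'.1 hg).2.2.2.2.1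
theorem I7W (hg : g ∈ h.I7 P) : g ∈ nz h.W := (h.mI'.1 hg).2.2.2.2.2.1
theorem I72 (hg : g ∈ h.I7 P) : g ∈ nz h.Z2 := (h.mI'.1 hg).2.2.2.2.2.2.1
theorem I71 (hg : g ∈ h.I7 P) : g ∈ nz h.Z1 := (h.mI'.1 hg).2.2.2.2.2.2.2
theorem SI (hn : S ≤ nz P) : S ≤ h.I7 P := fun _ hs => h.mI'.2 ⟨⟨hn hs, h.nE hs⟩, mem_nz_inf (hn hs) (h.n7 hs), h.n6 hs,
  h.n5 hs, h.n4 hs, h.nW hs, h.n2 hs, h.n1 hs⟩
theorem chl (h6 : h.Z6 ≤ P) : ∀ Y ∈ h.ch P, Y ≤ P := by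
  simp only [ch, List.forall_mem_cons, List.not_mem_nil, false_imp_iff, implies_true, and_true]
  exact ⟨inf_le_left, h6, le_trans (by sl h) h6, le_trans (by sl h) h6, le_trans (by sl h) h6, le_trans (by sl h) h6,
    le_trans (by sl h) h6⟩
theorem CI (h6 : h.Z6 ≤ P) : cz P ≤ h.I7 P := fun _ hg => h.mI.2 ⟨⟨cz_le_nz P hg,
  cz_le_nz _ (cz_anti (le_trans (by sl h) h6) hg)⟩, fun Y hY => cz_le_nz _ (cz_anti (h.chl h6 Y hY) hg)⟩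
theorem aiI (h6 : h.Z6 ≤ P) (hn : S ≤ nz P) : ai S P ≤ h.I7 P := ai_le (inf_le_left.trans (h.SI hn)) (h.CI h6)
theorem chS (hP : P ≤ S) (hw : w ∈ S) (hn : w ∈ nz P) : Ch w X P (h.ch P) :=
  ⟨fun y hy => mem_inf.2 ⟨mul_mem (conj_mem_of_mem_nz hn hy) (inv_mem hy), h.cSS w hw y (hP hy)⟩, h.cS7.cm hw inf_le_right le_rfl,
    h.cS6 w hw, h.cS5 w hw, h.cS4 w hw, h.cSW w hw, h.cS2 w hw, h.cS1.cm hw le_rfl bot_le⟩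
theorem bor (e : Au S P A) (h6 : h.Z6 ≤ P) (hn : S ≤ nz P) :
    ai S P = A ⊓ kk (fr P) P (h.ch P) := e.kk_eq (h.chl h6) (ai_le (fun _ hw =>
  kk_mem (h.mI.1 (h.SI hn hw.1)).2 hw.2 (h.chS e.le hw.1 hw.2)) (kk_cz (h.chl h6) le_rfl))
theorem bor' (e : Au S P A) (h6 : h.Z6 ≤ P) (hn : S ≤ nz P) (hg : g ∈ A) (hI : g ∈ h.I7 P) : g ∈ nz (ai S P) :=
  h.bor e h6 hn ▸ mem_nz_inf (le_nz_self A hg) (kk_nz (h.mI.1 hI).2 (nz_le_nz_fr P (e.An hg)) (e.An hg))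

include h
theorem l5 : h.Z5 = h.E ⊔ h.D := le_antisymm (fun w hw => by
  obtain ⟨c, hc, rfl⟩ := hw
  rw [show ev c = ev { c with g := 0 } * ev (x7 c.g) by cs h [hc]]
  exact mul_mem_sup (by cs h [hc]) (by cs h [])) (sup_le (by sl h) (by sl h))
theorem l4 : h.Z4 = h.E ⊓ h.D := le_antisymm (le_inf (by sl h) (by sl h)) fun w hw => by
  obtain ⟨⟨c, hc, rfl⟩, k⟩ := hw
  cs h [hc, (h.mD.1 k).2.2.1]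
theorem lr : h.Q ⊓ h.Z7 = h.QR := le_antisymm (fun w hw => by
  obtain ⟨⟨c, hc, rfl⟩, k⟩ := hw
  cs h [hc, (h.mZ7.1 k).1]) (le_inf (by sl h) (by sl h))
theorem mr (h1 : w ∈ h.Q) (h2 : w ∈ h.R) : w ∈ h.QR := by
  obtain ⟨c, hc, rfl⟩ := h1
  cs h [hc, h.mR.1 h2]
theorem kE : w ∈ h.E ↔ w ∈ h.Q ∧ Cm w h.Q h.Z1 := ⟨fun k => ⟨(by sl h : h.E ≤ h.Q) k, h.cQE.symm w k⟩, by
  rintro ⟨⟨c, hc, rfl⟩, k⟩
  have := h.cp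
  ts h k (ev (y4 1)) [hc] e1
  ts h k (ev (x1 1)) [hc] e2
  cs h [hc]
  have : c.a = 0 ∧ c.b = 0 ∧ c.f = 0 ∧ c.g = 0 := by cg2 h
  simp only [this, map_zero] at e2 ⊢
  grind⟩
theorem k1 (hQ : h.Q ≤ P) (hP : P ≤ S) : w ∈ h.Z1 ↔ w ∈ P ∧ w ∈ cz P :=
  ⟨fun k => ⟨hQ ((by sl h : h.Z1 ≤ h.Q) k), cz_anti hP (h.cS1.symm.cz k)⟩, fun k => by
    obtain ⟨c, hc, rfl⟩ := h.z5 (hP k.1) (cz_anti (le_trans (by sl h) hQ) k.2)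
    have e1 := mem_cz'.1 k.2 (ev (x1 1)) (hQ (by cs h []))
    have e2 := mem_cz'.1 k.2 (ev (y2 1)) (hQ (by cs h []))
    have e3 := mem_cz'.1 k.2 (ev (y6 1)) (hQ (by cs h []))
    cs h [hc] at e1 e2 e3 ⊢
    cg2 h⟩
theorem kQ (h1 : h.Q ≤ P) (h2 : P ≤ S) : w ∈ h.Q ↔ w ∈ P ∧ Cm w h.E h.Z1 :=
  ⟨fun k => ⟨h1 k, h.cQE w k⟩, fun k => h.toQ (c := x2 1) (by cs h []) (by cs h []; simp) (h2 k.1) (k.2 _ (by cs h []))⟩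
theorem kC (h1 : h.CE ≤ P) (h2 : P ≤ S) : w ∈ h.CE ↔ w ∈ P ∧ w ∈ cz h.E :=
  ⟨fun k => ⟨h1 k, h.cCE.cz k⟩, fun k => h.zE (h2 k.1) k.2⟩
theorem k4 (h1 : h.C4 ≤ P) (h2 : P ≤ S) : w ∈ h.C4 ↔ w ∈ P ∧ w ∈ cz h.Z4 :=
  ⟨fun k => ⟨h1 k, h.c4Z.cz k⟩, fun k => h.z4 (h2 k.1) k.2⟩
theorem k0 (h1 : h.R0 ≤ P) (h2 : P ≤ S) : w ∈ h.R0 ↔ w ∈ P ∧ w ∈ cz h.W :=
  ⟨fun k => ⟨h1 k, h.c0W.cz k⟩, fun k => h.zW (h2 k.1) k.2⟩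
theorem kR : w ∈ h.R ↔ w ∈ S ∧ w ∈ cz h.Z2 := ⟨fun k => ⟨h.lR k, h.cR2.cz k⟩, fun k => h.z2 k.1 k.2⟩
theorem toV (hw : w ∈ S) (k : Cm w h.W h.Z1) : w ∈ h.QV := by
  obtain ⟨c, -, rfl⟩ := h.ex hw
  ts h k (ev (x5 1)) [] e1
  cs h []; cg2 h
theorem kD : w ∈ h.D ↔ w ∈ h.R0 ∧ Cm w h.R0 h.Z2 := ⟨fun k => ⟨(by sl h : h.D ≤ h.R0) k, h.c0D.symm w k⟩, by
  rintro ⟨⟨c, hc, rfl⟩, k⟩
  ts h k (ev (y6 1)) [hc] e1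
  ts h k (ev (y4 1)) [hc] e2
  ts h k (ev (x8 1)) [hc] e3
  ts h k (ev (x2 1)) [hc] e4
  cs h [hc]; cg2 h⟩
theorem k2 : w ∈ h.Z2 ↔ w ∈ h.R ∧ w ∈ cz h.R := ⟨fun k => ⟨(by sl h : h.Z2 ≤ h.R) k, h.cR2.symm.cz k⟩, fun k => by
  obtain ⟨c, hc, rfl⟩ := h.z5 (h.lR k.1) (cz_anti (by sl h) k.2)
  have e2 := mem_cz'.1 k.2 (ev (y2 1)) (by cs h [])
  have e3 := mem_cz'.1 k.2 (ev (y6 1)) (by cs h [])
  cs h [hc] at e2 e3 ⊢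
  cg2 h⟩
theorem kW : w ∈ h.W ↔ w ∈ h.R ∧ Cm w h.R h.Z2 := ⟨fun k => ⟨(by sl h : h.W ≤ h.R) k, h.cSW.symm.cm k h.lR le_rfl⟩, by
  rintro ⟨⟨c, hc, rfl⟩, k⟩
  have := h.cp
  ts h k (ev (x3 1)) [hc] e1
  ts h k (ev (x7 1)) [hc] e2
  have k0 := h.mD.1 (h.kD.2 ⟨by cs h [hc]; exact ⟨sz (σ := σ) (by grind), sz (σ := σ) (by grind)⟩, k.mono (by sl h) le_rfl⟩)
  ts h k (ev (y8 1)) [k0] e3
  ts h k (ev (y2 1)) [k0] e4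
  cs h [k0]; cg2 h⟩
theorem dD (h1 : w ∈ h.D) (h2 : w ∉ h.E) (h3 : v ∈ h.Q) (h4 : v * v = 1) (e : v * w = w * v) : v ∈ h.D := by
  obtain ⟨c, hc, rfl⟩ := h1
  obtain ⟨c', hc', rfl⟩ := h3
  have := h.cp
  cs h [hc, hc'] at e h2
  rcases h.iQ (w := ev c') (by cs h [hc']; exact sz (σ := σ) (by grind)) h4 with k | k
  · rw [h.mE] at k; cs h [k] at e ⊢; grind
  · exact k
theorem dE (h1 : w ∈ h.E) (h2 : w ∉ h.D) (h3 : v ∈ h.R) (h4 : v * v = 1) (e : v * w = w * v) : v ∈ h.E := by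
  obtain ⟨c, -, rfl⟩ := h.ex (h.lE h1)
  rcases h.iQ (h.mr (h.toQ h1 (fun k => h2 ((by sl h : h.W ≤ h.D) k)) (h.lR h3) (by simp [e])) h3) h4 with k | ⟨c', k, rfl⟩
  · exact k
  · rw [h.mE] at h1
    cs h [k, h1] at e h2 ⊢; cg2 h

theorem qE (hg : g ∈ nz h.Q) : g ∈ nz h.Z1 ∧ g ∈ nz h.E :=
  have := nz_of_cz (fun _ => h.k1 le_rfl h.lQ) hg hg
  ⟨this, nz_of_char (fun _ => h.kE) hg hg this⟩
theorem gQ (hg : g ∈ nz h.Q) (k : g * ev (x7 1) * g⁻¹ ∈ h.R) : g ∈ h.I7 h.Q := by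
  obtain ⟨z1, hE⟩ := h.qE hg
  have nE := not_cj (w := ev (x7 1)) hE (by cs h []; simp)
  have wD := (h.iQ (h.mr (conj_mem_of_mem_nz hg (by cs h [])) k) (sq_cj (h.sqD (by cs h [])) g)).resolve_left nE
  have hD : g ∈ nz h.D := mem_nz_of_conj_mem fun v hv => h.dD wD nE (conj_mem_of_mem_nz hg ((by sl h : h.D ≤ h.Q) hv))
    (sq_cj (h.sqD hv) g) (cj_com (mem_cz'.1 (h.cDD.cz (by cs h [])) v hv) g)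
  have z4 := h.l4 ▸ mem_nz_inf hE hD
  have c4 := nz_of_cz (fun _ => h.k4 (by sl h) h.lQ) hg z4
  have z2 : g ∈ nz h.Z2 := mem_nz_of_conj_mem fun w hw => by
    obtain ⟨c, hc, rfl⟩ := hw
    rw [show ev c = ev (x4 c.e3) * (ev (y4 c.e5) * ev (x7 1) * (ev (y4 c.e5))⁻¹ * (ev (x7 1))⁻¹) by cs h [hc]; cg2 h,
      cj_mul', cj_cm]
    exact mul_mem ((by sl h : h.Z1 ≤ h.Z2) (conj_mem_of_mem_nz z1 (by cs h [])))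
      (h.c44 _ (conj_mem_of_mem_nz c4 (by cs h [])) _ (conj_mem_of_mem_nz c4 (by cs h [])))
  have z6 : g ∈ nz h.Z6 := nz_of_char (fun w => ⟨fun k => ⟨(by sl h : h.Z6 ≤ h.Q) k, h.c6D w k⟩, by
    rintro ⟨⟨c, hc, rfl⟩, k⟩
    have := h.cp
    ts h k (ev (x7 1)) [hc] e1
    have : c.a = 0 := sz (σ := σ) (by grind)
    cs h [hc, this] at e1 ⊢
    exact sz (σ := σ) (by grind)⟩) hg hD z2
  refine h.mI'.2 ⟨⟨hg, hE⟩, h.lr ▸ nz_of_cz (fun w => ⟨fun k => ⟨(by sl h : h.QR ≤ h.Q) k, h.cR2.cz ((by sl h : h.QR ≤ h.R) k)⟩,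
    fun k => h.mr k.1 (h.z2 (h.lQ k.1) k.2)⟩) hg z2, z6, h.l5 ▸ mem_nz_sup hE hD, z4, nz_of_cz (fun w => ⟨fun k =>
      ⟨(by sl h : h.W ≤ h.E) k, cz_anti (by sl h) (h.c0W.symm.cz k)⟩, ?_⟩) hE z6, z2, z1⟩
  rintro ⟨⟨c, hc, rfl⟩, k⟩
  have e1 := mem_cz'.1 k (ev (x7 1)) (by cs h [])
  have e2 := mem_cz'.1 k (ev (y6 1)) (by cs h [])
  cs h [hc] at e1 e2 ⊢; cg2 h
theorem gQW (hg : g ∈ nz h.Q) (k : g ∈ nz h.W) : g ∈ h.I7 h.Q := h.gQ hg ((by sl h : h.R0 ≤ h.R)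
  (h.zW (h.lQ (conj_mem_of_mem_nz hg (by cs h []))) (conj_mem_of_mem_nz (mem_nz_cz k) (h.c0W.cz (by cs h [])))))
theorem rD (hg : g ∈ nz h.R) : g ∈ nz h.Z2 ∧ g ∈ nz h.W ∧ g ∈ nz h.R0 ∧ g ∈ nz h.D :=
  have z2 := nz_of_cz (fun _ => h.k2) hg hg
  have w := nz_of_char (fun _ => h.kW) hg hg z2
  have r := nz_of_cz (fun _ => h.k0 (by sl h) h.lR) hg w
  ⟨z2, w, r, nz_of_char (fun _ => h.kD) r r z2⟩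
theorem k7 : w ∈ h.Z7 ↔ w ∈ h.R ∧ Cm w h.W h.Z1 := ⟨fun k => ⟨(by sl h : h.Z7 ≤ h.R) k, h.cVW w ((by sl h : h.Z7 ≤ h.QV) k)⟩,
  fun k => by
    obtain ⟨c, hc, rfl⟩ := h.toV (h.lR k.1) k.2
    cs h [hc, h.mR.1 k.1]⟩
theorem nz1 [Finite K] (h1 : h.CE ≤ P) (h2 : P ≤ S) (hg : g ∈ nz P) (hE : g ∈ nz h.E) : g ∈ nz h.Z1 :=
  mem_nz_of_conj_mem fun w hw => by
    obtain ⟨k, rfl⟩ := h.ex1 hw
    obtain ⟨d, rfl⟩ := h.nrm_sj k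
    rw [show ev (x4 (d * σ d)) = ev (y4 d) * ev (y4 d) by cs h [h.aa], cj_mul']
    exact h.sqC (conj_mem_of_mem_nz (nz_of_cz (fun _ => h.kC h1 h2) hg hE) (by cs h []))
theorem gR [Finite K] (hg : g ∈ nz h.R) (k : g * ev (x2 1) * g⁻¹ ∈ h.Q) : g ∈ h.I7 h.R := by
  obtain ⟨z2, zW, z0, hD⟩ := h.rD hg
  have nD := not_cj (w := ev (x2 1)) hD (by cs h []; simp)
  have wE := (h.iQ (h.mr k (conj_mem_of_mem_nz hg (by cs h []))) (sq_cj (h.sqE (by cs h [])) g)).resolve_right nD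
  have hE : g ∈ nz h.E := mem_nz_of_conj_mem fun v hv => h.dE wE nD (conj_mem_of_mem_nz hg ((by sl h : h.E ≤ h.R) hv))
    (sq_cj (h.sqE hv) g) (cj_com (mem_cz'.1 (h.cCE.cz (by cs h [])) v hv) g)
  have z1 := h.nz1 (by sl h) h.lR hg hE
  refine h.mI'.2 ⟨⟨hg, hE⟩, mem_nz_inf hg (nz_of_char (fun _ => h.k7) hg zW z1), nz_of_char (fun w => ⟨fun k =>
    ⟨(by sl h : h.Z6 ≤ h.R0) k, h.cQE w ((by sl h : h.Z6 ≤ h.Q) k)⟩, ?_⟩) z0 hE z1, h.l5 ▸ mem_nz_sup hE hD,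
    h.l4 ▸ mem_nz_inf hE hD, zW, z2, z1⟩
  rintro ⟨⟨c, hc, rfl⟩, k⟩
  cs h [hc, h.mQ.1 ((h.kQ h.lQ le_rfl).2 ⟨h.mS c, k⟩)]
theorem gR1 [Finite K] (hg : g ∈ nz h.R) (k : g ∈ nz h.Z1) : g ∈ h.I7 h.R := by
  obtain ⟨z2, zW, z0, hD⟩ := h.rD hg
  have z7 := nz_of_char (fun _ => h.k7) hg zW k
  obtain ⟨c, hc, e⟩ := conj_mem_of_mem_nz z0 (show ev (x2 1) ∈ h.R0 by cs h [])
  have k : Cm (ev c) h.Z7 h.W := fun y hy => by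
    have : CC h.E h.Z7 h.W := fun x hx => h.cVE.symm.cm hx (by sl h) le_rfl
    simpa [← e, mul_assoc] using conj_mem_of_mem_nz zW (this (ev (x2 1)) (by cs h []) _ (conj_mem_of_mem_nz' z7 hy))
  ts h k (ev (y2 1)) [hc] e1
  exact h.gR hg (by rw [e]; cs h [hc]; cg2 h)
theorem gS [Finite K] (hg : g ∈ nz S) : g ∈ h.I7 S ∧ g ∈ h.I7 h.R ∧ g ∈ h.I7 h.Q ∧ g ∈ nz h.QV := by
  have z1 := nz_of_cz (fun _ => h.k1 h.lQ le_rfl) hg hg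
  have z2 : g ∈ nz h.Z2 := nz_of_char (fun w => ⟨fun k => ⟨h.lZ2 k, h.cS2.symm w k⟩, fun k => by
    obtain ⟨c, hc, rfl⟩ := h.kE.2 ⟨(h.kQ h.lQ le_rfl).2 ⟨k.1, k.2.mono h.lE le_rfl⟩, k.2.mono h.lQ le_rfl⟩
    ts h k.2 (ev (y8 1)) [hc] e1
    cs h [hc]; cg2 h⟩) hg hg z1
  have r := h.gR1 (nz_of_cz (fun _ => h.kR) hg z2) z1
  have q := h.gQW (nz_of_char (fun _ => h.kQ h.lQ le_rfl) hg (h.I7E r) z1) (h.I7W r)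
  have := h.mI'.1 r
  refine ⟨h.mI'.2 ⟨⟨hg, h.I7E r⟩, ?_, this.2.2⟩, r, q, nz_of_char (fun w => ⟨fun k => ⟨h.lQV k, h.cVW w k⟩,
    fun k => h.toV k.1 k.2⟩) hg (h.I7W r) z1⟩
  rw [inf_of_le_right h.lZ7, ← inf_of_le_right (by sl h : h.Z7 ≤ h.R)]; exact this.2.1
end Co

namespace Mx
variable (h : Mx S σ ev M0 M1)
theorem nQ : M0 ∈ nz h.Q := mem_nz_of_conj_mem (by
  rintro _ ⟨c, hc, rfl⟩; rw [h.f0 c hc.1 hc.2]; exact h.mQ.2 ⟨rfl, rfl⟩)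
theorem nR : M1 ∈ nz h.R := mem_nz_of_conj_mem (by rintro _ ⟨c, hc, rfl⟩; rw [h.f1 c hc]; exact h.mR.2 rfl)
theorem genQ (hg : g ∈ nz h.Q) : g ∈ h.I7 h.Q ∨ ∃ u ∈ S, M0 * u * g ∈ h.I7 h.Q := by
  obtain ⟨c, hc, e⟩ := conj_mem_of_mem_nz hg (show ev (x7 1) ∈ h.Q by cs h.toCo [])
  by_cases ha : c.a = 0
  · exact .inl (h.gQ hg (e ▸ h.mR.2 ha))
  obtain ⟨u, hu, c', e', k⟩ := h.red1 (e ▸ sq_cj (h.sqD (by cs h.toCo [])) g) ha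
  refine .inr ⟨u, hu, h.gQ (mul_mem (mul_mem h.nQ (h.toCo.nQ hu)) hg) ?_⟩
  rw [show M0 * u * g * ev (x7 1) * (M0 * u * g)⁻¹ = M0 * (u * (g * ev (x7 1) * g⁻¹) * u⁻¹) * M0⁻¹ by group, e, e',
    h.f0 c' k.2.2.2.2.2.2.1 k.2.2.2.2.2.2.2]
  exact h.mR.2 k.2.2.2.2.2.1
theorem genR [Finite K] (hg : g ∈ nz h.R) : g ∈ h.I7 h.R ∨ ∃ u ∈ S, M1 * u * g ∈ h.I7 h.R := by
  obtain ⟨c, hc, e⟩ := conj_mem_of_mem_nz hg (show ev (x2 1) ∈ h.R by cs h.toCo [])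
  have sq : ev c * ev c = 1 := e ▸ sq_cj (h.sqE (by cs h.toCo [])) g
  by_cases ht : c.t = 0
  · exact .inl (h.gR hg (e ▸ h.mQ.2 ⟨h.i_s sq, ht⟩))
  obtain ⟨u, hu, c', e', -, k⟩ := h.red8 sq ht
  rw [h.mE6] at k
  refine .inr ⟨u, hu, h.gR (mul_mem (mul_mem h.nR (h.toCo.nR hu)) hg) ?_⟩
  rw [show M1 * u * g * ev (x2 1) * (M1 * u * g)⁻¹ = M1 * (u * (g * ev (x2 1) * g⁻¹) * u⁻¹) * M1⁻¹ by group, e, e',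
    h.f1 c' k.1]
  exact h.mQ.2 ⟨k.2.1, k.2.2.1⟩
end Mx

end H22.FZ
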