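/-
Fusion systems on a Sylow 2-subgroup of a Ree group of type `F₄`, part 5: essential subgroups inside `R`.
-/
import Cfsg.Agent.H22.FZ4

set_option autoImplicit false
set_option linter.unusedSectionVars false

namespace H22.FZ
open Subgroup H25 H25.FS Cd
variable {Γ : Type*} [Group Γ] [Finite Γ] {K : Type*} [Field K] [Finite K] {σ : K →+* K} {S P A B X Y : Subgroup Γ}
  {ev : Cd σ → Γ} {c c' z : Cd σ} {g u v w x : Γ} {r s t : K}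

/-- a list of invariant subgroups -/
def Al (P A : Subgroup Γ) : List (Subgroup Γ) → Prop
  | [] => True
  | Y :: l => (Y ≤ P ∧ A ≤ nz Y) ∧ Al P A l
theorem Es.ch (e : Es S P A) (l : List (Subgroup Γ)) (hl : Al P A l) (h1 : x ∈ S) (h2 : x ∈ nz P) (h : Ch x (fr P) P l) :
    x ∈ P := e.chain l (by
  clear h
  induction l with
  | nil => simp
  | cons Y l ih => exact List.forall_mem_cons.2 ⟨hl.1, ih hl.2⟩) h1 h2 h
theorem ci_conj (I : S ⊓ cz (zo P) ≤ P) (hu : u ∈ S) : S ⊓ cz (zo (cj u P)) ≤ cj u P := by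
  rw [← cj_zo, ← cj_cz, ← cj_eq_of_mem hu, ← cj_inf]; exact cj_mono u I
theorem zo_conj (hv : v ∈ zo P) (e : u * v * u⁻¹ = w) : w ∈ zo (cj u P) := by rw [← cj_zo, ← e]; exact conj_mem_cj u hv
theorem of_le_cj (h : X ≤ cj u P) (hu : u ∈ nz X) : X ≤ P := cj_le_cj.1 ((mem_nz.1 hu).symm ▸ h)
theorem zc (hv : v ∈ zo P) (hw : w ∈ P) : w * v = v * w := mem_cz'.1 hv.2.1 w hw
theorem le_om (h1 : X ≤ P) (h2 : ∀ w ∈ X, w * w = 1) (h3 : CC X P Y) : X ≤ om P Y := fun w hw => mem_om (h1 hw) (h2 w hw) (h3 w hw)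
theorem le_om' (h1 : X ≤ P) (h2 : ∀ w ∈ X, w * w = 1) : X ≤ om P P := le_om h1 h2 fun _ hw => cm_self (h1 hw)
theorem Es.leV (e : Es S P A) (h1 : X ≤ S) (h2 : ∀ w ∈ X, w * w = 1) (h3 : CC Y X ⊥) (h4 : P ≤ Y) : X ≤ zo P := fun w hw =>
  have := cz_anti h4 (h3.symm.cz hw)
  ⟨e.cen (mem_inf.2 ⟨h1 hw, this⟩), this, h2 w hw⟩
theorem Es.om0 (e : Es S P A) : om P P ≤ P ∧ A ≤ nz (om P P) := e.om_n e.An
theorem Es.zom (e : Es S P A) (h : X ≤ P ∧ A ≤ nz X) : zo X ≤ P ∧ A ≤ nz (zo X) := ⟨zo_le.trans h.1, fun _ k => nz_zo (h.2 k)⟩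

namespace Co
variable (h : Co S σ ev) (e : Es S P A)
include h
theorem sq' (k : X ≤ h.E) : ∀ w ∈ X, w * w = 1 := fun _ hw => h.sqE (k hw)
include e
theorem V1 : h.Z1 ≤ zo P := e.leV h.lZ1 (h.sq' (by sl h)) h.cS1 e.le
theorem P1 : h.Z1 ≤ P := (h.V1 e).trans zo_le
theorem kb (I : S ⊓ cz (zo P) ≤ P) (h1 : B ≤ S) (h2 : B ≤ nz P) (sq : ∀ b ∈ B, b * b ∈ P)
    (h3 : CC B (zo P) Y) (h4 : B ≤ cz Y) (φ : K × K → Cd σ) (hφ : ∀ i, ev (φ i) ∈ B)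
    (inj : ∀ i j, ev ((φ i)⁻¹ * φ j) ∈ P → i = j) (x1 : x ∈ B) (x3 : x ∉ P) (hψ : Cm x (zo P) h.Z1) : False :=
  e.kb I h1 h2 sq h3 h4 (fun i => ev (φ i)) hφ (fun i j k => inj i j (by rwa [h.inv, h.mul] at k)) (fun k => ev (x4 k))
    (h1 x1) (h2 x1) x3 (sq x x1) fun v hv => h.ex1 (hψ v hv)
theorem nv0 (I : S ⊓ cz (zo P) ≤ P) (hc : T1 c) (hv : ev c ∈ zo P) : False := by
  have PU : P ≤ h.UE := fun p hp => h.zT hc (e.le hp) (by simp [zc hv hp])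
  have YP : h.Y3 ≤ P := (e.leV h.lY3 (h.sq' (by sl h)) h.cUY PU).trans zo_le
  obtain ⟨ha, hc⟩ := hc
  refine h.kb e I h.lCE (h.cCU.nz' PU YP) (fun b hb => h.P1 e (h.sqC hb)) (fun b hb => h.cCU.cm hb (zo_le.trans PU) le_rfl)
    (fun b hb => cz_anti (by sl h) (h.cCE.cz hb)) (fun i => ⟨0, 0, 0, 0, i.1, 0, 0, 0, i.2, 0, 0, 0⟩) (fun i => by cs h [])
    (fun i j k => ?_) (x := ev (x6 1)) (by cs h []) (fun k => ?_)
    (h.cS2.symm.cm (by cs h []) (zo_le.trans e.le) le_rfl)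
  · have := zc hv k
    cs h [hc] at this
    ext <;> cg2 h
  · have := zc hv k
    cs h [hc] at this
    cg2 h
theorem nv (I : S ⊓ cz (zo P) ≤ P) : zo P ≤ h.R := fun v hv => by
  obtain ⟨c, -, rfl⟩ := h.ex (e.le hv.1)
  by_contra ha
  obtain ⟨u, hu, c', k, hc⟩ := h.red1 hv.2.2 (mt h.mR.2 ha)
  exact h.nv0 (e.conj hu) (ci_conj I hu) hc (zo_conj hv k)
theorem P2 : h.Z2 ≤ P := fun w hw => by
  rcases e.ok with I | I
  · exact I (mem_inf.2 ⟨h.lZ2 hw, cz_anti (h.nv e I) (h.cR2.symm.cz hw)⟩)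
  have n := h.cS2.symm.nz' e.le (h.P1 e) hw
  exact e.ch [zo P] ⟨e.zo_n, trivial⟩ (h.lZ2 hw) n ⟨h.cS2.symm.cm hw e.le (h.V1 e),
    cm_of_cz (I w (h.lZ2 hw) n (by rw [h.sqE ((by sl h : h.Z2 ≤ h.E) hw)]; exact one_mem _))⟩

variable (hR : P ≤ h.R)
include hR
theorem V2 : h.Z2 ≤ zo P := e.leV h.lZ2 (h.sq' (by sl h)) h.cR2 hR
omit e in
theorem O0 : om P P ≤ h.R0 := om_le_of fun _ hw sq _ => h.iR (hR hw) sq
omit e in
theorem V0 : zo P ≤ h.R0 := fun _ hv => h.iR (hR hv.1) hv.2.2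
theorem rW (I : S ⊓ cz (zo P) ≤ P) : h.W ≤ P := fun _ hw => I (mem_inf.2 ⟨h.lW hw, cz_anti (h.V0 hR) (h.c0W.symm.cz hw)⟩)
theorem r40 (I : S ⊓ cz (zo P) ≤ P) (hv : ev c ∈ zo P) (ht : c.t ≠ 0) (hc : ev c ∈ h.E6) : h.Z4 ≤ P := by
  rw [h.mE6] at hc
  have := h.cp
  have V6 : zo P ≤ h.E6 := fun v k => by
    obtain ⟨c', hc', rfl⟩ := h.V0 hR k
    have e1 := zc hv k.1
    have e2 := k.2.2
    cs h [hc, hc', h.aa] at e1 e2 ⊢
    have e0 : c'.e1 = 0 := by grind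
    simp only [e0, map_zero] at e1 e2
    have d0 : c'.d = 0 := by_contra fun d0 => by
      have := sn (σ := σ) d0
      grind
    have : c'.e2 = 0 := by grind
    exact ⟨e0, this, d0, nz0 (σ := σ) (by grind)⟩
  have F6 : h.V6 ≤ fr P := by
    rintro _ ⟨c', hc', rfl⟩
    obtain ⟨f, hf⟩ := h.nrm_sj c'.e5
    rw [show ev c' = ev (y6 f) ^ 2 by rw [pow_two]; cs h [hc', h.aa, hf]]
    refine pow_mem_fr (e.pg.to_le e.le) (I (mem_inf.2 ⟨h.mS _, cz_anti V6 (mem_cz'.2 ?_)⟩))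
    rintro _ ⟨c, hc, rfl⟩
    cs h [hc]
  have WP := h.rW e hR I
  exact fun x hx => e.ch [om P P, zo P] ⟨e.om0, e.zo_n, trivial⟩ (h.lZ4 hx) (h.cS4.symm.nz' e.le WP hx)
    ⟨h.cS4.symm.cm hx e.le (le_om' WP (h.sq' (by sl h))), h.c04.symm.cm hx (h.O0 hR) (h.V2 e hR), h.c46.cm hx V6 F6⟩
theorem r4 (I : S ⊓ cz (zo P) ≤ P) : h.Z4 ≤ P := by
  by_cases k : zo P ≤ h.Q
  · exact fun w hw => I (mem_inf.2 ⟨h.lZ4 hw, cz_anti (fun v hv => (by sl h : h.Z5 ≤ h.C4)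
      (h.iQ5 (h.mr (k hv) (hR hv.1)) hv.2.2)) (h.c4Z.symm.cz hw)⟩)
  obtain ⟨v, hv, k⟩ := SetLike.not_le_iff_exists.1 k
  obtain ⟨c, hc, rfl⟩ := h.V0 hR hv
  obtain ⟨u, hu, c', e1, e2, e3⟩ := h.red8 hv.2.2 fun t0 => k (h.mQ.2 ⟨hc.2.2, t0⟩)
  exact of_le_cj (h.r40 (e.conj hu) (cj_le_n hR (h.nR hu)) (ci_conj I hu) (zo_conj hv e1) e2 e3) (h.n4 hu)
theorem rI (I : S ⊓ cz (zo P) ≤ P) : P = h.R := by
  have P4 := h.r4 e hR I
  have := h.cp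
  have VQ : zo P ≤ h.QR := fun v hv => (by sl h : h.C4 ≤ h.QR) (h.z4 (e.le hv.1) (cz_anti P4 hv.2.1))
  by_cases k2 : zo P ≤ h.Z2
  · exact le_antisymm hR fun x hx => I (mem_inf.2 ⟨h.lR hx, cz_anti k2 (h.cR2.cz hx)⟩)
  exfalso
  by_cases kE : zo P ≤ h.E
  · obtain ⟨v, hv, k2⟩ := SetLike.not_le_iff_exists.1 k2
    obtain ⟨c, hc, rfl⟩ := kE hv
    have CP : h.CE ≤ P := fun w hw => I (mem_inf.2 ⟨h.lCE hw, cz_anti kE (h.cCE.cz hw)⟩)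
    have n : h.Q ≤ nz P := by
      by_cases kW : zo P ≤ h.W
      · refine h.lQ.trans (h.cS7.nz' (fun p hp => ?_) fun w hw => I (mem_inf.2 ⟨h.lZ6 hw,
          cz_anti kW (h.c0W.cz ((by sl h : h.Z6 ≤ h.R0) hw))⟩))
        obtain ⟨c', hc', rfl⟩ := hR hp
        have e1 := zc hv hp
        have := h.mW.1 (kW hv)
        cs h [this, hc'] at e1 k2 ⊢
        grind
      · obtain ⟨v, hv, kW⟩ := SetLike.not_le_iff_exists.1 kW
        obtain ⟨c, -, rfl⟩ := h.ex (e.le hv.1)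
        exact h.cQQ.nz' (fun p hp => h.toQ (kE hv) kW (e.le hp) (by simp [zc hv hp])) (le_trans (by sl h) CP)
    obtain ⟨b, f, g, k⟩ : ∃ b f g : K, g * c.e1 + f * c.e2 + b * c.e4 ≠ 0 := by
      by_contra k
      push Not at k
      have := k 1 0 0; have := k 0 1 0; have := k 0 0 1
      cs h [hc] at k2
      grind
    refine h.kb e I h.lQ n (fun b hb => CP ((by sl h : h.E ≤ h.CE) (h.sqQ hb))) (fun b hb => h.cQE.cm hb kE le_rfl)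
      (h.lQ.trans h.cS1.cz) (fun i => ⟨i.1, i.2 * b, 0, 0, 0, 0, 0, i.2 * f, 0, i.2 * g, 0, 0⟩) (fun i => by cs h [])
      (fun i j k => ?_) (x := ev (x1 1)) (by cs h []) (fun k => by simpa [x1] using h.mR.1 (hR k))
      (h.cQE.cm (by cs h []) kE le_rfl)
    have e1 := h.mR.1 (hR k)
    have e2 := zc hv k
    generalize hz : (_ * _ : Cd σ) = z at e1 e2
    have z1 : z.b = (i.2 + j.2) * b ∧ z.f = (i.2 + j.2) * f ∧ z.g = (i.2 + j.2) * g ∧ z.a = i.1 + j.1 ∧ z.s = 0 ∧ z.t = 0 := by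
      subst hz; cs h []; cg2 h
    cs h [hc, z1] at e1 e2
    ext <;> grind
  obtain ⟨v, hv, kE⟩ := SetLike.not_le_iff_exists.1 kE
  have vD := (h.iQ (VQ hv) hv.2.2).resolve_left kE
  have VD : zo P ≤ h.D := fun w hw => h.dD vD kE ((by sl h : h.QR ≤ h.Q) (VQ hw)) hw.2.2 (zc hv hw.1)
  obtain ⟨c, hc, rfl⟩ := vD
  cs h [hc] at kE
  refine h.kb e I h.lCE (h.cRC.symm.nz' hR P4) (fun b hb => h.P1 e (h.sqC hb))
    (fun b hb => h.c44.cm ((by sl h : h.CE ≤ h.C4) hb) (VD.trans (by sl h)) le_rfl)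
    (fun b hb => h.cR2.cz ((by sl h : h.CE ≤ h.R) hb)) (fun i => ⟨0, 0, i.1, 0, i.2, 0, 0, 0, 0, 0, 0, 0⟩) (fun i => by cs h [])
    (fun i j k => ?_) (x := ev (x2 1)) (by cs h []) (fun k => ?_) (h.cQE.symm.cm (by cs h []) (VD.trans (by sl h)) le_rfl)
  · have := zc hv k
    cs h [hc] at this
    ext <;> grind
  · have := zc hv k
    cs h [hc] at this
    grind
theorem rII (I : ∀ x ∈ S, x ∈ nz P → x * x ∈ P → x ∈ cz (zo P)) : P = h.R := by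
  have V2 := h.V2 e hR
  have O0 := h.O0 hR
  have I' : ∀ x ∈ h.R0, x ∈ nz P → x * x ∈ P → Cm x (zo P) (fr P) := fun x h1 h2 h3 => cm_of_cz (I x (h.lR0 h1) h2 h3)
  have PW : h.W ≤ P := fun x hx =>
    have n := h.cSW.symm.nz' e.le (h.P2 e) hx
    e.ch [zo P] ⟨e.zo_n, trivial⟩ (h.lW hx) n ⟨h.cSW.symm.cm hx e.le V2, I' x ((by sl h : h.W ≤ h.R0) hx) n
      (by rw [h.sqE ((by sl h : h.W ≤ h.E) hx)]; exact one_mem _)⟩
  have OW := le_om' PW (h.sq' (by sl h))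
  have ZW : h.W ≤ zo (om P P) := fun w hw => ⟨OW hw, cz_anti O0 (h.c0W.symm.cz hw), h.sqE ((by sl h : h.W ≤ h.E) hw)⟩
  have P4 : h.Z4 ≤ P := fun x hx =>
    have n := h.cS4.symm.nz' e.le PW hx
    e.ch [om P P, zo P] ⟨e.om0, e.zo_n, trivial⟩ (h.lZ4 hx) n ⟨h.cS4.symm.cm hx e.le OW, h.c04.symm.cm hx O0 V2,
      I' x ((by sl h : h.Z4 ≤ h.R0) hx) n (by rw [h.sqE ((by sl h : h.Z4 ≤ h.E) hx)]; exact one_mem _)⟩
  have O4 := le_om' P4 (h.sq' (by sl h))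
  have ZS : zo (om P P) ≤ S := zo_le.trans (om_le.trans e.le)
  have P5 : h.Z5 ≤ P := fun x hx =>
    have n := h.cS5.symm.nz' e.le P4 hx
    have k := (by sl h : h.Z5 ≤ h.C4) hx
    have k' := (by sl h : h.Z5 ≤ h.R0) hx
    e.ch [om P P, zo (om P P), zo P] ⟨e.om0, e.zom e.om0, e.zo_n, trivial⟩ (h.lZ5 hx) n ⟨h.cS5.symm.cm hx e.le O4,
      h.c00.cm k' O0 ZW, h.c44.cm k (fun w hw => h.z4 (ZS hw) (cz_anti O4 hw.2.1)) V2, I' x k' n (h.P2 e (h.sq4 k))⟩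
  have OD := le_om' ((by sl h : h.D ≤ h.Z5).trans P5) fun _ => h.sqD
  have O5 : h.Z5 ≤ om P P := h.l5 ▸ sup_le (le_om' ((by sl h : h.E ≤ h.Z5).trans P5) fun _ => h.sqE) OD
  have Z4 : zo (om P P) ≤ h.Z4 := fun w hw => h.z5 (ZS hw) (cz_anti O5 hw.2.1)
  have P0 : h.R0 ≤ P := fun x hx =>
    have n := h.cR0.symm.nz' hR (OD.trans om_le) hx
    e.ch [om P P, zo (om P P), zo P] ⟨e.om0, e.zom e.om0, e.zo_n, trivial⟩ (h.lR0 hx) n ⟨h.cR0.symm.cm hx hR OD,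
      h.c00.cm hx O0 ZW, h.c04.cm hx Z4 V2, I' x hx n (PW (h.sq0 hx))⟩
  have ZW' : zo (om P P) = h.W := le_antisymm (fun w hw => by
    obtain ⟨c, hc, rfl⟩ := Z4 hw
    have := zc hw (mem_om (w := ev (x8 1)) (P0 (by cs h [])) (by cs h [h.aa]) (cm_self (P0 (by cs h []))))
    cs h [hc] at this ⊢; cg2 h) ZW
  have aW : A ≤ nz h.W := ZW' ▸ (e.zom e.om0).2
  have a0 : A ≤ nz h.R0 := fun g hg => nz_of_cz (fun _ => h.k0 P0 e.le) (e.An hg) (aW hg)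
  have V2' : zo P = h.Z2 := le_antisymm (fun v hv => by
    obtain ⟨c, hc, rfl⟩ := ZW'.le (⟨mem_om hv.1 hv.2.2 (cm_self hv.1), cz_anti om_le hv.2.1, hv.2.2⟩ : v ∈ zo (om P P))
    by_contra k
    have : P ≤ h.R0 := fun p hp => by
      obtain ⟨c', hc', rfl⟩ := hR hp
      have := zc hv hp
      cs h [hc, hc'] at this k ⊢; cg2 h
    have := h.z2 (h.mS _) (cz_anti V2 (I (ev (x1 1)) (h.mS _) (le_antisymm this P0 ▸ h.n0 (h.mS _))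
      (by rw [show ev (x1 1) * ev (x1 1) = 1 by cs h [h.aa]]; exact one_mem _)))
    simpa [x1] using h.mR.1 this) V2
  have a2 : A ≤ nz h.Z2 := V2' ▸ e.zo_n.2
  exact le_antisymm hR fun x hx => e.ch [h.R0, h.D, h.W, h.Z2] ⟨⟨P0, a0⟩, ⟨OD.trans om_le, fun g hg =>
    nz_of_char (fun _ => h.kD) (a0 hg) (a0 hg) (a2 hg)⟩, ⟨PW, aW⟩, ⟨h.P2 e, a2⟩, trivial⟩ (h.lR hx) (h.cRR.nz' hR P0 hx)
    ⟨h.cRR.cm hx hR le_rfl, h.cR0 x hx, h.cRD x hx, h.cSW x (h.lR hx), h.cR2.cm hx le_rfl bot_le⟩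
theorem esR : P = h.R := e.ok.elim (h.rI e hR) (h.rII e hR)
end Co

end H22.FZ
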