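/-
Fusion systems on a Sylow 2-subgroup of a Ree group of type `F₄`, part 6: the essential subgroups are `Q` and `R`.
-/
import Cfsg.Agent.H22.FZ5
import Cfsg.Agent.H24.SP4

set_option autoImplicit false
set_option linter.unusedSectionVars false

namespace H22.FZ
open Subgroup H25 H25.FS Cd
variable {Γ : Type*} [Group Γ] [Finite Γ] {K : Type*} [Field K] [Finite K] {σ : K →+* K} {S P A B X Y : Subgroup Γ}
  {ev : Cd σ → Γ} {c c' z : Cd σ} {g u v w x M0 M1 : Γ} {r s t : K}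

namespace Co
variable (h : Co S σ ev) (e : Es S P A)
include h
theorem exa (hP : P ≤ S) (hR : ¬ P ≤ h.R) : ∃ c : Cd σ, ev c ∈ P ∧ c.a ≠ 0 := by
  obtain ⟨p, hp, k⟩ := SetLike.not_le_iff_exists.1 hR
  obtain ⟨c, -, rfl⟩ := h.ex (hP hp)
  exact ⟨c, hp, mt h.mR.2 k⟩
theorem srj (h1 : w ∈ h.Q) (h2 : w ∉ h.CE) (hx : x ∈ h.Z1) : ∃ v ∈ h.E, x = w * v * w⁻¹ * v⁻¹ := by
  obtain ⟨c, hc, rfl⟩ := h1
  obtain ⟨k, rfl⟩ := h.ex1 hx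
  have := h.cp
  simp only [eq_comm (a := ev (x4 k)), cm_eq]
  by_cases ha : c.a = 0
  · by_cases hb : c.b = 0
    · by_cases hf : c.f = 0
      · cs h [hc, ha, hb, hf] at h2
        exact ⟨ev (x2 (k / c.g)), by cs h [], by cs h [hc, ha, hb, hf]; grind⟩
      · exact ⟨ev (x3 (k / c.f)), by cs h [], by cs h [hc, ha, hb]; grind⟩
    · exact ⟨ev (x5 (k / c.b)), by cs h [], by cs h [hc, ha]; grind⟩
  · exact ⟨ev (x6 (k / c.a)), by cs h [], by cs h [hc]; grind⟩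
theorem cED : Nat.card h.E = Nat.card h.D := by
  rw [RF.card_par (A := h.E) (fun p : K × K × K × K × K => ev ⟨0, 0, p.1, p.2.1, 0, p.2.2.1, p.2.2.2.1, 0, p.2.2.2.2, 0, 0, 0⟩)
    (fun p q k => by cs h [] at k; ext <;> simp [k]) fun w => ⟨fun ⟨c, hc, k⟩ => ⟨⟨c.e1, c.e2, c.e3, c.e4, c.e5⟩,
      by rw [k]; cs h [hc]⟩, fun ⟨p, k⟩ => by rw [k]; cs h []⟩,
    RF.card_par (A := h.D) (fun p : K × K × K × K × K => ev ⟨0, 0, 0, p.2.1, 0, p.2.2.1, p.2.2.2.1, 0, p.2.2.2.2, p.1, 0, 0⟩)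
    (fun p q k => by cs h [] at k; ext <;> simp [k]) fun w => ⟨fun ⟨c, hc, k⟩ => ⟨⟨c.g, c.e2, c.e3, c.e4, c.e5⟩,
      by rw [k]; cs h [hc]⟩, fun ⟨p, k⟩ => by rw [k]; cs h []⟩]
theorem d0 (h1 : w ∈ h.D) (hc : ev c ∈ S) (ha : c.a ≠ 0) (k : ev c * w * (ev c)⁻¹ * w⁻¹ ∈ h.W) : w ∈ h.E := by
  obtain ⟨c', hc', rfl⟩ := h1
  obtain ⟨z, hz, k⟩ := k
  have := h.cp
  have := sn (σ := σ) ha
  rw [cm_eq] at k
  cs h [hc', hz] at k ⊢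
  grind
include e
theorem esE (hE : h.E ≤ P) (aE : A ≤ nz h.E) : P = h.Q := by
  have PC : h.CE ≤ P := fun x hx => e.ch [h.E] ⟨⟨hE, aE⟩, trivial⟩ (h.lCE hx) (h.cSC.symm.nz' e.le hE hx)
    ⟨h.cSC.symm.cm hx e.le le_rfl, h.cCE.cm hx le_rfl bot_le⟩
  have a1 : A ≤ nz h.Z1 := fun g hg => h.nz1 PC e.le (e.An hg) (aE hg)
  have aQ : A ≤ nz (P ⊓ h.Q) := fun g hg => nz_of_char (fun w => ⟨fun k => ⟨k.1, h.cQE w k.2⟩,
    fun k => ⟨k.1, (h.kQ h.lQ le_rfl).2 ⟨e.le k.1, k.2⟩⟩⟩) (e.An hg) (aE hg) (a1 hg)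
  have cm : ∀ {x Y Z}, x ∈ nz P → Cm x P Y → Y ≤ Z → Cm x P (P ⊓ Z) := fun hn k l y hy =>
    mem_inf.2 ⟨mul_mem (conj_mem_of_mem_nz hn hy) (inv_mem hy), l (k y hy)⟩
  have PQ : h.Q ≤ P := e.le_of h.lQ (e.le.trans h.nQ) fun x hx hn => e.ch [P ⊓ h.Q, h.E, h.Z1]
    ⟨⟨inf_le_left, aQ⟩, ⟨hE, aE⟩, ⟨h.P1 e, a1⟩, trivial⟩ (h.lQ hx) hn ⟨cm hn (h.cSQ.symm.cm hx e.le le_rfl) (by sl h),
      h.cQQ.cm hx inf_le_right le_rfl, h.cQE x hx, h.cS1.cm (h.lQ hx) le_rfl bot_le⟩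
  rw [inf_of_le_right PQ] at aQ
  refine le_antisymm (fun p hp => by_contra fun pQ => e.ne (le_antisymm e.le ?_)) PQ
  have kW : ∀ w ∈ h.E, Cm w P h.Z1 → w ∈ h.W := fun w hw k => by_contra fun k' => by
    obtain ⟨c, -, rfl⟩ := h.ex (h.lE hw)
    exact pQ (h.toQ hw k' (e.le hp) (by simpa [mul_assoc] using inv_mem (k p hp)))
  have aW : A ≤ nz h.W := fun g hg => by
    by_cases hV : P ≤ h.QV
    · exact nz_of_char (fun w => ⟨fun k => ⟨(by sl h : h.W ≤ h.E) k, h.cVW.symm.cm k hV le_rfl⟩, fun k => kW w k.1 k.2⟩)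
        (aE hg) (e.An hg) (a1 hg)
    obtain ⟨p, hp, hV⟩ := SetLike.not_le_iff_exists.1 hV
    obtain ⟨c, -, rfl⟩ := h.ex (e.le hp)
    rw [h.mQV] at hV
    have := h.cp
    have := sn (σ := σ) hV
    refine nz_of_char (Z := h.Z2) (fun w => ⟨fun k => ⟨(by sl h : h.W ≤ h.E) k, h.cSW.symm.cm k e.le le_rfl⟩, ?_⟩)
      (aE hg) (e.An hg) (nz_of_char (fun w => ⟨fun k => ⟨(by sl h : h.Z2 ≤ h.E) k, h.cS2.symm.cm k e.le le_rfl⟩, fun k => ?_⟩)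
        (aE hg) (e.An hg) (a1 hg))
    · rintro ⟨⟨c', hc', rfl⟩, k⟩
      obtain ⟨z, hz, k⟩ := k _ hp
      rw [cm_eq] at k
      cs h [hc', hz] at k ⊢
      have e0 : c'.e1 = 0 := by grind
      grind
    · obtain ⟨c', hc', rfl⟩ := kW w k.1 k.2
      obtain ⟨z, hz, k⟩ := k.2 _ hp
      rw [cm_eq] at k
      cs h [hc', hz] at k ⊢
      grind
  have aI : ∀ Y ∈ h.ch h.Q, Y ≤ P ∧ A ≤ nz Y := fun Y hY => ⟨(h.chl (by sl h) Y hY).trans PQ,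
    fun g hg => (h.mI.1 (h.gQW (aQ hg) (aW hg))).2 Y hY⟩
  refine e.le_of le_rfl (e.le.trans (le_nz_self S)) fun x hx hn => e.chain ((P ⊓ h.QV) :: h.Q :: h.ch h.Q)
    (List.forall_mem_cons.2 ⟨⟨inf_le_left, fun g hg => nz_of_char (fun w => ⟨fun k => ⟨k.1, h.cVW w k.2⟩,
      fun k => ⟨k.1, h.toV (e.le k.1) k.2⟩⟩) (e.An hg) (aW hg) (a1 hg)⟩, List.forall_mem_cons.2 ⟨⟨PQ, aQ⟩, aI⟩⟩) hx hn
    ⟨cm hn (h.cSS.cm hx e.le le_rfl) (by sl h), h.cSV.cm hx inf_le_right (by sl h), h.chS h.lQ hx (h.nQ hx)⟩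

variable (hR : ¬ P ≤ h.R)
include hR
theorem VE : zo P ≤ h.E := fun v hv => by
  obtain ⟨c, hc, ha⟩ := h.exa e.le hR
  obtain ⟨c', hc', rfl⟩ := h.iR (h.z2 (e.le hv.1) (cz_anti (h.P2 e) hv.2.1)) hv.2.2
  have k := zc hv hc
  refine (h.iQ ?_ hv.2.2).elim id fun k' => h.d0 k' (h.mS c) ha (by simp [k])
  have := sn (σ := σ) ha
  cs h [hc'] at k ⊢
  cg2 h
theorem cV (hx : x ∈ h.CE) : Cm x (zo P) X := h.cCE.cm hx (h.VE e hR) bot_le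
theorem qE0 (hQ : P ≤ h.Q) (hE : h.E ≤ P) (hw : w ∈ P) (sq : w * w = 1) (k : Cm w P h.Z1) : w ∈ h.E := by
  obtain ⟨c, -, rfl⟩ := h.ex (e.le hw)
  by_cases ha : c.a = 0
  · obtain ⟨c', hc', ha'⟩ := h.exa e.le hR
    exact (h.iQ (h.mr (hQ hw) (h.mR.2 ha)) sq).elim id fun k' => h.d0 k' (h.mS c') ha'
      ((by sl h : h.Z1 ≤ h.W) (by simpa [mul_assoc] using inv_mem (k _ hc')))
  obtain ⟨u, hu, c', e1, e2⟩ := h.red1 sq ha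
  have e' := e.conj hu
  have PU : cj u P ≤ h.UE := by
    rintro _ ⟨p, hp, rfl⟩
    refine h.zT e2 (cj_le_of_mem hu e.le (conj_mem_cj u hp)) ?_
    simpa [← e1, mul_assoc] using conj_mem_of_mem_nz (h.n1 hu) (inv_mem (k p hp))
  have YV := e'.leV h.lY3 (h.sq' (by sl h)) h.cUY PU
  have y4 : ev (y4 1) ∈ h.CE := by cs h []
  have := PU (e'.ch [zo (cj u P)] ⟨e'.zo_n, trivial⟩ (h.mS _) (h.cCU.nz' PU (YV.trans zo_le) y4)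
    ⟨h.cCU.cm y4 PU YV, h.cV e' (fun k => hR (of_cj_le k (h.nR hu))) y4⟩)
  cs h [] at this
  simp at this
theorem esQ (hQ : P ≤ h.Q) : P = h.Q := by
  have hE : h.E ≤ P := fun x hx => e.ch [zo P] ⟨e.zo_n, trivial⟩ (h.lE hx) (h.cQE.symm.nz' hQ (h.P1 e) hx)
    ⟨h.cQE.symm.cm hx hQ (h.V1 e), h.cV e hR ((by sl h : h.E ≤ h.CE) hx)⟩
  have a1 : A ≤ nz h.Z1 := fun g hg => (inv_mem_iff).1 (mem_nz_of_conj_mem fun x hx => by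
    have n := e.An hg
    rw [inv_inv]
    by_cases k : ∃ v ∈ h.E, g * v * g⁻¹ ∉ h.CE
    · obtain ⟨v, hv, k⟩ := k
      obtain ⟨u, hu, rfl⟩ := h.srj (hQ (conj_mem_of_mem_nz n (hE hv))) k hx
      simpa [mul_assoc] using h.cQE.symm v hv _ (hQ (conj_mem_of_mem_nz' n (hE hu)))
    push Not at k
    have nE : g ∈ nz h.E := mem_nz_of_conj_mem fun v hv => h.iC (k v hv) (sq_cj (h.sqE hv) g)
    obtain ⟨c, hc, ha⟩ := h.exa e.le hR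
    obtain ⟨u, hu, rfl⟩ := h.srj (hQ hc) (fun k => ha (h.mCE.1 k).1) hx
    simpa [mul_assoc] using h.cQE _ (hQ (conj_mem_of_mem_nz' n hc)) _ (conj_mem_of_mem_nz' nE hu))
  exact h.esE e hE fun g hg => mem_nz_of_conj_mem fun v hv => h.qE0 e hR hQ hE (conj_mem_of_mem_nz (e.An hg) (hE hv))
    (sq_cj (h.sqE hv) g) fun y hy => by
      simpa [mul_assoc] using conj_mem_of_mem_nz (a1 hg) (h.cQE.symm v hv _ (hQ (conj_mem_of_mem_nz' (e.An hg) hy)))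
theorem o5 (hQ : ¬ P ≤ h.Q) (hY : Y ≤ h.Z5) : om P Y ≤ h.Z5 := om_le_of fun w hw sq k => by
  obtain ⟨c1, h1, ha⟩ := h.exa e.le hR
  obtain ⟨p, h2, hQ⟩ := SetLike.not_le_iff_exists.1 hQ
  obtain ⟨c2, -, rfl⟩ := h.ex (e.le h2)
  obtain ⟨c, -, rfl⟩ := h.ex (e.le hw)
  obtain ⟨z1, hz1, k1⟩ := hY (k _ h1)
  obtain ⟨z2, hz2, k2⟩ := hY (k _ h2)
  rw [cm_eq] at k1 k2
  have := h.cp
  have s0 := h.i_s sq
  have t0 : c.t = 0 := by_contra fun t0 => by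
    have a0 : c.a = 0 := by_contra fun k => t0 (h.i_t sq k)
    have := sn (σ := σ) ha
    have k1 := congrArg Cd.d (h.inj (by simpa only [h.mul] using k1))
    cs h [hz1, s0, a0, h.i_b sq a0] at k1
    grind
  refine h.iQ5 (h.mQR.2 ⟨by_contra fun a0 => ?_, s0, t0⟩) sq
  have := sn (σ := σ) a0
  have k2 := h.inj (by simpa only [h.mul] using k2)
  have k3 := congrArg Cd.b k2
  have k4 := congrArg Cd.d k2
  cs h [hz2, s0, t0] at k3 k4 hQ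
  grind
theorem esN (hQ : ¬ P ≤ h.Q) : P = h.Q := by
  have OV : om P P ≤ h.QV := om_le_of fun w hw sq _ => h.iV (e.le hw) sq
  have V1 := h.V1 e
  have P2 := h.P2 e
  have cV : ∀ x ∈ h.E, Cm x (zo P) (fr P) := fun x hx => h.cV e hR ((by sl h : h.E ≤ h.CE) hx)
  have PW : h.W ≤ P := fun x hx => e.ch [om P P, zo P] ⟨e.om0, e.zo_n, trivial⟩ (h.lW hx) (h.cSW.symm.nz' e.le P2 hx)
    ⟨h.cSW.symm.cm hx e.le (le_om' P2 (h.sq' (by sl h))), h.cVW.symm.cm hx OV V1, cV x ((by sl h : h.W ≤ h.E) hx)⟩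
  have a1 := e.om_n e.zo_n.2
  have b1 := h.o5 e hR hQ ((h.VE e hR).trans (by sl h))
  have c1 := le_om P2 (h.sq' (by sl h)) fun x hx => h.cS2.symm.cm hx e.le V1
  have P4 : h.Z4 ≤ P := fun x hx =>
    have k := (by sl h : h.Z4 ≤ h.E) hx
    e.ch [om P P, _, zo P] ⟨e.om0, a1, e.zo_n, trivial⟩ (h.lZ4 hx) (h.cS4.symm.nz' e.le PW hx)
    ⟨h.cS4.symm.cm hx e.le (le_om' PW (h.sq' (by sl h))), h.cV4.symm.cm hx OV c1,
      h.cQE.symm.cm k (b1.trans (by sl h)) V1, cV x k⟩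
  have a2 := e.om_n a1.2
  have b2 := h.o5 e hR hQ b1
  have c2 := le_om PW (h.sq' (by sl h)) fun x hx => h.cSW.symm.cm hx e.le c1
  have PE : h.E ≤ P := fun x hx =>
    have k := (by sl h : h.E ≤ h.Z5) hx
    e.ch [om P P, _, zo P] ⟨e.om0, a2, e.zo_n, trivial⟩ (h.lE hx) (h.cS5.symm.nz' e.le P4 k)
    ⟨h.cS5.symm.cm k e.le (le_om' P4 (h.sq' (by sl h))), h.cVE.symm.cm hx OV c2,
      h.cQE.symm.cm hx (b2.trans (by sl h)) V1, cV x hx⟩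
  have c3 := le_om P4 (h.sq' (by sl h)) fun x hx => h.cS4.symm.cm hx e.le c2
  have c4 := le_om PE (h.sq' le_rfl) fun x hx => h.cS5.symm.cm ((by sl h : h.E ≤ h.Z5) hx) e.le c3
  have E5 : ∀ g ∈ A, ∀ v ∈ h.E, g * v * g⁻¹ ∈ h.Z5 := fun g hg v hv =>
    h.o5 e hR hQ (h.o5 e hR hQ b2) (conj_mem_of_mem_nz ((e.om_n (e.om_n a2.2).2).2 hg) (c4 hv))
  refine h.esE e PE fun g hg => mem_nz_of_conj_mem fun v hv => by_contra fun nE => ?_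
  have r : h.Z5 ≤ h.QR := by sl h
  have vD := (h.iQ (r (E5 g hg v hv)) (sq_cj (h.sqE hv) g)).resolve_left nE
  have ED : cj g h.E = h.D := eq_of_le_of_card_ge (cj_le.2 fun u hu => h.dD vD nE ((by sl h : h.Z5 ≤ h.Q) (E5 g hg u hu))
    (sq_cj (h.sqE hu) g) (cj_com (mem_cz'.1 (h.cCE.cz ((by sl h : h.E ≤ h.CE) hv)) u hu) g)) (by rw [card_cj, h.cED])
  have a5 : h.Z5 ≤ P ∧ A ≤ nz h.Z5 := ⟨h.l5 ▸ sup_le PE (ED ▸ cj_le_n PE (e.An hg)), fun k hk => mem_nz_of_le (by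
    conv_lhs => rw [h.l5, ← ED, cj_sup, cj_cj]
    exact sup_le (cj_le.2 (E5 k hk)) (cj_le.2 (E5 _ (mul_mem hk hg))))⟩
  have y4 : ev (y4 1) ∈ h.CE := by cs h []
  have := e.ch [h.Z5, zo h.Z5] ⟨a5, e.zom a5, trivial⟩ (h.mS _) (h.cSC.symm.nz' e.le PE y4)
    ⟨h.cSC.symm.cm y4 e.le (by sl h), h.c44.cm (by cs h []) (by sl h) fun w hw => ⟨(by sl h : h.Z2 ≤ h.Z5) hw,
      cz_anti (by sl h) (h.cR2.symm.cz hw), h.sqE ((by sl h : h.Z2 ≤ h.E) hw)⟩,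
      h.cCE.cm y4 (fun w hw => (by sl h : h.Z4 ≤ h.E) (h.z5 (h.lZ5 hw.1) hw.2.1)) bot_le⟩
  have := h.zD (e.le (conj_mem_of_mem_nz (e.An hg) this)) (by rw [← ED, ← cj_cz]; exact conj_mem_cj g (h.cCE.cz y4))
  rw [← ED, conj_mem_cj_iff] at this
  cs h [] at this
  simp at this
omit hR in
theorem ess : P = h.Q ∨ P = h.R := by
  by_cases hR : P ≤ h.R
  · exact .inr (h.esR e hR)
  · exact .inl ((em _).elim (h.esQ e hR) (h.esN e hR))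
end Co

variable {F F' : FS Γ}
theorem Co.cen (h : Co S σ ev) (h6 : h.Z6 ≤ P) : S ⊓ cz P ≤ P := fun _ k =>
  h6 ((by sl h : h.Z4 ≤ h.Z6) (h.z5 k.1 (cz_anti (le_trans (by sl h) h6) k.2)))
theorem Co.au (h : Co S σ ev) (hF : F.Sat 2) (e : F.S = S) (h6 : h.Z6 ≤ P) (hP : P ≤ S) (hn : S ≤ nz P) : Au S P (F.A P) := by
  subst e
  exact ⟨hF.pg, hP, h.cen h6, F.ai_le_A P, F.A_le_nz P, hF.syl (FN_of_le_nz hP hn)⟩
theorem Co.ext (h : Co S σ ev) (hF : F.Sat 2) (e : F.S = S) (h6 : h.Z6 ≤ P) (hP : P ≤ S) (hn : S ≤ nz P) (hg : g ∈ F.A P)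
    (hI : g ∈ h.I7 P) : ∃ k ∈ F.A S, Agree P k g := by
  have := h.bor' (h.au hF e h6 hP hn) h6 hn hg hI
  subst e
  exact H24.SP.ext_S hF hP hn hg fun s hs => conj_mem_of_mem_nz this (mem_ai_of_mem hs (hn hs))
theorem Co.cases (h : Co S σ ev) (hF : F.Sat 2) (e : F.S = S) : F.Constr 2 ∨ F.Ess h.Q ∧ F.Ess h.R := by
  subst e
  have k : ∀ P, h.Z6 ≤ P → P ≤ F.S → nz F.S ≤ nz P → (∀ X, F.Ess X → X = P) → F.Constr 2 := fun P h6 hP hn k =>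
    have := hF.nm_iff_ess.2 (fun X hX => hX.elim (fun c => c ▸ ⟨hP, (F.A_le_nz _).trans hn⟩)
      fun c => k X c ▸ ⟨le_rfl, F.A_le_nz _⟩ : ∀ X, X = F.S ∨ F.Ess X → P ≤ X ∧ F.A X ≤ nz P)
    ⟨hF, P, this, this.wc.centric (h.cen h6)⟩
  by_cases q : F.Ess h.Q
  · by_cases r : F.Ess h.R
    · exact .inr ⟨q, r⟩
    · exact .inl (k _ (by sl h) h.lQ (fun g hg => h.I7n (h.gS hg).2.2.1) fun X c =>
        (h.ess (es_of hF c)).resolve_right fun c' => r (c' ▸ c))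
  · exact .inl (k _ (by sl h) h.lR (fun g hg => h.I7n (h.gS hg).2.1) fun X c =>
      (h.ess (es_of hF c)).resolve_left fun c' => q (c' ▸ c))
theorem Mx.le (h : Mx S σ ev M0 M1) (hF : F.Sat 2) (e : F.S = S) (e' : F'.S = S) (h1 : F.A S ≤ F'.A S)
    (q : M0 ∈ F.A h.Q) (q' : M0 ∈ F'.A h.Q) (r : M1 ∈ F.A h.R) (r' : M1 ∈ F'.A h.R) : F ≤ F' := by
  have k : ∀ P M, h.Z6 ≤ P → P ≤ S → S ≤ nz P → M ∈ F.A P → M ∈ F'.A P → ∀ a ∈ F.A P,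
      (a ∈ h.I7 P ∨ ∃ u ∈ S, M * u * a ∈ h.I7 P) → F'.T P a := fun P M h6 hP hn m m' a ha c => by
    have k : ∀ a ∈ F.A P, a ∈ h.I7 P → a ∈ F'.A P := fun a ha c =>
      let ⟨k, hk, c'⟩ := h.ext hF e h6 hP hn ha c
      c'.symm.mem_A (mem_A_of_le e'.ge (h1 hk) hP (c'.mem_nz (h.I7n c)))
    refine T_of_mem_A (hP.trans e'.ge) (c.elim (k a ha) fun ⟨u, hu, c⟩ => ?_)
    have := k _ (mul_mem (mul_mem m (F.N_le_A P ⟨e.ge hu, hn hu⟩)) ha) c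
    rwa [mul_mem_cancel_left (mul_mem m' (F'.N_le_A P ⟨e'.ge hu, hn hu⟩))] at this
  refine hF.le_of_ess fun P hP a ha => ?_
  rcases hP with rfl | hP
  · exact T_of_mem_A (e.trans e'.symm).le (e ▸ h1 (e ▸ ha))
  rcases h.ess (e ▸ es_of hF hP) with rfl | rfl
  · exact k _ _ (by sl h.toCo) h.lQ h.toCo.nQ q q' a ha (h.genQ (F.A_le_nz _ ha))
  · exact k _ _ (by sl h.toCo) h.lR h.toCo.nR r r' a ha (h.genR (F.A_le_nz _ ha))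

end H22.FZ
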