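/-
Fusion systems on a Sylow 2-subgroup of a Ree group of type `F₄`, part 7: automorphisms of `S` for `q ≥ 8`.
-/
import Cfsg.Agent.H22.FZ6
import Cfsg.Agent.H2.SZ

set_option autoImplicit false
set_option linter.unusedSectionVars false

namespace H22.FZ
open Subgroup H25 H25.FS Cd
variable {Γ : Type*} [Group Γ] [Finite Γ] {K : Type*} [Field K] [Finite K] {σ : K →+* K} {S P A B C X Y T L H : Subgroup Γ}
  {ev : Cd σ → Γ} {c c' z : Cd σ} {a b g k v w x τ τ' M0 M1 : Γ} {p u p' u' r s t κ κ' : K}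

/-- constrained or realized by a subgroup of the ambient group -/
def Rl (F : FS Γ) : Prop := F.Constr 2 ∨ ∃ G, Syl 2 F.S G ∧ F = ofSub G F.S
theorem cjs_ofSub (a : Γ) (H S : Subgroup Γ) : cjs a (ofSub H S) = ofSub (cj a H) (cj a S) := by
  have k : ∀ (a : Γ) (H S : Subgroup Γ), cjs a (ofSub H S) ≤ ofSub (cj a H) (cj a S) := fun a H S =>
    cjs_le_iff.2 fun P g ⟨h1, h2, s, hs, e⟩ => ⟨cj_mono a h1, cj_conj_cj a g P ▸ cj_mono a h2, _,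
      cj_sup a H S ▸ conj_mem_cj a hs, e.conj a⟩
  refine le_antisymm (k a H S) ?_
  simpa using cjs_le_iff'.1 (k a⁻¹ (cj a H) (cj a S))
theorem Rl.of_cjs {F : FS Γ} (a : Γ) (h : Rl (cjs a F)) : Rl F := by
  rw [← cjs_inv_cjs a F]
  exact h.imp (·.cjs _) fun ⟨G, h1, h2⟩ => ⟨cj a⁻¹ G, h1.cj _, by rw [cjs_S, ← cjs_ofSub, ← h2]⟩

/-- conjugacy part of the Schur-Zassenhaus theorem modulo `C` -/
theorem sz0 (hX : X ≤ nz C) (hA : A ≤ nz C) (hB : B ≤ nz C) (hAX : A ≤ nz X) (hC : C ≤ X) (h : B ≤ X ⊔ A)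
    (hp : ∀ k ∈ X, PEl 2 C k) (ho : ¬ 2 ∣ C.relIndex B) : ∃ k ∈ X, ∀ b ∈ B, k⁻¹ * b * k ∈ A ⊔ C := by
  let q := QuotientGroup.mk' (C.subgroupOf (nz C))
  have cd : ∀ Y ≤ nz C, Nat.card ((Y.subgroupOf (nz C)).map q) = C.relIndex Y := fun Y hY => by
    rw [← relIndex_ker, QuotientGroup.ker_mk', relIndex_subgroupOf hY]
  obtain ⟨n, hn⟩ := relIndex_pow_of_pel hX hp
  have := (IsPGroup.of_card ((cd X hX).trans hn)).isNilpotent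
  obtain ⟨_, ⟨k, hk, rfl⟩, e⟩ := H2.exists_conj_mem_of_le_sup (A := (A.subgroupOf (nz C)).map q)
    (K := (X.subgroupOf (nz C)).map q) (B := (B.subgroupOf (nz C)).map q) (le_nz_iff.2 (by
      rintro _ ⟨a, ha, rfl⟩ _ ⟨x, hx, rfl⟩
      exact ⟨a * x * a⁻¹, conj_mem_of_mem_nz (P := X) (hAX ha) hx, by simp⟩)) (by
      rw [← Subgroup.map_sup, ← subgroupOf_sup hX hA]; exact map_mono (comap_mono h)) (by
      rw [cd X hX, cd B hB, hn]; exact (Nat.Coprime.pow_right n ((Nat.Prime.coprime_iff_not_dvd Nat.prime_two).2 ho).symm))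
      (.inr inferInstance)
  refine ⟨k, hk, fun b hb => ?_⟩
  obtain ⟨a, ha, e⟩ := e (q ⟨b, hB hb⟩) ⟨_, hb, rfl⟩
  have : a⁻¹ * (k⁻¹ * ⟨b, hB hb⟩ * k) ∈ C.subgroupOf (nz C) := QuotientGroup.eq.1 e
  simpa using mul_mem_sup (show (a : Γ) ∈ A from ha) (mem_subgroupOf.1 this)

/-- the action of the torus -/
@[simps] def sc (p u : K) (c : Cd σ) : Cd σ := ⟨p / u * c.a, p * c.b, p * σ p * c.e1, p * σ p * u * c.e2, σ p * u * c.d,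
  σ p * u * σ (σ p * u) * c.e3, p * σ p * (u * σ u) * c.e4, p * σ u * c.f, p * σ u * σ (p * σ u) * c.e5, p * (u * σ u) * c.g,
  u * c.s, u * σ u * c.t⟩
/-- a torus element with given weights -/
structure Wt (ev : Cd σ → Γ) (τ : Γ) (p u : K) : Prop where
  p0 : p ≠ 0
  u0 : u ≠ 0
  cj : ∀ c, τ * ev c * τ⁻¹ = ev (sc p u c)
/-- linear action on `Z₁` -/
def L4 (ev : Cd σ → Γ) (g : Γ) (κ : K) : Prop := ∀ v, g * ev (x4 v) * g⁻¹ = ev (x4 (κ * v))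
/-- linear action on `Z₂ / Z₁` -/
def L6 (ev : Cd σ → Γ) (g : Γ) (κ : K) : Prop := ∀ v, ∃ w, g * ev (x6 v) * g⁻¹ = ev (x4 w) * ev (x6 (κ * v))
/-- semilinear action on `Z₁` -/
def Sl (ev : Cd σ → Γ) (g : Γ) (κ : K) (φ : RingAut K) : Prop := κ ≠ 0 ∧ ∀ v, g * ev (x4 v) * g⁻¹ = ev (x4 (κ * φ v))

theorem cj_mul2 (a b x : Γ) : a * b * x * (a * b)⁻¹ = a * (b * x * b⁻¹) * a⁻¹ := by group
theorem L4.mul (h : L4 ev a κ) (h' : L4 ev b κ') : L4 ev (a * b) (κ * κ') := fun v => by rw [cj_mul2, h', h, mul_assoc]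
theorem Wt.l4 (h : Wt ev τ p u) : L4 ev τ (σ p * u * σ (σ p * u)) := fun v => by rw [h.cj]; congr 1; ext <;> simp [x4]
theorem Sl.l4 {φ : RingAut K} (h : Sl ev a κ φ) (h' : Sl ev b κ' φ) : L4 ev (a⁻¹ * b) (φ.symm (κ' / κ)) := fun v => by
  rw [cj_mul2, h'.2, show κ' * φ v = κ * φ (φ.symm (κ' / κ) * v) by simp [h.1, ← mul_assoc, mul_div_cancel₀], ← h.2]; group

namespace Co
variable (h : Co S σ ev)
include h
theorem wn (hw : Wt ev τ p u) : τ ∈ nz S := mem_nz_of_conj_mem fun w k => by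
  obtain ⟨c, -, rfl⟩ := h.ex k
  exact hw.cj c ▸ h.mS _
theorem l6 (hw : Wt ev τ p u) : L6 ev τ (p * σ u * σ (p * σ u)) := fun v => ⟨0, by rw [hw.cj]; cs h [sc]⟩
theorem agL (e : Agree P a b) (hP : h.Z1 ≤ P) (k : L4 ev b κ) : L4 ev a κ := fun v => (e _ (hP (by cs h []))).trans (k v)
theorem ne4 (k : L4 ev g κ) : κ ≠ 0 := fun e => by
  have := k 1
  rw [e, show ev (x4 (0 * 1)) = 1 by cs h [], conj_eq_one_iff] at this
  cs h [] at this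
  simp at this
theorem q46 (h1 : g * ev (x1 1) * g⁻¹ ∈ S) (h2 : g ∈ nz h.Z2) (k : L4 ev g κ) : ∃ κ', L6 ev g κ' := by
  obtain ⟨c, -, e⟩ := h.ex h1
  have := h.cp
  have := h.ne4 k
  have k' : ∀ v, ∃ z : Cd σ, g * ev (x6 v) * g⁻¹ = ev (x4 z.e3) * ev (x6 z.e5) ∧ c.a * z.e5 = κ * v := fun v => by
    obtain ⟨z, hz, e'⟩ := conj_mem_of_mem_nz h2 (show ev (x6 v) ∈ h.Z2 by cs h [])
    have := k v
    rw [show ev (x4 v) = ev (x1 1) * ev (x6 v) * (ev (x1 1))⁻¹ * (ev (x6 v))⁻¹ by cs h []; cg2 h, cj_cm, e, e', cm_eq] at this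
    exact ⟨z, by rw [e']; cs h [hz], by cs h [hz] at this; grind⟩
  obtain ⟨z1, -, e1⟩ := k' 1
  exact ⟨κ / c.a, fun v => let ⟨z, e, e'⟩ := k' v; ⟨z.e3, by rw [e]; congr 3; grind⟩⟩
theorem exS (hg : g ∈ nz S) : ∃ κ φ, Sl ev g κ φ := by
  have i := (h.gS hg).1
  have := h.cp
  choose f hf using fun v => h.ex1 (conj_mem_of_mem_nz (h.I71 i) (show ev (x4 v) ∈ h.Z1 by cs h []))
  choose f1 _ h1 using fun a => h.ex (conj_mem_of_mem_nz hg (h.mS (x1 a)))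
  choose f6 k6 h6 using fun v => conj_mem_of_mem_nz (h.I72 i) (show ev (x6 v) ∈ h.Z2 by cs h [])
  have m : ∀ a v, f (a * v) = (f1 a).a * (f6 v).e5 := fun a v => by
    have := hf (a * v)
    rw [show ev (x4 (a * v)) = ev (x1 a) * ev (x6 v) * (ev (x1 a))⁻¹ * (ev (x6 v))⁻¹ by cs h []; cg2 h, cj_cm, h1, h6,
      cm_eq] at this
    cs h [k6 v] at this; grind
  have ad : ∀ a v, f (a + v) = f a + f v := fun a v => by
    have := hf (a + v)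
    rw [show ev (x4 (a + v)) = ev (x4 a) * ev (x4 v) by cs h [], cj_mul', hf, hf] at this
    cs h [] at this; exact this.symm
  have n0 : ∀ v, f v = 0 → v = 0 := fun v e => by
    have := hf v
    rw [e, show ev (x4 0) = 1 by cs h [], conj_eq_one_iff] at this
    cs h [] at this; exact this
  have n1 := mt (n0 1) one_ne_zero
  let φ : K →+* K := ⟨⟨⟨fun v => f v / f 1, div_self n1⟩, fun a v => by
    have := m a v; have := m a 1; have := m 1 v; have := m 1 1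
    grind⟩, by have := ad 0 0; grind, fun a v => by simp only [ad, add_div]⟩
  exact ⟨f 1, RingEquiv.ofBijective φ (Finite.injective_iff_bijective.1 φ.injective), n1, fun v => by
    rw [hf]; congr 2; exact (mul_div_cancel₀ _ n1).symm⟩
theorem lin (hg : g ∈ nz S) (k : L4 ev g κ) : ∃ p u, p ≠ 0 ∧ u ≠ 0 ∧ ∀ c c', g * ev c * g⁻¹ = ev c' →
    c'.a = p / u * c.a ∧ c'.s = u * c.s := by
  have i := (h.gS hg).1
  have := h.cp
  obtain ⟨κ', k'⟩ := h.q46 (conj_mem_of_mem_nz hg (h.mS _)) (h.I72 i) k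
  obtain ⟨w6, e6⟩ := k' 1
  obtain ⟨z, hz, e5⟩ := conj_mem_of_mem_nz (h.I7W i) (show ev (x5 1) ∈ h.W by cs h [])
  have m : ∀ c c', g * ev c * g⁻¹ = ev c' → c'.a * κ' = κ * c.a ∧ c'.s * z.e4 = κ' * c.s := fun c c' e => by
    have e1 := k c.a
    rw [show ev (x4 c.a) = ev c * ev (x6 1) * (ev c)⁻¹ * (ev (x6 1))⁻¹ by rw [eq_comm, cm_eq]; cs h []; cg2 h, cj_cm, e, e6,
      cm_eq] at e1
    obtain ⟨y, hy, e2⟩ := h.cSW _ (h.mS c) (ev (x5 1)) (by cs h [])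
    have e3 := congrArg (g * · * g⁻¹) e2
    obtain ⟨w, e4⟩ := k' y.e5
    simp only [cj_cm, e, e5] at e3
    rw [show ev y = ev (x4 y.e3) * ev (x6 y.e5) by cs h [hy], cj_mul', k, e4, cm_eq] at e3
    rw [cm_eq] at e2
    cs h [hy, hz] at e1 e2 e3
    grind
  obtain ⟨c1, -, e1⟩ := h.ex (conj_mem_of_mem_nz' hg (h.mS (x1 1)))
  obtain ⟨c2, -, e2⟩ := h.ex (conj_mem_of_mem_nz' hg (h.mS (y8 1)))
  have k1 := h.ne4 k
  have n5 := not_cj (w := ev (x5 1)) (h.I72 i) (by cs h []; simp)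
  rw [e5] at n5
  cs h [hz] at n5
  have n6 := not_cj (w := ev (x6 1)) (h.I71 i) (by cs h []; simp)
  rw [e6] at n6
  cs h [] at n6
  exact ⟨κ / z.e4, κ' / z.e4, by grind, by grind, fun c c' e => by have := m c c' e; grind⟩
theorem up {q : Cd σ → Prop} {hq : Cl q} (hY : Y ≤ X) (k : ∀ c, q c → ∃ w ∈ X, w⁻¹ * ev c ∈ Y) : h.sub q hq ≤ X := by
  rintro _ ⟨c, hc, rfl⟩
  obtain ⟨w, hw, e⟩ := k c hc
  exact (mul_mem_cancel_left (inv_mem hw)).1 (hY e)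
theorem fr7 (hS : IsPGroup 2 S) (hw : σ r ≠ r) : h.Z7 ≤ fr S := by
  have sq : ∀ c, ev c * ev c ∈ fr S := fun c => pow_two (ev c) ▸ pow_mem_fr hS (h.mS c)
  have cm : ∀ c c', ev c * ev c' * (ev c)⁻¹ * (ev c')⁻¹ ∈ fr S := fun c c' =>
    commutator_le_fr hS (commutator_mem_commutator (h.mS c) (h.mS c'))
  have := h.cp
  have z1 : h.Z1 ≤ fr S := h.up bot_le fun c hc => let ⟨d, e⟩ := h.nrm_sj c.e3
    ⟨_, sq (y4 d), by rw [mem_bot]; cs h [hc, e]; cg2 h⟩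
  have z2 : h.Z2 ≤ fr S := h.up z1 fun c hc => let ⟨d, e⟩ := h.nrm_sj c.e5; ⟨_, sq (y6 d), by cs h [hc, e]; cg2 h⟩
  have z3 : h.W ≤ fr S := h.up z2 fun c hc => ⟨_, cm (y4 c.e4) (y6 1), by cs h [hc]; cg2 h⟩
  have z4 : h.Z4 ≤ fr S := h.up z3 fun c hc => ⟨_, cm (y2 c.e2) (y4 1), by cs h [hc]; cg2 h⟩
  have z5 : h.Z5 ≤ fr S := h.up z4 fun c hc => let ⟨d, e⟩ := h.nrm_sj c.e1
    ⟨_, mul_mem (sq (y2 d)) (cm (y2 c.g) (x8 1)), by cs h [hc, e]; cg2 h⟩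
  have z6 : h.Z6 ≤ fr S := h.up z5 fun c hc => ⟨_, mul_mem (cm (x1 1) (x8 (c.d + σ r * ((c.d + c.f) / (σ r + r)))))
    (cm (x1 r) (x8 ((c.d + c.f) / (σ r + r)))), by cs h [hc]; cg2 h⟩
  exact h.up z6 fun c hc => let ⟨d, e⟩ := h.nrm_sj c.t; ⟨_, mul_mem (cm (x1 c.b) (y8 1)) (sq (y8 d)), by cs h [hc, e]; cg2 h⟩
end Co

/-- the data attached to `²F₄(q)` and its automorphism group for `q ≥ 8` -/
structure Tx (S : Subgroup Γ) (σ : K →+* K) (ev : Cd σ → Γ) (M0 M1 : Γ) (T L H : Subgroup Γ) : Prop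
    extends Mx S σ ev M0 M1 where
  pg : IsPGroup 2 S
  big : ∃ r, σ r ≠ r
  wt : ∀ τ ∈ T, ∃ p u, Wt ev τ p u
  ex' : ∀ p u, p ≠ 0 → u ≠ 0 → ∃ τ ∈ T, Wt ev τ p u
  odd : ¬ 2 ∣ Nat.card T
  t0 : M0 ∈ nz T
  t1 : M1 ∈ nz T
  TL : T ≤ L
  SL : S ≤ L
  l0 : M0 ∈ L
  l1 : M1 ∈ L
  LH : L ≤ H
  Hn : H ≤ nz L
  syl : Syl 2 S H
  nl : ∀ g ∈ L, g ∈ nz S → ∃ s ∈ S, ∃ τ ∈ T, g = s * τ
  pl : ∀ b ∈ H, PEl 2 (cz S) b → b ∈ L
  idx : Nat.card (RingAut K) ≤ L.relIndex H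

namespace Tx
variable (h : Tx S σ ev M0 M1 T L H)
include h
theorem TS : T ≤ nz S := fun τ k => let ⟨_, _, w⟩ := h.wt τ k; h.wn w
theorem pel (hg : g ∈ stab S h.Z7) : PEl 2 (cz S) g :=
  let ⟨_, e⟩ := h.big; kk_pel (l := []) h.pg (by simp) (stab_mono (h.fr7 h.pg e) hg)
theorem lnS (hg : g ∈ nz S) (k : L4 ev g κ) : ∃ τ ∈ T, τ⁻¹ * g ∈ stab S h.Z7 := by
  obtain ⟨p, u, h1, h2, e⟩ := h.lin hg k
  obtain ⟨τ, hτ, w⟩ := h.ex' p u h1 h2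
  refine ⟨τ, hτ, mul_mem (inv_mem (h.TS hτ)) hg, fun x hx => ?_⟩
  obtain ⟨c, -, rfl⟩ := h.ex hx
  obtain ⟨c', -, e'⟩ := h.ex (conj_mem_of_mem_nz hg hx)
  have := conj_mem_of_mem_nz' (h.I77 (h.gS (h.TS hτ)).1) (x := (ev (sc p u c))⁻¹ * ev c')
    (mem_inf.2 ⟨mul_mem (inv_mem (h.mS _)) (h.mS _), by cs h.toCo [sc, e c c' e', h.aa]⟩)
  rw [← w.cj, ← e'] at this
  simpa [mul_assoc] using this.2
theorem lnA (hg : g ∈ ai H S) (k : L4 ev g κ) : ∃ s ∈ S, ∃ τ ∈ T, Agree S g (s * τ) := by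
  obtain ⟨b, hb, e⟩ := mem_ai'.1 hg
  obtain ⟨τ, hτ, k⟩ := h.lnS hb.2 (h.agL e.symm h.lZ1 k)
  obtain ⟨s, hs, τ, hτ, rfl⟩ := h.nl b ((mul_mem_cancel_left (inv_mem (h.TL hτ))).1
    (h.pl _ (mul_mem (inv_mem (h.LH (h.TL hτ))) hb.1) (h.pel k))) hb.2
  exact ⟨s, hs, τ, hτ, e⟩
theorem onto (φ : RingAut K) : ∃ b ∈ H ⊓ nz S, ∃ κ, Sl ev b κ φ := by
  have : ∀ q : H ⧸ L.subgroupOf H, ∃ φ, ∃ b : H, b = q ∧ b.1 ∈ nz S ∧ ∃ κ, Sl ev b κ φ := fun q => by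
    obtain ⟨b, rfl⟩ := QuotientGroup.mk_surjective q
    obtain ⟨l, hl, k⟩ := (h.syl.mono_right h.SL h.LH).frattini' h.pg (h.Hn (inv_mem b.2))
    obtain ⟨κ, φ, e⟩ := h.exS (inv_mem k)
    exact ⟨φ, ⟨_, inv_mem (mul_mem (h.LH hl) (inv_mem b.2))⟩, QuotientGroup.eq.2 (by simpa [mem_subgroupOf] using hl),
      inv_mem k, κ, e⟩
  choose f b e n κ k using this
  have : Function.Injective f := fun q q' c => by
    obtain ⟨τ, hτ, k⟩ := h.lnS (mul_mem (inv_mem (n q)) (n q')) ((k q).l4 (c ▸ k q'))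
    rw [← e q, ← e q']
    exact QuotientGroup.eq.2 ((mul_mem_cancel_left (inv_mem (h.TL hτ))).1 (h.pl _ (mul_mem (inv_mem (h.LH (h.TL hτ)))
      (mul_mem (inv_mem (b q).2) (b q').2)) (h.pel k)))
  have : Finite (RingAut K) := Finite.of_injective _ (DFunLike.coe_injective (F := K ≃+* K))
  obtain ⟨q, rfl⟩ := (‹Function.Injective f›.bijective_of_nat_card_le h.idx).2 φ
  exact ⟨b q, ⟨(b q).2, n q⟩, κ q, k q⟩
theorem cjA (h1 : A ≤ nz S) (h2 : Syl 2 (ai S S) A) : ∃ γ ∈ nz S, cj γ A ≤ ai H S := by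
  have n : nz S ≤ nz (stab S h.Z7) := fun g hg => mem_nz_stab hg (h.I77 (h.gS hg).1)
  obtain ⟨k, hk, e⟩ := sz0 (X := stab S h.Z7) (A := H ⊓ nz S) (fun g hg => nz_le_nz_ai_self S hg.1)
    (inf_le_right.trans (nz_le_nz_ai_self S)) (h1.trans (nz_le_nz_ai_self S)) (inf_le_right.trans n)
    (ai_le (fun s hs => mem_stab'.2 ⟨hs.2, h.cSS s hs.1⟩) (cz_le_stab _ _)) (fun g hg => by
      obtain ⟨κ, φ, e⟩ := h.exS (h1 hg)
      obtain ⟨b, hb, κ', e'⟩ := h.onto φ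
      obtain ⟨τ, hτ, k⟩ := h.lnS (mul_mem (inv_mem hb.2) (h1 hg)) (e'.l4 e)
      simpa using mul_mem (mul_mem (mem_sup_right hb) (mem_sup_right (mem_inf.2 ⟨h.LH (h.TL hτ), h.TS hτ⟩))) (mem_sup_left k))
    (fun k hk => (h.pel hk).mono (cz_le_ai _ _)) h2.2
  refine ⟨k⁻¹, inv_mem hk.1, cj_le.2 fun a ha => ?_⟩
  rw [inv_inv]
  exact sup_le (inf_nz_le_ai H S) (ai_mono h.syl.1 S) (e a ha)
end Tx

end H22.FZ
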