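/-
Fusion systems on a Sylow 2-subgroup of a Ree group of type `F₄`, part 8: the automizers of `Q` and `R`.
-/
import Cfsg.Agent.H22.FZ7

set_option autoImplicit false
set_option linter.unusedSectionVars false

namespace H22.FZ
open Subgroup H25 H25.FS Cd
variable {Γ : Type*} [Group Γ] [Finite Γ] {K : Type*} [Field K] [Finite K] {σ : K →+* K} {S P A J X Y T L H : Subgroup Γ}
  {ev : Cd σ → Γ} {c c' z : Cd σ} {a b g k n r s t v w x β τ τ' M M0 M1 : Γ} {p u p' u' κ κ' : K} {F : FS Γ}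

/-- common properties of `Q` and `R` -/
structure Pd (h : Co S σ ev) (P : Subgroup Γ) (M : Γ) (J : Subgroup Γ) (r : Γ) : Prop where
  h6 : h.Z6 ≤ P
  le : P ≤ S
  nI : nz S ≤ h.I7 P
  Mi : M⁻¹ = M
  Mn : M ∈ nz P
  MJ : M ∈ J
  gen : ∀ g ∈ nz P, g ∈ h.I7 P ∨ ∃ u ∈ S, M * u * g ∈ h.I7 P
  ti : ∀ g ∈ nz P, ∀ s ∈ S, s ∉ P → ∀ s' ∈ S, s' ∉ P → Agree P (g * s * g⁻¹) s' → g ∈ h.I7 P
  Jn : nz P ≤ nz J
  aJ : ai P P ≤ J
  rS : r ∈ S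
  rP : r ∉ P
  r2 : r * r ∈ P
  rJ : r ∈ J
  j5 : ∀ s ∈ S, M * s * M⁻¹ ∈ h.I7 P → s ∈ P
  lin : ∀ g ∈ h.I7 P, g ∈ J → ∃ κ κ', L4 ev g κ ∧ L6 ev g κ'

theorem Agree.cjn (e : Agree P a b) (hb : b ∈ nz P) (hs : s ∈ nz P) : Agree P (a * s * a⁻¹) (b * s * b⁻¹) := by
  have := agree_iff.1 e
  rw [agree_iff, show (b * s * b⁻¹)⁻¹ * (a * s * a⁻¹) = b * (s⁻¹ * (b⁻¹ * a) * s * (b⁻¹ * a)⁻¹) * b⁻¹ by group]
  exact conj_mem_of_mem_nz (mem_nz_cz hb) (mul_mem (conj_mem_of_mem_nz' (mem_nz_cz hs) this) (inv_mem this))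
theorem Agree.app (e : Agree P (g * s * g⁻¹) t) (hg : g ∈ nz P) (hx : x ∈ P) :
    t * (g * x * g⁻¹) * t⁻¹ * (g * x * g⁻¹)⁻¹ = g * (s * x * s⁻¹ * x⁻¹) * g⁻¹ := by
  rw [← e _ (conj_mem_of_mem_nz hg hx)]; group

theorem Mx.pq (h : Mx S σ ev M0 M1) : Pd h.toCo h.Q M0 (cz h.Z1) (ev (x8 1)) where
  h6 := by sl h.toCo
  le := h.lQ
  nI g hg := (h.gS hg).2.2.1
  Mi := h.i0
  Mn := h.nQ
  MJ := mem_cz.2 fun w hw => by obtain ⟨k, rfl⟩ := h.ex1 hw; rw [h.f0 _ rfl rfl]; cs h.toCo [m0]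
  gen g hg := h.genQ hg
  ti g hg s hs _ s' hs' n' e := by
    obtain ⟨z1, hE⟩ := h.qE hg
    obtain ⟨c, -, e6⟩ := h.ex (h.lQ (conj_mem_of_mem_nz hg (show ev (x6 1) ∈ h.Q by cs h.toCo [])))
    have cW : ev c ∈ h.W := by_contra fun k => n' (h.toQ (e6 ▸ conj_mem_of_mem_nz hE (by cs h.toCo [])) k hs' (by
      rw [← e6, Agree.app e hg (by cs h.toCo [])]; exact conj_mem_of_mem_nz z1 (h.cS2 s hs _ (by cs h.toCo []))))
    refine (h.genQ hg).elim id fun ⟨u, hu, k⟩ => ?_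
    obtain ⟨z, hz, e'⟩ := conj_mem_of_mem_nz (h.I72 k) (show ev (x6 1) ∈ h.Z2 by cs h.toCo [])
    have k1 := not_cj (w := ev (x6 1)) (h.I71 k) (by cs h.toCo []; simp)
    have k2 := conj_mem_of_mem_nz (h.nW hu) cW
    rw [← e6, show u * (g * ev (x6 1) * g⁻¹) * u⁻¹ = M0⁻¹ * (M0 * u * g * ev (x6 1) * (M0 * u * g)⁻¹) * M0⁻¹⁻¹ by group, e',
      h.i0, h.f0 z hz.2.2.2.2.2.2.2.2.1 hz.2.2.2.2.2.2.2.2.2] at k2
    rw [e'] at k1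
    cs h.toCo [hz, m0] at k1 k2
    exact (k1 k2).elim
  Jn g hg := mem_nz_cz (h.qE hg).1
  aJ := ai_cz (by sl h.toCo) (h.lQ.trans h.cS1.cz)
  rS := h.mS _
  rP := by cs h.toCo []; simp
  r2 := by cs h.toCo [h.aa]
  rJ := h.cS1.cz (h.mS _)
  j5 s hs k := by
    obtain ⟨c, -, rfl⟩ := h.ex hs
    obtain ⟨z, hz, e⟩ := conj_mem_of_mem_nz (h.I72 k) (show ev (x6 1) ∈ h.Z2 by cs h.toCo [])
    have := congrArg (M0 * · * M0⁻¹) e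
    simp only [h.f0 z hz.2.2.2.2.2.2.2.2.1 hz.2.2.2.2.2.2.2.2.2] at this
    rw [show ev (x6 1) = M0 * ev (x2 1) * M0⁻¹ by rw [h.f0 _ rfl rfl]; cs h.toCo [m0], h.i0,
      show ∀ a b : Γ, M0 * (M0 * a * M0 * (M0 * b * M0) * (M0 * a * M0)⁻¹) * M0 =
        M0 * M0 * a * (M0 * M0) * b * a⁻¹ * (M0⁻¹ * M0) by intros; group, mul_eq_one_iff_inv_eq.2 h.i0, inv_mul_cancel,
      one_mul, mul_one, mul_one, mul_inv_eq_iff_eq_mul] at this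
    cs h.toCo [hz, m0] at this ⊢
    have := h.cp
    have s0 : c.s = 0 := by grind
    simp only [s0, map_zero] at *
    grind
  lin g hg k := have := fun v => (mem_cz.1 k (ev (x4 v)) (by cs h.toCo [])).trans (by rw [one_mul])
    let ⟨κ, e⟩ := h.q46 (h.lQ (conj_mem_of_mem_nz (h.I7n hg) (by cs h.toCo []))) (h.I72 hg) this
    ⟨1, κ, this, e⟩

theorem Mx.pr (h : Mx S σ ev M0 M1) : Pd h.toCo h.R M1 (stab h.W h.Z2) (ev (x1 1)) where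
  h6 := by sl h.toCo
  le := h.lR
  nI g hg := (h.gS hg).2.1
  Mi := h.i1
  Mn := h.nR
  MJ := mem_stab'.2 ⟨(h.rD h.nR).2.1, by rintro _ ⟨c, hc, rfl⟩; rw [h.f1 _ hc.1]; cs h.toCo [hc, m1, h.aa]⟩
  gen g hg := h.genR hg
  ti g hg s hs _ s' hs' n' e := h.gR1 hg (mem_nz_of_conj_mem fun w hw => by
    obtain ⟨z, hz, e'⟩ := conj_mem_of_mem_nz (h.rD hg).1 ((by sl h.toCo : h.Z1 ≤ h.Z2) hw)
    obtain ⟨c, -, rfl⟩ := h.ex hs'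
    have := Agree.app e hg ((by sl h.toCo : h.Z1 ≤ h.R) hw)
    rw [mem_bot.1 (h.cS1 s hs w hw), e', mul_one, mul_inv_cancel, cm_eq] at this
    rw [e']
    cs h.toCo [hz] at this n' ⊢
    have := h.cp
    grind)
  Jn g hg := mem_nz_stab (h.rD hg).2.1 (mem_nz_inf (h.rD hg).2.1 (h.rD hg).1)
  aJ := ai_le (fun s hs => mem_stab'.2 ⟨h.nW (h.lR hs.1), h.cSW s (h.lR hs.1)⟩) ((cz_anti (by sl h.toCo)).trans (cz_le_stab _ _))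
  rS := h.mS _
  rP := by cs h.toCo []; simp
  r2 := by cs h.toCo [h.aa]
  rJ := mem_stab'.2 ⟨h.nW (h.mS _), h.cSW _ (h.mS _)⟩
  j5 s hs k := by
    obtain ⟨c, -, rfl⟩ := h.ex hs
    obtain ⟨z, e⟩ := h.ex1 (conj_mem_of_mem_nz (h.I71 k) (show ev (x4 1) ∈ h.Z1 by cs h.toCo []))
    have := congrArg (M1 * · * M1⁻¹) e
    simp only [h.f1 (x4 z) rfl] at this
    rw [show ev (x4 1) = M1 * ev (x6 1) * M1⁻¹ by rw [h.f1 _ rfl]; cs h.toCo [m1], h.i1,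
      show ∀ a b : Γ, M1 * (M1 * a * M1 * (M1 * b * M1) * (M1 * a * M1)⁻¹) * M1 =
        M1 * M1 * a * (M1 * M1) * b * a⁻¹ * (M1⁻¹ * M1) by intros; group, mul_eq_one_iff_inv_eq.2 h.i1, inv_mul_cancel,
      one_mul, mul_one, mul_one, mul_inv_eq_iff_eq_mul] at this
    cs h.toCo [m1] at this ⊢
    cg2 h.toCo
  lin g hg k := by
    obtain ⟨c, hc, e⟩ := conj_mem_of_mem_nz (h.I7n hg) (show ev (y2 1) ∈ h.R by cs h.toCo [])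
    obtain ⟨c', hc', e'⟩ := conj_mem_of_mem_nz (h.I7n hg) (show ev (y8 1) ∈ h.R by cs h.toCo [])
    have := h.cp
    have k5 : ∀ v, ∃ z, ev z ∈ h.Z2 ∧ g * ev (x5 v) * g⁻¹ = ev z * ev (x5 v) := fun v =>
      let ⟨z, hz, e⟩ := (mem_stab'.1 k).2 (ev (x5 v)) (by cs h.toCo []); ⟨z, h.mZ2.2 hz, mul_inv_eq_iff_eq_mul.1 e⟩
    refine ⟨c.b, c'.s, fun v => ?_, fun v => ⟨c'.b * v, ?_⟩⟩ <;> obtain ⟨z, hz, e5⟩ := k5 v <;> rw [h.mZ2] at hz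
    · obtain ⟨y, e4⟩ := h.ex1 (conj_mem_of_mem_nz (h.I71 hg) (show ev (x4 v) ∈ h.Z1 by cs h.toCo []))
      have := e4
      rw [show ev (x4 v) = ev (y2 1) * ev (x5 v) * (ev (y2 1))⁻¹ * (ev (x5 v))⁻¹ by cs h.toCo []; cg2 h.toCo, cj_cm, e, e5,
        cm_eq] at this
      rw [e4]
      cs h.toCo [hc, hz] at this ⊢
      grind
    · rw [show ev (x6 v) = ev (y8 1) * ev (x5 v) * (ev (y8 1))⁻¹ * (ev (x5 v))⁻¹ by cs h.toCo []; cg2 h.toCo, cj_cm, e', e5,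
        cm_eq]
      cs h.toCo [hc', hz]
      cg2 h.toCo

namespace Pd
variable {h : Co S σ ev} (d : Pd h P M J r)
include d
theorem Sn : S ≤ nz P := fun _ hs => h.I7n (d.nI (le_nz_self S hs))
theorem aI : ai P P ≤ h.I7 P := (ai_mono d.le P).trans (h.aiI d.h6 d.Sn)
theorem MM : M * M = 1 := mul_eq_one_iff_inv_eq.2 d.Mi
variable (e : Es S P A)
include e
theorem ir : Iv P A r := e.iv d.rS (d.Sn d.rS) d.rP d.r2
theorem tx : TI S P A (A ⊓ h.I7 P) where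
  le := le_inf e.nA (h.aiI d.h6 d.Sn)
  XA := inf_le_left
  ne c := d.rP (e.mem d.rS (e.rad e.nA (fun _ hg => h.bor' e.toAu d.h6 d.Sn hg (c hg).2) (pel_ai e.pg)
    (mem_ai_of_mem d.rS (d.Sn d.rS))))
  ti g hg u hu n k := by
    obtain ⟨s, hs, e1⟩ := mem_ai'.1 hu
    obtain ⟨s', hs', e2⟩ := mem_ai'.1 k
    refine ⟨hg, d.ti g (e.An hg) s hs.1 (fun c => n (e1.mem_ai (le_ai_self P c))) s' hs'.1 (fun c => n ?_) ?_⟩
    · simpa [mul_assoc] using conj_mem_of_mem_nz' (e.An' hg) (e2.mem_ai (le_ai_self P c))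
    · exact (mem_nz.1 (e.An hg) ▸ e1.symm.conj g :).trans e2
theorem rX : r ∈ A ⊓ h.I7 P := (d.tx e).le (mem_ai_of_mem d.rS (d.Sn d.rS))
theorem ivJ (i : Iv P A n) : n ∈ J := by
  obtain ⟨g, hg, k⟩ := e.conjI (d.tx e) (d.ir e) (d.rX e) i
  exact (mul_mem_cancel_left (inv_mem (conj_mem_of_mem_nz (d.Jn (e.An hg)) d.rJ))).1 (d.aJ k)
theorem exU : ∃ n, Iv P A n ∧ n ∉ h.I7 P ∧ M * n ∈ h.I7 P ∧ n * M ∈ h.I7 P := by
  obtain ⟨g, hg, gX⟩ := SetLike.not_le_iff_exists.1 (d.tx e).ne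
  have i := e.ivc (d.ir e) hg
  have nX := fun c => gX (e.memX (d.tx e) (d.ir e) (d.rX e) hg ⟨i.mem, c⟩)
  generalize g * r * g⁻¹ = u at i nX
  obtain ⟨v, hv, k⟩ := (d.gen u (e.An i.mem)).resolve_left nX
  have vI := d.nI (le_nz_self S hv)
  have i' := e.ivc i (e.mA hv (d.Sn hv))
  have k' : M * (v * u * v⁻¹) ∈ h.I7 P := by simpa [mul_assoc] using mul_mem k (inv_mem vI)
  refine ⟨_, i', not_cj (le_nz_self _ vI) nX, k', ?_⟩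
  generalize v * u * v⁻¹ = n at i' k'
  simpa [mul_assoc, d.Mi] using mul_mem (d.aI i'.sq) (inv_mem k')
end Pd

end H22.FZ
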