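/-
Fusion systems on a Sylow 2-subgroup of a Ree group of type `F₄`, part 9: the case `q ≥ 8`.
-/
import Cfsg.Agent.H22.FZ8

set_option autoImplicit false
set_option linter.unusedSectionVars false

namespace H22.FZ
open Subgroup H25 H25.FS Cd
variable {Γ : Type*} [Group Γ] [Finite Γ] {K : Type*} [Field K] [Finite K] {σ : K →+* K} {S P A J X T L H : Subgroup Γ}
  {ev : Cd σ → Γ} {c c' z : Cd σ} {a b g k n r s t v x β τ τ' M M0 M1 : Γ} {p u p' u' w κ κ' : K} {F : FS Γ}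

/-- `β` commutes with the torus on `P` -/
def Eqv (ev : Cd σ → Γ) (P : Subgroup Γ) (β : Γ) : Prop := β ∈ nz P ∧ ∀ p u, p ≠ 0 → u ≠ 0 → ∀ c c', ev c ∈ P →
  β * ev c * β⁻¹ = ev c' → β * ev (sc p u c) * β⁻¹ = ev (sc p u c')
def Y2 (c t : K) : Cd σ := ⟨0, c, t, 0, 0, 0, 0, 0, 0, 0, 0, 0⟩
def Y4 (c t : K) : Cd σ := ⟨0, 0, 0, 0, c, t, 0, 0, 0, 0, 0, 0⟩
def Y6 (c t : K) : Cd σ := ⟨0, 0, 0, 0, 0, 0, 0, c, t, 0, 0, 0⟩
def Y8 (c t : K) : Cd σ := ⟨0, 0, 0, 0, 0, 0, 0, 0, 0, 0, c, t⟩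
theorem sc_sc (p u p' u' : K) (c : Cd σ) : sc p u (sc p' u' c) = sc (p * p') (u * u') c := by
  ext <;> simp only [sc, map_mul] <;> ring
theorem Wt.mul (h : Wt ev τ p u) (h' : Wt ev τ' p' u') : Wt ev (τ * τ') (p * p') (u * u') :=
  ⟨mul_ne_zero h.p0 h'.p0, mul_ne_zero h.u0 h'.u0, fun c => by rw [cj_mul2, h'.cj, h.cj, sc_sc]⟩
theorem fx_cm (h1 : β * a * β⁻¹ = g) (h2 : b ∈ cz (zpowers β)) (h3 : a * b * a⁻¹ * b⁻¹ ∈ cz (zpowers β)) :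
    g * b * g⁻¹ * b⁻¹ = a * b * a⁻¹ * b⁻¹ := by
  have k : ∀ {x}, x ∈ cz (zpowers β) → β * x * β⁻¹ = x := fun h => mem_cz.1 (le_cz_comm.1 (zpowers_le.2 h) (mem_zpowers β)) _ (mem_zpowers _)
  rw [← k h3, cj_cm, h1, k h2]
theorem fx_of (h : β * a * β⁻¹ = a) : a ∈ cz (zpowers β) := mem_cz_zpowers.2 (by rw [← mul_inv_eq_iff_eq_mul.1 h, mul_inv_cancel_right])

namespace Co
variable (h : Co S σ ev)
include h
theorem agW (h1 : Wt ev τ p u) (h2 : Wt ev τ' p u) : Agree S τ τ' := fun x hx => by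
  obtain ⟨c, -, rfl⟩ := h.ex hx
  rw [h1.cj, h2.cj]
set_option maxRecDepth 4000 in
theorem nf8 (c : Cd σ) : ev c = ev (x1 c.a) * ev (Y2 c.b c.e1) * ev (x3 c.e2) * ev (Y4 c.d c.e3) * ev (x5 c.e4) *
    ev (Y6 c.f c.e5) * ev (x7 c.g) * ev (Y8 c.s c.t) := by cs h [Y2, Y4, Y6, Y8]
theorem nr1 (e : w * σ w = 1) : w = 1 := h.nrm_inj (by simpa using e)
theorem nes (hw : σ w ≠ w) : w ≠ 0 ∧ σ w ≠ 0 ∧ w ≠ 1 ∧ σ w ≠ 1 ∧ w * σ w ≠ 1 ∧ w * w * σ w ≠ 1 ∧ w * w * w * σ w * σ w ≠ 1 := by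
  have w0 : w ≠ 0 := fun e => hw (by simp [e])
  have w1 : w ≠ 1 := fun e => hw (by simp [e])
  have n := mt h.nr1 w1
  refine ⟨w0, sn w0, w1, fun e => w1 (σ.injective (by simpa using e)), n, fun e => n (σ.injective ?_), fun e => n (h.nr1 ?_)⟩ <;>
    simp only [map_mul, h.ss, map_one] <;> linear_combination e
theorem w46 (h1 : σ p * u * σ (σ p * u) = σ p' * u' * σ (σ p' * u')) (h2 : p * σ u * σ (p * σ u) = p' * σ u' * σ (p' * σ u'))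
    (hp : p ≠ 0) (hu : u ≠ 0) : p = p' ∧ u = u' := by
  have e1 := h.nrm_inj h1
  have e2 := h.nrm_inj h2
  have e3 := congrArg σ e1
  simp only [map_mul, h.ss] at e3
  have := sn (σ := σ) hp
  have := sn (σ := σ) hu
  have : p = p' := by grind
  subst this
  grind
theorem eqv (hP : P ≤ S) (e : Eqv ev P β) (hw : Wt ev τ p u) (hn : τ ∈ nz P) : Eqv ev P (τ * β) :=
  ⟨mul_mem hn e.1, fun p' u' h1 h2 c c' hc k => by
    obtain ⟨z, -, k'⟩ := h.ex (hP (conj_mem_of_mem_nz e.1 hc))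
    rw [cj_mul2, k', hw.cj, h.inj.eq_iff] at k
    rw [cj_mul2, e.2 p' u' h1 h2 c z hc k', hw.cj, ← k, sc_sc, sc_sc, mul_comm p, mul_comm u]⟩
theorem dgX (hP : P ≤ S) (e : Eqv ev P β) (Y : K → Cd σ) (y0 : Y 0 = 1) (mem : ev (Y 1) ∈ P)
    (hs : ∀ w, w ≠ 0 → ∃ p u, p ≠ 0 ∧ u ≠ 0 ∧ ∀ c, sc p u (Y c) = Y (w * c))
    (fx : ∃ p u, p ≠ 0 ∧ u ≠ 0 ∧ sc p u (Y 1) = Y 1 ∧ ∀ c : Cd σ, sc p u c = c → ∃ a, c = Y a) :
    ∃ κ, ∀ c, β * ev (Y c) * β⁻¹ = ev (Y (c * κ)) := by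
  obtain ⟨z, -, k⟩ := h.ex (hP (conj_mem_of_mem_nz e.1 mem))
  obtain ⟨p, u, h1, h2, h3, h4⟩ := fx
  have := e.2 p u h1 h2 _ _ mem k
  rw [h3, k, h.inj.eq_iff] at this
  obtain ⟨κ, rfl⟩ := h4 z this.symm
  refine ⟨κ, fun c => ?_⟩
  by_cases c0 : c = 0
  · simp [c0, y0, h.one]
  obtain ⟨p, u, h1, h2, h3⟩ := hs c c0
  simpa only [h3, mul_one] using e.2 p u h1 h2 _ _ mem k
theorem dgY (hw : σ w ≠ w) (hP : P ≤ S) (e : Eqv ev P β) (Y : K → K → Cd σ) (y0 : Y 0 0 = 1) (mem : ev (Y 1 0) ∈ P)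
    (mu : ∀ c t c' t', Y c t * Y c' t' = Y (c + c') (t + t' + c * σ c')) (inj : ∀ c t c' t', Y c t = Y c' t' → t = t')
    (hs : ∀ w, w ≠ 0 → ∃ p u, p ≠ 0 ∧ u ≠ 0 ∧ ∀ c t, sc p u (Y c t) = Y (w * c) (w * σ w * t))
    (fx : ∃ p u, p ≠ 0 ∧ u ≠ 0 ∧ sc p u (Y 1 0) = Y 1 0 ∧ ∀ c : Cd σ, sc p u c = c → ∃ a t, c = Y a t) :
    ∃ κ, ∀ c t, β * ev (Y c t) * β⁻¹ = ev (Y (κ * c) (κ * σ κ * t)) := by
  obtain ⟨z, -, k⟩ := h.ex (hP (conj_mem_of_mem_nz e.1 mem))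
  obtain ⟨p, u, h1, h2, h3, h4⟩ := fx
  have := e.2 p u h1 h2 _ _ mem k
  rw [h3, k, h.inj.eq_iff] at this
  obtain ⟨κ, γ, rfl⟩ := h4 z this.symm
  have := h.cp
  have k1 : ∀ c, β * ev (Y c 0) * β⁻¹ = ev (Y (c * κ) (c * σ c * γ)) := fun c => by
    by_cases c0 : c = 0
    · simp [c0, y0, h.one]
    obtain ⟨p, u, h1, h2, h3⟩ := hs c c0
    simpa only [h3, mul_one, mul_zero] using e.2 p u h1 h2 _ _ mem k
  have k2 : ∀ t, β * ev (Y 0 t) * β⁻¹ = ev (Y 0 (κ * σ κ * t)) := fun t => by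
    obtain ⟨c, rfl⟩ := h.nrm_sj t
    rw [show Y 0 (c * σ c) = Y c 0 * Y c 0 by rw [mu, h.aa, h.aa, zero_add], ← h.mul, cj_mul', k1, h.mul, mu, h.aa, h.aa,
      zero_add, map_mul]
    congr 2; ring
  have k3 : ∀ c t, β * ev (Y c t) * β⁻¹ = ev (Y (κ * c) (c * σ c * γ + κ * σ κ * t)) := fun c t => by
    rw [show Y c t = Y c 0 * Y 0 t by simp [mu], ← h.mul, cj_mul', k1, k2, h.mul, mu]; simp [mul_comm]
  have k4 := k3 (1 + w) (0 + 0 + 1 * σ w)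
  rw [← mu, ← h.mul, cj_mul', k3, k3, h.mul, mu, h.inj.eq_iff] at k4
  have k5 := inj _ _ _ _ k4
  simp only [map_mul, map_add, map_one] at k5
  have : γ = 0 := by grind
  exact ⟨κ, fun c t => by rw [k3, this, mul_zero, zero_add]⟩
end Co

/-- the scaling relations and the fixed points of a torus element -/
macro "fxs" h:term:max hw:term:max "[" Y:ident "]" : tactic => `(tactic| (
  have := Co.cp $h
  have := Co.nes $h $hw
  intros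
  ext <;> simp only [sc, $Y:ident, map_mul, map_inv₀, mul_inv, map_one, Co.ss $h] <;> grind))
macro "fxp" h:term:max hw:ident e:ident "[" Y:ident "]" : tactic => `(tactic| (
  have := Co.cp $h
  obtain ⟨_, _, _⟩ := Co.nes $h $hw
  rw [Cd.ext_iff] at $e:ident
  simp only [sc, mul_left_eq_self₀, map_mul, map_inv₀, mul_inv, map_one, Co.ss $h] at $e:ident
  ext <;> simp only [$Y:ident] <;> first
    | exact ($e:ident).1.resolve_left (by clear $e:ident $hw:ident; intro k; (try field_simp at k); grind)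
    | exact ($e:ident).2.1.resolve_left (by clear $e:ident $hw:ident; intro k; (try field_simp at k); grind)
    | exact ($e:ident).2.2.1.resolve_left (by clear $e:ident $hw:ident; intro k; (try field_simp at k); grind)
    | exact ($e:ident).2.2.2.1.resolve_left (by clear $e:ident $hw:ident; intro k; (try field_simp at k); grind)
    | exact ($e:ident).2.2.2.2.1.resolve_left (by clear $e:ident $hw:ident; intro k; (try field_simp at k); grind)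
    | exact ($e:ident).2.2.2.2.2.1.resolve_left (by clear $e:ident $hw:ident; intro k; (try field_simp at k); grind)
    | exact ($e:ident).2.2.2.2.2.2.1.resolve_left (by clear $e:ident $hw:ident; intro k; (try field_simp at k); grind)
    | exact ($e:ident).2.2.2.2.2.2.2.1.resolve_left (by clear $e:ident $hw:ident; intro k; (try field_simp at k); grind)
    | exact ($e:ident).2.2.2.2.2.2.2.2.1.resolve_left (by clear $e:ident $hw:ident; intro k; (try field_simp at k); grind)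
    | exact ($e:ident).2.2.2.2.2.2.2.2.2.1.resolve_left (by clear $e:ident $hw:ident; intro k; (try field_simp at k); grind)
    | exact ($e:ident).2.2.2.2.2.2.2.2.2.2.1.resolve_left (by clear $e:ident $hw:ident; intro k; (try field_simp at k); grind)
    | exact ($e:ident).2.2.2.2.2.2.2.2.2.2.2.resolve_left (by clear $e:ident $hw:ident; intro k; (try field_simp at k); grind)))

namespace Co
variable (h : Co S σ ev) (hw : σ w ≠ w) (hP : P ≤ S) (e : Eqv ev P β)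
include h hw hP e
theorem d2 (mem : ev (Y2 1 0) ∈ P) : ∃ κ, ∀ c t, β * ev (Y2 c t) * β⁻¹ = ev (Y2 (κ * c) (κ * σ κ * t)) :=
  h.dgY hw hP e Y2 rfl mem (fun _ _ _ _ => by cs h [Y2]) (fun _ _ _ _ => congrArg Cd.e1)
    (fun w w0 => ⟨w, 1, w0, one_ne_zero, by fxs h hw [Y2]⟩)
    ⟨1, w, one_ne_zero, (h.nes hw).1, by fxs h hw [Y2], fun c e => ⟨c.b, c.e1, by fxp h hw e [Y2]⟩⟩
theorem d4 (mem : ev (Y4 1 0) ∈ P) : ∃ κ, ∀ c t, β * ev (Y4 c t) * β⁻¹ = ev (Y4 (κ * c) (κ * σ κ * t)) :=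
  h.dgY hw hP e Y4 rfl mem (fun _ _ _ _ => by cs h [Y4]) (fun _ _ _ _ => congrArg Cd.e3)
    (fun w w0 => ⟨1, w, one_ne_zero, w0, by fxs h hw [Y4]⟩)
    ⟨w, (σ w)⁻¹, (h.nes hw).1, inv_ne_zero (h.nes hw).2.1, by fxs h hw [Y4], fun c e => ⟨c.d, c.e3, by fxp h hw e [Y4]⟩⟩
theorem d6 (mem : ev (Y6 1 0) ∈ P) : ∃ κ, ∀ c t, β * ev (Y6 c t) * β⁻¹ = ev (Y6 (κ * c) (κ * σ κ * t)) :=
  h.dgY hw hP e Y6 rfl mem (fun _ _ _ _ => by cs h [Y6]) (fun _ _ _ _ => congrArg Cd.e5)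
    (fun w w0 => ⟨w, 1, w0, one_ne_zero, by fxs h hw [Y6]⟩)
    ⟨(σ w)⁻¹, w, inv_ne_zero (h.nes hw).2.1, (h.nes hw).1, by fxs h hw [Y6], fun c e => ⟨c.f, c.e5, by fxp h hw e [Y6]⟩⟩
theorem d8 (mem : ev (Y8 1 0) ∈ P) : ∃ κ, ∀ c t, β * ev (Y8 c t) * β⁻¹ = ev (Y8 (κ * c) (κ * σ κ * t)) :=
  h.dgY hw hP e Y8 rfl mem (fun _ _ _ _ => by cs h [Y8]) (fun _ _ _ _ => congrArg Cd.t)
    (fun w w0 => ⟨1, w, one_ne_zero, w0, by fxs h hw [Y8]⟩)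
    ⟨w, 1, (h.nes hw).1, one_ne_zero, by fxs h hw [Y8], fun c e => ⟨c.s, c.t, by fxp h hw e [Y8]⟩⟩
theorem d1 (mem : ev (x1 1) ∈ P) : ∃ κ, ∀ c, β * ev (x1 c) * β⁻¹ = ev (x1 (c * κ)) :=
  h.dgX hP e x1 rfl mem (fun w w0 => ⟨w, 1, w0, one_ne_zero, by fxs h hw [x1]⟩)
    ⟨w, w, (h.nes hw).1, (h.nes hw).1, by fxs h hw [x1], fun c e => ⟨c.a, by fxp h hw e [x1]⟩⟩
theorem d7 (mem : ev (x7 1) ∈ P) : ∃ κ, ∀ c, β * ev (x7 c) * β⁻¹ = ev (x7 (c * κ)) :=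
  h.dgX hP e x7 rfl mem (fun w w0 => ⟨w, 1, w0, one_ne_zero, by fxs h hw [x7]⟩)
    ⟨(w * σ w)⁻¹, w, inv_ne_zero (mul_ne_zero (h.nes hw).1 (h.nes hw).2.1), (h.nes hw).1, by fxs h hw [x7],
      fun c e => ⟨c.g, by fxp h hw e [x7]⟩⟩
set_option maxHeartbeats 800000 in
theorem fixP (h6 : h.QR ≤ P) (k2 : ∀ c t, β * ev (Y2 c t) * β⁻¹ = ev (Y2 c t)) (k4 : ∀ c t, β * ev (Y4 c t) * β⁻¹ = ev (Y4 c t))
    (hP' : P = h.Q ∨ P = h.R) : β ∈ cz P := by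
  have := h.cp
  have f2 := fun c t => fx_of (k2 c t)
  have f4 := fun c t => fx_of (k4 c t)
  have cm : ∀ {a b}, a ∈ cz (zpowers β) → b ∈ cz (zpowers β) → a * b * a⁻¹ * b⁻¹ ∈ cz (zpowers β) := fun h1 h2 =>
    mul_mem (mul_mem (mul_mem h1 h2) (inv_mem h1)) (inv_mem h2)
  have f3 : ∀ c, ev (x3 c) ∈ cz (zpowers β) := fun c => by
    rw [show ev (x3 c) = ev (Y2 c 0) * ev (Y4 1 0) * (ev (Y2 c 0))⁻¹ * (ev (Y4 1 0))⁻¹ by cs h [Y2, Y4]; cg2 h]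
    exact cm (f2 _ _) (f4 _ _)
  obtain ⟨κ, k6⟩ := h.d6 hw hP e (h6 (by cs h [Y6]))
  have := fx_cm (k6 1 0) (f3 1) (by convert f4 0 1 using 1; cs h [Y4, Y6]; cg2 h)
  rw [cm_eq] at this
  obtain rfl : κ = 1 := by cs h [Y6] at this; grind
  have f6 : ∀ c t, ev (Y6 c t) ∈ cz (zpowers β) := fun c t => fx_of (by simpa using k6 c t)
  have f5 : ∀ c, ev (x5 c) ∈ cz (zpowers β) := fun c => by
    rw [show ev (x5 c) = ev (Y4 c 0) * ev (Y6 1 0) * (ev (Y4 c 0))⁻¹ * (ev (Y6 1 0))⁻¹ by cs h [Y6, Y4]; cg2 h]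
    exact cm (f4 _ _) (f6 _ _)
  obtain ⟨κ, k7⟩ := h.d7 hw hP e (h6 (by cs h []))
  have := fx_cm (k7 1) (f2 0 1) (by convert f4 0 1 using 1; cs h [Y4, Y2]; cg2 h)
  rw [cm_eq] at this
  obtain rfl : κ = 1 := by cs h [Y2] at this; grind
  have f7 : ∀ c, ev (x7 c) ∈ cz (zpowers β) := fun c => fx_of (by simpa using k7 c)
  have fin : ∀ c : Cd σ, ev (x1 c.a) ∈ cz (zpowers β) → ev (Y8 c.s c.t) ∈ cz (zpowers β) → ev c ∈ cz (zpowers β) :=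
    fun c h1 h8 => by
      rw [h.nf8 c]
      exact mul_mem (mul_mem (mul_mem (mul_mem (mul_mem (mul_mem (mul_mem h1 (f2 _ _)) (f3 _)) (f4 _ _)) (f5 _)) (f6 _ _)) (f7 _)) h8
  refine zpowers_le.1 (le_cz_comm.1 ?_)
  rcases hP' with rfl | rfl <;> rintro _ ⟨c, hc, rfl⟩
  · obtain ⟨κ, k1⟩ := h.d1 hw hP e (by cs h [])
    have := fx_cm (k1 1) (f6 0 1) (by convert f4 0 1 using 1; cs h [Y4, Y6]; cg2 h)
    rw [cm_eq] at this
    obtain rfl : κ = 1 := by cs h [Y6] at this; grind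
    exact fin c (fx_of (by simpa using k1 c.a)) (by rw [hc.1, hc.2]; exact (show ev (Y8 0 0) = 1 from h.one) ▸ one_mem _)
  · obtain ⟨κ, k8⟩ := h.d8 hw hP e (by cs h [Y8])
    have := fx_cm (k8 1 0) (f5 1) (by convert f6 0 1 using 1; cs h [Y8, Y6]; cg2 h)
    rw [cm_eq] at this
    obtain rfl : κ = 1 := by cs h [Y8] at this; grind
    exact fin c (by rw [hc]; exact (show ev (x1 0) = 1 from h.one) ▸ one_mem _) (fx_of (by simpa using k8 c.s c.t))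
end Co

namespace Tx
variable (h : Tx S σ ev M0 M1 T L H)
include h
theorem diag (hP' : P = h.Q ∨ P = h.R) (e : Eqv ev P β) : ∃ τ ∈ T, τ * β ∈ cz P := by
  obtain ⟨w, hw⟩ := h.big
  have hP : P ≤ S := hP'.elim (· ▸ h.lQ) (· ▸ h.lR)
  have h6 : h.QR ≤ P := hP'.elim (· ▸ by sl h.toCo) (· ▸ by sl h.toCo)
  obtain ⟨κ, k2⟩ := h.d2 hw hP e (h6 (by cs h.toCo [Y2]))
  obtain ⟨κ', k4⟩ := h.d4 hw hP e (h6 (by cs h.toCo [Y4]))
  have n2 : κ ≠ 0 := fun c => by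
    have := k2 1 0
    rw [c, show ev (Y2 (0 * 1) (0 * σ 0 * 0)) = 1 by cs h.toCo [Y2], conj_eq_one_iff] at this
    cs h.toCo [Y2] at this; simp at this
  have n4 : κ' ≠ 0 := fun c => by
    have := k4 1 0
    rw [c, show ev (Y4 (0 * 1) (0 * σ 0 * 0)) = 1 by cs h.toCo [Y4], conj_eq_one_iff] at this
    cs h.toCo [Y4] at this; simp at this
  have := sn (σ := σ) n2
  have := sn (σ := σ) n4
  obtain ⟨τ, hτ, W⟩ := h.ex' κ⁻¹ (σ κ / κ') (by grind) (by grind)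
  have i := h.gS (h.TS hτ)
  refine ⟨τ, hτ, h.fixP hw hP (h.eqv hP e W (hP'.elim (· ▸ h.I7n i.2.2.1) (· ▸ h.I7n i.2.1))) h6 (fun c t => ?_)
    (fun c t => ?_) hP'⟩
  · rw [cj_mul2, k2, W.cj]; cs h.toCo [Y2, sc, map_inv₀]; cg2 h.toCo
  · rw [cj_mul2, k4, W.cj]; cs h.toCo [Y4, sc, map_inv₀, map_div₀]; cg2 h.toCo

variable (d : Pd h.toCo P M J r) (hF : F.Sat 2) (hS : F.S = S) (hA : F.A S ≤ ai H S)
include hF hS hA d
theorem lnP (hg : g ∈ F.A P) (hI : g ∈ h.I7 P) (k : L4 ev g κ) : ∃ v ∈ S, ∃ τ ∈ T, τ ∈ F.A S ∧ Agree P g (v * τ) := by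
  obtain ⟨a, ha, e⟩ := h.ext hF hS d.h6 d.le d.Sn hg hI
  obtain ⟨v, hv, τ, hτ, e'⟩ := h.lnA (hA ha) (h.agL e (le_trans (by sl h.toCo) d.h6) k)
  exact ⟨v, hv, τ, hτ, (mul_mem_cancel_left (F.N_le_A S ⟨hS.ge hv, le_nz_self S hv⟩)).1 (e'.symm.mem_A ha),
    e.symm.trans (e'.mono d.le)⟩
theorem c1 (e : Es S P (F.A P)) (hs : s ∈ S) (s1 : s ∉ P) (s2 : s * s ∈ P) (ht : t ∈ S) (t1 : t ∉ P) (t2 : t * t ∈ P) :
    ∃ v ∈ S, ∃ τ ∈ T, τ ∈ F.A S ∧ v * τ ∈ J ∧ (v * τ * s * (v * τ)⁻¹)⁻¹ * t ∈ P := by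
  obtain ⟨n, i, nI, -⟩ := d.exU e
  have x := d.tx e
  obtain ⟨a, ha, k1, k2⟩ := e.interI x i (fun c => nI c.2) (e.iv hs (d.Sn hs) s1 s2) (x.le (mem_ai_of_mem hs (d.Sn hs)))
    (e.iv ht (d.Sn ht) t1 t2) (x.le (mem_ai_of_mem ht (d.Sn ht)))
  have aJ : a ∈ J := (mul_mem_cancel_left (d.ivJ e i)).1 (d.ivJ e ⟨mul_mem i.mem ha.1,
    fun c => nI ((mul_mem_cancel_right (mem_inf.1 ha).2).1 (d.aI c)), k1⟩)
  obtain ⟨κ, -, k, -⟩ := d.lin a ha.2 aJ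
  obtain ⟨v, hv, τ, hτ, k3, k4⟩ := h.lnP d hF hS hA ha.1 ha.2 k
  have n := mul_mem (le_nz_self S hv) (h.TS hτ)
  refine ⟨v, hv, τ, hτ, k3, k4.symm.mem_of_cz_le ((cz_le_ai P P).trans d.aJ) aJ,
    e.mem (mul_mem (inv_mem (conj_mem_of_mem_nz n hs)) ht) ?_⟩
  simpa [mul_assoc] using mul_mem (cz_le_ai P P (agree_iff.1 (Agree.cjn k4 (h.I7n (d.nI n)) (d.Sn hs)))) k2
theorem c2 (e : Es S P (F.A P)) (hP' : P = h.Q ∨ P = h.R) (hM : M ∈ nz T) (hT : T ≤ F.A S) : M ∈ F.A P := by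
  obtain ⟨n, i, -, n1, n2⟩ := d.exU e
  have TI : T ≤ h.I7 P := h.TS.trans d.nI
  have Tn : T ≤ nz P := fun _ k => h.I7n (TI k)
  have TA : T ≤ F.A P := fun τ k => mem_A_of_le hS.ge (hT k) d.le (Tn k)
  have nJ := d.ivJ e i
  have CI := h.CI d.h6
  obtain ⟨k, hk, k1⟩ := sz0 (C := cz P) (X := ai P P) (A := T) (B := cj n T) ((ai_le_nz P P).trans (nz_le_nz_cz P))
    (Tn.trans (nz_le_nz_cz P)) ((cj_le_n Tn (le_nz_self _ (e.An i.mem))).trans (nz_le_nz_cz P))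
    (Tn.trans (nz_le_nz_ai_self P)) (cz_le_ai P P) (cj_le.2 fun τ hτ => by
      have yI : n * τ * n⁻¹ ∈ h.I7 P := by
        simpa [mul_assoc] using conj_mem_of_mem_nz (le_nz_self _ n2) (TI (conj_mem_of_mem_nz' hM hτ))
      obtain ⟨κ, -, l, -⟩ := d.lin _ (mul_mem yI (inv_mem (TI hτ))) (by
        simpa [mul_assoc] using mul_mem nJ (conj_mem_of_mem_nz (d.Jn (Tn hτ)) (inv_mem nJ)))
      obtain ⟨p, u, W⟩ := h.wt τ hτ
      obtain ⟨v, hv, τ', hτ', -, k⟩ := h.lnP d hF hS hA (conj_mem_of_mem_nz (le_nz_self _ i.mem) (TA hτ)) yI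
        (by simpa using l.mul W.l4)
      have k1 := (mem_nz.1 d.Mn ▸ k.symm.conj M :).mem_of_cz_le CI
        (by simpa [mul_assoc] using conj_mem_of_mem_nz (le_nz_self _ n1) (TI hτ))
      rw [cj_mul', mul_mem_cancel_right (TI (conj_mem_of_mem_nz hM hτ'))] at k1
      simpa [mul_assoc] using mul_mem (mul_mem (mem_sup_left (le_ai_self P (d.j5 v hv k1))) (mem_sup_right hτ'))
        (mem_sup_left (cz_le_ai P P (agree_iff.1 k)) : _ ∈ ai P P ⊔ T))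
    (pel_ai (e.pg.to_le e.le)) fun c => h.odd (c.trans (card_cj n T ▸ relIndex_dvd_card _ _))
  have bI : M * (k⁻¹ * n) ∈ h.I7 P := by
    simpa [mul_assoc] using mul_mem (d.aI (conj_mem_of_mem_nz (nz_le_nz_ai_self P d.Mn) (inv_mem hk))) n1
  have mA : k⁻¹ * n ∈ F.A P := mul_mem (inv_mem (e.PA hk)) i.mem
  obtain ⟨κ, κ', l4, l6⟩ := d.lin _ bI (mul_mem d.MJ (mul_mem (inv_mem (d.aJ hk)) nJ))
  have k2 : ∀ τ ∈ T, ∃ τ' ∈ T, Agree P (M * (k⁻¹ * n) * τ * (M * (k⁻¹ * n))⁻¹) τ' := fun τ hτ => by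
    obtain ⟨a, ha, b, hb, c⟩ := (mem_sup_of_le_nz_right (Tn.trans (nz_le_nz_cz P))).1 (k1 _ (conj_mem_cj n hτ))
    refine ⟨_, conj_mem_of_mem_nz hM ha, mem_nz.1 d.Mn ▸ ?_⟩
    rw [show M * (k⁻¹ * n) * τ * (M * (k⁻¹ * n))⁻¹ = M * (a * b) * M⁻¹ by rw [c]; group]
    exact (agree_mul_cz a hb).conj M
  generalize k⁻¹ * n = m at bI mA l4 l6 k2
  have P2 : h.Z2 ≤ P := le_trans (by sl h.toCo) d.h6
  obtain ⟨τ, hτ, c⟩ := h.diag hP' (β := M * m) ⟨h.I7n bI, fun p u hp hu c c' hc k => by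
    obtain ⟨τ, hτ, W⟩ := h.ex' p u hp hu
    obtain ⟨τ', hτ', a⟩ := k2 τ hτ
    obtain ⟨p', u', W'⟩ := h.wt τ' hτ'
    have a' : ∀ x ∈ P, M * m * (τ * x * τ⁻¹) * (M * m)⁻¹ = τ' * (M * m * x * (M * m)⁻¹) * τ'⁻¹ := fun x hx => by
      rw [← a _ (conj_mem_of_mem_nz (h.I7n bI) hx)]; group
    have e4 := a' (ev (x4 1)) (P2 (by cs h.toCo []))
    have e6 := a' (ev (x6 1)) (P2 (by cs h.toCo []))
    obtain ⟨y, e5⟩ := l6 1
    have n6 := not_cj (w := ev (x6 1)) (h.I71 bI) (by cs h.toCo []; simp)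
    obtain ⟨y', e7⟩ := l6 (p * σ u * σ (p * σ u))
    rw [W.l4, l4, l4, W'.l4] at e4
    rw [W.cj, show sc p u (x6 1) = x6 (p * σ u * σ (p * σ u)) by ext <;> simp [x6], e7, e5, h.mul (x4 y), W'.cj] at e6
    rw [e5] at n6
    have := h.ne4 l4
    replace e4 := congrArg Cd.e3 (h.inj e4)
    replace e6 := congrArg Cd.e5 (h.inj ((h.mul _ _).symm.trans e6))
    cs h.toCo [] at n6
    simp only [x4, x6, sc, mul_e5, mul_one, mul_zero, add_zero, zero_add, map_zero] at e4 e6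
    obtain ⟨rfl, rfl⟩ := h.w46 (p' := p') (u' := u') (by grind) (by grind) hp hu
    rw [← W.cj, a' _ hc, k, W'.cj]⟩
  have := F.cz_le_A P c
  rwa [mul_mem_cancel_left (TA hτ), mul_mem_cancel_right mA] at this
omit d
theorem TA (eq : Es S h.Q (F.A h.Q)) (er : Es S h.R (F.A h.R)) : T ≤ F.A S := by
  have := h.cp
  have k4 : ∀ p, p ≠ 0 → ∃ τ ∈ F.A S, Wt ev τ p (σ p)⁻¹ := fun p hp => by
    have := sn (σ := σ) hp
    obtain ⟨v, hv, τ, hτ, k1, k2, k3⟩ := h.c1 h.pq hF hS hA eq (s := ev (x8 1)) (t := ev (x8 ((σ p)⁻¹ * σ (σ p)⁻¹))) (h.mS _)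
      (by cs h.toCo []; simp) (by cs h.toCo [h.aa]) (h.mS _) (by cs h.toCo [map_inv₀]; simp [hp]) (by cs h.toCo [h.aa])
    obtain ⟨p', u, W⟩ := h.wt τ hτ
    obtain ⟨c, -, rfl⟩ := h.ex hv
    have e1 := mem_cz.1 ((mul_mem_cancel_left (h.cS1.cz hv)).1 k2) (ev (x4 1)) (by cs h.toCo [])
    rw [W.l4, h.inj.eq_iff] at e1
    replace e1 := h.nr1 ((mul_one _).symm.trans (congrArg Cd.e3 e1))
    rw [cj_mul2, W.cj, h.inv, h.mul, h.mul, h.inv, h.mul, h.mQ] at k3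
    replace k3 := k3.2
    simp only [mul_t, inv_t, mul_s, inv_s, sc, x8, mul_zero, add_zero, map_add, map_zero, zero_mul, zero_add, h.aa, mul_one] at k3
    obtain rfl : u = (σ p)⁻¹ := h.nrm_inj (by grind)
    obtain rfl : p' = p := σ.injective (by grind)
    exact ⟨τ, k1, W⟩
  have k5 : ∀ p, p ≠ 0 → ∃ τ ∈ F.A S, Wt ev τ p p⁻¹ := fun p hp => by
    obtain ⟨v, hv, τ, hτ, k1, k2, k3⟩ := h.c1 h.pr hF hS hA er (s := ev (x1 1)) (t := ev (x1 (p * p))) (h.mS _)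
      (by cs h.toCo []; simp) (by cs h.toCo [h.aa]) (h.mS _) (by cs h.toCo []; simp [hp]) (by cs h.toCo [h.aa])
    obtain ⟨p', u, W⟩ := h.wt τ hτ
    obtain ⟨c, -, rfl⟩ := h.ex hv
    have e1 := (mem_stab'.1 ((mul_mem_cancel_left (mem_stab'.2 ⟨h.nW hv, h.cSW _ hv⟩)).1 k2)).2 (ev (x5 1)) (by cs h.toCo [])
    rw [W.cj] at e1
    cs h.toCo [sc] at e1
    have e2 := h.nr1 (w := p' * u) (by rw [map_mul]; grind)
    rw [cj_mul2, W.cj, h.inv, h.mul, h.mul, h.inv, h.mul, h.mR] at k3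
    simp only [mul_a, inv_a, sc, x1, mul_one] at k3
    have := W.u0
    obtain rfl : p' = p := by grind
    obtain rfl : u = p'⁻¹ := by grind
    exact ⟨τ, k1, W⟩
  intro τ hτ
  obtain ⟨p, u, W⟩ := h.wt τ hτ
  obtain ⟨r, e⟩ := Finite.surjective_of_injective (f := fun r => r / σ r) (fun r r' e => by
    have e' := congrArg σ e
    simp only [map_div₀, h.ss] at e e'
    have := mt (sz (σ := σ) (s := r))
    have := mt (sz (σ := σ) (s := r'))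
    by_cases r = 0 <;> by_cases r' = 0 <;> grind) (p * u)
  have p0 := W.p0
  have u0 := W.u0
  have r0 : r ≠ 0 := fun c => by simp [c, p0, u0] at e
  have := sn (σ := σ) r0
  obtain ⟨a, ha, W1⟩ := k4 r r0
  obtain ⟨b, hb, W2⟩ := k5 (p / r) (div_ne_zero p0 r0)
  have := W1.mul W2
  rw [show r * (p / r) = p by grind, show (σ r)⁻¹ * (p / r)⁻¹ = u by grind] at this
  exact (h.agW W this).mem_A (mul_mem ha hb)
theorem rl0 : Rl F := by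
  refine (h.cases hF hS).imp_right fun ⟨q, r⟩ => ?_
  have eq := hS ▸ es_of hF q
  have er := hS ▸ es_of hF r
  have hT := h.TA hF hS hA eq er
  have q := h.c2 h.pq hF hS hA eq (.inl rfl) h.t0 hT
  have r := h.c2 h.pr hF hS hA er (.inr rfl) h.t1 hT
  have SG : S ≤ L ⊔ H ⊓ F.A S := h.SL.trans le_sup_left
  have sy : Syl 2 S (L ⊔ H ⊓ F.A S) := h.syl.mono_right SG (sup_le h.LH inf_le_left)
  have e : F.A S = (ofSub (L ⊔ H ⊓ F.A S) S).A S := by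
    rw [ofSub_A SG le_rfl]
    refine le_antisymm (fun a ha => ?_) (ai_le (fun g hg => ?_) (F.cz_le_A S))
    · obtain ⟨b, hb, k⟩ := mem_ai'.1 (hA ha)
      exact k.mem_ai (mem_ai_of_mem (mem_sup_right ⟨hb.1, k.symm.mem_A ha⟩) hb.2)
    · obtain ⟨l, hl, b, hb, rfl⟩ := (mem_sup_of_le_nz_left (inf_le_left.trans h.Hn)).1 hg.1
      obtain ⟨s, hs, τ, hτ, rfl⟩ := h.nl l hl ((mul_mem_cancel_right (F.A_le_nz S hb.2)).1 (mem_inf.1 hg).2)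
      exact mul_mem (mul_mem (F.N_le_A S ⟨hS.ge hs, le_nz_self S hs⟩) (hT hτ)) hb.2
  have q' := ofSub_A SG h.lQ ▸ mem_ai_of_mem (mem_sup_left h.l0) h.nQ
  have r' := ofSub_A SG h.lR ▸ mem_ai_of_mem (mem_sup_left h.l1) h.nR
  exact hS.symm ▸ ⟨_, sy, le_antisymm (h.le hF hS rfl e.le q q' r r') (h.le (sat_ofSub h.pg sy) rfl hS e.ge q' q r' r)⟩
omit hA
theorem rl : Rl F := by
  obtain ⟨γ, hγ, k⟩ := h.cjA (F.A_le_nz S) (h.au hF hS h.lZ6 le_rfl (le_nz_self S)).syl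
  exact .of_cjs γ (h.rl0 (hF.cjs γ) (by rw [cjs_S, hS, mem_nz.1 hγ]) (by rwa [← cjs_A, mem_nz.1 hγ] at k))
end Tx

end H22.FZ
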