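/-
Fusion systems on a Sylow 2-subgroup of a Ree group of type `F₄`, part 10: bit-sliced arithmetic for `q = 2`.
-/
import Cfsg.Agent.H22.FZ8
import Cfsg.Agent.H26.Net

set_option autoImplicit false
set_option linter.unusedSectionVars false

namespace H22.FZ
open Subgroup H25 H25.FS Cd H26

/-- bit-sliced coordinates -/
structure Bs where
  (a b e1 e2 d e3 e4 f e5 g s t : ℕ)
/-- lazy conjunction -/
noncomputable def an (x y : ℕ) : ℕ := Bool.rec (Nat.land x y) 0 (Nat.beq x 0)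
noncomputable def mk12 (a b e1 e2 d e3 e4 f e5 g s t : ℕ) : Bs :=
  frc a fun a => frc b fun b => frc e1 fun e1 => frc e2 fun e2 => frc d fun d => frc e3 fun e3 => frc e4 fun e4 =>
  frc f fun f => frc e5 fun e5 => frc g fun g => frc s fun s => frc t fun t => ⟨a, b, e1, e2, d, e3, e4, f, e5, g, s, t⟩
noncomputable def Bs.mul : Bs → Bs → Bs
  | ⟨a, b, e1, e2, d, e3, e4, f, e5, g, s, t⟩, ⟨a', b', e1', e2', d', e3', e4', f', e5', g', s', t'⟩ =>
    mk12 (Nat.xor a' a) (Nat.xor (Nat.xor b' b) (an s a')) (Nat.xor (Nat.xor (Nat.xor (Nat.xor (Nat.xor e1' e1) (an s (an a'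
    (Nat.xor b' b)))) (an t a')) (an a' (Nat.xor d f))) (an b' b)) (Nat.xor (Nat.xor (Nat.xor (Nat.xor (Nat.xor e2' e2) (an s
    (Nat.xor (Nat.xor (Nat.xor (Nat.xor a' b') e1') (an t a')) (an a' d)))) (an t (Nat.xor a' (an a' b')))) (an a' (Nat.xor f
    g))) (an b' d)) (Nat.xor (Nat.xor (Nat.xor d' d) (an s b')) (an t a')) (Nat.xor (Nat.xor (Nat.xor (Nat.xor (Nat.xor
    (Nat.xor (Nat.xor (Nat.xor e3' e3) (an s (Nat.xor (Nat.xor (Nat.xor (Nat.xor (Nat.xor (Nat.xor a' b') e2') (an t (an a'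
    f))) (an a' (Nat.xor (Nat.xor (Nat.xor (Nat.xor b' e2') e4) f) (an b' g)))) (an b' (Nat.xor (Nat.xor (Nat.xor (Nat.xor d'
    e1') e2') d) f))) (an e1' f)))) (an t (Nat.xor (Nat.xor (Nat.xor (Nat.xor a' b') e1') (an a' (Nat.xor (Nat.xor (Nat.xor
    (Nat.xor (Nat.xor (Nat.xor d' e1') e2') d) f) g) (an b' f)))) (an b' e1')))) (an a' (Nat.xor e5 (an g (Nat.xor b' f)))))
    (an b' (Nat.xor e4 g))) (an d' d)) (an e1' g)) (an e2' f)) (Nat.xor (Nat.xor (Nat.xor (Nat.xor (Nat.xor (Nat.xor e4' e4)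
    (an s (Nat.xor (Nat.xor (Nat.xor (Nat.xor (Nat.xor a' e1') e2') (an t a')) (an a' (Nat.xor d' g))) (an b' (Nat.xor d'
    f))))) (an t (Nat.xor (Nat.xor a' e1') (an a' (Nat.xor (Nat.xor b' d') f))))) (an a' g)) (an b' g)) (an d' f)) (Nat.xor
    (Nat.xor (Nat.xor f' f) (an s (Nat.xor a' b'))) (an t a')) (Nat.xor (Nat.xor (Nat.xor (Nat.xor (Nat.xor e5' e5) (an s
    (Nat.xor (Nat.xor (Nat.xor (Nat.xor (Nat.xor a' e1') e4') (an t (Nat.xor e1' (an a' d')))) (an a' (Nat.xor (Nat.xor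
    (Nat.xor (Nat.xor b' d') f') f) g))) (an b' (Nat.xor (Nat.xor f' f) g))))) (an t (Nat.xor (Nat.xor (Nat.xor (Nat.xor b'
    e1') e2') (an a' (Nat.xor (Nat.xor (Nat.xor (Nat.xor b' d') f') f) g))) (an b' d')))) (an g (Nat.xor b' d'))) (an f' f))
    (Nat.xor (Nat.xor (Nat.xor g' g) (an s (Nat.xor (Nat.xor a' f') (an t a')))) (an t (Nat.xor a' b'))) (Nat.xor s' s)
    (Nat.xor (Nat.xor t' t) (an s s'))
noncomputable def Bs.inv : Bs → Bs
  | ⟨a, b, e1, e2, d, e3, e4, f, e5, g, s, t⟩ =>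
    mk12 a (Nat.xor b (an s a)) (Nat.xor (Nat.xor (Nat.xor (Nat.xor b e1) (an s (Nat.xor a (an a b)))) (an t a)) (an a
    (Nat.xor d f))) (Nat.xor (Nat.xor (Nat.xor (Nat.xor e2 (an s (Nat.xor (Nat.xor (Nat.xor a e1) (an t a)) (an a (Nat.xor
    (Nat.xor b d) f))))) (an t (Nat.xor a (an a b)))) (an a (Nat.xor f g))) (an b d)) (Nat.xor (Nat.xor d (an s (Nat.xor a
    b))) (an t a)) (Nat.xor (Nat.xor (Nat.xor (Nat.xor (Nat.xor (Nat.xor (Nat.xor d e3) (an s (Nat.xor (Nat.xor (Nat.xor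
    (Nat.xor b e1) e2) (an a (Nat.xor (Nat.xor (Nat.xor (Nat.xor d e1) f) g) (an b (Nat.xor f g))))) (an b (Nat.xor d e2)))))
    (an t (Nat.xor (Nat.xor (Nat.xor (Nat.xor a b) e1) (an a (Nat.xor (Nat.xor (Nat.xor (Nat.xor (Nat.xor (Nat.xor b d) e1)
    e2) f) g) (an b f)))) (an b e1)))) (an a (Nat.xor (Nat.xor e5 f) (an g (Nat.xor (Nat.xor b d) f))))) (an b (Nat.xor e4
    (an d f)))) (an e1 g)) (an e2 f)) (Nat.xor (Nat.xor (Nat.xor (Nat.xor (Nat.xor e4 (an s (Nat.xor (Nat.xor (Nat.xor a e2)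
    (an t a)) (an a (Nat.xor (Nat.xor b f) g))))) (an t (Nat.xor (Nat.xor (Nat.xor a b) e1) (an a (Nat.xor b f))))) (an a g))
    (an b g)) (an d f)) (Nat.xor (Nat.xor f (an s b)) (an t a)) (Nat.xor (Nat.xor (Nat.xor (Nat.xor e5 f) (an s (Nat.xor
    (Nat.xor (Nat.xor (Nat.xor (Nat.xor (Nat.xor a e1) e2) e4) (an t (Nat.xor (Nat.xor b e1) (an a f)))) (an b (Nat.xor f
    g))) (an d f)))) (an t (Nat.xor (Nat.xor e1 e2) (an a (Nat.xor (Nat.xor b f) g))))) (an g (Nat.xor b d))) (Nat.xor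
    (Nat.xor g (an s (Nat.xor (Nat.xor (Nat.xor a b) f) (an t a)))) (an t (Nat.xor a b))) s (Nat.xor s t)
noncomputable def Bs.m0 : Bs → Bs
  | ⟨a, b, e1, e2, d, e3, e4, f, e5, g, _, _⟩ =>
    mk12 g f (Nat.xor e5 (an g (Nat.xor b d))) (Nat.xor (Nat.xor e4 (an g (Nat.xor a b))) (an d f)) d (Nat.xor (Nat.xor
    (Nat.xor (Nat.xor e3 (an a (Nat.xor (Nat.xor e5 f) (an g (Nat.xor (Nat.xor b d) f))))) (an b (Nat.xor e4 (an d f)))) (an
    e1 g)) (an e2 f)) (Nat.xor (Nat.xor e2 (an a (Nat.xor f g))) (an b d)) b (Nat.xor e1 (an a (Nat.xor d f))) a 0 0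
noncomputable def Bs.m1 : Bs → Bs
  | ⟨_, b, e1, e2, d, e3, e4, f, e5, g, s, t⟩ =>
    mk12 0 s t (Nat.xor (Nat.xor g (an b (Nat.xor s t))) (an f s)) (Nat.xor f (an b s)) (Nat.xor (Nat.xor (Nat.xor e5 (an s
    (Nat.xor (Nat.xor (Nat.xor (Nat.xor (Nat.xor (Nat.xor b e1) e2) e4) (an b (Nat.xor (Nat.xor f g) t))) (an d f)) (an e1
    t)))) (an g (Nat.xor b d))) (an t (Nat.xor e1 e2))) (Nat.xor (Nat.xor (Nat.xor (Nat.xor e4 (an b (Nat.xor g t))) (an d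
    f)) (an e1 t)) (an e2 s)) (Nat.xor d (an b s)) (Nat.xor (Nat.xor (Nat.xor e3 (an b (Nat.xor (Nat.xor (Nat.xor (Nat.xor e4
    t) (an d (Nat.xor f s))) (an e1 t)) (an e2 s)))) (an e1 (Nat.xor (Nat.xor g s) t))) (an e2 (Nat.xor f s))) (Nat.xor
    (Nat.xor e2 (an b d)) (an e1 s)) b e1
def Bs.one : Bs := ⟨0, 0, 0, 0, 0, 0, 0, 0, 0, 0, 0, 0⟩
noncomputable def Bs.msk (m : ℕ) : Bs → Bs
  | ⟨a, b, e1, e2, d, e3, e4, f, e5, g, s, t⟩ => mk12 (an a m) (an b m) (an e1 m) (an e2 m) (an d m) (an e3 m) (an e4 m) (an f m)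
    (an e5 m) (an g m) (an s m) (an t m)
noncomputable def mz (m : ℕ) (x r : Bs) : Bs := Bool.rec ((x.msk m).mul r) r (Nat.beq m 0)
noncomputable def ap (T : ℕ → Bs) : Bs → Bs
  | ⟨a, b, e1, e2, d, e3, e4, f, e5, g, s, t⟩ => mz a (T 0) (mz b (T 1) (mz e1 (T 2) (mz e2 (T 3) (mz d (T 4) (mz e3 (T 5)
    (mz e4 (T 6) (mz f (T 7) (mz e5 (T 8) (mz g (T 9) (mz s (T 10) (mz t (T 11) .one)))))))))))
noncomputable def cb (o m k : ℕ) : ℕ := Bool.rec 0 o (m.testBit k)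
noncomputable def cst (o m : ℕ) : Bs := mk12 (cb o m 0) (cb o m 1) (cb o m 2) (cb o m 3) (cb o m 4) (cb o m 5) (cb o m 6) (cb o m 7)
  (cb o m 8) (cb o m 9) (cb o m 10) (cb o m 11)
noncomputable def lt (o k : ℕ) : Bs := cst o (2 ^ k)
def df : Bs → Bs → ℕ
  | ⟨a, b, e1, e2, d, e3, e4, f, e5, g, s, t⟩, ⟨a', b', e1', e2', d', e3', e4', f', e5', g', s', t'⟩ =>
    Nat.lor (Nat.xor a a') (Nat.lor (Nat.xor b b') (Nat.lor (Nat.xor e1 e1') (Nat.lor (Nat.xor e2 e2') (Nat.lor (Nat.xor d d')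
    (Nat.lor (Nat.xor e3 e3') (Nat.lor (Nat.xor e4 e4') (Nat.lor (Nat.xor f f') (Nat.lor (Nat.xor e5 e5') (Nat.lor (Nat.xor g g')
    (Nat.lor (Nat.xor s s') (Nat.xor t t')))))))))))
def fB : Bs → (Bs → ℕ) → ℕ
  | ⟨a, b, e1, e2, d, e3, e4, f, e5, g, s, t⟩, k => k ⟨a, b, e1, e2, d, e3, e4, f, e5, g, s, t⟩
noncomputable def upd (T : ℕ → Bs) (j : ℕ) (x : Bs) (k : ℕ) : Bs := Bool.rec (T k) x (Nat.beq k j)
noncomputable def wd (T : ℕ → Bs) : List ℕ → Bs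
  | [] => .one
  | k :: l => (T k).mul (wd T l)
noncomputable def orL {α : Type} (f : α → ℕ) : List α → ℕ
  | [] => 0
  | x :: l => Nat.lor (f x) (orL f l)
noncomputable def ext (T : ℕ → Bs) : List (ℕ × List ℕ) → ((ℕ → Bs) → ℕ) → ℕ
  | [], k => k T
  | x :: l, k => fB (wd T x.2) fun y => ext (upd T x.1 y) l k
noncomputable def mp (f : ℕ → Bs) : List ℕ → ((ℕ → Bs) → ℕ) → ℕ
  | [], k => k fun _ => .one
  | j :: l, k => fB (f j) fun x => mp f l fun T => k (upd T j x)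
noncomputable def nrm (D : List ℕ) (W : ℕ → Bs) : List ((ℕ → Bs) → Bs) → ((ℕ → Bs) → ℕ) → ℕ
  | [], k => k W
  | s :: l, k => fB (s W) fun v => fB v.inv fun w => mp (fun j => (v.mul (W j)).mul w) D fun W' => nrm D W' l k
noncomputable def cjB (x c : Bs) : Bs := (x.mul c).mul x.inv
noncomputable def act (m : Bs → Bs) (T : ℕ → Bs) (o : ℕ) : List ℕ → Bs → Bs
  | [], c => c
  | k :: l, c => Bool.rec (cjB (lt o k) (act m T o l c)) (m (ap T (act m T o l c))) (Nat.beq k 12)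
/-- the words of the list express the letters -/
noncomputable def okE (D : List ℕ) : List (ℕ × List ℕ) → Bool
  | [] => true
  | x :: l => x.2.all (· ∈ D) && (Nat.beq (df (wd (lt 1) x.2) (lt 1 x.1)) 0 && okE (x.1 :: D) l)
def dom (D : List ℕ) : List (ℕ × List ℕ) → List ℕ
  | [] => D
  | x :: l => dom (x.1 :: D) l

variable {Γ : Type*} [Group Γ] [Finite Γ] {K : Type*} [Field K] [Finite K] {σ : K →+* K} {S P A Y : Subgroup Γ}
  {ev : Cd σ → Γ} {c c' : Cd σ} {g n v w M : Γ} {i j m o x y : ℕ} {T W : ℕ → Bs} {D : List ℕ} {r r' : ℕ → Γ}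

/-- a bit as a field element -/
def bt (K : Type*) [Field K] (i x : ℕ) : K := if x.testBit i then 1 else 0
/-- the element in lane `i` -/
def pr (σ : K →+* K) (i : ℕ) (x : Bs) : Cd σ := ⟨bt K i x.a, bt K i x.b, bt K i x.e1, bt K i x.e2, bt K i x.d, bt K i x.e3,
  bt K i x.e4, bt K i x.f, bt K i x.e5, bt K i x.g, bt K i x.s, bt K i x.t⟩
/-- the element with a given bit pattern -/
def cdm (σ : K →+* K) (m : ℕ) : Cd σ := ⟨bt K 0 m, bt K 1 m, bt K 2 m, bt K 3 m, bt K 4 m, bt K 5 m, bt K 6 m, bt K 7 m,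
  bt K 8 m, bt K 9 m, bt K 10 m, bt K 11 m⟩
open Classical in
noncomputable def pz (a : K) (x : Γ) : Γ := if a = 0 then 1 else x
noncomputable def apG (r : ℕ → Γ) (c : Cd σ) : Γ := pz c.a (r 0) * (pz c.b (r 1) * (pz c.e1 (r 2) * (pz c.e2 (r 3) *
  (pz c.d (r 4) * (pz c.e3 (r 5) * (pz c.e4 (r 6) * (pz c.f (r 7) * (pz c.e5 (r 8) * (pz c.g (r 9) * (pz c.s (r 10) *
  (pz c.t (r 11) * 1)))))))))))
/-- the letters -/
def lG (ev : Cd σ → Γ) (k : ℕ) : Γ := ev (cdm σ (2 ^ k))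
/-- `T` is the table of `g` in lane `i` -/
def Tb (ev : Cd σ → Γ) (i : ℕ) (g : Γ) (T : ℕ → Bs) (D : List ℕ) : Prop := ∀ k ∈ D, g * lG ev k * g⁻¹ = ev (pr σ i (T k))

theorem tb_xor (x y i : ℕ) : (Nat.xor x y).testBit i = (x.testBit i ^^ y.testBit i) := Nat.testBit_xor ..
theorem tb_lor (x y i : ℕ) : (Nat.lor x y).testBit i = (x.testBit i || y.testBit i) := Nat.testBit_or ..
theorem tb_land (x y i : ℕ) : (Nat.land x y).testBit i = (x.testBit i && y.testBit i) := Nat.testBit_and ..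
theorem beq_rec {α : Type} (a b : α) (x y : ℕ) : (Bool.rec a b (Nat.beq x y) : α) = if x = y then b else a := by
  by_cases e : x = y
  · rw [if_pos e, e, Nat.beq_refl]
  · rw [if_neg e, Bool.eq_false_iff.2 (mt Nat.eq_of_beq_eq_true e)]
theorem bt_zero : bt K i 0 = 0 := by simp [bt]
theorem bt_0 : bt K i x = 0 ↔ x.testBit i = false := by unfold bt; cases x.testBit i <;> simp
theorem bt_xor [CharP K 2] : bt K i (Nat.xor x y) = bt K i x + bt K i y := by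
  simp only [bt, tb_xor]; cases x.testBit i <;> cases y.testBit i <;> simp [CharTwo.add_self_eq_zero]
theorem bt_an : bt K i (an x y) = bt K i x * bt K i y := by
  rw [an, beq_rec]; split_ifs with e
  · simp [e, bt_zero]
  · simp only [bt, tb_land]; cases x.testBit i <;> cases y.testBit i <;> simp
theorem bt_s : σ (bt K i x) = bt K i x := by unfold bt; split_ifs <;> simp
theorem bt_sq (i x : ℕ) : bt K i x * bt K i x = bt K i x := by unfold bt; split_ifs <;> simp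
theorem bt_inj : bt K i x = bt K i y ↔ x.testBit i = y.testBit i := by
  unfold bt; cases x.testBit i <;> cases y.testBit i <;> simp
theorem mk12_eq (a b e1 e2 d e3 e4 f e5 g s t : ℕ) : mk12 a b e1 e2 d e3 e4 f e5 g s t = ⟨a, b, e1, e2, d, e3, e4, f, e5, g, s, t⟩ := rfl
theorem fB_eq (x : Bs) (k : Bs → ℕ) : fB x k = k x := rfl
theorem pr_one : pr σ i .one = 1 := by ext <;> exact bt_zero
set_option maxHeartbeats 1600000 in
theorem pr_mul [CharP K 2] (x y : Bs) : pr σ i (x.mul y) = pr σ i x * pr σ i y := by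
  obtain ⟨a, b, e1, e2, d, e3, e4, f, e5, g, s, t⟩ := x
  obtain ⟨a', b', e1', e2', d', e3', e4', f', e5', g', s', t'⟩ := y
  have := bt_sq (K := K) i a'; have := bt_sq (K := K) i b'; have := bt_sq (K := K) i s; have := bt_sq (K := K) i t
  ext <;> simp only [Bs.mul, mk12_eq, pr, mul_a, mul_b, mul_e1, mul_e2, mul_d, mul_e3, mul_e4, mul_f, mul_e5, mul_g, mul_s, mul_t,
    bt_xor, bt_an, bt_s] <;> grind
set_option maxHeartbeats 1600000 in
theorem pr_inv [CharP K 2] (x : Bs) : pr σ i x.inv = (pr σ i x)⁻¹ := by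
  obtain ⟨a, b, e1, e2, d, e3, e4, f, e5, g, s, t⟩ := x
  have := bt_sq (K := K) i a; have := bt_sq (K := K) i b; have := bt_sq (K := K) i s; have := bt_sq (K := K) i t
  have := bt_sq (K := K) i d; have := bt_sq (K := K) i f
  ext <;> simp only [Bs.inv, mk12_eq, pr, inv_a, inv_b, inv_e1, inv_e2, inv_d, inv_e3, inv_e4, inv_f, inv_e5, inv_g, inv_s, inv_t,
    bt_xor, bt_an, bt_s] <;> grind
theorem pr_m0 [CharP K 2] (x : Bs) : pr σ i x.m0 = m0 (pr σ i x) := by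
  obtain ⟨a, b, e1, e2, d, e3, e4, f, e5, g, s, t⟩ := x
  have := bt_sq (K := K) i f
  ext <;> simp only [Bs.m0, mk12_eq, pr, m0, bt_xor, bt_an, bt_s, bt_zero] <;> grind
theorem pr_m1 [CharP K 2] (x : Bs) : pr σ i x.m1 = m1 (pr σ i x) := by
  obtain ⟨a, b, e1, e2, d, e3, e4, f, e5, g, s, t⟩ := x
  have := bt_sq (K := K) i b; have := bt_sq (K := K) i s
  ext <;> simp only [Bs.m1, mk12_eq, pr, m1, bt_xor, bt_an, bt_s, bt_zero] <;> grind
theorem pr_cst (ho : o.testBit i = true) (m : ℕ) : pr σ i (cst o m) = cdm σ m := by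
  have : ∀ k, bt K i (cb o m k) = bt K k m := fun k => by unfold cb bt; cases m.testBit k <;> simp [ho]
  simp only [cst, mk12_eq, pr, cdm, this]
theorem df_0 {x y : Bs} : (df x y).testBit i = false ↔ pr σ i x = pr σ i y := by
  cases x; cases y
  have : ∀ a b : Bool, (a ^^ b) = false ↔ a = b := by decide
  simp only [df, pr, Cd.ext_iff, tb_lor, tb_xor, bt_inj, Bool.or_eq_false_iff, this]
theorem orL_0 {α : Type} {f : α → ℕ} {l : List α} : (orL f l).testBit i = false ↔ ∀ x ∈ l, (f x).testBit i = false := by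
  induction l with
  | nil => simp [orL]
  | cons x l ih => simp [orL, tb_lor, ih]
theorem upd_eq (T : ℕ → Bs) (j : ℕ) (x : Bs) (k : ℕ) : upd T j x k = if k = j then x else T k := beq_rec ..
theorem mp_eq (f : ℕ → Bs) (l : List ℕ) (k : (ℕ → Bs) → ℕ) : ∃ T, mp f l k = k T ∧ ∀ j ∈ l, T j = f j := by
  induction l generalizing k with
  | nil => exact ⟨_, rfl, by simp⟩
  | cons j l ih =>
    obtain ⟨T, h1, h2⟩ := ih fun T => k (upd T j (f j))
    refine ⟨_, h1, fun a ha => ?_⟩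
    rw [upd_eq]; split_ifs with e
    exacts [e ▸ rfl, h2 a ((List.mem_cons.1 ha).resolve_left e)]
theorem ex_lane (n : ℕ) (a : ℕ → K) (ha : ∀ j, a j = 0 ∨ a j = 1) : ∃ i, (full (2 ^ n)).testBit i = true ∧
    (i = 0 → ∀ j < n, a j = 0) ∧ ∀ j < n, bt K i (nth 0 (idP n) j) = a j := by
  classical
  have k : ∀ j < n, bt K (Nat.ofBits fun j : Fin n => decide (a j = 1)) (nth 0 (idP n) j) = a j := fun j hj => by
    rw [bt, (idP_spec n).2 j hj, decide_eq_true (Nat.ofBits_lt_two_pow _), Bool.true_and, Nat.testBit_ofBits_lt _ _ hj]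
    rcases ha j with e | e <;> simp [e]
  refine ⟨_, by rw [testBit_full, decide_eq_true (Nat.ofBits_lt_two_pow _)], fun e j hj => ?_, k⟩
  rw [← k j hj, e, bt, (idP_spec n).2 j hj]; simp
theorem cj_apG (g : Γ) (r : ℕ → Γ) (c : Cd σ) : g * apG r c * g⁻¹ = apG (fun k => g * r k * g⁻¹) c := by
  have : ∀ (a : K) (x : Γ), g * pz a x * g⁻¹ = pz a (g * x * g⁻¹) := fun a x => by unfold pz; split_ifs <;> simp
  simp only [apG, cj_mul' g, this, mul_one g, mul_inv_cancel]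
theorem apG_mem {Y : Submonoid Γ} (h : ∀ k < 12, r k ∈ Y) (c : Cd σ) : apG r c ∈ Y := by
  have : ∀ (a : K) (k : ℕ), k < 12 → pz a (r k) ∈ Y := fun a k hk => by unfold pz; split_ifs; exacts [one_mem _, h k hk]
  unfold apG
  repeat' first | exact one_mem _ | refine mul_mem (this _ _ (by decide)) ?_
theorem lts : cdm σ (2 ^ 0) = x1 1 ∧ cdm σ (2 ^ 1) = y2 1 ∧ cdm σ (2 ^ 2) = x2 1 ∧ cdm σ (2 ^ 3) = x3 1 ∧ cdm σ (2 ^ 4) = y4 1 ∧
    cdm σ (2 ^ 5) = x4 1 ∧ cdm σ (2 ^ 6) = x5 1 ∧ cdm σ (2 ^ 7) = y6 1 ∧ cdm σ (2 ^ 8) = x6 1 ∧ cdm σ (2 ^ 9) = x7 1 ∧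
    cdm σ (2 ^ 10) = y8 1 ∧ cdm σ (2 ^ 11) = x8 1 := by
  simp only [cdm, bt, Nat.testBit_two_pow, x1, y2, x2, x3, y4, x4, x5, y6, x6, x7, y8, x8]; simp

namespace Co
variable (h : Co S σ ev)
include h
theorem emul (x y : Bs) : ev (pr σ i (x.mul y)) = ev (pr σ i x) * ev (pr σ i y) := by have := h.cp; rw [pr_mul, h.mul]
theorem einv (x : Bs) : ev (pr σ i x.inv) = (ev (pr σ i x))⁻¹ := by have := h.cp; rw [pr_inv, h.inv]
theorem eone : ev (pr σ i .one) = 1 := by rw [pr_one, h.one]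
theorem emz (m : ℕ) (x r : Bs) : ev (pr σ i (mz m x r)) = pz (bt K i m) (ev (pr σ i x)) * ev (pr σ i r) := by
  rw [mz, beq_rec]; split_ifs with e
  · simp [e, pz, bt_zero]
  rw [h.emul, pz]; congr 1
  cases x
  split_ifs with e
  · rw [h.eq1]; ext <;> simp only [Bs.msk, mk12_eq, pr, bt_an, e, mul_zero] <;> rfl
  · have : bt K i m = 1 := by unfold bt at e ⊢; split_ifs at e ⊢ <;> simp_all
    simp only [Bs.msk, mk12_eq, pr, bt_an, this, mul_one]
theorem eap (T : ℕ → Bs) (x : Bs) : ev (pr σ i (ap T x)) = apG (fun k => ev (pr σ i (T k))) (pr σ i x) := by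
  cases x; simp only [ap, h.emz, h.eone, apG]; rfl
set_option maxRecDepth 4000 in
theorem nfG (hK : ∀ a : K, a = 0 ∨ a = 1) (c : Cd σ) : ev c = apG (lG ev) c := by
  have : ∀ (Y : K → Cd σ), Y 0 = 1 → ∀ a, pz a (ev (Y 1)) = ev (Y a) := fun Y e a => by
    rcases hK a with rfl | rfl <;> simp [pz, e, h.one]
  simp only [apG, lG, lts, this x1 rfl, this y2 rfl, this x2 rfl, this x3 rfl, this y4 rfl, this x4 rfl, this x5 rfl, this y6 rfl,
    this x6 rfl, this x7 rfl, this y8 rfl, this x8 rfl]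
  cs h []
theorem ewd (T : ℕ → Bs) (l : List ℕ) : ev (pr σ i (wd T l)) = (l.map fun k => ev (pr σ i (T k))).prod := by
  induction l with
  | nil => exact h.eone
  | cons k l ih => rw [wd, h.emul, ih, List.map_cons, List.prod_cons]
theorem ewl (l : List ℕ) : ev (pr σ 0 (wd (lt 1) l)) = (l.map (lG ev)).prod := by
  simp only [h.ewd, lt, pr_cst (show Nat.testBit 1 0 = true from rfl)]; rfl
theorem wd_tb (t : Tb ev i g T D) {l : List ℕ} (hl : ∀ k ∈ l, k ∈ D) :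
    g * (l.map (lG ev)).prod * g⁻¹ = ev (pr σ i (wd T l)) := by
  induction l with
  | nil => simp [wd, h.eone]
  | cons k l ih => rw [wd, h.emul, List.map_cons, List.prod_cons, cj_mul', t k (hl k (by simp)), ih fun j hj => hl j (by simp [hj])]
theorem okE_cons {x : ℕ × List ℕ} {l : List (ℕ × List ℕ)} (e : okE D (x :: l) = true) :
    (∀ k ∈ x.2, k ∈ D) ∧ (x.2.map (lG ev)).prod = lG ev x.1 ∧ okE (x.1 :: D) l = true := by
  simp only [okE, Bool.and_eq_true, List.all_eq_true, decide_eq_true_eq, Nat.beq_eq] at e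
  refine ⟨e.1, ?_, e.2.2⟩
  rw [← h.ewl, df_0.1 (by rw [e.2.1]; exact Nat.zero_testBit 0), lt, pr_cst (by rfl), lG]
theorem ext_tb {l : List (ℕ × List ℕ)} (e : okE D l = true) (t : Tb ev i g T D) (k : (ℕ → Bs) → ℕ) :
    ∃ T', FZ.ext T l k = k T' ∧ Tb ev i g T' (dom D l) := by
  induction l generalizing D T with
  | nil => exact ⟨T, rfl, t⟩
  | cons x l ih =>
    obtain ⟨h1, h2, h3⟩ := h.okE_cons e
    refine ih h3 fun j hj => ?_
    rw [upd_eq]; split_ifs with c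
    · rw [c, ← h2, h.wd_tb t h1]
    · exact t j ((List.mem_cons.1 hj).resolve_left c)
theorem ext_mem {l : List (ℕ × List ℕ)} (e : okE D l = true) (t : ∀ k ∈ D, lG ev k ∈ Y) : ∀ k ∈ dom D l, lG ev k ∈ Y := by
  induction l generalizing D with
  | nil => exact t
  | cons x l ih =>
    obtain ⟨h1, h2, h3⟩ := h.okE_cons e
    exact ih h3 (List.forall_mem_cons.2 ⟨h2 ▸ list_prod_mem (List.forall_mem_map.2 fun k hk => t k (h1 k hk)), t⟩)
theorem nrm_tb {l : List ((ℕ → Bs) → Bs)} (hl : ∀ s ∈ l, ∀ W, ev (pr σ i (s W)) ∈ P) (t : Tb ev i g W D) (k : (ℕ → Bs) → ℕ) :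
    ∃ W', nrm D W l k = k W' ∧ ∃ v ∈ P, Tb ev i (v * g) W' D := by
  induction l generalizing g W with
  | nil => exact ⟨W, rfl, 1, one_mem _, by rwa [one_mul]⟩
  | cons s l ih =>
    obtain ⟨W1, h1, h2⟩ := mp_eq (fun j => ((s W).mul (W j)).mul (s W).inv) D fun W' => nrm D W' l k
    obtain ⟨W', h3, v, hv, h4⟩ := ih (g := ev (pr σ i (s W)) * g) (W := W1) (fun s hs => hl s (by simp [hs])) fun j hj => by
      rw [h2 j hj, h.emul, h.emul, h.einv, cj_mul2, t j hj]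
    exact ⟨W', h1.trans h3, _, mul_mem hv (hl s (by simp) W), by rwa [mul_assoc]⟩
end Co

end H22.FZ
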