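/-
Fusion systems on a Sylow 2-subgroup of a Ree group of type `F₄`, part 11: the computations for `q = 2`.
-/
import Cfsg.Agent.H22.FZA

set_option autoImplicit false

namespace H22.FZ
open H26

noncomputable def co (x : Bs) (j : ℕ) : ℕ := nth 0 [x.a, x.b, x.e1, x.e2, x.d, x.e3, x.e4, x.f, x.e5, x.g, x.s, x.t] j
noncomputable def dfT (D : List ℕ) (T W : ℕ → Bs) : ℕ := orL (fun k => df (T k) (W k)) D
noncomputable def shL (L : List (ℕ × ℕ)) (W : ℕ → Bs) : ℕ := orL (fun p => co (W p.1) p.2) L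
noncomputable def tc (o : ℕ) (C : List ℕ) (k : ℕ) : Bs := cst o (nth 0 C k)
/-- the generic element -/
noncomputable def gU : Bs := (fun V => mk12 (V 0) (V 1) (V 2) (V 3) (V 4) (V 5) (V 6) (V 7) (V 8) (V 9) (V 10) (V 11)) (nth 0 (idP 12))
/-- the table defines an injective endomorphism -/
noncomputable def hm (C : List ℕ) : ℕ := frc (full (2 ^ 12)) fun o => fB gU fun U => mp (tc o C) (List.range 12) fun T =>
  fB (ap T U) fun X => Nat.lor (orL (fun k => df (ap T (U.mul (lt o k))) (X.mul (T k))) (List.range 12))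
    (Nat.xor o (Nat.lor (df X .one) 1))

/-- the data of a computation -/
structure Dt where
  (D np : List ℕ)
  E : List (ℕ × List ℕ)
  tab : ℕ → (ℕ → ℕ) → ℕ → Bs
  rel : List (List ℕ × List ℕ)
  m : Bs → Bs
  st : List ((ℕ → Bs) → Bs)
  sh : List (ℕ × ℕ)
  cr : (ℕ → Bs) → ℕ
  ws : List (List ℕ)
  gd : List (List ℕ × ℕ × List ℕ)
namespace Dt
variable (d : Dt)
noncomputable def ts (o : ℕ) (T : ℕ → Bs) (w : List ℕ) : ℕ := mp (fun j => act d.m T o w (lt o j)) d.D fun W =>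
  nrm d.D W d.st fun W' => Nat.land (dfT d.D W' (lt o)) (Nat.xor o (Nat.lor (d.cr W) (shL d.sh W')))
noncomputable def chk : ℕ := frc (full (2 ^ 17)) fun o => mp (d.tab o (nth 0 (idP 17))) d.D fun G => ext G d.E fun T =>
  Nat.xor o (Nat.lor (orL (fun r => df (wd T r.1) (wd T r.2)) d.rel) (Nat.lor (orL (d.ts o T) d.ws)
    (nrm d.D G d.st fun G' => orL (fun x => Nat.xor o (dfT d.D G' (tc o x.1))) d.gd)))
noncomputable def uq : ℕ := frc (full (2 ^ 12)) fun o => fB gU fun U => mp (fun k => cjB U (lt o k)) d.D fun W =>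
  Nat.land (dfT d.D W (lt o)) (Nat.xor o (Nat.lor (orL (co U) d.np) (shL d.sh W)))
noncomputable def al (x : List ℕ × ℕ × List ℕ) : ℕ := Nat.lor (orL (co (cst 1 x.2.1)) d.np)
  (orL (fun k => df (ap (tc 1 x.2.2) (d.m (tc 1 x.1 k))) (d.m (cjB (cst 1 x.2.1) (tc 1 x.2.2 k)))) d.D)
/-- all checks -/
structure Ck : Prop where
  E : okE d.D d.E = true
  cov : ∀ k < 12, k ∈ dom d.D d.E ∨ k ∈ d.np
  D : ∀ k ∈ d.D, k < 12
  rel : ∀ r ∈ d.rel, (∀ k ∈ r.1, k ∈ dom d.D d.E) ∧ (∀ k ∈ r.2, k ∈ dom d.D d.E) ∧ df (wd (lt 1) r.1) (wd (lt 1) r.2) = 0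
  sh : ∀ p ∈ d.sh, p.1 ∈ d.D
  gd : ∀ x ∈ d.gd, d.al x = 0 ∧ hm x.2.2 = 0
  uq : d.uq = 0
  chk : d.chk = 0
end Dt

def idC : List ℕ := [1, 2, 4, 8, 16, 32, 64, 128, 256, 512, 1024, 2048]
noncomputable def dQ : Dt where
  D := [0, 1, 4, 7, 9]
  np := [10, 11]
  E := [(2, [1, 1]), (5, [4, 4]), (8, [7, 7]), (3, [1, 2, 4, 1, 4, 5]), (6, [4, 5, 7, 4, 7, 8])]
  tab o V := nth .one [mk12 o 0 (V 0) (V 1) 0 0 (V 2) 0 0 0 0 0, mk12 0 o (V 6) (V 7) (V 8) 0 (V 9) 0 (V 10) 0 0 0, .one, .one,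
    mk12 0 0 0 0 o (V 16) 0 0 0 0 0 0, .one, .one, mk12 0 0 (V 11) (V 12) (V 13) 0 (V 14) o (V 15) 0 0 0, .one,
    mk12 0 0 0 (V 3) 0 0 (V 4) 0 (V 5) o 0 0]
  rel := [([7, 1], [1, 7]), ([1, 0], [0, 1]), ([9, 7], [7, 9]), ([4, 0], [0, 2, 4]), ([9, 4], [4, 8, 9]), ([7, 0], [0, 2, 3, 7]),
    ([9, 0], [0, 3, 6, 9]), ([9, 1], [1, 5, 6, 8, 9])]
  m := Bs.m0
  st := [fun W => mk12 (W 4).e1 (W 4).e2 0 0 0 0 0 (W 4).e4 0 (W 4).e5 0 0, fun W => mk12 0 0 0 0 (W 0).e1 0 0 0 0 0 0 0,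
    fun W => mk12 0 0 (W 9).e3 (W 7).e3 0 0 (W 1).e3 0 (W 0).e3 0 0 0]
  sh := [(4, 2), (4, 3), (4, 6), (4, 8), (0, 2), (9, 5), (7, 5), (1, 5), (0, 5)]
  cr W := Nat.lor (W 9).a (W 0).g
  ws := [[10, 12, 11, 12, 10, 11, 12]]
  gd := [(idC, 0, idC), ([65, 258, 0, 0, 16, 0, 0, 132, 0, 520], 0, [65, 258, 4, 8, 16, 32, 64, 128, 256, 512, 1280, 2048])]
noncomputable def dR : Dt where
  D := [1, 4, 10]
  np := [0]
  E := [(2, [1, 1]), (5, [4, 4]), (11, [10, 10]), (3, [1, 2, 4, 1, 4, 5]), (7, [4, 3, 1, 2, 10, 1, 10, 11]), (8, [7, 7]),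
    (6, [4, 5, 7, 4, 7, 8]), (9, [7, 8, 10, 7, 10, 11])]
  tab o V := nth .one [.one, mk12 0 o (V 0) (V 1) (V 2) (V 3) (V 4) (V 5) (V 6) (V 7) 0 0, .one, .one,
    mk12 0 0 0 0 o (V 16) 0 0 0 0 0 0, .one, .one, .one, .one, .one,
    mk12 0 0 0 (V 8) (V 9) (V 10) (V 11) (V 12) (V 13) (V 14) o (V 15)]
  rel := [([7, 1], [1, 7]), ([10, 4], [4, 10])]
  m := Bs.m1
  st := [fun W => mk12 0 (W 4).e2 0 0 0 0 0 (W 4).e4 0 (W 4).e5 0 0, fun W => mk12 0 0 0 0 0 0 0 0 0 0 (W 1).f 0,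
    fun W => mk12 0 0 0 0 0 0 0 0 0 0 0 (W 1).g, fun W => mk12 0 0 0 0 (W 1).e2 0 0 0 0 0 0 0,
    fun W => mk12 0 0 (W 10).e2 0 0 0 0 0 0 0 0 0, fun W => mk12 0 0 0 (W 10).e4 0 0 (W 1).e3 0 0 0 0 0]
  sh := [(4, 3), (4, 6), (4, 8), (1, 7), (1, 9), (1, 3), (1, 5), (10, 3), (10, 6)]
  cr W := fB ((W 1).mul (W 1)) fun x => fB ((W 10).mul (W 10)) fun y => Nat.lor (Nat.lor x.s x.t) (Nat.lor y.b y.e1)
  ws := [[12, 12], [0, 12, 0, 12, 0, 12]]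
  gd := List.map (fun x : (ℕ × ℕ × ℕ) × ℕ × List ℕ => ([0, x.1.1, 0, 0, x.1.2.1, 0, 0, 0, 0, 0, x.1.2.2], x.2))
    [((2, 16, 1024), 0, idC), ((22, 16, 3376), 1376, [13, 6, 4, 8, 48, 32, 64, 384, 256, 832, 1040, 2080]),
    ((66, 48, 1312), 40, [1, 2, 4, 8, 48, 32, 64, 128, 256, 512, 1344, 2304]),
    ((86, 48, 3344), 1352, [13, 6, 4, 8, 16, 32, 64, 384, 256, 832, 1360, 2336]),
    ((258, 16, 1056), 0, [1, 2, 4, 8, 16, 32, 64, 128, 256, 512, 1056, 2048]),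
    ((278, 16, 3344), 1376, [13, 6, 4, 8, 48, 32, 64, 384, 256, 832, 1072, 2080]),
    ((322, 48, 1280), 800, [1, 34, 4, 8, 48, 32, 64, 160, 256, 512, 1024, 2048]),
    ((342, 48, 3376), 1776, [9, 46, 4, 8, 16, 32, 64, 480, 256, 576, 1040, 2080])]

theorem ckQ : dQ.Ck := ⟨by decide +kernel, by decide +kernel, by decide +kernel, by decide +kernel, by decide +kernel,
  by decide +kernel, by decide +kernel, by decide +kernel⟩
theorem ckR : dR.Ck := ⟨by decide +kernel, by decide +kernel, by decide +kernel, by decide +kernel, by decide +kernel,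
  by decide +kernel, by decide +kernel, by decide +kernel⟩
theorem ckQR : ∀ x ∈ dR.gd, dQ.al (idC, 0, x.2.2) = 0 := by decide +kernel

end H22.FZ
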