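/-
Fusion systems on a Sylow 2-subgroup of a Ree group of type `F₄`, part 12: soundness of the computations for `q = 2`.
-/
import Cfsg.Agent.H22.FZB

set_option autoImplicit false
set_option linter.unusedSectionVars false

namespace H22.FZ
open Subgroup H25 H25.FS Cd H26
variable {Γ : Type*} [Group Γ] [Finite Γ] {K : Type*} [Field K] [Finite K] {σ : K →+* K} {S P A J Y : Subgroup Γ}
  {ev : Cd σ → Γ} {c c' : Cd σ} {g g' n r u v w β γ M : Γ} {i j o : ℕ} {T W : ℕ → Bs} {x : Bs} {ρ ρ' : ℕ → Γ} {d : Dt}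

def cco (c : Cd σ) (j : ℕ) : K := [c.a, c.b, c.e1, c.e2, c.d, c.e3, c.e4, c.f, c.e5, c.g, c.s, c.t].getD j 0
theorem bt_co (x : Bs) (j : ℕ) : bt K i (co x j) = cco (pr σ i x) j := by
  rw [co, nth_eq_getD, ← List.getD_map (f := bt K i), bt_zero]; rfl
theorem apG_eq (ρ : ℕ → Γ) (c : Cd σ) : apG ρ c = ((List.range 12).map fun k => pz (cco c k) (ρ k)).prod := rfl
theorem apG_congr (h : ∀ k < 12, cco c k ≠ 0 → ρ k = ρ' k) : apG ρ c = apG ρ' c := by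
  rw [apG_eq, apG_eq, List.map_congr_left fun k hk => ?_]
  unfold pz; split_ifs with e; exacts [rfl, h k (List.mem_range.1 hk) e]
theorem apG_mem' (h : ∀ k < 12, cco c k ≠ 0 → ρ k ∈ Y) : apG ρ c ∈ Y := by
  refine apG_eq ρ c ▸ list_prod_mem (List.forall_mem_map.2 fun k hk => ?_)
  unfold pz; split_ifs with e; exacts [one_mem _, h k (List.mem_range.1 hk) e]
theorem ex_gU (hK : ∀ a : K, a = 0 ∨ a = 1) (c : Cd σ) : ∃ i, (full (2 ^ 12)).testBit i = true ∧ (i = 0 → c = 1) ∧ pr σ i gU = c :=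
  let ⟨i, h1, h2, k⟩ := ex_lane 12 (cco c) fun _ => hK _
  ⟨i, h1, fun e => let k := h2 e; Cd.ext (k 0 (by decide)) (k 1 (by decide)) (k 2 (by decide)) (k 3 (by decide)) (k 4 (by decide))
    (k 5 (by decide)) (k 6 (by decide)) (k 7 (by decide)) (k 8 (by decide)) (k 9 (by decide)) (k 10 (by decide)) (k 11 (by decide)),
    Cd.ext (k 0 (by decide)) (k 1 (by decide)) (k 2 (by decide)) (k 3 (by decide)) (k 4 (by decide))
    (k 5 (by decide)) (k 6 (by decide)) (k 7 (by decide)) (k 8 (by decide)) (k 9 (by decide)) (k 10 (by decide)) (k 11 (by decide))⟩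
theorem tb0 {x : ℕ} (e : x = 0) (i : ℕ) : x.testBit i = false := by rw [e]; exact Nat.zero_testBit i
theorem Co.elt (_ : Co S σ ev) (ho : o.testBit i = true) (k : ℕ) : ev (pr σ i (lt o k)) = lG ev k := by rw [lt, pr_cst ho, lG]
theorem dfT_0 {D : List ℕ} : (dfT D T W).testBit i = false ↔ ∀ j ∈ D, pr σ i (T j) = pr σ i (W j) :=
  orL_0.trans (forall₂_congr fun _ _ => df_0)
/-- the element given by a word -/
def wG (ev : Cd σ → Γ) (n : Γ) (w : List ℕ) : Γ := (w.map fun k => if k = 12 then n else lG ev k).prod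

theorem Co.ecj (h : Co S σ ev) (x y : Bs) : ev (pr σ i (cjB x y)) = ev (pr σ i x) * ev (pr σ i y) * (ev (pr σ i x))⁻¹ := by
  rw [cjB, h.emul, h.emul, h.einv]
theorem Co.wA (h : Co S σ ev) (hA : S ≤ A) (hn : n ∈ A) (w : List ℕ) : wG ev n w ∈ A :=
  list_prod_mem (List.forall_mem_map.2 fun k _ => by split_ifs; exacts [hn, hA (h.mS _)])
theorem Co.eT (h : Co S σ ev) (hK : ∀ a : K, a = 0 ∨ a = 1) (t : ∀ k < 12, cco (pr σ i x) k ≠ 0 → g * lG ev k * g⁻¹ = ev (pr σ i (T k))) :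
    g * ev (pr σ i x) * g⁻¹ = ev (pr σ i (ap T x)) := by
  rw [h.nfG hK, cj_apG, h.eap]; exact apG_congr t
theorem Co.exγ (h : Co S σ ev) (hK : ∀ a : K, a = 0 ∨ a = 1)
    (hg : ∀ f : S →* Γ, Function.Injective f → (∀ x, f x ∈ S) → ∃ g, ∀ a, f a = g * a * g⁻¹) {C : List ℕ} (e : hm C = 0) :
    ∃ γ ∈ nz S, ∀ j < 12, γ * lG ev j * γ⁻¹ = ev (cdm σ (nth 0 C j)) := by
  have X := ex_gU (σ := σ) hK
  rw [hm, frc_eq, fB_eq] at e
  generalize full (2 ^ 12) = o at e X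
  obtain ⟨T, e1, hT⟩ := mp_eq (tc o C) (List.range 12) _
  replace e := fun i => tb0 (e1.symm.trans e) i
  simp only [fB_eq, tb_lor, tb_xor, Bool.or_eq_false_iff, orL_0, List.mem_range] at e hT
  let φ := Function.extend ev (apG fun k => ev (cdm σ (nth 0 C k))) 1
  have t : ∀ i, o.testBit i = true → ∀ k < 12, ev (pr σ i (T k)) = ev (cdm σ (nth 0 C k)) := fun i ho k hk => by
    rw [hT k hk, tc, pr_cst ho]
  have f : ∀ i, o.testBit i = true → ∀ x, φ (ev (pr σ i x)) = ev (pr σ i (ap T x)) := fun i ho x => by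
    rw [h.eap]; exact (h.inj.extend_apply _ _ _).trans (apG_congr fun k hk _ => (t i ho k hk).symm)
  have m : ∀ k < 12, ∀ x ∈ S, φ (x * lG ev k) = φ x * ev (cdm σ (nth 0 C k)) := fun k hk x hx => by
    obtain ⟨c, -, rfl⟩ := h.ex hx
    obtain ⟨i, ho, -, rfl⟩ := X c
    rw [← h.elt ho, ← h.emul, f i ho, f i ho, df_0.1 ((e i).1 k hk), h.emul, t i ho k hk]
  have o1 : φ 1 = 1 := by
    rw [← h.one]; exact (h.inj.extend_apply _ _ _).trans ((apG_congr (ρ' := fun _ => 1) fun k hk c => by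
      interval_cases k <;> exact (c rfl).elim).trans (by simp [apG, pz, h.one]))
  let Y : Submonoid Γ := ⟨⟨{y | y ∈ S ∧ ∀ x ∈ S, φ (x * y) = φ x * φ y}, fun {a b} ha hb => ⟨mul_mem ha.1 hb.1, fun x hx => by
    rw [← mul_assoc, hb.2 _ (mul_mem hx ha.1), ha.2 x hx, hb.2 a ha.1, mul_assoc]⟩⟩, one_mem _, fun x _ => by simp [o1]⟩
  have l : ∀ k < 12, φ (lG ev k) = ev (cdm σ (nth 0 C k)) := fun k hk => by simpa [o1] using m k hk 1 (one_mem _)
  have y : ∀ y ∈ S, y ∈ Y := fun y hy => by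
    obtain ⟨c, -, rfl⟩ := h.ex hy
    rw [h.nfG hK]
    exact apG_mem (Y := Y) (fun k hk => ⟨h.mS _, fun x hx => (m k hk x hx).trans (congrArg _ (l k hk).symm)⟩) c
  have s : ∀ x : S, φ x ∈ S ∧ (φ x = 1 → x = 1) := fun ⟨x, hx⟩ => by
    obtain ⟨c, -, rfl⟩ := h.ex hx
    obtain ⟨i, ho, i0, rfl⟩ := X c
    refine ⟨f i ho _ ▸ h.mS _, fun k => Subtype.ext (h.eq1.2 (i0 ?_))⟩
    have := (e i).2
    rw [ho, df_0.2 (h.inj ((f i ho _).symm.trans (k.trans h.eone.symm)))] at this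
    exact Nat.testBit_one_eq_true_iff_self_eq_zero.1 (by simpa using this)
  obtain ⟨γ, k⟩ := hg (MonoidHom.mk' (fun x => φ x) fun a b => (y b b.2).2 a a.2)
    ((injective_iff_map_eq_one _).2 fun x => (s x).2) fun x => (s x).1
  exact ⟨γ, mem_nz_of_conj_mem fun x hx => k ⟨x, hx⟩ ▸ (s ⟨x, hx⟩).1, fun j hj => (k ⟨_, h.mS _⟩).symm.trans (l j hj)⟩

/-- the meaning of the data -/
structure Dt.Ok (d : Dt) (h : Co S σ ev) (P : Subgroup Γ) (M : Γ) : Prop extends d.Ck where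
  np : ∀ c, ev c ∈ P ↔ ∀ j ∈ d.np, cco c j = 0
  DP : ∀ k ∈ d.D, lG ev k ∈ P
  m : ∀ i x, ev (pr σ i x) ∈ P → M * ev (pr σ i x) * M⁻¹ = ev (pr σ i (d.m x))
  st : ∀ i, ∀ s ∈ d.st, ∀ W, ev (pr σ i (s W)) ∈ P
  cr : ∀ i g W, g ∈ nz P → Tb ev i g W d.D → (d.cr W).testBit i = false → g ∈ h.I7 P ∧ M * g * M⁻¹ ∈ h.I7 P
  tab : ∀ β ∈ h.I7 P, M * β * M⁻¹ ∈ h.I7 P → ∃ v ∈ P, ∃ a : ℕ → K, ∀ i o V, bt K i o = 1 → (∀ j < 17, bt K i (V j) = a j) →
    Tb ev i (v * β) (d.tab o V) d.D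

namespace Dt.Ok
variable {h : Co S σ ev} (k : d.Ok h P M) (hK : ∀ a : K, a = 0 ∨ a = 1) (p : Pd h P M J r)
include k
theorem dm (hc : ev c ∈ P) (hj : j < 12) (e : cco c j ≠ 0) : j ∈ dom d.D d.E := (k.cov j hj).resolve_right fun a => e ((k.np c).1 hc j a)
include hK p
theorem agr (e : ∀ j ∈ d.D, g * lG ev j * g⁻¹ = g' * lG ev j * g'⁻¹) : Agree P g g' := fun x hx => by
  obtain ⟨c, -, rfl⟩ := h.ex (p.le hx)
  change ev c ∈ (MulAut.conj g).toMonoidHom.eqLocus (MulAut.conj g').toMonoidHom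
  rw [h.nfG hK]
  exact apG_mem' fun j hj a => h.ext_mem k.E e j (k.dm hx hj a)
theorem eact (t : Tb ev i β T (dom d.D d.E)) (hβ : β ∈ nz P) (ho : o.testBit i = true) (hx : ev (pr σ i x) ∈ P) (w : List ℕ) :
    wG ev (M * β) w * ev (pr σ i x) * (wG ev (M * β) w)⁻¹ = ev (pr σ i (act d.m T o w x)) := by
  induction w with
  | nil => simp [wG, act]
  | cons a w ih =>
    have m := ih ▸ conj_mem_of_mem_nz (h.wA p.Sn (mul_mem p.Mn hβ) w) hx
    rw [show wG ev (M * β) (a :: w) = (if a = 12 then M * β else lG ev a) * wG ev (M * β) w from rfl, cj_mul2, ih, act, beq_rec]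
    split_ifs
    · have := h.eT hK fun j hj e => t j (k.dm m hj e)
      rw [cj_mul2, this, k.m i _ (this ▸ conj_mem_of_mem_nz hβ m)]
    · rw [h.ecj, h.elt ho]
theorem uq' (hu : u ∈ P) (e : Agree P g u) (t : Tb ev i g W d.D) (ho : o.testBit i = true) (sh : (shL d.sh W).testBit i = false) :
    (dfT d.D W (lt o)).testBit i = false := by
  obtain ⟨c, -, rfl⟩ := h.ex (p.le hu)
  obtain ⟨i', ho', -, rfl⟩ := ex_gU hK c
  have q := k.uq
  rw [Dt.uq, frc_eq, fB_eq] at q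
  generalize full (2 ^ 12) = o' at q ho'
  obtain ⟨W', e1, hW⟩ := mp_eq (fun k => cjB gU (lt o' k)) d.D _
  replace q := tb0 (e1.symm.trans q) i'
  have w : ∀ j ∈ d.D, pr σ i (W j) = pr σ i' (W' j) := fun j hj => h.inj (by
    rw [← t j hj, e _ (k.DP j hj), hW j hj, h.ecj, h.elt ho'])
  rw [tb_land, tb_xor, tb_lor, ho', orL_0.2 fun j hj => bt_0.1 ((bt_co gU j).trans ((k.np _).1 hu j hj)), shL, orL_0.2 fun a ha =>
    bt_0.1 (by rw [bt_co (σ := σ), ← w _ (k.sh a ha), ← bt_co, bt_0]; exact orL_0.1 sh a ha)] at q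
  refine (dfT_0 (σ := σ)).2 fun j hj => ?_
  rw [w j hj, dfT_0.1 (by simpa using q) j hj, lt, lt, pr_cst ho, pr_cst ho']
theorem main (e : Es S P A) (inn : ∀ g ∈ A, g ∈ h.I7 P → M * g * M⁻¹ ∈ h.I7 P → ∃ u ∈ P, Agree P g u) :
    ∃ n ∈ A, ∃ x ∈ d.gd, ∀ j ∈ d.D, M * n * lG ev j * (M * n)⁻¹ = ev (cdm σ (nth 0 x.1 j)) := by
  obtain ⟨n, i0, -, h1, h2⟩ := p.exU e
  have MM : ∀ a, M * (M * a) = a := fun a => by rw [← mul_assoc, p.MM, one_mul]
  obtain ⟨v, hv, a, t⟩ := k.tab _ h1 (by rwa [MM, p.Mi])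
  have mA : ∀ β, M * β ∈ A → ∀ v ∈ P, M * (v * β) ∈ A := fun β hβ v hv => by
    simpa [mul_assoc] using mul_mem (e.PA (le_ai_self P (conj_mem_of_mem_nz p.Mn hv))) hβ
  have bA := mA _ ((MM n).symm ▸ i0.mem) v hv
  generalize v * (M * n) = β at t bA
  have bn : β ∈ nz P := (mul_mem_cancel_left p.Mn).1 (e.An bA)
  obtain ⟨i, ho, -, hi⟩ := ex_lane 17 a fun _ => hK _
  have q := k.chk
  rw [chk, frc_eq] at q
  generalize full (2 ^ 17) = o at q ho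
  obtain ⟨G, e1, hG⟩ := mp_eq (d.tab o (nth 0 (idP 17))) d.D _
  rw [e1] at q
  have tG : Tb ev i β G d.D := fun j hj => hG j hj ▸ t i o _ (if_pos ho) hi j hj
  obtain ⟨T, e2, tT⟩ := h.ext_tb k.E tG _
  obtain ⟨G', e3, v, hv, tG'⟩ := h.nrm_tb (k.st i) tG fun G' => orL (fun x => Nat.xor o (dfT d.D G' (tc o x.1))) d.gd
  replace q := tb0 (e2.symm.trans q) i
  rw [tb_xor, tb_lor, tb_lor, ho, e3, orL_0.2 fun r hr => (df_0 (σ := σ)).2 (h.inj ?_), orL_0.2 fun w _ => ?_] at q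
  · by_contra c
    rw [orL_0.2 fun x hx => ?_] at q
    · simp at q
    rw [tb_xor, ho]
    refine by_contra fun c' => c ⟨_, mA β bA v hv, x, hx, fun j hj => ?_⟩
    rw [MM, tG' j hj, dfT_0.1 (by simpa using c') j hj, tc, pr_cst ho]
  · obtain ⟨W, e4, hW⟩ := mp_eq (fun j => act d.m T o w (lt o j)) d.D _
    have tW : Tb ev i (wG ev (M * β) w) W d.D := fun j hj => by
      rw [hW j hj, ← k.eact hK p tT bn ho (h.elt ho j ▸ k.DP j hj), h.elt ho]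
    have gA := h.wA (fun s hs => e.mA hs (p.Sn hs)) bA w
    obtain ⟨W', e5, v, hv, tW'⟩ := h.nrm_tb (k.st i) tW _
    rw [ts, e4, e5, tb_land, tb_xor, tb_lor, ho]
    cases c1 : (d.cr W).testBit i
    · cases c2 : (shL d.sh W').testBit i
      · obtain ⟨u, hu, ag⟩ := (k.cr i _ W (e.An gA) tW c1).elim (inn _ gA)
        rw [k.uq' hK p (mul_mem hv hu) (ag.mul_left v) tW' ho c2]; rfl
      · simp
    · simp
  · obtain ⟨r1, r2, r3⟩ := k.rel r hr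
    rw [← h.wd_tb tT r1, ← h.wd_tb tT r2, ← h.ewl, ← h.ewl, df_0.1 (tb0 r3 0)]
theorem algn {x : List ℕ × ℕ × List ℕ} (a : d.al x = 0) (hγ : γ ∈ nz S) (tγ : ∀ j < 12, γ * lG ev j * γ⁻¹ = ev (cdm σ (nth 0 x.2.2 j)))
    (hA : ai P P ≤ A) (An : A ≤ nz P) (hn : n ∈ A) (t : ∀ j ∈ d.D, M * n * lG ev j * (M * n)⁻¹ = ev (cdm σ (nth 0 x.1 j))) :
    M ∈ cj γ A := by
  replace a := tb0 a 0
  have o : Nat.testBit 1 0 = true := rfl
  rw [al, tb_lor, Bool.or_eq_false_iff, orL_0, orL_0] at a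
  have hv : ev (pr σ 0 (cst 1 x.2.1)) ∈ P := (k.np _).2 fun j hj => by rw [← bt_co, bt_0]; exact a.1 j hj
  have γP := h.I7n (p.nI hγ)
  have tγ' : ∀ j < 12, γ * lG ev j * γ⁻¹ = ev (pr σ 0 (tc 1 x.2.2 j)) := fun j hj => by rw [tγ j hj, tc, pr_cst o]
  have ag : Agree P (γ * n) (M * ev (pr σ 0 (cst 1 x.2.1)) * γ) := k.agr hK p fun j hj => by
    have t1 : M * n * lG ev j * (M * n)⁻¹ = ev (pr σ 0 (tc 1 x.1 j)) := by rw [t j hj, tc, pr_cst o]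
    have t2 := k.m 0 _ (t1 ▸ conj_mem_of_mem_nz (mul_mem p.Mn (An hn)) (k.DP j hj))
    rw [← t1, ← cj_mul2, ← mul_assoc, p.MM, one_mul] at t2
    have t3 := tγ' j (k.D j hj)
    rw [cj_mul2, t2, h.eT hK fun j hj _ => tγ' j hj, df_0.1 (a.2 j hj), cj_mul2, cj_mul2, t3, ← h.ecj, k.m]
    rw [h.ecj, ← t3]
    exact mul_mem (mul_mem hv (conj_mem_of_mem_nz γP (k.DP j hj))) (inv_mem hv)
  have := (ag.mul_left γ⁻¹).symm.mem_of_cz_le ((cz_le_ai P P).trans hA) (by rwa [inv_mul_cancel_left])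
  rw [mem_cj]
  simpa [mul_assoc] using mul_mem this (inv_mem (hA (le_ai_self P (conj_mem_of_mem_nz' γP hv))))
end Dt.Ok

end H22.FZ
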