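/-
Fusion systems on a Sylow 2-subgroup of a Ree group of type `F₄`, part 13: the case `q = 2`.
-/
import Cfsg.Agent.H22.FZC

set_option autoImplicit false
set_option linter.unusedSectionVars false

namespace H22.FZ
open Subgroup H25 H25.FS Cd H26
variable {Γ : Type*} [Group Γ] [Finite Γ] {K : Type*} [Field K] [Finite K] {σ : K →+* K} {S P A J Y L : Subgroup Γ}
  {ev : Cd σ → Γ} {c c' z : Cd σ} {g n r u v w β γ M M0 M1 : Γ} {F : FS Γ} {d : Dt}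

theorem cm2 (hP : g ∈ nz P) (hY : g ∈ nz Y) (k : ∀ x ∈ P, ∀ y ∈ P, x ∉ Y → y ∉ Y → x * y⁻¹ ∈ Y) : Cm g P Y := fun y hy => by
  by_cases c : y ∈ Y
  exacts [mul_mem (conj_mem_of_mem_nz hY c) (inv_mem c), k _ (conj_mem_of_mem_nz hP hy) y hy (not_cj hY c) c]
theorem sw (hM : M⁻¹ = M) (h1 : M * u * M⁻¹ = v) (h2 : M * β * M⁻¹ * u * (M * β * M⁻¹)⁻¹ = w) : β * v * β⁻¹ = M * w * M⁻¹ := by
  rw [← h1, ← h2, show M * (M * β * M⁻¹ * u * (M * β * M⁻¹)⁻¹) * M⁻¹ = M * M * β * (M⁻¹ * u * M) * β⁻¹ * (M * M)⁻¹ by group,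
    mul_eq_one_iff_inv_eq.2 hM, hM]; simp
theorem sw' (hM : M⁻¹ = M) (h1 : M * u * M⁻¹ = v) : M * β * M⁻¹ * v * (M * β * M⁻¹)⁻¹ = M * (β * u * β⁻¹) * M⁻¹ := by
  rw [← h1]; group
theorem Pd.mI {h : Co S σ ev} (p : Pd h P M J r) (hv : v ∈ P) (k : β ∈ h.I7 P ∧ M * β * M⁻¹ ∈ h.I7 P) :
    v * β ∈ h.I7 P ∧ M * (v * β) * M⁻¹ ∈ h.I7 P := ⟨mul_mem (p.aI (le_ai_self P hv)) k.1,
  cj_mul' M v β ▸ mul_mem (p.aI (le_ai_self P (conj_mem_of_mem_nz p.Mn hv))) k.2⟩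

macro "i2" h:term:max k:term:max : tactic => `(tactic| (
  intro x hx y hy
  ob $h hx c hc
  ob $h hy c' hc'
  first | cs $h [hc, hc'] | cs $h []
  exact $k))

namespace Co
variable (h : Co S σ ev) (hK : ∀ a : K, a = 0 ∨ a = 1)
include h hK
theorem aS (hF : F.Sat 2) (e : F.S = S) : F.A S = ai S S := by
  have a := h.au hF e h.lZ6 le_rfl (le_nz_self S)
  have k : ∀ {a b : K}, ¬ a = 0 → ¬ b = 0 → a + b = 0 := fun x y => by rw [(hK _).resolve_left x, (hK _).resolve_left y, h.aa]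
  refine (a.syl.eq_of_pel (cz_le_ai _ _) (a.An.trans (nz_le_nz_cz S)) fun g hg => ?_).symm
  replace hg := a.An hg
  obtain ⟨i, r, -⟩ := h.gS hg
  have n7 : g ∈ nz h.Z7 := inf_of_le_right h.lZ7 ▸ h.I77 i
  have n0 := (h.rD (h.I7n r)).2.2.1
  have n4 := nz_of_cz (fun _ => h.k4 h.lC4 le_rfl) hg (h.I74 i)
  refine kk_pel (l := [h.R, h.Z7, h.R0, h.Z6, h.C4, h.Z5, h.E, h.Z4, h.W, h.Z2, h.Z1]) a.pg ?_ (kk_mem ?_ hg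
    ⟨cm2 hg (h.I7n r) (by i2 h k), cm2 (h.I7n r) n7 (by i2 h k), cm2 n7 n0 (by i2 h k), cm2 n0 (h.I76 i) (by i2 h k),
      cm2 (h.I76 i) n4 (by i2 h k), cm2 n4 (h.I75 i) (by i2 h k), cm2 (h.I75 i) (h.I7E i) (by i2 h k),
      cm2 (h.I7E i) (h.I74 i) (by i2 h k), cm2 (h.I74 i) (h.I7W i) (by i2 h k), cm2 (h.I7W i) (h.I72 i) (by i2 h k),
      cm2 (h.I72 i) (h.I71 i) (by i2 h k), (cm2 (h.I71 i) (nz_bot g) (by simp only [mem_bot]; i2 h k)).mono le_rfl bot_le⟩) <;>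
    simp only [List.forall_mem_cons, List.not_mem_nil, false_imp_iff, implies_true, and_true]
  · exact ⟨h.lR, h.lZ7, h.lR0, h.lZ6, h.lC4, h.lZ5, h.lE, h.lZ4, h.lW, h.lZ2, h.lZ1⟩
  · exact ⟨h.I7n r, n7, n0, h.I76 i, n4, h.I75 i, h.I7E i, h.I74 i, h.I7W i, h.I72 i, h.I71 i⟩
theorem inn (hF : F.Sat 2) (e : F.S = S) (p : Pd h P M J r) (hg : g ∈ F.A P) (h1 : g ∈ h.I7 P) (h2 : M * g * M⁻¹ ∈ h.I7 P) :
    ∃ u ∈ P, Agree P g u := by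
  obtain ⟨k, hk, a⟩ := h.ext hF e p.h6 p.le p.Sn hg h1
  obtain ⟨-, s, hs, b⟩ := mem_ai.1 (h.aS hK hF e ▸ hk)
  have c := a.symm.trans (b.mono p.le)
  exact ⟨s, p.j5 s hs ((mem_nz.1 p.Mn ▸ c.symm.conj M :).mem_of_cz_le (h.CI p.h6) h2), c⟩
theorem s4 (h1 : h.CE ≤ P) (h2 : P ≤ S) (hg : g ∈ h.I7 P) :
    ∃ z : Cd σ, g * ev (y4 1) * g⁻¹ = ev ⟨0, 0, z.e1, z.e2, 1, z.e3, z.e4, 0, z.e5, 0, 0, 0⟩ := by
  obtain ⟨z, hz, e⟩ := conj_mem_of_mem_nz (nz_of_cz (fun _ => h.kC h1 h2) (h.I7n hg) (h.I7E hg)) (show ev (y4 1) ∈ h.CE by cs h [])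
  have := not_cj (w := ev (y4 1)) (h.I7E hg) (by cs h []; simp)
  rw [e] at this ⊢
  exact ⟨z, by cs h [hz] at this ⊢; exact (hK _).resolve_left this⟩
omit hK in
theorem n4' (e : β * ev (y4 1) * β⁻¹ = ev ⟨0, 0, z.e1, z.e2, 1, z.e3, z.e4, 0, z.e5, 0, 0, 0⟩) :
    ∃ y, ev ⟨z.e1, z.e2, 0, 0, 0, 0, 0, z.e4, 0, z.e5, 0, 0⟩ * β * ev (y4 1) *
      (ev ⟨z.e1, z.e2, 0, 0, 0, 0, 0, z.e4, 0, z.e5, 0, 0⟩ * β)⁻¹ = ev ⟨0, 0, 0, 0, 1, y, 0, 0, 0, 0, 0, 0⟩ := by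
  rw [cj_mul2, e, h.inv, h.mul, h.mul]
  generalize hc : (_ * _ : Cd σ) = c
  exact ⟨c.e3, by subst hc; cs h []; cg2 h⟩
theorem s9 (hg : g ∈ h.I7 h.Q) : ∃ z : Cd σ, g * ev (x7 1) * g⁻¹ = ev ⟨0, 0, 0, z.e2, 0, z.e3, z.e4, 0, z.e5, 1, 0, 0⟩ := by
  have := not_cj (w := ev (x7 1)) (h.I7E hg) (by cs h []; simp)
  obtain ⟨z, hz, e⟩ := (h.iQ ((by sl h : h.Z5 ≤ h.QR) (conj_mem_of_mem_nz (h.I75 hg) (by cs h [])))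
    (sq_cj (h.sqD (by cs h [])) g)).resolve_left this
  rw [e] at this ⊢
  exact ⟨z, by cs h [hz] at this ⊢; exact (hK _).resolve_left this⟩
theorem s7 (hg : g ∈ h.I7 h.Q) : ∃ z : Cd σ, g * ev (y6 1) * g⁻¹ = ev ⟨0, 0, z.e1, z.e2, z.d, z.e3, z.e4, 1, z.e5, z.g, 0, 0⟩ := by
  obtain ⟨z, hz, e⟩ := conj_mem_of_mem_nz (h.I76 hg) (show ev (y6 1) ∈ h.Z6 by cs h [])
  have := not_cj (w := ev (y6 1)) (nz_of_cz (fun _ => h.k4 (by sl h) h.lQ) (h.I7n hg) (h.I74 hg)) (by cs h []; simp)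
  rw [e] at this ⊢
  exact ⟨z, by cs h [hz] at this ⊢; exact (hK _).resolve_left this⟩
theorem s1 (hg : g ∈ h.I7 h.R) : ∃ z : Cd σ, g * ev (y2 1) * g⁻¹ = ev ⟨0, 1, z.e1, z.e2, z.d, z.e3, z.e4, z.f, z.e5, z.g, 0, 0⟩ := by
  obtain ⟨z, hz, e⟩ := conj_mem_of_mem_nz (nz_of_char (Y := h.QR) (fun w => ⟨fun k => ⟨(by sl h : h.QR ≤ h.R) k,
    h.cQE w ((by sl h : h.QR ≤ h.Q) k)⟩, fun k => h.mr ((h.kQ h.lQ le_rfl).2 ⟨h.lR k.1, k.2⟩) k.1⟩) (h.I7n hg) (h.I7E hg) (h.I71 hg))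
    (show ev (y2 1) ∈ h.QR by cs h [])
  have := not_cj (w := ev (y2 1)) (h.I76 hg) (by cs h []; simp)
  rw [e] at this ⊢
  exact ⟨z, by cs h [hz] at this ⊢; exact (hK _).resolve_left this⟩
end Co

namespace Mx
variable (h : Mx S σ ev M0 M1) (hK : ∀ a : K, a = 0 ∨ a = 1)
include h hK
theorem shQ (k : β ∈ h.I7 h.Q ∧ M0 * β * M0⁻¹ ∈ h.I7 h.Q) : ∃ c0 c1 c7 c9 : Cd σ,
    β * ev (x1 1) * β⁻¹ = ev ⟨1, 0, c0.e1, c0.e2, 0, c0.e3, c0.e4, 0, 0, 0, 0, 0⟩ ∧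
    β * ev (y2 1) * β⁻¹ = ev ⟨0, 1, c1.e1, c1.e2, c1.d, c1.e3, c1.e4, 0, c1.e5, 0, 0, 0⟩ ∧
    β * ev (y6 1) * β⁻¹ = ev ⟨0, 0, c7.e1, c7.e2, c7.d, c7.e3, c7.e4, 1, c7.e5, 0, 0, 0⟩ ∧
    β * ev (x7 1) * β⁻¹ = ev ⟨0, 0, 0, c9.e2, 0, c9.e3, c9.e4, 0, c9.e5, 1, 0, 0⟩ := by
  obtain ⟨c9, e9⟩ := h.s9 hK k.1
  obtain ⟨c7, e7⟩ := h.s7 hK k.1
  obtain ⟨c0, e0⟩ := h.s9 hK k.2
  obtain ⟨c1, e1⟩ := h.s7 hK k.2
  have q : ∀ {g}, g ∈ h.I7 h.Q → g * ev (y2 1) * g⁻¹ ∈ h.QR := fun hg =>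
    conj_mem_of_mem_nz (h.lr ▸ h.I77 hg) (by cs h.toCo [])
  obtain ⟨z, hz, e2⟩ := q k.2
  replace e0 := sw (v := ev (x1 1)) h.i0 (by rw [h.f0 _ rfl rfl]; cs h.toCo [m0]) e0
  replace e1 := sw (v := ev (y2 1)) h.i0 (by rw [h.f0 _ rfl rfl]; cs h.toCo [m0]) e1
  replace e2 := sw (v := ev (y6 1)) h.i0 (by rw [h.f0 _ rfl rfl]; cs h.toCo [m0]) e2
  have e3 := q k.1
  rw [h.f0 _ rfl rfl] at e0 e1
  rw [h.f0 _ hz.2.1 hz.2.2, e7, h.inj.eq_iff] at e2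
  rw [e1, h.mQR] at e3
  have : c7.g = 0 := (congrArg Cd.g e2).trans hz.1
  have g1 : c1.g = 0 := e3.1
  generalize h0 : m0 (σ := σ) _ = z0 at e0
  generalize h1 : m0 (σ := σ) _ = z1 at e1
  exact ⟨z0, z1, c7, c9, e0.trans (by subst h0; cs h.toCo [m0]), e1.trans (by subst h1; cs h.toCo [m0, g1]), by rw [e7, this], e9⟩
theorem okQ : dQ.Ok h.toCo h.Q M0 where
  toCk := ckQ
  np c := by rw [h.mQ]; simp [dQ, cco]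
  DP := by simp only [dQ, List.forall_mem_cons, lG, lts]; cs h.toCo [List.not_mem_nil, false_imp_iff, implies_true]
  m i x hx := by have := h.cp; rw [h.f0 _ (h.mQ.1 hx).1 (h.mQ.1 hx).2, ← pr_m0]; rfl
  st i := List.forall_mem_cons.2 ⟨fun _ => h.mQ.2 ⟨bt_zero, bt_zero⟩, List.forall_mem_cons.2 ⟨fun _ => h.mQ.2 ⟨bt_zero, bt_zero⟩,
    List.forall_mem_singleton.2 fun _ => h.mQ.2 ⟨bt_zero, bt_zero⟩⟩⟩
  cr i g W hg t e := by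
    have t0 := t 0 (by decide)
    have t9 := t 9 (by decide)
    simp only [lG, lts, dQ, tb_lor, Bool.or_eq_false_iff] at t0 t9 e
    have m := h.mQ.1 (t0 ▸ conj_mem_of_mem_nz hg (by cs h.toCo []))
    refine ⟨h.gQ hg (t9 ▸ h.mR.2 (bt_0.2 e.1)), h.gQ (conj_mem_of_mem_nz (le_nz_self _ h.nQ) hg) ?_⟩
    rw [sw' (u := ev (x1 1)) h.i0 (by rw [h.f0 _ rfl rfl]; cs h.toCo [m0]), t0, h.f0 _ m.1 m.2]
    exact h.mR.2 (bt_0.2 e.2)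
  tab β h1 h2 := by
    obtain ⟨z, e⟩ := h.s4 hK (by sl h.toCo) h.lQ h1
    have v1 : ev ⟨z.e1, z.e2, 0, 0, 0, 0, 0, z.e4, 0, z.e5, 0, 0⟩ ∈ h.Q := h.mQ.2 ⟨rfl, rfl⟩
    obtain ⟨c0, c1, c7, c9, e0, e1, e7, e9⟩ := h.shQ hK (h.pq.mI v1 ⟨h1, h2⟩)
    obtain ⟨y, e4⟩ := h.n4' e
    refine ⟨ev ⟨0, 0, c9.e3, c7.e3, 0, 0, c1.e3, 0, c0.e3, 0, 0, 0⟩ * _, mul_mem (h.mQ.2 ⟨rfl, rfl⟩) v1, ([c0.e1, c0.e2, c0.e4, c9.e2,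
      c9.e4, c9.e5, c1.e1, c1.e2, c1.d, c1.e4, c1.e5, c7.e1, c7.e2, c7.d, c7.e4, c7.e5, y].getD · 0), fun i o V ho hV => ?_⟩
    rw [mul_assoc]
    generalize ev ⟨z.e1, z.e2, 0, 0, 0, 0, 0, z.e4, 0, z.e5, 0, 0⟩ * β = g at e0 e1 e7 e9 e4
    simp only [Tb, dQ, List.forall_mem_cons, lG, lts, cj_mul2 _ g, e0, e1, e4, e7, e9, nth_succ, nth_zero, mk12_eq, FZ.pr, ho, bt_zero, hV,
      Nat.reduceLT, List.getD_cons_succ, List.getD_cons_zero]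
    cs h.toCo [List.not_mem_nil, false_imp_iff, implies_true]
    cg2 h.toCo
theorem okR : dR.Ok h.toCo h.R M1 where
  toCk := ckR
  np c := by rw [h.mR]; simp [dR, cco]
  DP := by simp only [dR, List.forall_mem_cons, lG, lts]; cs h.toCo [List.not_mem_nil, false_imp_iff, implies_true]
  m i x hx := by have := h.cp; rw [h.f1 _ (h.mR.1 hx), ← pr_m1]; rfl
  st i := List.forall_mem_cons.2 ⟨fun _ => h.mR.2 bt_zero, List.forall_mem_cons.2 ⟨fun _ => h.mR.2 bt_zero,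
    List.forall_mem_cons.2 ⟨fun _ => h.mR.2 bt_zero, List.forall_mem_cons.2 ⟨fun _ => h.mR.2 bt_zero,
    List.forall_mem_cons.2 ⟨fun _ => h.mR.2 bt_zero, List.forall_mem_singleton.2 fun _ => h.mR.2 bt_zero⟩⟩⟩⟩⟩
  cr i g W hg t e := by
    have t0 := t 1 (by decide)
    have t9 := t 10 (by decide)
    simp only [lG, lts, dR, fB_eq, tb_lor, Bool.or_eq_false_iff] at t0 t9 e
    have u0 : g * ev (x2 1) * g⁻¹ = ev (FZ.pr σ i ((W 1).mul (W 1))) := by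
      rw [show ev (x2 1) = ev (y2 1) * ev (y2 1) by cs h.toCo [h.aa], cj_mul', t0, ← h.emul]
    have u9 : g * ev (x8 1) * g⁻¹ = ev (FZ.pr σ i ((W 10).mul (W 10))) := by
      rw [show ev (x8 1) = ev (y8 1) * ev (y8 1) by cs h.toCo [h.aa], cj_mul', t9, ← h.emul]
    refine ⟨h.gR hg (u0 ▸ h.mQ.2 ⟨bt_0.2 e.1.1, bt_0.2 e.1.2⟩), h.gR (conj_mem_of_mem_nz (le_nz_self _ h.nR) hg) ?_⟩
    rw [sw' (u := ev (x8 1)) h.i1 (by rw [h.f1 _ rfl]; cs h.toCo [m1]), u9,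
      h.f1 _ (h.mR.1 (u9 ▸ conj_mem_of_mem_nz hg (by cs h.toCo [])))]
    exact h.mQ.2 ⟨bt_0.2 e.2.1, bt_0.2 e.2.2⟩
  tab β h1 h2 := by
    obtain ⟨z, e⟩ := h.s4 hK (by sl h.toCo) h.lR h1
    obtain ⟨z', hz, e'⟩ := conj_mem_of_mem_nz (h.I76 h2) (show ev (y6 1) ∈ h.Z6 by cs h.toCo [])
    replace e' := sw (v := ev (y4 1)) h.i1 (by rw [h.f1 _ rfl]; cs h.toCo [m1]) e'
    rw [h.f1 _ hz.1, e, h.inj.eq_iff] at e'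
    have v1 : ev ⟨z.e1, z.e2, 0, 0, 0, 0, 0, z.e4, 0, z.e5, 0, 0⟩ ∈ h.R := h.mR.2 ((congrArg Cd.e1 e').trans hz.2.2.2)
    have k := h.pr.mI v1 ⟨h1, h2⟩
    obtain ⟨c1, e1⟩ := h.s1 hK k.1
    obtain ⟨c, e8⟩ := h.s1 hK k.2
    replace e8 := sw (v := ev (y8 1)) h.i1 (by rw [h.f1 _ rfl]; cs h.toCo [m1]) e8
    rw [h.f1 _ rfl] at e8
    obtain ⟨y, e4⟩ := h.n4' e
    generalize hc : m1 (σ := σ) _ = c8 at e8
    replace e8 := e8.trans (show ev c8 = ev ⟨0, 0, 0, c8.e2, c8.d, c8.e3, c8.e4, c8.f, c8.e5, c8.g, 1, c8.t⟩ by rw [← hc]; rfl)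
    refine ⟨_, v1, ([c1.e1, c1.e2, c1.d, c1.e3, c1.e4, c1.f, c1.e5, c1.g, c8.e2, c8.d, c8.e3, c8.e4, c8.f, c8.e5, c8.g, c8.t,
      y].getD · 0), fun i o V ho hV => ?_⟩
    simp only [Tb, dR, List.forall_mem_cons, lG, lts, e1, e4, e8, nth_succ, nth_zero, mk12_eq, FZ.pr, ho, bt_zero, hV,
      Nat.reduceLT, List.getD_cons_succ, List.getD_cons_zero, List.not_mem_nil, false_imp_iff, implies_true, and_self]
variable (hg : ∀ f : S →* Γ, Function.Injective f → (∀ x, f x ∈ S) → ∃ g, ∀ a, f a = g * a * g⁻¹)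
include hg
theorem stp (k : d.Ok h.toCo P M) (p : Pd h.toCo P M J r) (hF : F.Sat 2) (hS : F.S = S) (e : F.Ess P) : ∃ x ∈ d.gd, ∃ γ ∈ nz S,
    (∀ j < 12, γ * lG ev j * γ⁻¹ = ev (cdm σ (nth 0 x.2.2 j))) ∧ M ∈ (cjs γ F).A P := by
  have e := hS ▸ es_of hF e
  obtain ⟨n, hn, x, hx, t⟩ := k.main hK p e fun g => h.inn hK hF hS p
  obtain ⟨γ, hγ, tγ⟩ := h.exγ hK hg (k.gd x hx).2
  have := k.algn hK p (k.gd x hx).1 hγ tγ e.PA e.An hn t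
  exact ⟨x, hx, γ, hγ, tγ, by rwa [← cjs_A, mem_nz.1 (h.I7n (p.nI hγ))] at this⟩
theorem rl2 (sy : Syl 2 S L) (l0 : M0 ∈ L) (l1 : M1 ∈ L) (hF : F.Sat 2) (hS : F.S = S) : Rl F := by
  refine (h.cases hF hS).elim .inl fun e => ?_
  obtain ⟨-, -, γ, hγ, -, q⟩ := h.stp hK hg (h.okQ hK) h.pq hF hS e.1
  refine .of_cjs γ ?_
  replace hS : (cjs γ F).S = S := by rw [cjs_S, hS, mem_nz.1 hγ]
  replace hF := hF.cjs γ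
  clear e
  generalize cjs γ F = F at q hS hF
  refine (h.cases hF hS).elim .inl fun e => ?_
  obtain ⟨x, hx, γ, hγ, tγ, r⟩ := h.stp hK hg (h.okR hK) h.pr hF hS e.2
  replace q := (h.okQ hK).algn hK h.pq (ckQR x hx) hγ tγ (ai_self_le_A (h.lQ.trans hS.ge)) (F.A_le_nz _) q fun j hj => by
    rw [h.pq.MM, one_mul, inv_one, mul_one]
    fin_cases hj <;> rfl
  rw [← cjs_A, mem_nz.1 (h.I7n (h.pq.nI hγ))] at q
  refine .of_cjs γ (.inr ?_)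
  replace hS : (cjs γ F).S = S := by rw [cjs_S, hS, mem_nz.1 hγ]
  replace hF := hF.cjs γ
  clear e
  generalize cjs γ F = F at q r hS hF
  have s := sat_ofSub (hS ▸ hF.pg) sy
  have e := (h.aS hK hF hS).trans (h.aS hK s rfl).symm
  have q' := ofSub_A sy.1 h.lQ ▸ mem_ai_of_mem l0 h.nQ
  have r' := ofSub_A sy.1 h.lR ▸ mem_ai_of_mem l1 h.nR
  exact hS.symm ▸ ⟨_, sy, le_antisymm (h.le hF hS rfl e.le q q' r r') (h.le s rfl hS e.ge q' q r' r)⟩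
end Mx

end H22.FZ
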