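/-
The Chevalley group `G₂(q)`: coordinates on the Sylow `p`-subgroup, in every characteristic.
-/
import Cfsg.Agent.H25.GC0
import Cfsg.Agent.H14.AutGood

set_option autoImplicit false
set_option linter.unusedSectionVars false
set_option linter.unusedSimpArgs false
set_option maxRecDepth 100000

namespace H22.GV
open Cfsg Subgroup Cfsg.Lie H14 H14.St H25.GC Gc

/-- root indices -/
abbrev I : Type := Fin chevG2.nroots
universe v
variable {K : Type v} [Field K] {g : chevG2.group K}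
local notation "𝐒" => goodG2.SG K
local notation "𝐗" => PreSt.x (St.toPreSt (goodG2.SG K))
local notation "𝐧" => PreSt.n (St.toPreSt (goodG2.SG K))
local notation "𝐜" => MulAut.conj (G := chevG2.group K)
local notation "𝐝" => Ad.df (goodG2.ad K)
set_option quotPrecheck false in
local notation "𝐔" => PreSt.U (St.toPreSt (goodG2.SG K)) {r | goodG2.R.pos r}

theorem sw (s r : I) (L : List (I × ℤ × ℕ × ℕ))
    (h : s.val ≠ chevG2.neg r ∧ chevG2.commTerms r s = L.map fun c => (c.1.val, c.2) := by decide +kernel) (u t : K) (g) :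
    𝐗 s u * (𝐗 r t * g) = 𝐗 r t * (𝐗 s u * ((L.map fun c => 𝐗 c.1 (c.2.1 * (-t) ^ c.2.2.1 * u ^ c.2.2.2)).prod * g)) := by
  rw [← mul_assoc, PreSt.comm' _ (fun e => h.1 (by rw [e, goodG2.neg])), goodG2.terms_eq h.2, mul_assoc, mul_assoc]; rfl
theorem mg (r : I) (t u : K) (g) : 𝐗 r t * (𝐗 r u * g) = 𝐗 r (t + u) * g := by rw [PreSt.x_add, mul_assoc]
theorem nc (r s k n : I) (e : ℤ) (h : goodG2.R.cf k = goodG2.R.cf s - goodG2.R.pair r s • goodG2.R.cf r ∧ goodG2.R.neg r = n ∧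
    (chevG2.xMat ℚ r 1 * chevG2.xMat ℚ n (-1) * chevG2.xMat ℚ r 1) (.inr k) (.inr s) = e := by decide +kernel) (u : K) :
    𝐜 (𝐧 r 1) (𝐗 s u) = 𝐗 k (e * u) := by
  obtain ⟨k1, rfl, h⟩ := h
  obtain rfl : goodG2.R.refl r s = k := goodG2.R.cf_inj (by rw [k1, RootSys.cf_refl])
  have := congrFun (goodG2.C.nad_ev (S := ℚ) r s) (.inr (goodG2.R.refl r s))
  simp only [goodG2.xMat_eq] at h
  simp only [ev, Matrix.mulVec_single_one, Matrix.col_apply, Pi.smul_apply, Pi.single_eq_same, smul_eq_mul, mul_one] at this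
  obtain rfl : goodG2.C.eta r s = e := by exact_mod_cast this.symm.trans h
  rw [MulAut.conj_apply, (𝐒).nconj _ _ _ one_ne_zero, mul_inv_cancel_right]; simp

/-- an element of `Q₁` -/
noncomputable def nD (u s r v z : K) : chevG2.group K :=
  𝐗 6 u * (𝐗 8 s * (𝐗 9 r * (𝐗 10 (-v) * 𝐗 11 (u * v - z - 3 * s * r))))

/-- collect -/
local macro "col" : tactic => `(tactic| (
  refine mul_right_cancel (b := 1) ?_
  simp only [nD, mul_assoc, mg, List.map_cons, List.map_nil, List.prod_cons, List.prod_nil, one_mul,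
    sw 6 7 [(8, -1, 1, 1), (9, 1, 2, 1), (10, 1, 3, 1), (11, 1, 3, 2)], sw 8 7 [(9, -2, 1, 1), (10, -3, 2, 1), (11, 3, 1, 2)],
    sw 9 7 [(10, 3, 1, 1)], sw 10 7 [], sw 11 7 [], sw 8 6 [], sw 9 6 [], sw 10 6 [(11, 1, 1, 1)], sw 11 6 [],
    sw 9 8 [(11, 3, 1, 1)], sw 10 8 [], sw 11 8 [], sw 10 9 [], sw 11 9 [], sw 11 10 []]
  repeat' refine congrArg₂ (· * ·) (congrArg (PreSt.x _ _) ?_) ?_
  all_goals first | rfl | (push_cast; ring)))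

variable (K) in
/-- the coordinates -/
noncomputable def e0 : Gc K →* chevG2.group K := MonoidHom.mk' (fun c => 𝐗 7 c.a * nD c.u c.s c.r c.v c.z) fun c d => by
  simp only [mul_a, mul_u, mul_s, mul_r, mul_v, mul_z]
  col
theorem e0_ap (c : Gc K) : e0 K c = 𝐗 7 c.a * nD c.u c.s c.r c.v c.z := rfl

theorem inj0 : Function.Injective (e0 K) := (injective_iff_map_eq_one _).2 fun c e => by
  have := (goodG2.SG_sep K).uniq (RootSys.htf _) [7, 6, 8, 9, 10, 11] (by decide)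
    (fun r hr => RootSys.htf_pos ((by decide +kernel : ∀ r : I, r ∈ [7, 6, 8, 9, 10, 11] → goodG2.R.pos r) r hr))
    (vec 0 [0, 0, 0, 0, 0, 0, c.u, c.a, c.s, c.r, -c.v, c.u * c.v - c.z - 3 * c.s * c.r]) (fun _ => 0)
    (((mul_one _).symm.trans (by simp only [e0_ap, nD, mul_assoc]; rfl)).symm.trans (e.trans (by simp)))
  have u : c.u = 0 := this 6 (by decide)
  have s : c.s = 0 := this 8 (by decide)
  have z : c.u * c.v - c.z - 3 * c.s * c.r = 0 := this 11 (by decide)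
  exact Gc.ext (this 7 (by decide)) u s (this 9 (by decide)) (neg_eq_zero.1 (this 10 (by decide))) (by simpa [u, s] using z)
theorem pX {r : I} (h : goodG2.R.pos r := by decide +kernel) (t : K) : 𝐗 r t ∈ 𝐔 := PreSt.x_mem_U h t
theorem rg : (e0 K).range = 𝐔 := le_antisymm (by
    rintro _ ⟨c, rfl⟩
    simp only [e0_ap, nD]
    repeat' refine mul_mem ?_ ?_
    all_goals exact pX (by decide +kernel) _) (PreSt.U_le.2 fun r hr t => by
  have := (by decide +kernel : ∀ r : I, goodG2.R.pos r → r ∈ [7, 6, 8, 9, 10, 11]) r hr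
  simp only [List.mem_cons, List.not_mem_nil, or_false] at this
  rcases this with rfl | rfl | rfl | rfl | rfl | rfl
  exacts [⟨xa t, by simp [e0_ap, nD]⟩, ⟨xu t, by simp [e0_ap, nD]⟩, ⟨xs t, by simp [e0_ap, nD]⟩, ⟨xr t, by simp [e0_ap, nD]⟩,
    ⟨xv (-t), by simp [e0_ap, nD]⟩, ⟨xz (-t), by simp [e0_ap, nD]⟩])

theorem w1 (c : Gc K) (h : c.a = 0) : 𝐜 (𝐧 7 1) (e0 K c) = e0 K (m1 c) := by
  simp only [e0_ap, h, m1_a, m1_u, m1_s, m1_r, m1_v, m1_z, PreSt.x_zero, one_mul, nD, map_mul,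
    nc 7 6 10 4 1, nc 7 8 9 4 1, nc 7 9 8 4 (-1), nc 7 10 6 4 (-1), nc 7 11 11 4 1]
  col
theorem w2 (c : Gc K) (h : c.u = 0) : 𝐜 (𝐧 6 1) (e0 K c) = e0 K (m2 c) := by
  simp only [e0_ap, h, m2_a, m2_u, m2_s, m2_r, m2_v, m2_z, PreSt.x_zero, one_mul, nD, map_mul,
    nc 6 7 8 5 1, nc 6 8 7 5 (-1), nc 6 9 9 5 1, nc 6 10 11 5 1, nc 6 11 10 5 (-1)]
  col

theorem dx (r : I) (a b : ℕ) (h : goodG2.R.cf r = vec 0 [(a : ℤ), b] := by decide +kernel)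
    (c : Fin chevG2.rank → Kˣ) (φ : K ≃+* K) (t : K) : 𝐝 c φ (𝐗 r t) = 𝐗 r (c 0 ^ a * c 1 ^ b * φ t) := by
  rw [Ad.df_x, RootSys.chr, h]
  refine congrArg (fun v => 𝐗 r (v * φ t)) ?_
  change ((∏ j : Fin 2, _ : Kˣ) : K) = _
  rw [Fin.prod_univ_two]
  change ((c 0 ^ (a : ℤ) * c 1 ^ (b : ℤ) : Kˣ) : K) = _
  simp
theorem de (c : Fin chevG2.rank → Kˣ) (φ : K ≃+* K) (d : Gc K) : 𝐝 c φ (e0 K d) = e0 K (sc (c 0) (c 1) φ d) := by
  simp only [e0_ap, sc_a, sc_u, sc_s, sc_r, sc_v, sc_z, nD, map_mul (𝐝 c φ), dx 7 1 0, dx 6 0 1, dx 8 1 1, dx 9 2 1, dx 10 3 1,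
    dx 11 3 2, map_neg, map_sub, map_mul φ, map_ofNat]
  repeat' refine congrArg₂ (· * ·) (congrArg (PreSt.x _ _) ?_) ?_
  any_goals refine congrArg (PreSt.x _ _) ?_
  all_goals ring
variable (K) in
/-- the semilinear diagonal automorphisms -/
noncomputable def C0 : Subgroup (MulAut (chevG2.group K)) where
  carrier := {τ | ∃ c φ, τ = 𝐝 c φ}
  one_mem' := ⟨1, 1, (Ad.df_one _).symm⟩
  mul_mem' := by
    rintro _ _ ⟨c, φ, rfl⟩ ⟨c', φ', rfl⟩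
    exact ⟨_, _, Ad.df_mul ..⟩
  inv_mem' := by
    rintro _ ⟨c, φ, rfl⟩
    refine ⟨fun j => Units.map φ⁻¹.toMonoidHom (c⁻¹ j), φ⁻¹, inv_eq_of_mul_eq_one_right ?_⟩
    rw [Ad.df_mul, mul_inv_cancel, ← Ad.df_one (goodG2.ad K)]
    exact congrArg (𝐝 · 1) (funext fun j => Units.ext (by simp))

theorem cinj : Function.Injective 𝐜 := (injective_iff_map_eq_one _).2 fun g h => mem_bot.1 (goodG2.center_eq_bot K ▸
  mem_center_iff.2 fun a => (mul_inv_eq_iff_eq_mul.1 (DFunLike.congr_fun h a)).symm)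
theorem cc (τ : MulAut (chevG2.group K)) (g : chevG2.group K) : τ * 𝐜 g * τ⁻¹ = 𝐜 (τ g) := MulEquiv.ext fun a => by simp
theorem hd (hg : g ∈ (𝐒).H) : ∃ c, 𝐜 g = 𝐝 c 1 := by
  obtain ⟨c, rfl⟩ := (goodG2.SG_hmul K).range_tor.ge hg
  have e : ∀ r t, 𝐜 ((goodG2.SG_hmul K).tor c) (𝐗 r t) = 𝐝 (mpow Kˣ goodG2.R.A c) 1 (𝐗 r t) := fun r t => by
    rw [MulAut.conj_apply, mul_inv_eq_iff_eq_mul.2 ((goodG2.SG_hmul K).tor_mul_x c r t), prod_wt, Ad.df_x]; rfl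
  exact ⟨_, aut_ext (goodG2.SG_top K) (fun _ => e _) fun _ => e _⟩

variable (K) in
/-- the coordinates in the automorphism group -/
noncomputable def e1 : Gc K →* MulAut (chevG2.group K) := (𝐜).comp (e0 K)
theorem inj1 : Function.Injective (e1 K) := cinj.comp inj0
theorem rg1 : (e1 K).range = (𝐔).map 𝐜 := by rw [← rg, MonoidHom.map_range]; rfl
theorem cj1 (c : Fin chevG2.rank → Kˣ) (φ : K ≃+* K) (d : Gc K) : 𝐝 c φ * e1 K d * (𝐝 c φ)⁻¹ = e1 K (sc (c 0) (c 1) φ d) :=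
  (cc _ _).trans (congrArg 𝐜 (de c φ d))

variable [Finite K]
instance : Finite (chevG2.group K) := have := Fintype.ofFinite K; inferInstance
/-- the model: `L` is the group of inner automorphisms -/
theorem md0 (p : ℕ) [Fact p.Prime] [CharP K p] : IsPGroup p (e1 K).range ∧ H25.Syl p (e1 K).range (𝐜).range ∧
    C0 K ≤ H25.nz (𝐜).range ∧ (∀ τ ∈ C0 K, ∃ k l φ, k ≠ 0 ∧ l ≠ 0 ∧ ∀ d, τ * e1 K d * τ⁻¹ = e1 K (sc k l φ d)) ∧
    (∀ k l φ, k ≠ 0 → l ≠ 0 → ∃ τ ∈ C0 K, ∀ d, τ * e1 K d * τ⁻¹ = e1 K (sc k l φ d)) ∧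
    (∀ τ ∈ C0 K, (∀ d, τ * e1 K d * τ⁻¹ = e1 K (sc 1 1 (.refl K) d)) → τ = 1) ∧
    (∀ g ∈ (𝐜).range, g ∈ H25.nz (e1 K).range → ∃ s ∈ (e1 K).range, ∃ τ k l, (k ≠ 0 ∧ l ≠ 0 ∧
      ∀ d, τ * e1 K d * τ⁻¹ = e1 K (sc k l (.refl K) d)) ∧ τ ∈ C0 K ∧ τ ∈ (𝐜).range ∧ g = s * τ) ∧
    (∀ c : Gc K, c.a = 0 → 𝐜 (𝐧 7 1) * e1 K c * (𝐜 (𝐧 7 1))⁻¹ = e1 K (m1 c)) ∧
    ∀ c : Gc K, c.u = 0 → 𝐜 (𝐧 6 1) * e1 K c * (𝐜 (𝐧 6 1))⁻¹ = e1 K (m2 c) := by
  refine ⟨rg1 (K := K) ▸ (isPGroup_U p (goodG2.SG_sep K)).map _, ⟨rg1 (K := K) ▸ map_le_range _ _, ?_⟩, ?_, ?_, ?_, ?_, ?_,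
    fun c h => (cc _ _).trans (congrArg 𝐜 (w1 c h)), fun c h => (cc _ _).trans (congrArg 𝐜 (w2 c h))⟩
  · obtain ⟨P, e⟩ := (id_emb (goodG2.SG_sep K) (goodG2.SG_top K)).exists_sylow p (goodG2.SG_hmul K)
    rw [rg1, MonoidHom.range_eq_map, relIndex_map_map_of_injective _ _ cinj, relIndex_top_right]
    have := P.not_dvd_index
    rwa [e] at this
  · rintro _ ⟨c, φ, rfl⟩
    refine mem_normalizer_fintype ?_
    rintro _ ⟨g, rfl⟩
    exact ⟨_, (cc _ _).symm⟩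
  · rintro _ ⟨c, φ, rfl⟩
    exact ⟨_, _, _, (c 0).ne_zero, (c 1).ne_zero, cj1 c φ⟩
  · intro k l φ hk hl
    lift k to Kˣ using hk.isUnit
    lift l to Kˣ using hl.isUnit
    exact ⟨_, ⟨vec 1 [k, l], φ, rfl⟩, cj1 _ φ⟩
  · rintro _ ⟨c, φ, rfl⟩ h
    have e := fun d => inj1 ((cj1 c φ d).symm.trans (h d))
    have e0 : (c 0 : K) = 1 := by simpa using congrArg Gc.a (e (xa 1))
    have e1 : (c 1 : K) = 1 := by simpa using congrArg Gc.u (e (xu 1))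
    obtain rfl : φ = 1 := RingEquiv.ext fun a => by simpa [e0] using congrArg Gc.a (e (xa a))
    obtain rfl : c = 1 := funext fun j : Fin 2 => Units.ext (by fin_cases j; exacts [e0, e1])
    exact Ad.df_one _
  · rintro _ ⟨g, rfl⟩ n
    obtain ⟨u, hu, k, hk, rfl⟩ := mem_B_iff.1 (mem_B_of_conj (goodG2.SG_sep K) (g := g) (goodG2.SG_top K ▸ mem_top g) fun u hu => by
      have := (mem_normalizer_iff.1 n _).1 (rg1 (K := K) ▸ mem_map_of_mem 𝐜 hu)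
      rw [cc, rg1, mem_map_iff_mem cinj] at this
      exact PreSt.U_le_B this)
    obtain ⟨c, e⟩ := hd hk
    exact ⟨_, rg1 (K := K) ▸ mem_map_of_mem 𝐜 hu, _, _, _, ⟨(c 0).ne_zero, (c 1).ne_zero, cj1 c 1⟩, ⟨c, 1, rfl⟩, ⟨k, e⟩, by rw [map_mul, e]⟩

end H22.GV
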