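/-
The models `G₂(q)` for the fusion systems on a Sylow `p`-subgroup of `G₂(q)`.
-/
import Cfsg.Agent.H22.GV2
import Cfsg.Agent.H22.GV3
import Cfsg.Agent.H25.GC1
import Cfsg.Agent.H2.G50

set_option autoImplicit false
set_option linter.unusedSectionVars false
set_option linter.unusedSimpArgs false
set_option maxRecDepth 100000

namespace H22.GV
open Cfsg Subgroup Cfsg.Lie H14 H14.St H25 H25.GC Gc

universe v
variable {K : Type v} [Field K]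
local notation "𝐒" => goodG2.SG K
local notation "𝐗" => PreSt.x (St.toPreSt (goodG2.SG K))
local notation "𝐧" => PreSt.n (St.toPreSt (goodG2.SG K))
local notation "𝐜" => MulAut.conj (G := chevG2.group K)
local notation "𝐝" => Ad.df (goodG2.ad K)

theorem sy' : SY.{v} := fun K _ _ p _ _ T => sy K p T
/-- diagonal automorphisms are inner -/
theorem inn (c : Fin chevG2.rank → Kˣ) : ∃ g, 𝐜 g = 𝐝 c 1 := by
  have e : ∀ c r t, 𝐜 ((goodG2.SG_hmul K).tor c) (𝐗 r t) = 𝐝 (mpow Kˣ goodG2.R.A c) 1 (𝐗 r t) := fun c r t => by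
    rw [MulAut.conj_apply, mul_inv_eq_iff_eq_mul.2 ((goodG2.SG_hmul K).tor_mul_x c r t), prod_wt, Ad.df_x]; rfl
  refine ⟨_, (aut_ext (goodG2.SG_top K) (fun _ => e (vec 1 [c 0 ^ 2 * c 1, c 0 ^ 3 * c 1 ^ 2]) _) fun _ => e _ _).trans
    (congrArg (𝐝 · 1) (funext fun j => ?_))⟩
  have a : goodG2.R.A 0 0 = 2 ∧ goodG2.R.A 1 0 = -1 ∧ goodG2.R.A 0 1 = -3 ∧ goodG2.R.A 1 1 = 2 := by decide +kernel
  have b : ∀ j, mpow Kˣ goodG2.R.A (vec 1 [c 0 ^ 2 * c 1, c 0 ^ 3 * c 1 ^ 2]) j =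
      (c 0 ^ 2 * c 1) ^ goodG2.R.A 0 j * (c 0 ^ 3 * c 1 ^ 2) ^ goodG2.R.A 1 j := fun j =>
    Fin.prod_univ_two fun i : Fin 2 => (vec 1 [c 0 ^ 2 * c 1, c 0 ^ 3 * c 1 ^ 2] : Fin chevG2.rank → Kˣ) i ^ goodG2.R.A i j
  obtain rfl | rfl := (by decide +kernel : ∀ j : Fin chevG2.rank, j = 0 ∨ j = 1) j <;>
    simp only [b, a] <;> refine Units.ext ?_ <;> simp <;> field_simp
theorem inn' {k l : K} (hk : k ≠ 0) (hl : l ≠ 0) : ∃ τ, ∀ c, τ * e0 K c * τ⁻¹ = e0 K (sc k l (.refl K) c) := by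
  lift k to Kˣ using hk.isUnit
  lift l to Kˣ using hl.isUnit
  obtain ⟨g, e⟩ := inn (vec 1 [k, l])
  exact ⟨g, fun c => (DFunLike.congr_fun e _).trans (de _ _ c)⟩

variable (K) [Finite K]
theorem md1 (p : ℕ) [Fact p.Prime] [CharP K p] : Md p (e1 K).range (e1 K) (𝐜).range (C0 K) (𝐜 (𝐧 7 1)) (𝐜 (𝐧 6 1)) :=
  let ⟨a1, a2, a3, a4, a5, a6, a7, a8, a9⟩ := md0 (K := K) p
  ⟨⟨inj1, fun _ => exists_congr fun _ => eq_comm⟩, ⟨a8, a9⟩, a1, a2, a3,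
    fun τ h => let ⟨k, l, φ, b1, b2, b3⟩ := a4 τ h; ⟨k, l, φ, b1, b2, b3⟩,
    fun k l φ b1 b2 => let ⟨τ, h, b3⟩ := a5 k l φ b1 b2; ⟨τ, h, b1, b2, b3⟩, fun τ h b => a6 τ h b.cj,
    fun g h h' => let ⟨s, hs, τ, k, l, b, _, _, e⟩ := a7 g h h'; ⟨s, hs, τ, k, l, ⟨b.1, b.2.1, b.2.2⟩, e⟩, ⟨_, rfl⟩, ⟨_, rfl⟩⟩
theorem md (p : ℕ) [Fact p.Prime] [CharP K p] : MD K p := ⟨_, inferInstance, inferInstance, _, _, _, _, _, md1 K p⟩
/-- the model with all linear diagonal automorphisms inner -/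
theorem md' (p : ℕ) [Fact p.Prime] [CharP K p] : ∃ (G : Type v) (_ : Group G) (_ : Finite G) (ev : Gc K →* G) (L C0 : Subgroup G)
    (M1 M2 : G), Md p ev.range ev L C0 M1 M2 ∧ L.Normal ∧ ∀ τ ∈ C0, ∀ k l, Wt ev τ k l (.refl K) → τ ∈ L := by
  refine ⟨_, inferInstance, inferInstance, _, _, _, _, _, md1 K p, ⟨?_⟩, ?_⟩
  · rintro _ ⟨g, rfl⟩ τ
    exact ⟨_, (cc _ _).symm⟩
  · rintro _ ⟨c, φ, rfl⟩ k l h
    have e := fun d => inj1 ((cj1 c φ d).symm.trans (h.cj d))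
    have e0 : (c 0 : K) = k := by simpa using congrArg Gc.a (e (xa 1))
    obtain rfl : φ = 1 := RingEquiv.ext fun a => by simpa [e0, h.k0] using congrArg Gc.a (e (xa a))
    exact inn c

/-- the model with the graph automorphism -/
theorem md3 [CharP K 3] : ∃ (G : Type v) (_ : Group G) (_ : Finite G) (ev : Gc K →* G) (L C0 : Subgroup G) (M1 M2 g0 : G),
    Md 3 ev.range ev L C0 M1 M2 ∧ g0 ∈ nz L ∧ g0 ∈ nz C0 ∧ g0 * g0 ∈ C0 ∧ ∀ c, g0 * ev c * g0⁻¹ = ev (H2.G.gr c) := by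
  have hK : grG2.Fits K := @GrD.fits_char grG2 K _ Nat.prime_three ‹CharP K 3› (surjective_frobenius K 3)
  have x : ∀ (r s : I) (e : ℕ), okgrG2.rho r = s ∧ grG2.gam r = 1 ∧ grG2.ex r = e → ∀ t,
      goodG2.gr okgrG2 hK (𝐗 r t) = 𝐗 s (t ^ e) := fun r s e h t => by rw [goodG2.gr_x, h.1, h.2.1, h.2.2]; simp
  have s : ∀ {α β : MulAut (chevG2.group K)}, (∀ t, α (𝐗 7 t) = β (𝐗 7 t)) → (∀ t, α (𝐗 6 t) = β (𝐗 6 t)) →
      (∀ t, α (𝐗 4 t) = β (𝐗 4 t)) → (∀ t, α (𝐗 5 t) = β (𝐗 5 t)) → α = β := fun a b c d =>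
    aut_ext (goodG2.SG_top K) (fun i : Fin 2 => by fin_cases i; exacts [a, b]) fun i : Fin 2 => by fin_cases i; exacts [c, d]
  have x7 := x 7 6 3 (by decide +kernel)
  have x6 := x 6 7 1 (by decide +kernel)
  have x4 := x 4 5 3 (by decide +kernel)
  have x5 := x 5 4 1 (by decide +kernel)
  have d7 : ∀ c φ t, 𝐝 c φ (𝐗 7 t) = 𝐗 7 (c 0 * φ t) := fun c φ => ((goodG2.ad K).act_df c φ).pos 0
  have d6 : ∀ c φ t, 𝐝 c φ (𝐗 6 t) = 𝐗 6 (c 1 * φ t) := fun c φ => ((goodG2.ad K).act_df c φ).pos 1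
  have d4 : ∀ c φ t, 𝐝 c φ (𝐗 4 t) = 𝐗 4 ((c 0)⁻¹ * φ t) := fun c φ => ((goodG2.ad K).act_df c φ).neg 0
  have d5 : ∀ c φ t, 𝐝 c φ (𝐗 5 t) = 𝐗 5 ((c 1)⁻¹ * φ t) := fun c φ => ((goodG2.ad K).act_df c φ).neg 1
  refine ⟨_, inferInstance, inferInstance, _, _, _, _, _, goodG2.gr okgrG2 hK, md1 K 3, mem_normalizer_fintype ?_,
    mem_normalizer_fintype ?_, ⟨1, frobeniusEquiv K 3, s ?_ ?_ ?_ ?_⟩, fun c => (cc _ _).trans (congrArg 𝐜 ?_)⟩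
  · rintro _ ⟨g, rfl⟩
    exact ⟨_, (cc _ _).symm⟩
  · rintro _ ⟨c, φ, rfl⟩
    refine ⟨vec 1 [c 1, c 0 ^ 3], φ, mul_inv_eq_iff_eq_mul.2 (s ?_ ?_ ?_ ?_)⟩ <;> intro t <;>
      simp only [MulAut.mul_apply, x7, x6, x4, x5, d7, d6, d4, d5] <;> congr 1
    · change _ = ((c 0 ^ 3 : Kˣ) : K) * _; simp [mul_pow]
    · change _ = (c 1 : K) * _; simp
    · change _ = (((c 0 ^ 3)⁻¹ : Kˣ) : K) * _; simp [mul_pow]
    · change _ = (((c 1)⁻¹ : Kˣ) : K) * _; simp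
  iterate 4 intro t; simp [x7, x6, x4, x5, d7, d6, d4, d5, frobenius_def]
  have g : ∀ (f : K → Gc K) (r s : I) (e : ℕ) (h : okgrG2.rho r = s ∧ grG2.gam r = 1 ∧ grG2.ex r = e) (ε : K),
      (∀ t, e0 K (f t) = 𝐗 r (ε * t)) → (∀ t, e0 K (H2.G.gr (f t)) = 𝐗 s ((ε * t) ^ e)) →
      ∀ t, goodG2.gr okgrG2 hK (e0 K (f t)) = e0 K (H2.G.gr (f t)) := fun f r s e h ε a b t => by rw [a, b, x r s e h]
  rw [show c = xa c.a * xu c.u * xs c.s * xr c.r * xv c.v * xz (c.z + 3 * c.s * c.r - c.u * c.v) by ext <;> simp]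
  simp only [map_mul]
  rw [g xa 7 6 3 (by decide +kernel) 1, g xu 6 7 1 (by decide +kernel) 1, g xs 8 10 3 (by decide +kernel) 1,
    g xr 9 11 3 (by decide +kernel) 1, g xv 10 8 1 (by decide +kernel) (-1), g xz 11 9 1 (by decide +kernel) (-1)]
  all_goals intro t; simp [e0_ap, nD, H2.G.gr_a, H2.G.gr_u, H2.G.gr_s, H2.G.gr_r, H2.G.gr_v, H2.G.gr_z]

theorem g25 : H2.G.G25 := by
  refine ⟨chevG2.group H2.G.F5, inferInstance, inferInstance, e0 _, ⊤, ⟨inj0, fun _ => trivial, fun h => ?_,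
    let ⟨τ, h⟩ := inn' (k := 3) (l := 4) (by decide) (by decide); ⟨τ, trivial, h⟩,
    ⟨_, trivial, fun c h => ⟨_, rfl, w2 c h⟩, _, by decide, w2 (xz 1) rfl⟩⟩, ⟨_, trivial, w1⟩, ⟨_, trivial, w2⟩, fun g _ r e => ?_⟩
  · obtain ⟨P, e⟩ := (id_emb (goodG2.SG_sep H2.G.F5) (goodG2.SG_top _)).exists_sylow 5 (goodG2.SG_hmul _)
    have := P.not_dvd_index
    rw [card_top, ← P.1.card_mul_index, e, comap_id, ← rg, ← Nat.card_congr (MonoidHom.ofInjective inj0).toEquiv, Gc.card,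
      Nat.card_zmod, pow_succ, Nat.mul_dvd_mul_iff_left (by norm_num)] at h
    exact this (by rwa [e, comap_id, ← rg])
  by_cases hr : r = 0
  · rw [hr, show xr 0 = (1 : Gc H2.G.F5) from rfl, map_one, conj_eq_one_iff, map_eq_one_iff _ inj0] at e
    exact absurd (congrArg Gc.z e) (by decide)
  let ρ : chevG2.group H2.G.F5 →* Matrix chevG2.Idx chevG2.Idx H2.G.F5 := (Units.coeHom _).comp (Subgroup.subtype _)
  have x : ∀ (s : I) t, ρ ((goodG2.SG _).x s t) = chevG2.xMat _ s t := fun s t =>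
    (goodG2.coe_SG_x s t).trans (by rw [goodG2.x_eq, goodG2.xMat_eq])
  have a : ρ (e0 _ (xz 1)) = chevG2.xMat _ 11 (-1) := by simp [e0_ap, nD, x]
  have b : ρ (e0 _ (xr r)) = chevG2.xMat _ 9 r := by simp [e0_ap, nD, x]
  have k : (ρ (e0 _ (xr r)) - 1) ^ 3 = 0 := by
    rw [← e, map_mul, map_mul, show ∀ y, ρ g * y * ρ g⁻¹ - 1 = ρ g * (y - 1) * ρ g⁻¹ from fun y => by
      rw [mul_sub, sub_mul, mul_one, ← map_mul ρ g, mul_inv_cancel, map_one], a]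
    have z : (chevG2.xMat H2.G.F5 11 (-1) - 1) * (chevG2.xMat H2.G.F5 11 (-1) - 1) * (chevG2.xMat H2.G.F5 11 (-1) - 1) = 0 := by
      decide +kernel
    have i : ∀ y, ρ g⁻¹ * (ρ g * y) = y := fun y => by rw [← mul_assoc, ← map_mul, inv_mul_cancel, map_one, one_mul]
    simp only [pow_succ, pow_zero, one_mul, mul_assoc, i] at z ⊢
    rw [← mul_assoc _ _ (ρ g⁻¹), ← mul_assoc _ _ (ρ g⁻¹), z, zero_mul, mul_zero]
  rw [b, pow_succ, pow_two] at k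
  exact hr ((by decide +kernel : ∀ r : H2.G.F5, ((chevG2.xMat _ 9 r - 1) * (chevG2.xMat _ 9 r - 1) * (chevG2.xMat _ 9 r - 1))
    (.inr 10) (.inr 0) = 0 → r = 0) r (by rw [k]; rfl))

end H22.GV
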