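/-
Fusion systems on a Sylow `3`-subgroup of `G₂(3ⁿ)`: the assembly.
-/
import Cfsg.Agent.H2.G30
import Cfsg.Agent.H22.GV4

set_option autoImplicit false
set_option linter.unusedSectionVars false
set_option linter.unusedSimpArgs false

namespace H22.G3
open Cfsg Subgroup H25 H25.FS H25.GC H25.GC.Gc H2.G
open H8.PU hiding Co Wt Wy Md Ck G2 S2 N2 E2 TR MD
universe u v w
variable {K : Type v} [Field K] [Finite K] [CharP K 3] {Γ : Type u} [Group Γ] [Finite Γ]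
  {S L C0 : Subgroup Γ} {ev : Gc K →* Γ} {M1 M2 g0 τ : Γ} {F F' : FS Γ} {k l : K}

theorem gr_sc (k l : K) (c : Gc K) : gr (sc k l (.refl K) c) = sc l (k ^ 3) (.refl K) (gr c) := by
  ext <;> simp [gr_a, gr_u, gr_s, gr_r, gr_v, gr_z] <;> ring
variable (m : Md3 S ev L C0 M1 M2 g0)
include m
theorem wg (w : Wt ev τ k l (.refl K)) : Wt ev (g0 * τ * g0⁻¹) l (k ^ 3) (.refl K) := ⟨w.l0, pow_ne_zero 3 w.k0, fun c => by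
  obtain ⟨c, rfl⟩ := gr_surj c
  rw [← gr_sc, ← m.gj, ← m.gj, ← w.cj]; group⟩
theorem wg' (w : Wt ev τ l (k ^ 3) (.refl K)) : Wt ev (g0⁻¹ * τ * g0⁻¹⁻¹) k l (.refl K) :=
  ⟨fun e => w.l0 (by simp [e]), w.k0, fun c => by
    have := w.cj (gr c)
    rw [← gr_sc, ← m.gj, ← m.gj] at this
    rw [show ev (sc k l (.refl K) c) = g0⁻¹ * (g0 * ev (sc k l (.refl K) c) * g0⁻¹) * g0 by group, ← this]; group⟩
theorem symS (F : FS Γ) : (cjs g0⁻¹ F).A S = cj g0⁻¹ (F.A S) := cjs_A' (inv_mem m.gS)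
theorem ft' (t : FT S ev F) : FT S ev (cjs g0⁻¹ F) := fun k l hk hl =>
  let ⟨τ, h, w⟩ := t l (k ^ 3) hl (pow_ne_zero 3 hk)
  ⟨_, symS m F ▸ conj_mem_cj g0⁻¹ h, wg' m w⟩
theorem nq' (n : Sa 3 S F) (r : F.Ess ((Q2 K).map ev)) : NQ S ev (cjs g0⁻¹ F) := fun c => (n.es r).not_nz (by
  rwa [m.symA, cj_le_iff, inv_inv, cj_nz, cj_ai, m.g1, mem_nz.1 m.gS] at c)
variable (x : Ck3 K Γ) (n : Nf 3 S (C0 ⊔ zpowers g0) F)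
include x n
theorem su (q : NQ S ev F) : LH3 (imZ ev (F.A ((Q1 K).map ev))) ∧ K3 (imZ ev (F.A ((Q1 K).map ev))) ∧
    Su3 (imZ ev (F.A ((Q1 K).map ev))) :=
  have a := (x.tr _ _ _ _ _ _ _ _ m n).lh q
  ⟨a, x.la _ a, x.lb _ a (x.la _ a)⟩
theorem t1 (q : NQ S ev F) (ν : K) (h : ν ≠ 0) : ∃ τ ∈ F.A S, Wt ev τ (ν ^ 2) (ν ^ 3)⁻¹ (.refl K) :=
  let ⟨f, a, b⟩ := (su m x n q).2.2.1 ν h
  let ⟨τ, c, w⟩ := (x.tr _ _ _ _ _ _ _ _ m n).wt f a _ _ _ b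
  ⟨τ, c.2, w⟩
theorem ft (q : NQ S ev F) (r : NQ S ev (cjs g0⁻¹ F)) : FT S ev F := fun k l hk hl => by
  obtain ⟨ν, e⟩ : ∃ ν : K, ν ^ 3 = k ^ 3 * l ^ 2 :=
    Finite.injective_iff_surjective.1 (fun _ _ => cube_inj : Function.Injective fun y : K => y ^ 3) _
  obtain ⟨τ, a, w⟩ := t1 m x n q (k ^ 2 * l) (by simp [hk, hl])
  obtain ⟨τ', a', w'⟩ := t1 m x (m.sym n) r ν fun c => by simpa [c, hk, hl] using e.symm
  rw [symS m, mem_cj, inv_inv] at a'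
  refine ⟨_, mul_mem a a', (w.mul1 (wg m w')).cast ?_ ?_⟩
  · rw [e]; field_simp
  · rw [pow_right_comm, e]; field_simp
theorem dz (q : NQ S ev F) (t : FT S ev F) : ∃ d : K, (∀ k, k ≠ 0 → k ^ 2 * d = d) ∧
    zZ d * nZ * (zZ d)⁻¹ ∈ imZ ev (F.A ((Q1 K).map ev)) := by
  obtain ⟨a, b, -, w, hw, c1, c2, -⟩ := su m x n q
  obtain ⟨d, e1, e2⟩ := x.lc _ b (fun k l hk hl =>
    let ⟨τ, h, y⟩ := t k l hk hl
    let ⟨f, f1, f2⟩ := m.exW y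
    ⟨f, ⟨τ, m.r1 n.toSa h y, f1⟩, f2⟩) w hw (a.mM w hw) c1 c2
  exact ⟨d, e1, e2 ▸ hw⟩
theorem mm1 (t : FT S ev F) (z : nZ ∈ imZ ev (F.A ((Q1 K).map ev))) : M1 ∈ F.A ((Q1 K).map ev) :=
  let ⟨τ, h, y⟩ := t 1 (-1) one_ne_zero (by simp)
  x.n3 _ _ _ _ _ m.toCo m.toWy (F.cz_le_A _) ⟨τ, m.r1 n.toSa h y, y⟩ z
theorem le1 (n' : Sa 3 S F') (h1 : F.A S ≤ F'.A S) (q : NQ S ev F) (a : M1 ∈ F.A ((Q1 K).map ev))
    (a' : M1 ∈ F'.A ((Q1 K).map ev)) : F.A ((Q1 K).map ev) ≤ F'.A ((Q1 K).map ev) := by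
  have t := x.tr _ _ _ _ _ _ _ _ m n
  obtain ⟨-, b, -, w, hw, c1, -, c3⟩ := su m x n q
  have z : nZ ∈ imZ ev (F.A ((Q1 K).map ev)) := ⟨_, a, acM m.toWy⟩
  obtain rfl : nZ = w := inv_mul_eq_one.1 (b.1 _ (mul_mem (inv_mem z) hw) fun y => by
    simp [H24.SP.mul_ap, nZ_inv_ap, c1 y])
  refine n.toSa.le_A n' h1 (m.le _) m.nQ1 a a' (Y := ai S ((Q1 K).map ev)) (fun g hg => ?_)
    fun g hg => ext_of n.sat n.eS (m.le _) m.nQ1 hg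
  obtain ⟨f, hf⟩ := t.ex g hg
  refine (c3 f ⟨g, hg, hf⟩).imp (t.bo g hg f hf) fun ⟨τ, c⟩ => ⟨_, m.mS (xa (-τ)), t.bo _
    (mul_mem (mul_mem a (n.toSa.mA (m.mS _) (m.nQ1 (m.mS _)))) hg) _ (((acM m.toWy).mul (acS _)).mul hf) (by simpa using c)⟩
theorem le (n' : Nf 3 S (C0 ⊔ zpowers g0) F') (h1 : F.A S ≤ F'.A S) (a : M1 ∈ F.A ((Q1 K).map ev))
    (a' : M1 ∈ F'.A ((Q1 K).map ev)) (b : M1 ∈ (cjs g0⁻¹ F).A ((Q1 K).map ev)) (b' : M1 ∈ (cjs g0⁻¹ F').A ((Q1 K).map ev)) :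
    F ≤ F' := n.toSa.le n'.toSa h1 fun P e => by
  rcases x.kn _ _ _ _ _ _ _ _ m n P e with rfl | rfl
  · exact le1 m x n n'.toSa h1 (n.es e).not_nz a a'
  · have := le1 m x (m.sym n) (m.sym n').toSa (by rw [symS m, symS m]; exact cj_mono _ h1) (nq' m n.toSa e) b b'
    rwa [m.symA, m.symA, cj_le_cj] at this
theorem cases : Rl 3 F ∨ NQ S ev F ∧ NQ S ev (cjs g0⁻¹ F) :=
  (x.ca _ _ _ m.toCo n.toSa (x.kn _ _ _ _ _ _ _ _ m n)).imp .inl fun ⟨q, r⟩ => ⟨(n.es q).not_nz, nq' m n.toSa r⟩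
theorem fin (z : nZ ∈ imZ ev (F.A ((Q1 K).map ev))) (z' : nZ ∈ imZ ev ((cjs g0⁻¹ F).A ((Q1 K).map ev))) : Rl 3 F := by
  refine (cases m x n).elim id fun ⟨q, r⟩ => ?_
  have t := ft m x n q r
  obtain ⟨H, s, e, l⟩ := x.re _ _ _ _ _ _ _ _ m n t
  have n' : Nf 3 S (C0 ⊔ zpowers g0) (ofSub H S) := ⟨sa_of m.pg s, e ▸ n.hA⟩
  have a := mm1 m x n t z
  have b := mm1 m x (m.sym n) (ft' m t) z'
  have a' : M1 ∈ (ofSub H S).A ((Q1 K).map ev) := ofSub_A s.1 (m.le _) ▸ mem_ai_of_mem (l m.M1L) (m.nM1 m.toWy)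
  have b' : M1 ∈ (cjs g0⁻¹ (ofSub H S)).A ((Q1 K).map ev) := by
    rw [m.symA, mem_cj, inv_inv, ofSub_A s.1 (m.le _)]
    exact mem_ai_of_mem (l (conj_mem_of_mem_nz m.gL m.M1L)) (by rw [← m.g1, ← cj_nz]; exact conj_mem_cj g0 (m.nM1 m.toWy))
  exact n.toSa.rl s (le m x n n' e.le a a' b b') (le m x n' n e.ge a' a b' b)
theorem rl0 (o : Ho ev) : Rl 3 F := by
  refine (cases m x n).elim id fun ⟨q, r⟩ => ?_
  have t := ft m x n q r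
  obtain ⟨d, d1, d2⟩ := dz m x n q t
  obtain ⟨e, e1, e2⟩ := dz m x (m.sym n) r (ft' m t)
  obtain ⟨γ, -, n', z, z'⟩ := x.zt _ _ _ _ _ _ _ _ m o n t d e d1 e1 d2 e2
  exact .of_cjs γ (fin m x n' z z')
omit n in
theorem rl (o : Ho ev) (n : Sa 3 S F) : Rl 3 F :=
  let ⟨γ, _, n'⟩ := x.nf _ _ _ _ _ _ _ _ m n
  .of_cjs γ (rl0 m x n' o)

omit m x n in
theorem br3 (x : ∀ N, Ck3 K (Univ N)) : Br.{v, w} K 3 := by
  obtain ⟨G, _, _, ev, L, C0, M1, M2, g0, m, a, b, c, d⟩ := H22.GV.md3 K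
  exact br_of (R := fun _ ev => ∃ L C0 M1 M2 g0, Md3 ev.range ev L C0 M1 M2 g0) (em_of m.inj fun _ i hi =>
      ⟨_, _, _, _, i g0, m.map hi, (nz_map hi).2 a, (nz_map hi).2 b, map_mul i g0 g0 ▸ mem_map_of_mem i c,
        fun u => (cj_map hi).2 (d u)⟩)
    fun N _ _ ⟨_, _, _, _, _, m⟩ _ o n => rl m (x N) o n

end H22.G3
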