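/-
Standard `U₄(2)`: the product endgame and the doubling.
-/
import Cfsg.Agent.H18.G0
import Cfsg.Agent.H26.UE5
import Cfsg.Agent.H12.AE5

set_option autoImplicit false
set_option linter.unusedSectionVars false
set_option linter.style.haveILetI false

namespace H22.G38
section ty
open Cfsg Subgroup H19 H28.CY H28.SF H12 H11 H22 H26.UE Module Matrix SemidirectProduct

variable {F : Type*} [Field F] [Fintype F] [CharP F 2] {q m n : ℕ} {hF : Fintype.card F = q ^ 2}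
  (hn : 1 ≤ n) (hq : q = 2 ^ n) (h4 : m = 4)
local notation "𝐋" => MonoidHom.range (lam hF m)
attribute [local instance] H26.UE.cg
include hn hq h4

theorem tyI : ∃ U Γ, Ty 𝐋 U Γ (rI hF m) ∧ H12.SF.TyP 𝐋 U Γ (rI hF m) := by
  have hm : 4 ≤ m := h4.ge
  have hm' : 3 ≤ m := by omega
  have h3 := h3' (q := q) hm
  have μ := md (hF := hF) hm' h3
  have := μ.nor
  have := isCyclic_ringAut (F := F)
  have := Fintype.ofFinite (GaloisField 2 n)
  have h0 : Fintype.card (GaloisField 2 n) = q := by rw [hq, ← Nat.card_eq_fintype_card, GaloisField.card 2 n (by omega)]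
  obtain ⟨τ, j, hτ, hj⟩ := exists_frob_emb hF _ h0
  obtain ⟨P, hP⟩ := exists_syl 2 (⊤ : Subgroup (RingAut F))
  obtain ⟨S, hS, l⟩ := (PiN.of_elt (H := P.map (ph hF m)) fun _ ⟨x, hx, e⟩ p hp d =>
    hP.pi.elt hx p hp (d.trans (e ▸ orderOf_map_dvd _ _))).exists_syl le_top
  have mP : ∀ s ∈ S, ph hF m (rI hF m s) ∈ P.map (ph hF m) := fun s hs => mem_map_of_mem _ (hP.mem_of_normal
    (normalIn_top (H := P)).norm (mem_top _) fun p hp d => hS.pi.elt hs p hp (d.trans (orderOf_map_dvd _ _)))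
  have mU : ∀ s ∈ S, s * (ph hF m (rI hF m s))⁻¹ ∈ S ⊓ 𝐋 := fun s hs => have := mul_mem hs (inv_mem (l (mP s hs)))
    ⟨this, μ.two _ (hS.pi.elt this) (by rw [map_mul, map_inv, r_ph, mul_inv_cancel])⟩
  have e : S ⊓ 𝐋 ⊔ P.map (ph hF m) = S := le_antisymm (sup_le inf_le_left l) fun s hs =>
    inv_mul_cancel_right s (ph hF m (rI hF m s)) ▸ mul_mem_sup (mU s hs) (mP s hs)
  have cm : C((ph hF m).range) ≤ C(P.map (ph hF m)) := cent_mono (map_le_range _ _)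
  obtain ⟨v, ν⟩ := μ.sv hS (by simpa using hm)
  have cU : #(S ⊓ 𝐋 : Subgroup _) = q ^ (m * (m - 1) / 2) := by
    have e' : q ^ (m * (m - 1) / 2) = 2 ^ (n * (m * (m - 1) / 2)) := by rw [hq, pow_mul]
    rw [← e2_eq (hS.inf_normal normalIn_top), e']
    refine e2_of (r' := q + 1) (by rw [← Nat.card_congr (MonoidHom.ofInjective lam_inj).toEquiv, card_SU_mul hF (by omega), card_GU hF, e'])
      (odd_prod fun i _ => ?_) (by simpa [hq] using odd_succ hn le_rfl)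
    split_ifs
    exacts [hq ▸ odd_succ hn (by omega), hq ▸ odd_pred hn (by omega)]
  have I : ∀ a, rI hF m a = 1 → a * a = 1 → _ := fun a => μ.inner (j := a) (Nat.card_eq_fintype_card.trans hF)
    ((Nat.card_eq_fintype_card.trans h0).ge.trans (Nat.card_le_card_of_injective
      (fun x => ⟨j x, (hτ _).symm.trans ((hj _).2 ⟨x, rfl⟩)⟩) fun _ _ h => j.injective (congrArg Subtype.val h))) ν.dim
  simp only [Module.finrank_fin_fun] at I
  have G : ∀ a, a * a = 1 → rI hF m a ≠ 1 → _ := fun a => EE_gr (a := a) hm' h3 hn hq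
  have E0 : ∀ a, a * a = 1 → q ^ (m / 2) ^ 2 ≤ EE 𝐋 a := fun a aa =>
    (em' (rI hF m a = 1)).elim (fun r => (G a aa r).ge) fun r => (I a r aa).1.le
  have q2 : 2 ≤ q := hq ▸ Nat.pow_le_pow_right two_pos hn
  have lt : ∀ {i j : ℕ}, i + 2 ≤ j → 2 * q ^ i < q ^ j := fun {i j} h => lt_of_lt_of_le (by
    rw [pow_add, mul_comm]; exact Nat.mul_lt_mul_of_pos_left (by nlinarith) (by positivity)) (Nat.pow_le_pow_right (by omega) h)
  refine ⟨S ⊓ 𝐋, P.map (ph hF m), ⟨μ.nor, e.symm ▸ hS, inf_le_right, μ.ρL, fun _ ⟨x, _, e⟩ h => by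
      subst e; rw [show x = 1 from h, map_one], l.trans (norms_inf le_normalizer (le_top.trans normalIn_top.norm)),
      fun a ha aa => ?_, fun K h => μ.gen K fun g _ _ e => h g (μ.EL e) (μ.sq e (map_zero _))⟩,
    ⟨fun A B h1 h2 => ν.ca (iv2 (hF := hF)) (h1.trans e.le) (h2.trans e.le), ν.zd, ν.nc, e.symm ▸ ν.el,
      fun a b aa bb _ => ?_, 1, fun y a b yy aa bb h => ⟨fun k => (k rfl).elim, fun _ r _ => ?_⟩⟩⟩
  · by_cases r : rI hF m a = 1
    · exact (nf_in hm' h3 (μ.two a (two_of_sq aa) r) aa).imp fun _ h => ⟨h.1, cm h.2⟩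
    obtain ⟨b, h1, h2, -, g, r', k⟩ := cls hn hq hm hτ aa r
    have h4 : rI hF m a = τ := RingEquiv.ext fun x => (iv2 (hF := hF) _ (rsq aa) r x).trans (hτ x).symm
    have h5 := mul_mem (mem_inf.1 (mU a (e.le ha))).2 (inv_mem h2)
    rw [h4, _root_.mul_inv_rev, inv_inv, ← mul_assoc, inv_mul_cancel_right] at h5
    refine ⟨g, in_L r' h5 (fun c => ?_) k, k ▸ cm h1⟩
    rw [← k, map_mul, map_mul, map_inv, r', h4]; simpa using hτ c
  · rw [cU]
    refine .inl ((lt ?_).trans_le ((pow_add _ _ _).le.trans (Nat.mul_le_mul (E0 a aa) (E0 b bb))))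
    rw [h4]; decide
  rw [G y yy r] at h
  have p : 0 < q ^ (m / 2) ^ 2 := by positivity
  by_cases r1 : rI hF m a = 1 <;> by_cases r2 : rI hF m b = 1
  · rw [r1, r2]
  · exact absurd h (Nat.mul_lt_mul_of_lt_of_le (I a r1 aa).1 (E0 b bb) (p.trans_le (E0 b bb))).ne'
  · exact absurd h (Nat.mul_lt_mul_of_le_of_lt (E0 a aa) (I b r2 bb).1 (p.trans_le (E0 a aa))).ne'
  · exact RingEquiv.ext fun x => (iv2 (hF := hF) _ (rsq aa) r1 x).trans (iv2 (hF := hF) _ (rsq bb) r2 x).symm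


include hF in
theorem tyA : ∃ (U Γ : Subgroup (MulAut (PSU m F q))) (ρ : _ →* RingAut F),
    Ty (Inn _) U Γ ρ ∧ H12.SF.TyP (Inn _) U Γ ρ := by
  have hm' : 3 ≤ m := by omega
  obtain ⟨U, Γ, h1, h2⟩ := tyI (hF := hF) hn hq h4
  obtain ⟨ρ, e⟩ := ex_r (hF := hF) hm' (h3' h4.ge)
  have κ := cov (hF := hF) hm' (h3' h4.ge)
  rw [← e] at h1 h2
  exact ⟨_, _, ρ, map_L (hF := hF) hm' ▸ κ.ty h1, map_L (hF := hF) hm' ▸ H12.SF.cov_typ κ h1 h2⟩

omit hn hq h4 in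
theorem pe {G : Type*} [Group G] [Finite G] {X : Subgroup G} (nX : X.Normal) (sX : IsSimpleGroup X) (hF : Fintype.card F = (2 ^ 1) ^ 2)
    (ψ : SU 4 F (2 ^ 1) →* G) {t : G} (tt : t * t = 1) (hk : ψ.ker ≤ center _) (LX : ψ.range ≤ X) (c : ψ.range ≤ C(H19.cj t ψ.range))
    (ct : C[t] ≤ N(ψ.range ⊔ H19.cj t ψ.range)) (o : PiG {2}ᶜ C(ψ.range ⊔ H19.cj t ψ.range)) :
    ∃ P, Syl 2 P ψ.range ∧ Syl 2 (P ⊔ H19.cj t P) X := by
  have hm' : 3 ≤ 4 := by omega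
  have zc := (suData hF hm').center_eq_bot
  obtain ⟨U, Γ, ρ, τ, p⟩ := tyA (hF := hF) le_rfl rfl rfl
  obtain ⟨f, θ, -⟩ := th_of ψ hk (su_perfect hF hm' (h3' le_rfl)) zc
    (o.of_le (by rw [cent_sup]; exact le_inf inf_le_right (inf_le_left.trans c)))
  refine H12.SF.pe ⟨τ, p, θ, tt, c, ct, fun g => θ.pm (sim_inn (psu_simple hF hm' (h3' le_rfl)) zc) c, o⟩ nX ⟨sX, fun h => ?_⟩ LX
  obtain ⟨a, ha, b, hb, -, -, ne⟩ := p.nc
  obtain ⟨x, hx, rfl⟩ := θ.sur a (τ.UI ha)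
  obtain ⟨y, hy, rfl⟩ := θ.sur b (τ.UI hb)
  exact ne (by rw [← θ.mul _ (le_normalizer hx) _ (le_normalizer hy), ← θ.mul _ (le_normalizer hy) _ (le_normalizer hx),
    show x * y = y * x from congrArg Subtype.val (h.is_comm.comm ⟨x, LX hx⟩ ⟨y, LX hy⟩)])
end ty

open Cfsg Subgroup H19 H18.U2 H18.G38 Matrix
open H15.GC (ω ν)
universe u

theorem es1 : ES1.{u} := fun pl G _ _ X nX sX e t tt i LX c ct o => by
  have hF : Fintype.card 𝔽 = (2 ^ 1) ^ 2 := rfl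
  obtain ⟨ε, -⟩ := ex_su hF
  have r : (e.comp ε.symm.toMonoidHom).range = e.range := by
    rw [MonoidHom.range_comp, MonoidHom.range_eq_top.2 ε.symm.surjective, ← MonoidHom.range_eq_map]
  obtain ⟨P, h1, h2⟩ := pe nX sX hF (e.comp ε.symm.toMonoidHom) tt
    (((MonoidHom.ker_eq_bot_iff (e.comp ε.symm.toMonoidHom)).2 (i.comp ε.symm.injective)).le.trans bot_le)
    (r ▸ LX) (r ▸ c) (r ▸ ct) (r ▸ o)
  rw [r] at h1
  obtain ⟨g, hg, rfl⟩ := (syl_L e).sconj h1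
  have r1 : (cjh g e).range = e.range := (cjh_range g e).trans (cj_of_mem hg)
  have r2 : (cjh t (cjh g e)).range = H19.cj t e.range := by rw [cjh_range, r1]
  have m1 : ∀ x, cjh g e x ∈ X := fun x => LX (r1.le ⟨x, rfl⟩)
  have m2 : ∀ x, cjh t (cjh g e) x ∈ X := fun x => nX.conj_mem _ (m1 x) t
  have i1 : Function.Injective (cjh g e) := (MulAut.conj g).injective.comp i
  have k : ∀ (a : Γ4 →* G) (h : ∀ x, a x ∈ X), (Tm (a.codRestrict X h)).map X.subtype = Tm a := fun a h => Subgroup.map_map _ _ _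
  have k2 : ∀ (s : G) (a : Γ4 →* G), Tm (cjh s a) = H19.cj s (Tm a) := fun s a => by rw [cj_def, Subgroup.map_map]; rfl
  refine pl ((cjh g e).codRestrict X m1) ((cjh t (cjh g e)).codRestrict X m2) (fun _ _ h => i1 (congrArg Subtype.val h))
    (fun _ _ h => i1 ((MulAut.conj t).injective (congrArg Subtype.val h))) ?_ ?_
  · rintro _ ⟨x, rfl⟩
    refine mem_cent.2 ?_
    rintro _ ⟨y, rfl⟩
    exact Subtype.ext (mem_cent.1 (c (r1.le ⟨x, rfl⟩)) _ (r2.le ⟨y, rfl⟩))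
  · have := h2.subgroupOf_top
    rwa [← k2, ← k2, ← k _ m1, ← k _ m2, ← Subgroup.map_sup, subgroupOf, comap_map_eq_self_of_injective X.subtype_injective] at this

theorem Dle {G : Type u} [Group G] [Finite G] {ι : Γ4 →* G} {t : G} {X : Subgroup G} {ϑ : Hm 𝔽 → G} (nX : X.Normal) (LX : ι.range ≤ X)
    (D : Dbl ι t ϑ) : H18.U2.G0 ι ϑ ≤ X := by
  let q := QuotientGroup.mk' X
  have k : ∀ x, q (ι x) = 1 := fun x => (QuotientGroup.eq_one_iff _).2 (LX ⟨x, rfl⟩)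
  have k1 : ∀ β, q (ϑ (act β (nact (1, 0, 0)))) = q (ϑ (1, 0, 0)) := fun β => by rw [← D.u, ← D.n]; simp [k]
  refine G0_le (fun x => LX ⟨x, rfl⟩) (D.ind (fun _ => le_normalizer_of_normal (mem_top _)) ((QuotientGroup.eq_one_iff _).1 ?_))
  change q _ = 1
  rw [show ((1, 0, 0) : Hm 𝔽) = act 0 (nact (1, 0, 0)) + act 1 (nact (1, 0, 0)) + (act ω (nact (1, 0, 0)) + act ν (nact (1, 0, 0))) by
    decide +kernel, D.add, D.add, D.add, map_mul, map_mul, map_mul, k1, k1, k1, k1, ← map_mul, D.sq, map_one, mul_one]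

theorem db : DB.{u} := fun ef es G _ _ ι t X r ϑ D => by
  have H := r.toHyp
  obtain ⟨ρ, h⟩ := D.dis H
  rcases ex_root ρ with ⟨s, rfl⟩ | ⟨τ, e, rfl⟩
  · obtain ⟨e, i, c, k⟩ := (D.shift H s).sc H (D.shift' h) H15.GC.F4.ncard
    exact (es X r.nX r.sX e t H.tt i ((le_sup_left.trans k.le).trans (Dle r.nX r.LX (D.shift H s))) c (k ▸ (D.shift H s).nor H)
      (k ▸ (D.shift H s).odd' H)).elim
  · obtain ⟨Ψ, k, p, a⟩ := D.fc (by rw [← show τ + star τ = 1 from congrArg Subtype.val e, ← add_assoc, aa, zero_add]) H h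
    exact ef X r.nX r.sX Ψ t H.tt k (p ▸ Dle r.nX r.LX D) a (p ▸ D.nor H) (p ▸ D.odd' H)

end H22.G38
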