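/-
Standard `U₄(2)`: computations in the model of order 1024.
-/
import Cfsg.Agent.H18.G2

set_option autoImplicit false
set_option linter.unusedSectionVars false

namespace H22.G38
open Cfsg Subgroup H19 H18.U2 H18.G38

/-- the dihedral quotient -/
abbrev D8 : Type := DihedralGroup 4
/-- the image of the element with code `c` in the dihedral quotient -/
def rh (c : ℕ) : D8 := bif Nat.testBit 0x9966 (c / 64) then .sr ((0xF55F0AA0 >>> (2 * (c / 64)) : ℕ) : ZMod 4)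
  else .r ((0xF55F0AA0 >>> (2 * (c / 64)) : ℕ) : ZMod 4)
theorem rh_mul : ∀ c, ∀ g ∈ (MX c).gs, ∀ a : W (MX c), rh (el _ g * a).c = rh (el (MX c) g).c * rh a.c := by decide +kernel
/-- the map to the dihedral quotient -/
noncomputable def ρ8 (c : Bool) : W (MX c) →* D8 := homOf (fun a => rh a.c) (by rw [one_c]; decide +kernel) (rh_mul c)
/-- the cyclic subgroup -/
def Dr (d : D8) : Prop := d = .r 0 ∨ d = .r 1 ∨ d = .r 2 ∨ d = .r 3
/-- a four-group -/
def Dv (d : D8) : Prop := d = .r 0 ∨ d = .r 2 ∨ d = .sr 1 ∨ d = .sr 3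
instance iDr : DecidablePred Dr := fun d => by unfold Dr; infer_instance
instance iDv : DecidablePred Dv := fun d => by unfold Dv; infer_instance
theorem zc : ∀ c, ∀ g ∈ (MX c).gs, el (MX c) g * el _ 4 = el _ 4 * el _ g := by decide +kernel
theorem f1 : ∀ c, ∀ u : W (MX c), u * u = 1 → 5 ≤ cls [0, 162, 512, 674, 33, 721, 67] u ∨ u.c ∈ [0, 4, 8, 12] ∨
    ∃ r ∈ [64, 72, 273], ∃ g ∈ [0, 1, 2, 32, 33, 256, 512, 514, 544], el _ g * el _ r = u * el _ g := by decide +kernel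
/-- the subgroup `C_{Q₀}(a)` -/
def pA (c : ℕ) : Prop := Nat.testBit 0x5555aaaa00000000aaaa555500000000000000000000000000000000000000005555aaaa00000000aaaa5555 c = true
instance ipA : DecidablePred pA := fun d => by unfold pA; infer_instance
theorem fA : ∀ c, ∀ a : W (MX c), pA a.c → a * el _ 273 = el _ 273 * a ∧ pA a⁻¹.c ∧ (a * a = 1 ∨ a * a = el _ 4) ∧
    ∀ b : W (MX c), pA b.c → pA (a * b).c ∧ (a * b = b * a ∨ a * b = el _ 4 * (b * a)) := by decide +kernel
theorem cA : ∀ c, cnt (fun a : W (MX c) => pA a.c) = 64 ∧ cc (el (MX c) 273) = 256 ∧ cc (el (MX c) 8) = 512 := by decide +kernel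
theorem f2 : ∀ c, ∀ u : W (MX c), rh u.c = .r 0 → u * u = 1 → u.c < 64 ∨ (el _ 512 * u * (el _ 512)⁻¹).c < 64 := by decide +kernel
theorem f3 : ∀ c, ∀ u : W (MX c), ¬ Dr (rh u.c) → u * u = 1 →
    ∃ q ∈ [264, 81, 337, 10, 258, 11, 26], el (MX c) q * el _ q = el _ 4 ∧ el _ q * u = u * el _ q := by decide +kernel
theorem f4 : ∀ c, ∀ u : W (MX c), rh u.c = .sr 3 → u * u = 1 → 9 ≤ cls [0, 1, 32, 33, 64, 65, 96, 97, 256] u := by decide +kernel
theorem f5 : ∀ c, cnt (fun y : W (MX c) => y * y = el _ 273) < cnt fun y : W (MX c) => y * y = el _ 4 ∧ y * el _ 273 = el _ 273 * y := by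
  decide +kernel
theorem f6 : ∀ c, ∀ u : W (MX c), ¬ Dv (rh u.c) → u * u = 1 → u * el _ 273 = el _ 273 * u → ∃ r ∈ [65, 66, 80, 160],
    ∃ g ∈ [0, 1, 2, 3, 16, 17, 18, 19, 32, 33, 34, 128, 129, 136, 512, 513, 514, 515, 528, 529, 530, 531, 544, 545, 546, 640, 641, 648],
      el _ g * el _ r = u * el _ g := by decide +kernel
theorem f7 : ∀ c, ∀ u : W (MX c), ¬ Dv (rh u.c) → u * u = 1 → u * el _ 8 = el _ 8 * u →
    ∃ p ∈ [64, 68, 96, 108, 116, 124, 128, 129, 136, 141, 320, 324], ∃ q ∈ [64, 68, 96, 108, 116, 124, 128, 129, 136, 141, 320, 324],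
      (el _ p * el _ q * u).c ∈ [64, 68, 96, 108, 116, 124, 128, 129, 136, 141, 320, 324] := by decide +kernel
theorem f8 : ∀ c, ∀ p ∈ [64, 68, 96, 108, 116, 124, 128, 129, 136, 141, 320, 324], el (MX c) p * el _ 8 = el _ 8 * el _ p ∧
    ∃ r ∈ [64, 96], ∃ g ∈ [0, 1, 2, 3, 256, 512, 514, 528, 530, 544], el (MX c) g * el _ r = el _ p * el _ g := by decide +kernel

end H22.G38
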