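/-
Standard `U₄(2)`: the chunks BY, BP, BQ.
-/
import Cfsg.Agent.H22.G85
import Cfsg.Agent.H24.G38c

set_option autoImplicit false
set_option linter.unusedSectionVars false

namespace H22.G38
open Cfsg Subgroup H19 H28.CY H18.U2 H18.G38
open H15.GC (ω ν)
open H24.G38 (Aa aab aaw fb)
universe u
variable {G : Type u} [Group G] [Finite G] {ι : Γ4 →* G} {g k s t w x y : G} {C X : Subgroup G} {l : Γ4}

section
variable {M : Md} [M.Ok] {Ψ : W M →* G}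
theorem thmF {A : Type*} [CommGroup A] (hΨ : Function.Injective Ψ) (hX : X ≤ ⁅X, X⁆) (nX : X.Normal) (hS : Syl 2 Ψ.range ⊤) (f : W M → A)
    (hf : ∀ a b, Ψ a ∈ X → Ψ b ∈ X → f (a * b) = f a * f b) (hi : ∀ a b : A, a ^ 2 = 1 → b ^ 2 = 1 → a ≠ 1 → b ≠ 1 → a = b)
    (yy : y * y = 1) (hC : PG 2 C) (l : C ≤ X ⊓ C[y]) (yC : y ∈ C) :
    ∃ g ∈ X, H19.cj g C ≤ Ψ.range ∧ ∃ u, Ψ u = g * y * g⁻¹ ∧ f u = 1 := by
  choose p hp using fun g : (Ψ.range ⊓ X : Subgroup G) => g.2.1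
  obtain ⟨g, hg, h1, h2, h3⟩ := thmX hX (hS.inf_normal (normalIn_top (H := X))) (MonoidHom.mk' (fun g => f (p g)) fun a b => by
    rw [← hf _ _ (hp a ▸ a.2.2) (hp b ▸ b.2.2)]; exact congrArg f (hΨ (by rw [map_mul, hp, hp, hp]; rfl))) hi yy hC l yC
  exact ⟨g, hg, h1.trans inf_le_left, _, hp ⟨_, h2⟩, h3⟩
theorem cntle (hΨ : Function.Injective Ψ) (k : G) (p q : W M → Prop) [DecidablePred p] [DecidablePred q]
    (h : ∀ y, p y → ∃ y', Ψ y' = k * Ψ y * k⁻¹ ∧ q y') : cnt p ≤ cnt q := by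
  classical
  choose f h1 h2 using h
  rw [← cnt_eq, ← cnt_eq]
  refine Set.ncard_le_ncard_of_injOn (fun y => if h : p y then f y h else y) (fun y hy => by simpa [show p y from hy] using h2 y hy)
    (fun a ha b hb e => hΨ ?_) (Set.toFinite _)
  simp only [show p a from ha, show p b from hb, dite_true] at e
  have := congrArg Ψ e
  rwa [h1, h1, mul_left_inj, mul_right_inj] at this
theorem cjW {a b g : W M} (h : g * a = b * g) : IsConj (Ψ a) (Ψ b) := Ψ.map_isConj (isConj_iff.2 ⟨g, mul_inv_eq_iff_eq_mul.2 h⟩)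
end

theorem allz (H : H18.U2.Hyp ι t) (b : Bw ι t s w) (ll : l * l = 1) (l1 : l ≠ 1) : IsConj (ι zz) (ι l) := by
  refine (inv_cls ll l1).elim ι.map_isConj fun h => .trans ?_ (ι.map_isConj h)
  have e : IsConj v0 e0 := short eT (by decide +kernel) (by decide +kernel) (by decide +kernel) (by decide +kernel)
  exact ((ι.map_isConj e).trans (isConj_iff.2 ⟨_, ((aab H (aaw b.wq (b.wt H) b.we) 0).v (1, 0, 1)).trans
    (congrArg ι (by decide +kernel))⟩)).symm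
theorem tq (H : H18.U2.Hyp ι t) (h : IsConj v0 l) : IsConj (t * ι v0) (ι l * t) := by
  obtain ⟨k, rfl⟩ := isConj_iff.1 h
  exact isConj_iff.2 ⟨ι k, by rw [← conj_mul, H.tcj, ι_cj, H.cen]⟩
theorem idx2 (r : St ι t X) (tX : t ∉ X) : X.index = 2 := index_eq_two_iff.2 ⟨t, fun g => (r.gen g).elim
  (fun h => .inr ⟨h, fun k => tX ((X.mul_mem_cancel_left h).1 k)⟩) fun h => .inl ⟨h, fun k => tX ((X.mul_mem_cancel_left k).1 h)⟩⟩

/-- the configuration in the model of order 1024 -/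
structure Cx (ι : Γ4 →* G) (t s w x : G) (X : Subgroup G) (c : Bool) (Ψ : W (MX c) →* G) : Prop extends Sr ι t X where
  b : Bw ι t s w
  bx : Bx ι t s w x
  n : ¬ IsConj t (t * ι v0)
  re : Re Ψ ι
  pt : Ψ (el _ 64) = t
  ps : Ψ (el _ 128) = s
  pw : Ψ (el _ 256) = w
  px : Ψ (el _ 512) = x
  rg : Ψ.range = Tm ι ⊔ zpowers t ⊔ zpowers s ⊔ zpowers w ⊔ zpowers x
theorem ex_cx (r : Sr ι t X) (b : Bw ι t s w) (n : ¬ IsConj t (t * ι v0)) (bx : Bx ι t s w x) : ∃ c Ψ, Cx ι t s w x X c Ψ :=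
  let ⟨c, Ψ, p1, p2, p3, p4, p5, p6⟩ := reX r.H b bx; ⟨c, Ψ, r, b, bx, n, p1, p2, p3, p4, p5, p6⟩
theorem nX (c : Bool) : (MX c).n = 2 ^ 10 := by cases c <;> rfl

namespace Cx
variable {c : Bool} {Ψ : W (MX c) →* G} (h : Cx ι t s w x X c Ψ) {u : W (MX c)}
include h
theorem H : H18.U2.Hyp ι t := h.toHyp
theorem i : Function.Injective Ψ := h.re.inj
theorem pg : PG 2 Ψ.range := pg_rg h.i (nX c)
theorem cz : Ψ.range ≤ C[ι zz] := by
  rintro _ ⟨a, rfl⟩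
  rw [← h.re.cz, mem_cent1, ← map_mul, ← map_mul, mem_cent1.1 (W.top (K := C[el _ 4]) (fun g hg => mem_cent1.2 (zc c g hg)) a)]
theorem r1 : Ψ (el _ 96) = t * ι (zb 0) := by
  rw [(by decide +kernel : ∀ c, el (MX c) 96 = el _ 64 * el _ 32), map_mul, h.pt, h.re.cz0]
theorem tr1 : wb ι w 0 * t * (wb ι w 0)⁻¹ = t * ι (zb 0) := (aab h.H (aaw h.b.wq (h.b.wt h.H) h.b.we) 0).t
theorem nt (a : ℕ) (k : a < 64 ∧ (∀ c, el (MX c) (a + 64) = el _ a * el _ 64) ∧ tc a * tc a = 1 ∧ tc a ≠ 1 ∧ tc a ≠ zz ∧ ∀ β, tc a ≠ zb β) :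
    ¬ IsConj t (Ψ (el _ (a + 64))) := fun e => h.n (e.trans (by
  rw [k.2.1, map_mul, h.pt, h.re.T a k.1]; exact (tq h.H (short (tcU a) k.2.2.1 k.2.2.2.1 k.2.2.2.2.1 k.2.2.2.2.2)).symm))
theorem big (uu : u * u = 1) (k : 256 ≤ cc u) : u.c ∈ [0, 4, 8, 12] ∨ ∃ r ∈ [64, 72, 273], ∃ g, g * el _ r = u * g := by
  refine ((f1 c u uu).resolve_left fun e => ?_).imp_right fun ⟨r, hr, g, _, e⟩ => ⟨r, hr, _, e⟩
  have := (Nat.mul_le_mul e k).trans (cls_le _ u)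
  rw [nX] at this; omega
theorem na (ql : QL.{u}) : ¬ IsConj t (Ψ (el _ 273)) := fun e => by
  let A : Subgroup (W (MX c)) := ⟨⟨⟨{a | pA a.c}, fun {a b} ha hb => ((fA c a ha).2.2.2 b hb).1⟩, by change pA 0; decide⟩, fun {a} ha => (fA c a ha).2.1⟩
  have zp : ∀ a, a = 1 ∨ a = el _ 4 → Ψ a ∈ zpowers (ι zz) := by
    rintro _ (rfl | rfl)
    exacts [map_one Ψ ▸ one_mem _, h.re.cz ▸ mem_zpowers _]
  have := ql G ι t X h.toSr s h.b.os (isConj_iff.2 ⟨w, h.b.wt h.H⟩) h.n _ (Ψ.range ⊓ C[Ψ (el _ 273)]) (A.map Ψ) e (h.pg.infl _)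
    ((card_cent h.i _).trans (cA c).2.1) inf_le_right (inf_le_left.trans h.cz)
    (map_cent h.i _ ▸ map_mono fun a ha => mem_cent1.2 (fA c a ha).1)
    (by rw [card_map_of_injective h.i, card_sub (p := fun a => pA a.c) fun _ => Iff.rfl, (cA c).1])
    (by rintro _ ⟨a, ha, rfl⟩; exact map_mul Ψ a a ▸ zp _ (fA c a ha).2.2.1)
    (by
      rintro _ ⟨a, ha, rfl⟩ _ ⟨b, hb, rfl⟩
      rw [← map_inv, ← map_inv, ← map_mul, ← map_mul, ← map_mul]
      exact zp _ (((fA c a ha).2.2.2 b hb).2.imp (fun e => by rw [e]; group) fun e => by rw [e]; group))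
    (Ψ (el _ 285)) ⟨_, (by decide +kernel : ∀ c, pA (el (MX c) 285).c) c, rfl⟩
    (e.trans (cjW (g := el _ 33) ((by decide +kernel : ∀ c, el (MX c) 33 * el _ 273 = el _ 285 * el _ 33) c)))
  rw [← h.re.cz, ← map_mul, h.i.eq_iff, h.i.eq_iff] at this
  exact (by decide +kernel : ∀ c, ¬ (el (MX c) 285 = el _ 273 ∨ el (MX c) 285 = el _ 273 * el _ 4)) c this
theorem key (ql : QL.{u}) (e : IsConj t (Ψ u)) (k : #(Tm ι ⊔ zpowers t ⊔ zpowers s) ≤ cc u) : ∃ g, g * el _ 64 = u * g := by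
  rw [h.b.os.card h.H] at k
  rcases h.big (sq_W h.i h.tt e) k with m | ⟨r, hr, g, m⟩
  · exact absurd (h.re.lo (a := u) (by simp at m; omega) ▸ e) (h.toSr.NL _)
  simp only [List.mem_cons, List.not_mem_nil, or_false] at hr
  rcases hr with rfl | rfl | rfl
  exacts [⟨g, m⟩, absurd (e.trans (cjW m).symm) (h.nt 8 (by decide +kernel)), absurd (e.trans (cjW m).symm) (h.na ql)]
theorem toz (hS : Syl 2 Ψ.range ⊤) (e : IsConj (ι zz) y) (hC : PG 2 C) (l : C ≤ C[y]) : ∃ g, g * y * g⁻¹ = ι zz ∧ H19.cj g C ≤ Ψ.range := by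
  obtain ⟨g, e⟩ := isConj_iff.1 e.symm
  obtain ⟨k, hk, q⟩ := (hS.of_le h.cz le_top).scj_le (K := H19.cj g C) (by rw [← e, ← cj_cent1]; exact cj_mono g l) (hC.J g)
  exact ⟨k * g, by rw [cj2, e, mem_cent1.1 hk, mul_inv_cancel_right], by rwa [cj_mul]⟩
theorem lz (e : u.c < 64) (uu : u * u = 1) (u1 : u ≠ 1) : IsConj (ι zz) (Ψ u) := by
  rw [h.re.lo e]
  refine allz h.H h.b (h.inj ?_) fun k => u1 (h.i ?_)
  · rw [map_mul, ← h.re.lo e, ← map_mul, uu, map_one, map_one]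
  · rw [h.re.lo e, k, map_one, map_one]
variable (tX : t ∉ X)
include tX
theorem mm (a b : G) : a * b ∈ X ↔ (a ∈ X ↔ b ∈ X) := mul_mem_iff_of_index_two (idx2 h.toSt tX)
theorem cX (a g : G) : g * a * g⁻¹ ∈ X ↔ a ∈ X := haveI := h.nX; by rw [h.mm tX, h.mm tX, inv_mem_iff]; tauto
theorem r1X : t * ι (zb 0) ∉ X := fun k => tX ((X.mul_mem_cancel_right (h.LX ⟨_, rfl⟩)).1 k)
theorem memX (D : D8 → Prop) (d1 : D (.r 0) ∧ D (.r 2) ∧ ¬ D (.sr 0) ∧ ¬ D (.sr 2)) (hD : ∀ a b, D (a * b) ↔ (D a ↔ D b))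
    (hx : x ∈ X ↔ D (.sr 3)) (a : W (MX c)) : Ψ a ∈ X ↔ D (rh a.c) := by
  refine W.ind (p := fun a => Ψ a ∈ X ↔ D (ρ8 c a)) (by rw [map_one, map_one]; exact iff_of_true (one_mem _) d1.1) (fun g hg a e => ?_) a
  rw [map_mul, map_mul, h.mm tX, hD, e]
  refine iff_congr ?_ Iff.rfl
  rcases (by decide +kernel : ∀ c, ∀ g ∈ (MX c).gs, g < 64 ∧ rh (el (MX c) g).c = .r 0 ∨ g = 64 ∧ rh (el (MX c) g).c = .sr 0 ∨
    g = 128 ∧ rh (el (MX c) g).c = .sr 2 ∨ g = 256 ∧ rh (el (MX c) g).c = .r 2 ∨ g = 512 ∧ rh (el (MX c) g).c = .sr 3) c g hg with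
    ⟨k, e⟩ | ⟨rfl, e⟩ | ⟨rfl, e⟩ | ⟨rfl, e⟩ | ⟨rfl, e⟩ <;> rw [show ρ8 c _ = _ from e]
  · exact iff_of_true (h.re.T g k ▸ h.LX ⟨_, rfl⟩) d1.1
  · exact iff_of_false (h.pt ▸ tX) d1.2.2.1
  · exact iff_of_false (by rw [h.ps, ← h.bx.xr, h.cX tX]; exact h.r1X tX) d1.2.2.2
  · refine iff_of_true ?_ d1.2.1
    have := h.cX tX t x
    rw [h.bx.xt, h.mm tX] at this
    rw [h.pw]; tauto
  · rwa [h.px]

theorem bp (hS : Syl 2 Ψ.range ⊤) : x * t ∉ X := fun hx => by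
  have m := h.memX tX Dr (by decide) (by decide) (iff_of_false (fun k => tX ((X.mul_mem_cancel_left k).1 hx)) (by decide))
  have u0 : Ψ (el _ 224) = t * ι (zb 0) * s := by
    rw [(by decide +kernel : ∀ c, el (MX c) 224 = el _ 96 * el _ 128), map_mul, h.r1, h.ps]
  obtain ⟨e1, e2, e3, e4, e5⟩ := (by decide +kernel : ∀ c, el (MX c) 224 * el _ 224 = 1 ∧ el (MX c) 224 ≠ 1 ∧ Dr (rh (el (MX c) 224).c) ∧
    el (MX c) 96 * el _ 224 = el _ 224 * el _ 96 ∧ el (MX c) 96 * el _ 96 = 1) c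
  have yy : Ψ (el _ 224) * Ψ (el _ 224) = 1 := by rw [← map_mul, e1, map_one]
  let F : D8 → Multiplicative (ZMod 4) := fun d => match d with | .r k => .ofAdd k | .sr k => .ofAdd k
  obtain ⟨g, hg, -, u, p, q⟩ := thmF h.i h.toSt.perf h.nX hS (fun a => F (ρ8 c a)) (fun a b ha hb => by
      rw [map_mul]; exact (by decide : ∀ a b, Dr a → Dr b → F (a * b) = F a * F b) _ _ ((m a).1 ha) ((m b).1 hb)) hi4 yy
    (piG_zpowers.2 (two_of_sq yy)) (zpowers_le.2 ⟨(m _).2 e3, mem_cent1_self _⟩) (mem_zpowers _)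
  have uu : u * u = 1 := h.i (by rw [map_mul, p, conj_mul, yy, map_one]; simp)
  have u1 : u ≠ 1 := fun k => e2 (h.i (by rwa [k, eq_comm, map_one, conj_eq_one_iff, ← map_one Ψ] at p))
  have cz : IsConj (ι zz) (Ψ (el _ 224)) := .trans ((f2 c u ((by decide : ∀ a, Dr a → F a = 1 → a = .r 0) _
      ((m u).1 (p ▸ (h.cX tX _ _).2 ((m _).2 e3))) q) uu).elim (fun k => h.lz k uu u1) fun k =>
      (h.lz k (by rw [conj_mul, uu]; simp) (by simpa using u1)).trans (cjW (inv_mul_cancel_right ..).symm).symm)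
    (isConj_iff.2 ⟨g, p.symm⟩).symm
  have rr : Ψ (el _ 96) * Ψ (el _ 96) = 1 := by rw [← map_mul, e5, map_one]
  obtain ⟨k, k1, k2⟩ := h.toz hS cz (piG_zpowers.2 (two_of_sq rr)) (zpowers_le.2 (mem_cent1.2 (by rw [← map_mul, e4, map_mul])))
  obtain ⟨v, hv⟩ := k2 (conj_mem_cj.2 (mem_zpowers _))
  obtain ⟨q, -, q1, q2⟩ := f3 c v (fun d => h.r1X tX (by rwa [← m, hv, h.cX tX, h.r1] at d))
    (h.i (by rw [map_mul, hv, conj_mul, rr, map_one]; simp))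
  have a := aab h.H (aaw h.b.wq (h.b.wt h.H) h.b.we) 0
  have tr := h.tr1
  generalize wb ι w 0 = n at a tr
  have c1 : (k * n)⁻¹ * Ψ (el _ q) * (k * n) ∈ C[t] := mem_cent1.2 (by
    have := congrArg Ψ q2
    rw [map_mul, map_mul, hv, h.r1, ← tr, ← cj2] at this
    rw [← mul_right_inj (k * n), ← mul_left_inj (k * n)⁻¹]
    calc _ = Ψ (el _ q) * (k * n * t * (k * n)⁻¹) := by group
      _ = _ := by rw [this]; group)
  have c2 := ac_sq h.H c1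
  rw [show ∀ a, (k * n)⁻¹ * a * (k * n) * ((k * n)⁻¹ * a * (k * n)) = (k * n)⁻¹ * (a * a) * (k * n) from fun a => by group,
    ← map_mul, q1, h.re.cz, ← k1, u0, show (k * n)⁻¹ * (k * (t * ι (zb 0) * s) * k⁻¹) * (k * n) = n⁻¹ * (t * ι (zb 0) * s) * n by group] at c2
  have a1 : Aa ι t t id 0 := ⟨fun y => by rw [h.cen, mul_inv_cancel_right]; rfl, by simp [up_0]⟩
  have a2 : Aa ι t s (hσ st) 0 := ⟨fun y => by rw [h.b.os.ac, φ_up, map_zero], by simp [up_0, h.b.os.ct]⟩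
  have a3 := (((a.inv (f' := fb 0) (p' := (0, 0, 1)) (by decide +kernel)).mul ((a1.mul (.L (l := zb 0) (f := id) h.H (by decide +kernel))).mul a2)).mul a).of
    (f' := hσ st) (p' := 0) (by decide +kernel)
  exact outV h.inj (l := 1) (fun y => by rw [a3.v, φ_up, map_zero, one_mul, inv_one, mul_one]) c2

theorem noT (hx : x ∈ X) (e : IsConj t (Ψ u)) : u * el _ 273 ≠ el _ 273 * u := fun k => by
  have m := h.memX tX Dv (by decide) (by decide) (iff_of_true hx (by decide))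
  obtain ⟨g, q⟩ := isConj_iff.1 e
  obtain ⟨r, hr, g, -, p⟩ := f6 c u (fun d => tX (by rwa [← m, ← q, h.cX tX] at d)) (sq_W h.i h.tt e) k
  replace e := e.trans (cjW p).symm
  simp only [List.mem_cons, List.not_mem_nil, or_false] at hr
  rcases hr with rfl | rfl | rfl | rfl
  · exact h.nt 1 (by decide +kernel) e
  · exact h.nt 2 (by decide +kernel) e
  · exact h.nt 16 (by decide +kernel) e
  obtain ⟨e1, e2, e3⟩ := (by decide +kernel : ∀ c, el (MX c) 160 = el _ 32 * el _ 128 ∧ el (MX c) 132 = el _ 4 * el _ 128 ∧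
    el (MX c) 512 * el _ 100 = el _ 132 * el _ 512) c
  refine h.nt 36 (by decide +kernel) (e.trans (.trans (isConj_iff.2 ⟨ι nn, ?_⟩) (cjW e3).symm))
  have := h.b.os.ac nn
  rw [(by decide +kernel : φ st nn = (nn : Γ4)), mul_inv_eq_iff_eq_mul] at this
  rw [e1, e2, map_mul, map_mul, h.re.cz0, h.re.cz, h.ps, ← conj_mul, ← this, mul_inv_cancel_right, ι_cj]
  exact congrArg (ι · * s) (mul_inv_eq_iff_eq_mul.2 (by decide +kernel))

theorem bq (hS : Syl 2 Ψ.range ⊤) : x ∉ X := fun hx => by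
  have m := h.memX tX Dv (by decide) (by decide) (iff_of_true hx (by decide))
  obtain ⟨e1, e2, e3, e4, e5, e6, e7, e8⟩ := (by decide +kernel : ∀ c, el (MX c) 273 * el _ 273 = 1 ∧ el (MX c) 273 ≠ 1 ∧ Dv (rh (el (MX c) 273).c) ∧
    el (MX c) 273 ≠ el _ 4 ∧ el (MX c) 65 * el _ 65 = 1 ∧ el (MX c) 65 * el _ 273 = el _ 273 * el _ 65 ∧ ¬ Dv (rh (el (MX c) 65).c) ∧
    el (MX c) 12 = el _ 4 * el _ 8) c
  have yy : Ψ (el _ 273) * Ψ (el _ 273) = 1 := by rw [← map_mul, e1, map_one]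
  have c0 := (card_cent h.i _).trans (cA c).2.1
  have p0 : PG 2 (Ψ.range ⊓ C[Ψ (el _ 273)]) := h.pg.infl _
  have mR : ∀ {a}, a * el _ 273 = el _ 273 * a → Ψ a ∈ Ψ.range ⊓ C[Ψ (el _ 273)] := fun e =>
    ⟨⟨_, rfl⟩, mem_cent1.2 (by rw [← map_mul, e, map_mul])⟩
  let F : D8 → ℤˣ := fun d => if d = .r 0 ∨ d = .sr 3 then 1 else -1
  obtain ⟨g, hg, l, u, p, q⟩ := thmF h.i h.toSt.perf h.nX hS (fun a => F (ρ8 c a)) (fun a b ha hb => by
      rw [map_mul]; exact (by decide : ∀ a b, Dv a → Dv b → F (a * b) = F a * F b) _ _ ((m a).1 ha) ((m b).1 hb)) hiZ yy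
    (p0.infr X) (inf_le_inf_left _ inf_le_right) ⟨(m _).2 e3, mR rfl⟩
  have uu : u * u = 1 := h.i (by rw [map_mul, p, conj_mul, yy, map_one]; simp)
  have u1 : u ≠ 1 := fun k => e2 (h.i (by rwa [k, eq_comm, map_one, conj_eq_one_iff, ← map_one Ψ] at p))
  have cz : IsConj (ι zz) (Ψ (el _ 273)) := by
    refine .trans ?_ (isConj_iff.2 ⟨g, p.symm⟩).symm
    rcases (by decide : ∀ a, F a = 1 → a = .r 0 ∨ a = .sr 3) _ q with k | k
    · exact (f2 c u k uu).elim (fun k => h.lz k uu u1) fun k =>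
        (h.lz k (by rw [conj_mul, uu]; simp) (by simpa using u1)).trans (cjW (inv_mul_cancel_right ..).symm).symm
    have k1 := cj_W h.i l (inf_le_right.trans inf_le_right) p
    have k2 := card_inf_mul_relIndex X (Ψ.range ⊓ C[Ψ (el _ 273)])
    have k3 : X.relIndex (Ψ.range ⊓ C[Ψ (el _ 273)]) ≤ 2 := haveI := h.nX
      Nat.le_of_dvd two_pos (idx2 h.toSt tX ▸ relIndex_dvd_index_of_normal _ _)
    have k4 := (Nat.mul_le_mul (f4 c u k uu) k1).trans (cls_le _ u)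
    rw [nX] at k4
    nlinarith
  clear p q uu u1 l hg u g
  obtain ⟨g, p, l⟩ := h.toz hS cz p0 inf_le_right
  have zR : ι zz ∈ Ψ.range ⊓ C[Ψ (el _ 273)] := ⟨⟨_, h.re.cz⟩, mem_cent1_symm.1 (h.cz ⟨_, rfl⟩)⟩
  obtain ⟨ζ, q⟩ := l (conj_mem_cj.2 zR)
  have zi : ι zz * ι zz = 1 := by rw [← map_mul, zz2, map_one]
  have ζX := (m ζ).1 (q ▸ (h.cX tX _ _).2 (h.LX ⟨_, rfl⟩))
  rcases h.big (h.i (by rw [map_mul, q, conj_mul, zi, map_one]; simp)) (c0 ▸ cj_W h.i l (inf_le_left.trans h.cz) q) with k | ⟨r, hr, a, k⟩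
  · have k : ζ = el _ 8 ∨ ζ = el _ 4 * el _ 8 := by
      rw [← el_c ζ] at q ⊢
      simp only [List.mem_cons, List.not_mem_nil, or_false] at k
      rcases k with k | k | k | k <;> rw [k] at q ⊢
      · rw [el_0, map_one, eq_comm, conj_eq_one_iff] at q
        exact absurd (h.inj (q.trans (map_one ι).symm)) zz1
      · rw [h.re.cz, ← p, mul_left_inj, mul_right_inj, p, ← h.re.cz] at q
        exact absurd (h.i q) e4
      exacts [.inl rfl, .inr e8]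
    have l2 : H19.cj g (Ψ.range ⊓ C[Ψ (el _ 273)]) ≤ Ψ.range ⊓ C[Ψ (el _ 8)] := le_inf l fun y hy => by
      have y1 : y ∈ C[Ψ ζ] := by rw [q, ← cj_cent1]; exact cj_mono g (inf_le_left.trans h.cz) hy
      rcases k with rfl | rfl
      · exact y1
      · rw [map_mul, h.re.cz, mem_cent1, ← mul_assoc, mem_cent1.1 (h.cz (l hy)), mul_assoc, mul_assoc, mul_right_inj] at y1
        exact mem_cent1.2 y1
    have i2 : (H19.cj g (Ψ.range ⊓ C[Ψ (el _ 273)])).relIndex (Ψ.range ⊓ C[Ψ (el _ 8)]) = 2 := by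
      have := card_mul_relIndex l2
      rw [card_cj, c0, card_cent h.i, (cA c).2.2] at this
      omega
    have nt : ∀ a, IsConj t (Ψ a) → Ψ a ∉ H19.cj g (Ψ.range ⊓ C[Ψ (el _ 273)]) := fun a e k => by
      obtain ⟨_, ⟨⟨b, rfl⟩, k1⟩, k2⟩ := mem_cj'.1 k
      exact h.noT tX hx (e.trans (isConj_iff.2 ⟨g, k2⟩).symm) (h.i (by rw [map_mul, map_mul, mem_cent1.1 k1]))
    have b1 := (conj_mem_cj (g := g)).2 (mR e6)
    obtain ⟨β, hβ⟩ := l b1
    rw [← hβ] at b1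
    have tc : ∀ p ∈ [64, 68, 96, 108, 116, 124, 128, 129, 136, 141, 320, 324], Ψ (el _ p) ∈ Ψ.range ⊓ C[Ψ (el _ 8)] ∧
        Ψ (el _ p) ∉ H19.cj g (Ψ.range ⊓ C[Ψ (el _ 273)]) := fun p hp => by
      obtain ⟨k1, r, hr, a, -, k2⟩ := f8 c p hp
      refine ⟨⟨⟨_, rfl⟩, mem_cent1.2 (by rw [← map_mul, k1, map_mul])⟩, nt _ (.trans ?_ (cjW k2))⟩
      simp only [List.mem_cons, List.not_mem_nil, or_false] at hr
      rcases hr with rfl | rfl
      exacts [h.pt ▸ .refl _, h.r1 ▸ isConj_iff.2 ⟨_, h.tr1⟩]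
    obtain ⟨a, ha, b, hb, k⟩ := f7 c β (fun d => e7 (by rwa [← m, hβ, h.cX tX, m] at d))
      (h.i (by rw [map_mul, hβ, conj_mul, ← map_mul, e5, map_one]; simp)) (h.i (by rw [map_mul, map_mul, mem_cent1.1 (l2 b1).2]))
    refine (tc _ k).2 ?_
    rw [el_c, map_mul, map_mul]
    refine mul_mem ?_ b1
    exact (mul_mem_iff_of_index_two (H := (H19.cj g _).subgroupOf _) i2 (a := ⟨_, (tc a ha).1⟩) (b := ⟨_, (tc b hb).1⟩)).2
      (iff_of_false (tc a ha).2 (tc b hb).2)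
  simp only [List.mem_cons, List.not_mem_nil, or_false] at hr
  have k' : ∀ r, a * el _ r = ζ * a → Dv (rh (el (MX c) r).c) := fun r k => by
    rw [← m, ← h.cX tX _ (Ψ a), ← map_inv, ← map_mul, ← map_mul, k, mul_inv_cancel_right, m]; exact ζX
  rcases hr with rfl | rfl | rfl
  · exact absurd (k' _ k) ((by decide +kernel : ∀ c, ¬ Dv (rh (el (MX c) 64).c)) c)
  · exact absurd (k' _ k) ((by decide +kernel : ∀ c, ¬ Dv (rh (el (MX c) 72).c)) c)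
  refine (f5 c).not_ge (cntle h.i ((Ψ a)⁻¹ * g) _ _ fun y ⟨y1, y2⟩ => ?_)
  obtain ⟨y', e⟩ := l (conj_mem_cj.2 (mR y2))
  refine ⟨a⁻¹ * y' * a, by rw [map_mul, map_mul, map_inv, e]; group, ?_⟩
  have : y' * y' = ζ := h.i (by rw [map_mul, e, conj_mul, ← map_mul, y1, h.re.cz, q])
  rw [show a⁻¹ * y' * a * (a⁻¹ * y' * a) = a⁻¹ * (y' * y' * a) by group, this, ← k, inv_mul_cancel_left]
end Cx

theorem by' : BY.{u} := fun ql G _ _ ι t X r s w x b n bx => by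
  obtain ⟨c, Ψ, h⟩ := ex_cx r b n bx
  have l : Tm ι ⊔ zpowers t ⊔ zpowers s ≤ Ψ.range := h.rg ▸ le_sup_left.trans le_sup_left
  have hS := sylW h.i (nX c) l (b.os.syl r) h.pt fun u => h.key ql
  let χ : D8 →* ℤˣ := MonoidHom.mk' (fun d => if Dv d then 1 else -1) (by decide)
  refine ⟨h.rg ▸ hS, thomW h.i r.toSt hS (χ.comp (ρ8 c)) hiZ (b.os.syl r).pi (b.os.syl r).le (mem_sup_left (mem_sup_right (mem_zpowers t)))
    fun u e1 e2 e3 => ?_⟩
  obtain ⟨g, k⟩ := h.key ql e2 e3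
  have := congrArg (χ.comp (ρ8 c)) k
  rw [map_mul, map_mul, e1, one_mul, mul_eq_left] at this
  exact (by decide +kernel : ∀ c, χ (rh (el (MX c) 64).c) ≠ 1) c this
theorem bp : BP.{u} := fun G _ _ ι t X r s w x b n bx hS tX =>
  let ⟨_, _, h⟩ := ex_cx r b n bx; h.bp tX (h.rg ▸ hS)
theorem bq : BQ.{u} := fun G _ _ ι t X r s w x b n bx hS tX =>
  let ⟨_, _, h⟩ := ex_cx r b n bx; h.bq tX (h.rg ▸ hS)

end H22.G38
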