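import Cfsg.Agent.H7.GP2
import Cfsg.Agent.H0.Sec

/-! S5267, chunk DT (determinant trace argument). -/

set_option autoImplicit false

namespace H22.GP
open Subgroup H25 H25.FS H4 H4.P5 H4.G3 H4.Mx H24.NE H7.GP Module
open scoped commutatorElement

universe u

theorem fac {X : Type*} [Group X] {p : ℕ} [Fact p.Prime] {V W D : Subgroup X} {E E' : Type*}
    [AddCommGroup E] [Module (ZMod p) E] [AddCommGroup E'] [Module (ZMod p) E'] {π : X → E}
    {ρ : D →* End (ZMod p) E} (s : H0.Sec p V W D E π ρ) (f : X → E')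
    (ha : ∀ x ∈ V, ∀ y ∈ V, f (x * y) = f x + f y) (h0 : ∀ w ∈ W, f w = 0) :
    ∃ l : E →ₗ[ZMod p] E', ∀ x ∈ V, l (π x) = f x := by
  choose σ h1 h2 using s.surj
  have k : ∀ x ∈ V, f (σ (π x)) = f x := fun x hx => by
    have h3 := (s.eq_iff (h1 (π x)) hx).1 (h2 _)
    have h4 := ha _ (s.le h3) x hx
    rwa [inv_mul_cancel_right, h0 _ h3, zero_add] at h4
  refine ⟨(AddMonoidHom.mk' (fun e => f (σ e)) fun a b => ?_).toZModLinearMap p, k⟩
  rw [← ha _ (h1 a) _ (h1 b), ← k _ (mul_mem (h1 a) (h1 b)), s.add _ (h1 a) _ (h1 b), h2, h2]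

theorem Dg_pow {p : ℕ} [Fact p.Prime] {ι : Type} [Fintype ι] [DecidableEq ι] {w : ι → ℕ} {a : ℕ}
    {f : (ι → ZMod p) → ZMod p} (h : f ∈ Dg p w a) (q : ℕ) : (fun x => f x ^ q) ∈ Dg p w (q * a) := by
  induction q with
  | zero => simpa using Dg_const (w := w) (1 : ZMod p) 0
  | succ q ih => simp only [pow_succ, add_mul, one_mul]; exact Dg_mul ih h

theorem Dg_det {p : ℕ} [Fact p.Prime] {ι κ : Type} [Fintype ι] [DecidableEq ι] [Fintype κ]
    [DecidableEq κ] {w : ι → ℕ} (n : κ → ℕ) (A : (ι → ZMod p) → Matrix κ κ (ZMod p))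
    (h : ∀ j i, (fun x => A x j i) ∈ Dg p w (n i)) : (fun x => (A x).det) ∈ Dg p w (∑ i, n i) := by
  have : (fun x => (A x).det) = ∑ σ : Equiv.Perm κ,
      ((Equiv.Perm.sign σ : ℤ) : ZMod p) • ∏ i, fun x => A x (σ i) i := by
    funext x
    simp [Matrix.det_apply', Finset.sum_apply, Finset.prod_apply]
  rw [this]
  exact Submodule.sum_mem _ fun σ _ => Submodule.smul_mem _ _ (Dg_prod _ _ _ fun i _ => h _ i)

theorem dt : DT.{u} := by
  classical
  intro Γ _ _ p hp E N X H M C U₀ U V r hH el c0 c1 c2 c3 XV XC MU MC nX h0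
  have cU : C ≤ U := c0.trans c1
  obtain ⟨E₁, _, _, π₁, ρ₁, s₁⟩ := H0.exists_sec (p := p) (D := nz U ⊓ nz C) cU inf_le_left
    inf_le_right (commutator_le.2 fun a ha b hb => el.cm a (c2 ha) b (c2 hb))
    fun x hx => el.pw x (c2 hx)
  obtain ⟨E₂, _, _, π₂, ρ₂, s₂⟩ := H0.exists_sec (p := p) (D := X) el.le XV XC
    (commutator_le.2 el.cm) el.pw
  have := s₁.finite
  have : Module.Finite (ZMod p) E₁ := Module.Finite.of_finite
  obtain ⟨io, hio⟩ := fac s₁ π₂ (fun x hx y hy => s₂.add x (c2 hx) y (c2 hy))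
    fun w hw => (s₂.ker w (el.le hw)).2 hw
  have inj : Function.Injective io := (injective_iff_map_eq_zero io).2 fun e he => by
    obtain ⟨x, hx, rfl⟩ := s₁.surj e
    rw [hio x hx, s₂.ker x (c2 hx)] at he
    exact (s₁.ker x hx).2 he
  have hM : ∀ m ∈ M, m ∈ nz U ⊓ nz C := fun m hm => ⟨MU hm, MC hm⟩
  refine ⟨fun g => if h : g ∈ nz U ⊓ nz C then LinearMap.det (ρ₁ ⟨g, h⟩) else 0,
    ⟨fun a ha b hb => ?_, fun k hk => ?_⟩, fun q α R t y hq q1 hc f nil => ?_⟩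
  · simp only [dif_pos (hM a ha), dif_pos (hM b hb), dif_pos (hM _ (mul_mem ha hb))]
    rw [← map_mul, ← map_mul]
    rfl
  · have hk' : k ∈ nz U ⊓ nz C := ⟨cz_le_nz U hk, cz_le_nz C (centralizer_le cU hk)⟩
    rw [dif_pos hk', show ρ₁ ⟨k, hk'⟩ = 1 from LinearMap.ext fun e => ?_, map_one]
    obtain ⟨x, hx, rfl⟩ := s₁.surj e
    rw [← s₁.conj _ x hx, mem_cz.1 hk x hx]
    rfl
  by_contra hn
  obtain ⟨g, hg, hgU⟩ := SetLike.not_le_iff_exists.1 nX
  obtain ⟨u, hu, hw⟩ : ∃ u ∈ U, g * u * g⁻¹ ∉ U := by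
    by_contra h
    exact hgU (mem_nz_of_conj_mem fun x hx => by_contra fun k => h ⟨x, hx, k⟩)
  have wV := conj_mem_of_mem_nz (XV hg) (c2 hu)
  obtain ⟨pr, p1, p2⟩ := LinearMap.exists_extend_of_notMem (v := π₂ (g * u * g⁻¹))
    (LinearEquiv.ofInjective io inj).symm.toLinearMap (by
      rintro ⟨e, he⟩
      obtain ⟨x, hx, rfl⟩ := s₁.surj e
      rw [hio x hx, s₂.eq_iff (c2 hx) wV] at he
      exact hw (by simpa using mul_mem (inv_mem (cU he)) hx)) 0
  have p3 : ∀ e, pr (io e) = e := fun e =>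
    (congrArg (· ⟨io e, e, rfl⟩) p1).trans ((LinearEquiv.ofInjective io inj).symm_apply_apply e)
  obtain ⟨S, hS⟩ := s₁.exists_grp c0 c1
  obtain ⟨T, hT⟩ := S.exists_isCompl
  let e := Submodule.prodEquivOfIsCompl S T hT
  let b := ((finBasis (ZMod p) S).prod (finBasis (ZMod p) T)).map e
  have ht : finrank (ZMod p) T ≤ t := by
    have h1 := Nat.card_congr e.toEquiv
    rw [Nat.card_prod, s₁.card, ← s₁.relIndex_grp, hS, Module.natCard_eq_pow_finrank (K := ZMod p)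
      (V := T), Nat.card_zmod] at h1
    have h2 := H19.card_mul_relIndex cU
    have h3 := H19.card_mul_relIndex c0
    rw [← h2, ← h1, ← mul_assoc, h3] at hc
    exact (Nat.pow_le_pow_iff_right hp.out.one_lt).1 (Nat.le_of_mul_le_mul_left hc Nat.card_pos)
  let Φ : X → End (ZMod p) E₁ := fun g => pr ∘ₗ ρ₂ g ∘ₗ io
  have hΦ : ∀ (g : X), ∀ x ∈ U, Φ g (π₁ x) = pr (π₂ (g * x * (g : Γ)⁻¹)) := fun g x hx => by
    rw [s₂.conj g x (c2 hx), ← hio x hx]; rfl
  have := trF r le_rfl f (fun i => r.NA (f.mem i))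
    (fun g => if h : g ∈ X then LinearMap.det (Φ ⟨g, h⟩) ^ q else 0) (fun g hg h hh hB => by
      obtain ⟨-, m, hm, ag⟩ := hH hB
      have h1 := hq m hm
      simp only [dif_pos (hM m hm)] at h1
      rw [dif_pos hg, dif_pos (mul_mem hg hh), show Φ ⟨g * h, mul_mem hg hh⟩ =
        Φ ⟨g, hg⟩ * ρ₁ ⟨m, hM m hm⟩ from LinearMap.ext fun e => ?_, map_mul, mul_pow, h1, mul_one]
      obtain ⟨x, hx, rfl⟩ := s₁.surj e
      rw [End.mul_apply, ← s₁.conj _ x hx, hΦ _ x hx, hΦ _ _ (conj_mem_of_mem_nz (MU hm) hx),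
        ← ag x (c3 (c2 hx))]
      congr 2
      simp only [mul_assoc, mul_inv_rev])
    (k := q * (R * t)) (fun g₀ h₀ g hg => by
      have hX : ∀ a : Fin α → ZMod p, g₀ * ph y a * g ∈ X := fun a =>
        mul_mem (mul_mem h₀ (ph_mem (fun i => r.NA (f.mem i)) a)) hg
      simp only [dif_pos (hX _), ← LinearMap.det_toMatrix b]
      refine Dg_pow (Dg_mono ?_ (Dg_det (Sum.elim (fun _ => 0) fun _ => R) _ fun j i => ?_)) q
      · simpa [Fintype.sum_sum_type, mul_comm] using Nat.mul_le_mul_left R ht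
      simp only [LinearMap.toMatrix_apply]
      obtain ⟨x, hx, h1⟩ := s₁.surj (b i)
      simp only [← h1, hΦ _ x hx]
      rcases i with i | i
      · have h2 : x ∈ U₀ := hS ▸ s₁.mem_grp.2 ⟨hx, by rw [h1]; simp [b, e]⟩
        have h3 : ∀ a, π₂ (g₀ * ph y a * g * x * (g₀ * ph y a * g)⁻¹) = π₂ x := fun a =>
          (s₂.eq_iff (conj_mem_of_mem_nz (XV (hX a)) (c2 hx)) (c2 hx)).2 (h0 _ (hX a) x h2)
        simp only [h3]
        exact Dg_const _ _
      · have h2 := pd nil (fun i => XV (r.NA (f.mem i)))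
          (l := fun x => b.repr (pr (π₂ (g₀ * x * g₀⁻¹))) j)
          (Ad.cj (l := fun x => b.repr (pr (π₂ x)) j) (fun x hx y hy => by
            simp only [s₂.add x hx y hy, map_add, Finsupp.add_apply]) (XV h₀))
          (fun c hc => by
            have := conj_mem_of_mem_nz (XC h₀) hc
            simp only [(s₂.ker _ (el.le this)).2 this, map_zero, Finsupp.zero_apply])
          (conj_mem_of_mem_nz (XV hg) (c2 hx))
        simp only [mul_assoc, mul_inv_rev] at h2 ⊢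
        exact h2) (not_le.1 hn) hg
  rw [dif_pos hg, dif_pos (one_mem X), show Φ ⟨1, one_mem X⟩ = 1 from LinearMap.ext fun e => by
    change pr (ρ₂ 1 (io e)) = e
    rw [map_one]; exact p3 e, map_one, one_pow, (LinearMap.det_eq_zero_iff_ker_ne_bot).2
    ((Submodule.ne_bot_iff _).2 ⟨π₁ u, (hΦ ⟨g, hg⟩ u hu).trans p2, fun h =>
      hw (cU (conj_mem_of_mem_nz (XC hg) ((s₁.ker u hu).1 h)))⟩), zero_pow (by omega)] at this
  exact zero_ne_one this

end H22.GP
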