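import Cfsg.Agent.H7.GP4
import Cfsg.Agent.H22.GP1
import Cfsg.Agent.H23.Prod

/-! S5267, chunk CO (small characters). -/

set_option autoImplicit false
set_option linter.unusedSectionVars false

namespace H22.GP
open Subgroup H25 H25.FS H4 H4.P5 H4.G3 H4.Mx H7.GP
open scoped commutatorElement

universe u
variable {Γ : Type u} [Group Γ] [Finite Γ] {p n : ℕ} [hp : Fact p.Prime]
variable {P : ℕ → Subgroup Γ} {t : ℕ → Γ} {lc : ℕ → Γ → ZMod p}
variable {A B C D M V : Subgroup Γ} {y : Γ} {a b e i : ℕ}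

theorem nil2 {Y : Set Γ} (h0 : V ≤ A) (h1 : ∀ y ∈ Y, ∀ w ∈ A, ⁅y, w⁆ ∈ B)
    (h2 : ∀ y ∈ Y, ∀ w ∈ B, ⁅y, w⁆ ∈ D) (h3 : ∀ y ∈ Y, ∀ w ∈ D, ⁅y, w⁆ ∈ C)
    (h4 : ∀ y ∈ Y, ∀ w ∈ C, ⁅y, w⁆ ∈ C) : Nil 2 V C Y :=
  ⟨fun r => match r with | 0 => A | 1 => B | 2 => D | _ + 3 => C, h0, fun r y hy w _ h => match r, h with
    | 0, h => h1 y hy w h | 1, h => h2 y hy w h | 2, h => h3 y hy w h | _ + 3, h => h4 y hy w h,
    fun _ _ h => h⟩

theorem nil1 {Y : Set Γ} (h0 : V ≤ A) (h1 : ∀ y ∈ Y, ∀ w ∈ A, ⁅y, w⁆ ∈ B)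
    (h3 : ∀ y ∈ Y, ∀ w ∈ B, ⁅y, w⁆ ∈ C) (h4 : ∀ y ∈ Y, ∀ w ∈ C, ⁅y, w⁆ ∈ C) : Nil 1 V C Y :=
  ⟨fun r => match r with | 0 => A | 1 => B | _ + 2 => C, h0, fun r y hy w _ h => match r, h with
    | 0, h => h1 y hy w h | 1, h => h3 y hy w h | _ + 2, h => h4 y hy w h, fun _ _ h => h⟩

theorem exlo (r : MM p P M) (h1 : 1 ≤ a) :
    ∃ k, 1 ≤ k ∧ k ≤ a ∧ M ≤ nz (P k) ∧ ∀ l, l ≤ a → M ≤ nz (P l) → l ≤ k := by
  classical
  exact ⟨Nat.findGreatest (fun k => M ≤ nz (P k)) a, Nat.le_findGreatest h1 r.nz, Nat.findGreatest_le a,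
    Nat.findGreatest_spec (P := fun k => M ≤ nz (P k)) h1 r.nz, fun l h2 h3 => Nat.le_findGreatest h2 h3⟩

theorem kb (o : CH p n P t lc) (r : MM p P M) (gp : Gap n P M b (i + 1)) (Ka : M ≤ nz (P a))
    (Ke : M ≤ nz (P e)) (ae : a ≤ e) (h : ∀ y ∈ P i, ∀ w ∈ P a, ⁅y, w⁆ ∈ P e) :
    ∀ y ∈ P b, ∀ w ∈ P a, ⁅y, w⁆ ∈ P e := by
  have hK : M ≤ nz (P 1 ⊓ stab (P a) (P e)) := fun m hm => mem_nz_inf (r.nz hm) (nz_stab (Ka hm) (Ke hm))
  obtain ⟨k, -, -, k3⟩ := o.eqK (hK (r.le (o.mem 0))) inf_le_left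
  have h1 := gp.one
  have h2 := gp.lt
  have h3 : k ≤ i := o.idx gp.le (k3 ▸ le_inf (o.anti (by omega)) fun y hy => (stab_iff (o.anti ae)).2 (h y hy))
  have h4 : k ≤ b := not_lt.1 fun c => gp.no k c (by omega) (k3 ▸ hK)
  exact fun y hy => (stab_iff (o.anti ae)).1 ((k3.ge (o.up hy h4)).2)

theorem free (o : CH p n P t lc) {α : ℕ} (s : ℕ) (y : Fin α → Γ) (h1 : ∀ k : Fin α, y k ∈ P (s + k))
    (h2 : ∀ k : Fin α, y k ∉ P (s + k + 1)) (a : Fin α → ZMod p) (h : ph y a ∈ P (s + α)) : a = 0 := by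
  induction α generalizing s with
  | zero => exact Subsingleton.elim _ _
  | succ α ih =>
    rw [ph_succ] at h
    have m : ph (fun k => y k.succ) (fun k => a k.succ) ∈ P (s + 1) :=
      ph_mem (fun k => o.up (h1 _) (by rw [Fin.val_succ]; omega)) _
    have y1 : y 0 ∈ P s := h1 0
    have y2 : y 0 ∉ P (s + 1) := h2 0
    have h0 : a 0 = 0 := by
      have e := o.zero (o.lt_n y1 y2) ((mul_mem_cancel_right m).1 (o.up h (by omega)))
      rw [(o.add s).pow y1, ZMod.natCast_zmod_val] at e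
      exact (mul_eq_zero.1 e).resolve_right (o.ne y1 y2)
    rw [h0, ZMod.val_zero, pow_zero, one_mul] at h
    have := ih (s + 1) (fun k => y k.succ) (fun k => o.up (h1 _) (by rw [Fin.val_succ]; omega))
      (fun k c => h2 _ (o.up c (by rw [Fin.val_succ]; omega))) _ (o.up h (by omega))
    exact funext (Fin.cases h0 fun k => congrFun this k)

theorem it_mem (o : CH p n P t lc) (hy : y ∈ P a) (k : ℕ) : it (t 0) k y ∈ P (a + k) := by
  induction k with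
  | zero => exact hy
  | succ k ih => rw [it, Function.iterate_succ_apply']; exact o.act _ _ ih _ (o.mem 0)

theorem it_nm (o : CH p n P t lc) (h1 : 1 ≤ a) (hy : y ∈ P a) (h : y ∉ P (a + 1)) (k : ℕ) (hk : a + k < n) :
    it (t 0) k y ∉ P (a + k + 1) := by
  induction k with
  | zero => exact h
  | succ k ih =>
    rw [it, Function.iterate_succ_apply']
    exact fun c => ih (by omega) (o.un_s (a + k) (by omega) hk _ (it_mem o hy k) c)

theorem co (zc : ZC.{u}) : CO.{u} := fun {Γ} _ _ {p n} hp {P t lc M E X H V i j u c d} o r q T hq tq => by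
  classical
  have cn := q.cn; have uc := q.uc; have j1 := q.j1; have ju := q.ju; have w := q.w
  have i2 := q.i2; have ic := q.ic; have dc := q.dc; have ud := q.ud o r
  obtain ⟨g, hg, hg'⟩ := q.exg
  obtain ⟨U, hU⟩ : ∃ U : Subgroup Γ, ∀ v, v ∈ U ↔ v ∈ P u ∧ ∀ a ∈ X, ⁅a, v⁆ ∈ P c :=
    ⟨P u ⊓ ⨅ a : X, cmSub a (P u) (P c) (o.nzb u c), fun v => ⟨fun h => ⟨h.1, fun a ha =>
      (mem_iInf.1 h.2 ⟨a, ha⟩).2⟩, fun h => ⟨h.1, mem_iInf.2 fun a => ⟨h.1, h.2 a a.2⟩⟩⟩⟩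
  have cU : P c ≤ U := fun v hv => (hU v).2 ⟨o.up hv uc.le, fun a ha => comm_mem_r (q.Xc ha) hv⟩
  have key : ∀ Y ≤ V, ∀ x ∈ P i, x ∉ P (i + 1) → (∀ v ∈ Y, ⁅x, v⁆ ∈ P c) →
      Nat.card (P u) * Nat.card Y ≤ Nat.card V * Nat.card U := fun Y hY x hx hx' h => by
    have h1 := H23.card_mul_card_le ((cj_mono g q.UV).trans (mem_nz.1 (q.XV hg)).le) hY
    rw [card_cj] at h1
    refine h1.trans (Nat.mul_le_mul_left _ ?_)
    rw [← card_cj g U]
    refine card_le_of_le fun v hv => mem_cj.2 ((hU _).2 ⟨mem_cj.1 hv.1, q.sr g hg hg' _ (mem_cj.1 hv.1) x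
      (q.xN o hx) (q.xE hx hx') ?_⟩)
    simpa [mul_assoc] using h v hv.2
  have r1 : Nat.card (P u) ≤ Nat.card U * p ^ (c - u) := by
    refine le_trans ?_ (Nat.mul_le_mul_right _ (card_le_of_le cU))
    rw [o.card u (by omega), o.card c cn, ← pow_add]
    exact Nat.pow_le_pow_right hp.out.pos (by omega)
  have r2 : Nat.card (P u) ≤ Nat.card U * p ^ (u - j) := by
    have h1 := (key _ q.UV _ (o.mem i) (q.nmi o) fun v hv => o.kf r q.gap (q.xN o (o.mem i)).1 hv).trans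
      (Nat.mul_le_mul_right _ (card_le_of_le q.Vj))
    rw [o.card j (by omega), show n - j = n - u + (u - j) by omega, pow_add, ← o.card u (by omega), mul_assoc,
      mul_comm (p ^ _)] at h1
    exact Nat.le_of_mul_le_mul_left h1 Nat.card_pos
  obtain ⟨θ, hθ, hd⟩ := dt q.lc q.ext q.el cU (fun v hv => ((hU v).1 hv).1) q.UV q.VE q.XV q.Xc q.gap.Ka
    q.gap.Kb (fun h => hg' ((q.nU g hg).2 (h hg))) fun a ha v hv => ((hU v).1 hv).2 a ha
  obtain ⟨e, e1, e2, e3, e4⟩ := tq θ ⟨hθ.mul, fun k hk => hθ.one k (cz_anti (o.anti (by omega)) hk)⟩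
  rcases (show u + 1 = c ∨ u + 2 ≤ c by omega) with h1 | h1
  · have := hd e 1 1 1 (fun _ => t i) e3 e1 (by simpa [← h1] using r1)
      (fr1 q.lc.pg (q.xN o (o.mem i)) (q.tE o) (q.xp o (o.mem i)))
      (by simpa using q.quad1 o (by omega) (o.mem i))
    omega
  obtain ⟨b, b1, b2, b3, b4⟩ := exlo r (show 1 ≤ i by omega)
  have gp : Gap n P M b (i + 1) := ⟨b1, by omega, by omega, b3, q.Ki, fun k k1 k2 k3 => by
    have := b4 k (by omega) k3; omega⟩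
  rcases b2.eq_or_lt with rfl | b5
  · obtain ⟨e', f1, -, f3, f4⟩ := tq _ (o.chrK b1 (by omega) b3 q.Ki)
    have f5 := f4 u c q.gap h1
    have hK : M ≤ nz ⁅P b, P j⁆ := fun m hm => by
      rw [mem_nz, cj_commutator, mem_nz.1 (b3 hm), mem_nz.1 (q.Kj hm)]
    have l1 : ⁅P b, P j⁆ ≤ P (j + d) := commutator_le.2 fun y hy w hw =>
      o.shv (q.sh y hy) le_rfl hw le_rfl dc.le
    obtain ⟨k, -, -, k3⟩ := o.eqK (hK (r.le (o.mem 0))) (l1.trans (o.anti (by omega)))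
    have k4 : k < j + d + 1 := o.lt_of (k3.le (commutator_mem_commutator (o.mem b) (o.mem j))) fun h =>
      o.nm (by omega) (q.ex _ (o.mem b) (q.nmi o) j le_rfl dc _ (o.mem j) h)
    have k5 := o.idx (by omega) (k3 ▸ l1)
    have k6 : k ≤ u := not_lt.1 fun h => q.gap.no k h (by omega) (k3 ▸ hK)
    exact q.endq o r (by omega) b3 f3 f1 (by omega)
  have bN : P b ≤ P 1 ⊓ nz E := fun y hy => ⟨o.up hy b1, nz_of_comm fun v hv =>
    q.iE (comm_symm (o.kf r gp (q.EP hv) hy))⟩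
  have cc : ∀ y ∈ P b, ∀ w ∈ P c, ⁅y, w⁆ ∈ P c := fun y hy w hw => comm_mem_r (o.nzb b c hy) hw
  obtain ⟨R, R2, nil, R3⟩ : ∃ R, R ≤ 2 ∧ Nil R V (P c) (P b) ∧ e * R < p - 1 := by
    obtain ⟨k, k1, k2, k3, k4⟩ := exlo r (show 1 ≤ j + d by omega)
    have k5 := k4 j (by omega) q.Kj
    have ex : ∃ l, c - d ≤ l ∧ M ≤ nz (P l) := ⟨u, by omega, q.gap.Ka⟩
    have l1 := Nat.find_spec ex
    have l2 : ∀ l, c - d ≤ l → M ≤ nz (P l) → Nat.find ex ≤ l := fun l h h' => Nat.find_min' ex ⟨h, h'⟩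
    generalize Nat.find ex = l at l1 l2
    have l3 := l2 u (by omega) q.gap.Ka
    have l4 := l1.1
    have s1 := kb o r gp q.Kj k3 k5 fun y hy w hw => o.shv (q.sh y hy) le_rfl hw k2 (by omega)
    have s2 := kb o r gp l1.2 q.gap.Kb (by omega) fun y hy w hw =>
      o.shv (q.sh y hy) (by omega) hw (by omega) le_rfl
    rcases le_or_gt l k with l5 | l5
    · exact ⟨1, by omega, nil1 q.Vj s1 (fun y hy w hw => s2 y hy w (o.up hw l5)) cc, by omega⟩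
    have l6 : j + d < l := not_le.1 fun h => (k4 l h l1.2).not_gt l5
    have l7 : k < c - d := not_le.1 fun h => (l2 k h k3).not_gt l5
    have g2 : Gap n P M k l := ⟨k1, l5, by omega, k3, l1.2, fun m m1 m2 m3 => by
      rcases le_or_gt m (j + d) with h | h
      · exact (k4 m h m3).not_gt m1
      · exact (l2 m (by omega) m3).not_gt m2⟩
    have := e4 k l g2 (by omega)
    have := e4 u c q.gap h1
    exact ⟨2, le_rfl, nil2 q.Vj s1 (fun y hy w hw => o.kf r g2 (o.up hy b1) hw) s2 cc, by omega⟩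
  have ex : ∃ s, b ≤ s ∧ ∀ y ∈ P s, y ∈ E → y ∈ P (i + 1) := ⟨i, b2, q.nE⟩
  have s1 := Nat.find_spec ex
  have s2 : Nat.find ex ≤ i := Nat.find_min' ex ⟨b2, q.nE⟩
  have s3 := Nat.find_min ex (m := Nat.find ex - 1)
  generalize Nat.find ex = s at s1 s2 s3
  obtain ⟨α, rfl⟩ : ∃ α, i = s + α := ⟨i - s, by omega⟩
  have s4 := s1.1
  have tm : ∀ k, t (s + k) ∈ P b := fun k => o.up (o.mem _) (by omega)
  have hd' := fun ρ h => hd e (α + 1) R ρ (fun k => t (s + k)) e3 e1 h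
    ⟨fun k => bN (tm k), fun k => q.iE ((o.elG r gp).pw _ (tm k)), fun k l =>
      q.iE ((o.elG r gp).cm _ (tm k) _ (tm l)), fun a h => free o s _ (fun k => o.mem _)
        (fun k => o.nm (by have := k.2; omega)) a (s1.2 _ (ph_mem (fun k => o.up (o.mem _) (by omega)) a) h)⟩
    (let ⟨L, l0, l1, l2⟩ := nil; ⟨L, l0, fun r y ⟨k, hk⟩ => l1 r y (hk ▸ tm k), l2⟩)
  rcases s4.eq_or_lt with rfl | s5
  · have := e4 _ _ gp (by omega)
    obtain ⟨ρ, ρ1, ρ2⟩ : ∃ ρ, Nat.card (P u) ≤ Nat.card U * p ^ ρ ∧ 2 * ρ ≤ p - 1 := by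
      obtain ⟨k, hk⟩ := hp.out.odd_of_ne_two (by omega)
      rcases le_total (c - u) (u - j) with h | h
      · exact ⟨_, r1, by omega⟩
      · exact ⟨_, r2, by omega⟩
    have h2 := (hd' ρ ρ1).trans (Nat.mul_le_mul_left e ((Nat.mul_le_mul_right ρ R2).trans ρ2))
    rw [mul_comm] at h2
    have := Nat.le_of_mul_le_mul_right h2 (by omega)
    omega
  obtain ⟨s, rfl⟩ : ∃ s', s = s' + 1 := ⟨s - 1, by omega⟩
  obtain ⟨y, y1, y2, y3⟩ : ∃ y ∈ P s, y ∈ E ∧ y ∉ P (s + 1 + α + 1) := by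
    by_contra h
    push Not at h
    exact s3 (by omega) ⟨by omega, h⟩
  have y4 := o.up y1 (show 1 ≤ s by omega)
  have y5 := it_mem o y1
  obtain ⟨Y, Y1, Y2, Y3⟩ := zc (ν := α + 1) o cn j1 w y4 q.Vj ((q.cen y y4).1 y2) (mt (q.ci y y4).2 y3)
    ((q.ci _ (o.up (y5 _) (by omega))).1 (o.up (y5 _) (by omega)))
  have h2 := (key Y Y1 _ (o.up (y5 _) (by omega)) (fun h => it_nm o (by omega) y1 (mt (s1.2 y · y2) y3) (α + 1)
    (by omega) (o.up h (by omega))) Y2).trans (Nat.mul_le_mul_right _ Y3)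
  rw [mul_comm, mul_assoc, mul_comm (p ^ _)] at h2
  have h3 := hd' _ (Nat.le_of_mul_le_mul_left h2 Nat.card_pos)
  rw [← mul_assoc] at h3
  exact (Nat.le_of_mul_le_mul_right h3 α.succ_pos).not_gt R3

end H22.GP
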