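/-
Fusion systems on a Sylow `p`-subgroup of `G₂(p)`: generators and relations.
-/
import Cfsg.Agent.H25.GC0

set_option autoImplicit false
set_option linter.unusedSectionVars false

namespace H22.GV
open Subgroup H25.GC Gc

variable {p : ℕ} [Fact p.Prime] {G : Type*} [Group G] {g y : G}

theorem zind {P : ZMod p → Prop} (p0 : P 0) (p1 : ∀ x, P x → P (x + 1)) (x : ZMod p) : P x := by
  obtain ⟨n, rfl⟩ := ZMod.natCast_zmod_surjective x
  induction n with
  | zero => simpa using p0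
  | succ n ih => simpa using p1 n ih
/-- powers with exponent in `ZMod p` -/
def pw (g : G) (x : ZMod p) : G := g ^ x.val
@[simp] theorem pw_zero : pw g (0 : ZMod p) = 1 := by simp [pw]
@[simp] theorem pw_one : pw g (1 : ZMod p) = g := by simp [pw, ZMod.val_one]
theorem pw_nat (h : g ^ p = 1) (n : ℕ) : pw g (n : ZMod p) = g ^ n := by rw [pw, ZMod.val_natCast, ← pow_eq_pow_mod n h]
theorem pw_add (h : g ^ p = 1) (x x' : ZMod p) : pw g (x + x') = pw g x * pw g x' := by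
  rw [pw, ZMod.val_add, ← pow_eq_pow_mod _ h, pow_add]; rfl
theorem pw_cm (h : Commute y g) (x : ZMod p) : Commute y (pw g x) := h.pow_right _
/-- generators of the pattern subgroups -/
theorem gmem {X : Submonoid (Gc (ZMod p))} (c : Gc (ZMod p)) (ha : c.a = 0 ∨ xa 1 ∈ X) (hu : c.u = 0 ∨ xu 1 ∈ X) (hs : xs 1 ∈ X)
    (hr : xr 1 ∈ X) (hv : xv 1 ∈ X) (hz : xz 1 ∈ X) : c ∈ X := by
  have k : ∀ f : ZMod p → Gc (ZMod p), f 0 = 1 → (∀ x, f (x + 1) = f x * f 1) → ∀ x, (x = 0 ∨ f 1 ∈ X) → f x ∈ X :=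
    fun f f0 f1 x h => h.elim (fun e => e ▸ f0 ▸ X.one_mem) fun h =>
      zind (P := (f · ∈ X)) (f0 ▸ X.one_mem) (fun x q => f1 x ▸ mul_mem q h) x
  rw [show c = xa c.a * xu c.u * xs c.s * xr c.r * xv c.v * xz (c.z + 3 * c.s * c.r - c.u * c.v) by ext <;> simp]
  refine mul_mem (mul_mem (mul_mem (mul_mem (mul_mem (k xa rfl (fun _ => ?_) _ ha) (k xu rfl (fun _ => ?_) _ hu))
    (k xs rfl (fun _ => ?_) _ (.inr hs))) (k xr rfl (fun _ => ?_) _ (.inr hr))) (k xv rfl (fun _ => ?_) _ (.inr hv)))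
    (k xz rfl (fun _ => ?_) _ (.inr hz)) <;> ext <;> simp

/-- the relations between the six root elements -/
structure Rl (p : ℕ) (A U S R V Z : G) : Prop where
  a : A ^ p = 1
  u : U ^ p = 1
  s : S ^ p = 1
  r : R ^ p = 1
  v : V ^ p = 1
  z : Z ^ p = 1
  ua : U * A = A * U * S * R * V * Z
  sa : S * A = A * S * R ^ 2 * V ^ 3 * Z ^ 3
  ra : R * A = A * R * V ^ 3
  va : Commute V A
  za : Commute Z A
  us : Commute U S
  ur : Commute U R
  uv : U * V = V * U * Z
  uz : Commute U Z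
  rs : R * S = S * R * Z ^ 3
  sv : Commute S V
  sz : Commute S Z
  rv : Commute R V
  rz : Commute R Z
  vz : Commute V Z

theorem Rl.ex {A U S R V Z : G} (h : Rl p A U S R V Z) : ∃ ev : Gc (ZMod p) →* G, ev (xa 1) = A ∧ ev (xu 1) = U ∧ ev (xs 1) = S ∧
    ev (xr 1) = R ∧ ev (xv 1) = V ∧ ev (xz 1) = Z := by
  obtain ⟨N, hN⟩ : ∃ N : Gc (ZMod p) → G, ∀ c,
    N c = pw U c.u * (pw S c.s * (pw R c.r * (pw V c.v * pw Z (c.z + 3 * c.s * c.r - c.u * c.v)))) := ⟨_, fun _ => rfl⟩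
  have nl : ∀ t c, N ((xa t)⁻¹ * c) = N c := fun t c => by simp [hN]
  have n3 : ∀ g : G, g ^ p = 1 → pw g (3 : ZMod p) = g ^ 3 := fun g e => by simpa using pw_nat e 3
  have n2 : pw R (2 : ZMod p) = R ^ 2 := by simpa using pw_nat h.r 2
  have cz : ∀ {g : G}, Commute g Z → ∀ x y : ZMod p, pw g x * pw Z y = pw Z y * pw g x := fun e x y => (pw_cm (pw_cm e y).symm x).symm
  have rs : ∀ x : ZMod p, pw R x * S = S * (pw R x * pw Z (3 * x)) := zind (by simp) fun x q => by
    rw [add_comm x, mul_add, mul_one, pw_add h.r, pw_add h.z, pw_one, mul_assoc, q, ← mul_assoc, h.rs, ← n3 _ h.z]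
    simp only [mul_assoc]; rw [← mul_assoc (pw Z 3), ← cz h.rz, mul_assoc]
  have vu : ∀ x : ZMod p, pw V x * U = U * (pw V x * pw Z (-x)) := zind (by simp) fun x q => by
    have e : pw Z (-x) = Z * pw Z (-(x + 1)) := by simpa using pw_add h.z 1 (-(x + 1))
    rw [add_comm x, pw_add h.v, pw_one, mul_assoc, q, e, ← mul_assoc (pw V x), ← (pw_cm h.vz.symm x).eq, add_comm x]
    simp only [← mul_assoc]; rw [← h.uv]
  let X : Submonoid (Gc (ZMod p)) :=
    { carrier := {d | ∀ c, N (c * d) = N c * N d}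
      one_mem' := fun c => by simp [hN]
      mul_mem' := fun {d e} a b c => by rw [← mul_assoc, b, a, b, mul_assoc] }
  have m : ∀ d : Gc (ZMod p), d.a = 0 → ∀ c, N (c * d) = N c * N d := fun d hd => gmem (X := X) d (.inl hd) (.inr fun c => by
      simp only [hN, mul_u, mul_s, mul_r, mul_v, mul_z, xu_a, xu_u, xu_s, xu_r, xu_v, xu_z, pw_add h.u, pw_one]
      simp only [mul_zero, zero_mul, add_zero, sub_zero, pw_zero, mul_one, mul_assoc, ne_eq, OfNat.ofNat_ne_zero, not_false_eq_true,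
        zero_pow]
      rw [← (pw_cm h.uz _).eq, ← mul_assoc (pw V _), vu]
      simp only [mul_assoc]
      rw [← mul_assoc (pw R _) U, ← (pw_cm h.ur _).eq, mul_assoc, ← mul_assoc (pw S _) U, ← (pw_cm h.us _).eq, mul_assoc, ← pw_add h.z]
      congr 6; ring)
    (fun c => by
      simp only [hN, mul_u, mul_s, mul_r, mul_v, mul_z, xs_a, xs_u, xs_s, xs_r, xs_v, xs_z, pw_add h.s, pw_one]
      simp only [mul_zero, zero_mul, add_zero, sub_zero, pw_zero, mul_one, one_mul, mul_assoc, ne_eq, OfNat.ofNat_ne_zero,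
        not_false_eq_true, zero_pow]
      rw [← (pw_cm h.sz _).eq, ← mul_assoc (pw V _), ← (pw_cm h.sv _).eq, mul_assoc, ← mul_assoc (pw R _) S, rs]
      simp only [mul_assoc]
      rw [← mul_assoc (pw Z _), ← cz h.vz, mul_assoc, ← pw_add h.z]
      congr 6; ring)
    (fun c => by
      simp only [hN, mul_u, mul_s, mul_r, mul_v, mul_z, xr_a, xr_u, xr_s, xr_r, xr_v, xr_z, pw_add h.r, pw_one]
      simp only [mul_zero, zero_mul, add_zero, sub_zero, pw_zero, mul_one, one_mul, mul_assoc, ne_eq, OfNat.ofNat_ne_zero,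
        not_false_eq_true, zero_pow]
      rw [← (pw_cm h.rz _).eq, ← mul_assoc (pw V _), ← (pw_cm h.rv _).eq, mul_assoc]
      congr 6; ring)
    (fun c => by
      simp only [hN, mul_u, mul_s, mul_r, mul_v, mul_z, xv_a, xv_u, xv_s, xv_r, xv_v, xv_z, pw_add h.v, pw_one]
      simp only [mul_zero, zero_mul, add_zero, sub_zero, pw_zero, mul_one, one_mul, mul_assoc, ne_eq, OfNat.ofNat_ne_zero,
        not_false_eq_true, zero_pow]
      rw [← (pw_cm h.vz _).eq]
      congr 6; ring)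
    (fun c => by
      simp only [hN, mul_u, mul_s, mul_r, mul_v, mul_z, xz_a, xz_u, xz_s, xz_r, xz_v, xz_z]
      simp only [mul_zero, zero_mul, add_zero, zero_add, sub_zero, pw_zero, mul_one, one_mul, mul_assoc, ne_eq, OfNat.ofNat_ne_zero,
        not_false_eq_true, zero_pow]
      rw [← pw_add h.z]
      congr 5; ring)
  let Y : Submonoid (Gc (ZMod p)) :=
    { carrier := {d | d.a = 0 ∧ N d * A = A * N (d * xa 1)}
      one_mem' := ⟨rfl, by simp [hN]⟩
      mul_mem' := fun {c d} a b => ⟨by simp [a.1, b.1], by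
        rw [m _ b.1, mul_assoc, b.2, ← mul_assoc, a.2, show c * d * xa 1 = c * xa 1 * ((xa 1)⁻¹ * (d * xa 1)) by group,
          m ((xa 1)⁻¹ * _) (by simp [b.1]), mul_assoc, nl]⟩ }
  have k : ∀ d : Gc (ZMod p), d.a = 0 → N d * A = A * N (d * xa 1) := fun d hd => (gmem (X := Y) d (.inl hd)
    (.inr ⟨rfl, by simpa [hN, mul_assoc, show (-1 + 3 - 1 : ZMod p) = 1 by ring] using h.ua⟩)
    ⟨rfl, by simpa [hN, mul_assoc, show (-3 + 3 * 2 : ZMod p) = 3 by ring, n2, n3 _ h.v, n3 _ h.z] using h.sa⟩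
    ⟨rfl, by simpa [hN, mul_assoc, n3 _ h.v] using h.ra⟩ ⟨rfl, by simpa [hN] using h.va.eq⟩ ⟨rfl, by simpa [hN] using h.za.eq⟩).2
  have k' : ∀ (t : ZMod p) (d : Gc (ZMod p)), N d * pw A t = pw A t * N (d * xa t) := zind (fun d => by simp [hN]) fun t q d => by
    have e := k ((xa (d.a + t))⁻¹ * (d * xa t)) (by simp)
    rw [mul_assoc, nl, nl, mul_assoc, show xa t * xa 1 = xa (t + 1) by ext <;> simp] at e
    rw [pw_add h.a, pw_one, ← mul_assoc, q, mul_assoc, e, mul_assoc]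
  refine ⟨.mk' (fun c => pw A c.a * N c) fun c d => ?_, by simp [hN], by simp [hN], by simp [hN], by simp [hN], by simp [hN], by simp [hN]⟩
  rw [mul_a, pw_add h.a, mul_assoc, mul_assoc, ← mul_assoc (N c), k', mul_assoc,
    show c * d = c * xa d.a * ((xa d.a)⁻¹ * d) by group, m ((xa _)⁻¹ * _) (by simp), nl]

/-- a homomorphism which is injective on the centre is injective -/
theorem inj_of {K : Type*} [Field K] (h3 : (3 : K) ≠ 0) {ev : Gc K →* G} (h : ∀ t, ev (xz t) = 1 → t = 0) :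
    Function.Injective ev := (injective_iff_map_eq_one _).2 fun c e => by
  have n : ∀ c d, ev c = 1 → ev (c * d * c⁻¹ * d⁻¹) = 1 := fun c d e => by simp [e]
  have k : ∀ c : Gc K, ev c = 1 → c.a = 0 → c = 1 := fun c e a => by
    have z : ∀ d : Gc K, d.a = 0 → c.u * d.v - d.u * c.v - 3 * c.s * d.r + 3 * d.s * c.r = 0 := fun d b =>
      h _ (by rw [← n c d e]; congr 1; ext <;> simp [a, b] <;> ring)
    have u : c.u = 0 := by simpa using z (xv 1) rfl
    have v : c.v = 0 := by simpa using z (xu 1) rfl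
    have s : c.s = 0 := by simpa [h3] using z (xr 1) rfl
    have r : c.r = 0 := by simpa [h3] using z (xs 1) rfl
    exact Gc.ext a u s r v (h _ (by rw [← e]; congr 1; ext <;> simp [a, u, v, s, r]))
  have := congrArg Gc.s (k _ (n c (xu 1) e) (cm_a _ _))
  rw [cm_s] at this
  exact k c e (by simpa using this)
theorem Rl.ex' {A U S R V Z : G} (h : Rl p A U S R V Z) (h3 : (3 : ZMod p) ≠ 0) (z : Z ≠ 1) : ∃ ev : Gc (ZMod p) →* G,
    Function.Injective ev ∧ ev (xa 1) = A ∧ ev (xu 1) = U ∧ ev (xs 1) = S ∧ ev (xr 1) = R ∧ ev (xv 1) = V ∧ ev (xz 1) = Z := by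
  obtain ⟨ev, k⟩ := h.ex
  refine ⟨ev, inj_of h3 fun t e => by_contra fun c => z ?_, k⟩
  have m : ∀ n : ZMod p, ev (xz (n * t)) = 1 := zind (by rw [zero_mul]; exact ev.map_one) fun n q => by
    rw [show xz ((n + 1) * t) = xz (n * t) * xz t by ext <;> simp [add_mul], map_mul, q, e, one_mul]
  rw [← k.2.2.2.2.2, ← inv_mul_cancel₀ c, m]

end H22.GV
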