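import Cfsg.Agent.H18.G1b
import Cfsg.Agent.H3.Critical
import Cfsg.Agent.H28.CharP

/-!
Klinger–Mason: a group of local characteristic `p` and `2` has two-local `p`-rank at most two.
First part: elementary abelian `p`-groups centralizing involutions.
-/

set_option autoImplicit false

namespace H22.KM
open Cfsg Subgroup H19
open scoped commutatorElement

variable {G : Type*} [Group G] [Finite G] {p n m d : ℕ} {A B D H K L M P T V X : Subgroup G}
  {s t a y : G}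

/-- local characteristic `p`, in elementwise form -/
def LC (p : ℕ) (G : Type*) [Group G] : Prop :=
  ∀ D : Subgroup G, PG p D → D ≠ ⊥ → ∀ x ∈ C(D), PiE {p}ᶜ x → x ∈ C(Oc {p} C(D)) → x = 1

theorem lc_of [hp : Fact p.Prime] (h : ∀ T : Subgroup G, IsPGroup p T → T ≠ ⊥ →
    centralizer (pCore p N(T) : Set N(T)) ≤ pCore p N(T)) : LC p G := fun D hD h1 x hx he hc => by
  have h2 := (H28.isCharP_iff.2 (h D hD.isPGroup h1)).of_normal (cent_le_norm D)
    (norm_le_norm_cent D)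
  refine h2.eq_one hx (he.coprime_prime hp.out) ?_
  rwa [← H28.pCoreOf_def, pCore_map_eq hp.out]

/-- an involution centralizes an elementary abelian `p`-group of rank `n` -/
def Good (p n : ℕ) (G : Type*) [Group G] : Prop :=
  ∃ (t : G) (D : Subgroup G), orderOf t = 2 ∧ El p n D C[t]

theorem Good.mono (h : Good p n G) (hm : m ≤ n) : Good p m G := by
  obtain ⟨t, D, ht, hD⟩ := h
  obtain ⟨B, hB⟩ := hD.exists_sub hm
  exact ⟨t, B, ht, hB.mono hD.le⟩

omit [Finite G] in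
theorem sq1 (ht : orderOf t = 2) : t * t = 1 := by rw [← pow_two, ← ht, pow_orderOf_eq_one]

omit [Finite G] in
theorem ne1 (ht : orderOf t = 2) : t ≠ 1 := fun e => by simp [e] at ht

theorem ord2 (hA : El 2 n A M) (ha : a ∈ A) (h1 : a ≠ 1) : orderOf a = 2 :=
  orderOf_of_pow Nat.prime_two (hA.ab.2 a ha) h1

omit [Finite G] in
theorem mem_zp (ht : orderOf t = 2) {x : G} : x ∈ zpowers t ↔ x = 1 ∨ x = t := by
  refine ⟨fun h => ?_, fun h => h.elim (fun e => e ▸ one_mem _) fun e => e ▸ mem_zpowers _⟩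
  obtain ⟨k, rfl⟩ := mem_zpowers_iff.1 h
  obtain ⟨j, rfl | rfl⟩ := Int.even_or_odd' k
  · exact Or.inl (by rw [zpow_mul, zpow_two, sq1 ht, one_zpow])
  · exact Or.inr (by rw [zpow_add, zpow_mul, zpow_two, sq1 ht, one_zpow, one_mul, zpow_one])

omit [Finite G] in
theorem not_cent (hp : p.Prime) (h2 : p ≠ 2) (hy : orderOf y = p) (ha : a * y * a⁻¹ = y⁻¹) :
    a * y ≠ y * a := fun e => by
  have h : y ^ 2 = 1 := by
    rw [e, mul_inv_cancel_right] at ha
    rw [pow_two]; exact mul_eq_one_iff_eq_inv.2 ha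
  exact h2 ((Nat.prime_dvd_prime_iff_eq hp Nat.prime_two).1 (hy ▸ orderOf_dvd_of_pow_eq_one h))

theorem step (h2 : p ≠ 2) (hP : PG p P) (hA : El 2 (n + 1) A M) (hn : A ≤ N(P))
    (h : ¬ A ≤ C(P)) : ∃ B a y, El 2 n B A ∧ a ∈ A ∧ y ∈ P ∧ y ∈ C(B) ∧ orderOf y = p ∧
      a * y * a⁻¹ = y⁻¹ := by
  obtain ⟨B, hB, hc⟩ : ∃ B, El 2 n B A ∧ ¬ P ⊓ C(B) ≤ C(A) := by
    by_contra! hc
    exact h (cents_symm (H18.coprime_abelem_gen_cent hA hn
      (hP.coprime (hA.pg.sing_ne h2.symm)) hc))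
  obtain ⟨a, ha, hac⟩ := SetLike.not_le_iff_exists.1 fun e => hc (cents_symm e)
  obtain ⟨k, hk, hak⟩ : ∃ k ∈ P ⊓ C(B), k * a ≠ a * k := by
    by_contra! e
    exact hac (mem_cent.2 e)
  have a2 : a * a = 1 := by rw [← pow_two]; exact hA.ab.2 a ha
  have hN : a ∈ N(P ⊓ C(B)) :=
    norms_inf hn (norms_cent (norms_of_comm hA.comm le_rfl hB.le)) ha
  have hx : k * a * k⁻¹ * a⁻¹ ∈ P ⊓ C(B) := by
    simpa [mul_assoc] using mul_mem hk (conj_mem_of_norm hN (inv_mem hk))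
  have h1 : k * a * k⁻¹ * a⁻¹ ≠ 1 := fun e => hak (by
    rw [mul_inv_eq_one, mul_inv_eq_iff_eq_mul] at e; exact e)
  have hi : a * (k * a * k⁻¹ * a⁻¹) * a⁻¹ = (k * a * k⁻¹ * a⁻¹)⁻¹ := by
    have e : a⁻¹ = a := inv_eq_of_mul_eq_one_right a2
    simp only [mul_inv_rev, inv_inv, e, mul_assoc, a2, mul_one]
  generalize k * a * k⁻¹ * a⁻¹ = x at hx h1 hi
  have hz : PG p (zpowers x) := hP.of_le (zpowers_le.2 hx.1)
  have hz1 : zpowers x ≠ ⊥ := ne_bot_of_mem (mem_zpowers x) h1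
  obtain ⟨y, hy, ho⟩ := exists_orderOf_eq_prime (hz.prime_of_ne_bot hz1) (hz.dvd_of_ne_bot hz1)
  have hy' := zpowers_le.2 hx hy
  refine ⟨B, a, y, hB, ha, hy'.1, hy'.2, ho, ?_⟩
  obtain ⟨j, rfl⟩ := mem_zpowers_iff.1 hy
  rw [← conj_zpow, hi, inv_zpow]

theorem el_adj (h2 : p ≠ 2) (hD : El p n D ⊤) (hy : orderOf y = p) (hc : y ∈ C(D))
    (ha : a * y * a⁻¹ = y⁻¹) (hac : a ∈ C(D)) : El p (n + 1) (D ⊔ zpowers y) ⊤ :=
  hD.sup (el1_zpowers hD.prime (mem_top y) hy) (cents_symm (zpowers_le.2 hc)) fun e =>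
    not_cent hD.prime h2 hy ha (mem_cent.1 hac y (e (mem_zpowers y))).symm

theorem LC.not_le (hG : LC p G) (h2 : p ≠ 2) (hD : El p (m + 1) D ⊤) (hA : El 2 (n + 1) A C(D)) :
    ¬ A ≤ C(Oc {p} C(D)) := fun h => by
  obtain ⟨a, ha, h1⟩ := exists_ne_one hA.ne_bot
  exact h1 (hG D hD.pg hD.ne_bot a (hA.le ha) ((hA.pg.sing_ne h2.symm).elt ha) (h ha))

theorem lemA (hG : LC p G) (h2 : p ≠ 2) (hD : El p (m + 1) D ⊤) (hA : El 2 (n + 1) A C(D)) :
    Good p (m + 1 + n) G := by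
  induction n generalizing m D A with
  | zero =>
    obtain ⟨t, -, ht, rfl⟩ := hA.exists_gen
    exact ⟨t, D, ht, hD.of_le (le_cent1_iff.2 (hA.le (mem_zpowers t)))⟩
  | succ n ih =>
    obtain ⟨B, a, y, hB, ha, hy, hc, ho, hi⟩ := step h2 (Oc_pi {p} C(D)) hA
      (hA.le.trans (Oc_norm _ _)) (hG.not_le h2 hD hA)
    have := ih (el_adj h2 hD ho (Oc_le _ _ hy) hi (hA.le ha)) (hB.of_le
      (cents_sup (hB.le.trans hA.le) (cents_symm (zpowers_le.2 hc))))
    rwa [show m + 1 + 1 + n = m + 1 + (n + 1) by omega] at this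

/-- a subgroup of order two is centralized by its normalizer -/
theorem cent_of_two (hX : El 2 1 X M) (hn : D ≤ N(X)) : X ≤ C(D) := by
  obtain ⟨t, -, ht, rfl⟩ := hX.exists_gen
  refine zpowers_le.2 (mem_cent.2 fun g hg => ?_)
  rcases (mem_zp ht).1 (conj_mem_of_norm (hn hg) (mem_zpowers t)) with e | e
  · exact absurd (by simpa using e) (ne1 ht)
  · exact mul_inv_eq_iff_eq_mul.1 e

theorem good3 (hG : LC p G) (h2 : p ≠ 2) (hT : PG 2 T) (h1 : T ≠ ⊥) (hB : El p 3 B N(T)) :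
    Good p 3 G := by
  have hn : B ≤ N(Ohm1 2 Z(T)) := hB.le.trans (norm_le_norm_Ohm1_center 2 T)
  have hV := abelem_Ohm1_center 2 T
  obtain ⟨D, hD, hW⟩ : ∃ D, El p 2 D B ∧ ¬ Ohm1 2 Z(T) ⊓ C(D) ≤ ⊥ := by
    by_contra! hc
    exact hT.Ohm1_center_ne_bot h1 (le_bot_iff.1 (H18.coprime_abelem_gen_cent hB hn
      ((abelem_pg Nat.prime_two hV).coprime (hB.pg.sing_ne h2)) hc))
  obtain ⟨k, hk⟩ := abelem_el Nat.prime_two (abelem_mono hV (inf_le_left (b := C(D))))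
    inf_le_right
  match k, hk with
  | 0, hk => exact absurd (eq_bot_of_card_eq _ (by simpa using hk.card)).le hW
  | 1, hk =>
    have hc := cent_of_two hk (norms_inf hn (norms_cent (norms_of_comm hB.comm le_rfl hD.le)))
    obtain ⟨t, -, ht, e⟩ := hk.exists_gen
    exact ⟨t, B, ht, hB.of_le (le_cent1_iff.2 (hc (e ▸ mem_zpowers t)))⟩
  | k + 2, hk => exact (lemA hG h2 hD.top hk).mono (by omega)

/-- invariant elementary abelian `2`-subgroups of `C(t)` for a maximal pair -/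
theorem le_zp (hG : LC p G) (h2 : p ≠ 2) (hm : ¬ Good p (d + 3) G) (ht : orderOf t = 2)
    (hD : El p (d + 2) D C[t]) (hV : Abelem 2 V) (hVt : V ≤ C[t]) (hn : D ≤ N(V)) :
    V ≤ zpowers t := by
  have hT := el1_zpowers Nat.prime_two (mem_top t) ht
  have hDt : D ≤ C(zpowers t) := by rw [cent_zpowers]; exact hD.le
  have hW : Abelem 2 (V ⊔ zpowers t) := abelem_sup hV hT.ab (by rw [cent_zpowers]; exact hVt)
  have hWn : D ≤ N(V ⊔ zpowers t) := norms_sup hn (norms_of_cents hDt)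
  have cop : ∀ U : Subgroup G, Abelem 2 U → (#U).Coprime #D := fun U hU =>
    (abelem_pg Nat.prime_two hU).coprime (hD.pg.sing_ne h2)
  refine le_sup_left.trans (H18.coprime_abelem_gen_cent hD hWn (cop _ hW) fun H hH => ?_)
  have hU := abelem_mono hW (inf_le_left (b := C(H)))
  have hUn : D ≤ N((V ⊔ zpowers t) ⊓ C(H)) :=
    norms_inf hWn (norms_cent (norms_of_comm hD.comm le_rfl hH.le))
  have htU : zpowers t ≤ (V ⊔ zpowers t) ⊓ C(H) :=
    le_inf le_sup_right (cents_symm (hH.le.trans hDt))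
  obtain ⟨k, hk⟩ := abelem_el Nat.prime_two hU inf_le_right
  generalize (V ⊔ zpowers t) ⊓ C(H) = U at hU hUn htU hk
  match k, hk with
  | 0, hk => exact absurd (hT.rank_le hk htU) (by omega)
  | 1, hk => exact (hT.eq_of_le hk htU).ge
  | 2, hk =>
    have h0 := ab_commg_inf_cent hk.comm hUn (cop _ hU)
    have hc : ⁅U, D⁆ = ⊥ := by
      rcases hk.sub2 (commg_le_left hUn) with e | e | e
      · exact e
      · rw [← h0, inf_eq_left.2 (cent_of_two e (commg_normr U D))]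
      · rw [e] at h0
        exact absurd (H19.eq_bot_mono (le_inf htU (cents_symm hDt)) h0) hT.ne_bot
    exact absurd (lemA hG h2 hD.top (hk.of_le (commg_eq_bot.1 hc))) hm
  | k + 3, hk => exact absurd ((lemA hG h2 hH.top hk).mono (by omega)) hm

/-- the critical subgroup of `O₂(C(t))` for a maximal pair -/
structure Cr (t : G) (K : Subgroup G) : Prop where
  t2 : orderOf t = 2
  pg : PG 2 K
  le : K ≤ C[t]
  norm : C[t] ≤ N(K)
  sq : ∀ x ∈ K, x * x ∈ zpowers t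
  faith : ∀ x ∈ C[t], PiE {2}ᶜ x → x ∈ C(K) → x = 1

theorem exists_cr (hG : LC p G) (hG2 : LC 2 G) (h2 : p ≠ 2) (hm : ¬ Good p (d + 3) G)
    (ht : orderOf t = 2) (hD : El p (d + 2) D C[t]) : ∃ K, Cr t K := by
  have hT := el1_zpowers Nat.prime_two (mem_top t) ht
  obtain ⟨K, h1, h3, h4, -, h5, h6⟩ :=
    H3.exists_critical_small_amb (p := 2) (Oc_pi {2} C[t]).isPGroup
  have hn : C[t] ≤ N(K) := (Oc_norm _ _).trans h3
  have hK : K ≤ C[t] := h1.trans (Oc_le _ _)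
  refine ⟨K, ht, (Oc_pi _ _).of_le h1, hK, hn, fun x hx => ?_, fun x hx he hc => ?_⟩
  · refine le_zp hG h2 hm ht hD (abelem_Ohm1_center 2 K)
      ((Ohm1_le _ _).trans (inf_le_left.trans hK))
      ((hD.le.trans hn).trans (norm_le_norm_Ohm1_center 2 K))
      (mem_Ohm1 ⟨mul_mem hx hx, pow_two x ▸ h5 x hx⟩ ?_)
    rcases h4 x hx with e | e
    · rw [← pow_two, e, one_pow]
    · rw [← pow_two, ← pow_mul]; exact e.2
  · refine hG2 _ hT.pg hT.ne_bot x (by rwa [cent_zpowers]) he ?_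
    rw [cent_zpowers]
    exact h6 x (Oc_norm _ _ hx) (he.coprime_prime Nat.prime_two) hc

end H22.KM
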