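import Cfsg.Agent.H22.KM1

/-!
Klinger–Mason, second part: quaternion pairs in the critical subgroup and the final contradiction.
-/

set_option autoImplicit false

namespace H22.KM
open Cfsg Subgroup H19
open scoped commutatorElement

variable {G : Type*} [Group G] [Finite G] {p n m d : ℕ} {A B D E H K L M P R T U V X Y : Subgroup G}
  {s t a y : G}

omit [Finite G] in
theorem Cr.der (hK : Cr t K) (hX : X ≤ K) (hY : Y ≤ K) : ⁅X, Y⁆ ≤ zpowers t :=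
  commutator_le.2 fun x hx z hz => by
    have e : ⁅x, z⁆ = x * x * (x⁻¹ * z * (x⁻¹ * z)) * (z⁻¹ * z⁻¹) := by
      simp [commutatorElement_def, mul_assoc]
    exact e ▸ mul_mem (mul_mem (hK.sq _ (hX hx)) (hK.sq _ (mul_mem (inv_mem (hX hx)) (hY hz))))
      (hK.sq _ (inv_mem (hY hz)))

omit [Finite G] in
theorem zp_cent (h : R ≤ C[t]) : zpowers t ≤ C(R) := zpowers_le.2 (le_cent1_iff.1 h)

omit [Finite G] in
theorem Cr.cents (hK : Cr t K) (hX : X ≤ K) (hY : Y ≤ K) (hR : R ≤ C[t]) (hc : R ≤ C(X)) :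
    ⁅Y, R⁆ ≤ C(X) :=
  commg_eq_bot.1 (three_subgroup (by rw [commg_eq_bot.2 hc, commutator_bot_left])
    (commg_eq_bot.2 ((hK.der hX hY).trans (zp_cent hR))))

theorem Cr.fpf (hK : Cr t K) (hX : X ≤ K) (hD : D ≤ C[t]) (hn : D ≤ N(X)) (ho : PiG {2}ᶜ D)
    (hY : Y ≤ ⁅X, D⁆) (h : ⁅Y, D⁆ ≤ zpowers t) : Y ≤ zpowers t := by
  have n1 : X ≤ N(zpowers t) := (hX.trans hK.le).trans (cent1_le_norm_zpowers t)
  have n2 : D ≤ N(zpowers t) := hD.trans (cent1_le_norm_zpowers t)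
  have n3 : Y ≤ N(zpowers t) := (hY.trans (commg_le_left hn)).trans n1
  have h0 := ab_commg_inf_cent ((ab_quo_iff n1).2 (hK.der hX hX)) (quo_norms hn)
    (cop_quo ((hK.pg.of_le hX).coprime ho) _)
  rw [← quo_eq_bot_iff n3, ← le_bot_iff, ← h0, ← quo_comm n1 n2]
  exact le_inf (quo_mono _ hY) ((quo_cents_iff n3 n2).2 h)

/-- a pair generating a quaternion group with centre `t` -/
def QP (t : G) (M : Subgroup G) : Prop :=
  ∃ a ∈ M, ∃ b ∈ M, a * a = t ∧ b * b = t ∧ a * b ≠ b * a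

theorem Cr.qp (hK : Cr t K) (hG : LC p G) (h2 : p ≠ 2) (hm : ¬ Good p (d + 3) G)
    (hD : El p (d + 2) D C[t]) (hX : X ≤ K) (hn : D ≤ N(X)) (h : ¬ X ≤ C(D)) : QP t ⁅X, D⁆ := by
  have ho : PiG {2}ᶜ D := hD.pg.sing_ne h2
  have hM : ⁅X, D⁆ ≤ K := (commg_le_left hn).trans hX
  have hMn := commg_normr X D
  have hMM := commg_commg hn ((hK.pg.of_le hX).coprime ho)
  have fp := fun Y => hK.fpf (Y := Y) hX hD.le hn ho
  rw [← commg_eq_bot] at h
  generalize ⁅X, D⁆ = M at hM hMn hMM fp h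
  by_contra hq
  have hq' : ∀ a ∈ M, ∀ b ∈ M, a * a = t → b * b = t → a * b = b * a := fun a ha b hb e1 e2 => by
    by_contra e
    exact hq ⟨a, ha, b, hb, e1, e2, e⟩
  set U : Subgroup G := closure {b | b ∈ M ∧ b * b = t} with hU
  have hUM : U ≤ M := (closure_le _).2 fun b hb => hb.1
  have hUa : Ab U := comm_iff_le_cent.2 ((closure_le _).2 fun a ha => le_cent1_iff.1
    ((closure_le _).2 fun b hb => mem_cent1.2 (hq' b hb.1 a ha.1 hb.2 ha.2)))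
  have hUn : D ≤ N(U) := fun g hg => mem_norm_of_cj_le (by
    rw [cj_le_iff, closure_le]
    refine fun b hb => mem_cj_inv.2 (subset_closure ⟨conj_mem_of_norm (hMn hg) hb.1, ?_⟩)
    rw [conj_mul, hb.2, mem_cent1.1 (hD.le hg), mul_inv_cancel_right])
  have hO := le_zp hG h2 hm hK.t2 hD (abelem_Ohm1 hUa 2)
    ((Ohm1_le _ _).trans (hUM.trans (hM.trans hK.le))) (norms_Ohm1 2 hUn)
  have hUT : U ≤ zpowers t := fp U hUM (commutator_le.2 fun u hu g hg => hO (by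
    have hv := conj_mem_of_norm (hUn hg) (inv_mem hu)
    have e : ⁅u, g⁆ = u * (g * u⁻¹ * g⁻¹) := by simp [commutatorElement_def, mul_assoc]
    have c := mem_cent.1 (zp_cent hD.le (hK.sq _ (inv_mem (hM (hUM hu))))) g hg
    refine e ▸ mem_Ohm1 (mul_mem hu hv) ?_
    rw [(show Commute _ _ from mul_comm_of_comm hUa hu hv).mul_pow, pow_two, pow_two, conj_mul, c]
    simp [mul_assoc]))
  have hs : ∀ x ∈ M, x * x = 1 := fun x hx => by
    refine ((mem_zp hK.t2).1 (hK.sq x (hM hx))).resolve_right fun e => ne1 hK.t2 ?_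
    rcases (mem_zp hK.t2).1 (hUT (subset_closure ⟨hx, e⟩)) with e' | e'
    · rw [← e, e', one_mul]
    · rw [← e, e', sq1 hK.t2]
  have hMa : Abelem 2 M := ⟨comm_iff_le_cent.2 fun x hx => mem_cent.2 fun z hz => by
    have i : ∀ w ∈ M, w⁻¹ = w := fun w hw => inv_eq_of_mul_eq_one_right (hs w hw)
    rw [← i _ (mul_mem hz hx), mul_inv_rev, i x hx, i z hz], fun x hx => by rw [pow_two, hs x hx]⟩
  exact h (hMM ▸ commg_eq_bot.2
    ((le_zp hG h2 hm hK.t2 hD hMa (hM.trans hK.le) hMn).trans (zp_cent hD.le)))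

theorem Cr.el3 (hK : Cr t K) {a1 a2 b1 b2 : G} (ha1 : a1 ∈ K) (ha2 : a2 ∈ K) (hb1 : b1 ∈ K)
    (hb2 : b2 ∈ K) (e1 : a1 * a1 = t) (e2 : a2 * a2 = t) (f1 : b1 * b1 = t) (f2 : b2 * b2 = t)
    (na : a1 * a2 ≠ a2 * a1) (nb : b1 * b2 ≠ b2 * b1) (c11 : Commute a1 b1) (c12 : Commute a1 b2)
    (c21 : Commute a2 b1) (c22 : Commute a2 b2) :
    El 2 3 (zpowers t ⊔ zpowers (a1 * b1) ⊔ zpowers (a2 * b2)) ⊤ := by
  have ct : ∀ x ∈ K, Commute x t := fun x hx => mem_cent1.1 (hK.le hx)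
  have cm : ∀ x ∈ K, ∀ z ∈ K, x * z ≠ z * x → x * z = t * (z * x) := fun x hx z hz h => by
    rcases (mem_zp hK.t2).1 (hK.der le_rfl le_rfl (commutator_mem_commutator hx hz)) with e | e
    · exact absurd (commutatorElement_eq_one_iff_mul_comm.1 e) h
    · rw [← e, commutatorElement_def]; group
  have s1 : (a1 * b1) ^ 2 = 1 := by rw [c11.mul_pow, pow_two, pow_two, e1, f1, sq1 hK.t2]
  have s2 : (a2 * b2) ^ 2 = 1 := by rw [c22.mul_pow, pow_two, pow_two, e2, f2, sq1 hK.t2]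
  have n1 : a1 * b1 ∉ C[a2] := fun e => na (by
    have := mem_cent1.1 e
    rw [mul_assoc, ← c21.eq, ← mul_assoc, ← mul_assoc] at this
    exact mul_right_cancel this)
  have n2 : a2 * b2 ∉ C[a1] := fun e => na (by
    have := mem_cent1.1 e
    rw [mul_assoc, ← c12.eq, ← mul_assoc, ← mul_assoc] at this
    exact (mul_right_cancel this).symm)
  have cc : a1 * b1 ∈ C[a2 * b2] := mem_cent1.2 (by
    rw [c21.symm.mul_mul_mul_comm, c12.symm.mul_mul_mul_comm, cm _ ha1 _ ha2 na,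
      cm _ hb1 _ hb2 nb, mul_assoc, ← mul_assoc (a2 * a1), (ct _ (mul_mem ha2 ha1)).eq,
      mul_assoc, ← mul_assoc, sq1 hK.t2, one_mul])
  refine ((el1_zpowers Nat.prime_two (mem_top t) hK.t2).sup
    (el1_zpowers' Nat.prime_two (mem_top _) s1 fun e => n1 (e ▸ one_mem _)) ?_ fun e => n1 ?_).sup
    (el1_zpowers' Nat.prime_two (mem_top _) s2 fun e => n2 (e ▸ one_mem _)) ?_ fun e => n2 ?_
  · exact zp_cent (zpowers_le.2 (hK.le (mul_mem ha1 hb1)))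
  · exact zpowers_le.2 (mem_cent1_symm.1 (hK.le ha2)) (e (mem_zpowers _))
  · rw [cent_zpowers]
    exact sup_le (zpowers_le.2 (mem_cent1_symm.1 (hK.le (mul_mem ha2 hb2)))) (zpowers_le.2 cc)
  · exact sup_le (zpowers_le.2 (mem_cent1_symm.1 (hK.le ha1)))
      (zpowers_le.2 (mul_mem (mem_cent1_self _) (mem_cent1.2 c11.symm.eq))) (e (mem_zpowers _))

theorem exists_el_inf (hD : El p (n + 2) D M) (h1 : El p (n + 1) A D) (h2 : El p (n + 1) B D) :
    ∃ E, El p n E (A ⊓ B) := by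
  obtain ⟨k, hk⟩ := abelem_el hD.prime (abelem_mono h1.ab (inf_le_left (b := B))) le_rfl
  have e := card_sup_mul_inf (norms_of_comm hD.comm h2.le h1.le)
  have l := card_le (sup_le h1.le h2.le)
  rw [hk.card, h1.card, h2.card] at e
  rw [hD.card] at l
  have : p ^ (n + 1 + (n + 1)) ≤ p ^ (n + 2 + k) := by
    rw [pow_add, pow_add p (n + 2), ← e]; exact Nat.mul_le_mul_right _ l
  exact hk.exists_sub (by have := (Nat.pow_le_pow_iff_right hD.prime.one_lt).1 this; omega)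

theorem Cr.hyp_cents (hK : Cr t K) (hD : El p (n + 1) D C[t]) (hH : El p n H D) (hy : y ∈ D)
    (hyH : y ∉ H) (hX : X ≤ K) (hc : y ∈ C(X)) : ⁅K ⊓ C(H), D⁆ ≤ C(X) := by
  have e : zpowers y ⊔ H = D := by
    rw [sup_comm]
    exact (hH.sup (el1_zpowers' hD.prime hy (hD.ab.2 y hy) fun e => hyH (e ▸ one_mem _))
      (cents_of_comm hD.comm hH.le (zpowers_le.2 hy)) fun e => hyH (e (mem_zpowers y))).eq_of_le
      hD (sup_le hH.le (zpowers_le.2 hy))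
  rw [commutator_comm, ← e, commg_sup_cent_left (cents_symm inf_le_right)
    (norms_of_comm hD.comm hH.le (zpowers_le.2 hy)), commutator_comm]
  exact hK.cents hX inf_le_left (zpowers_le.2 (hD.le hy)) (zpowers_le.2 hc)

theorem Cr.exists_hyp (hK : Cr t K) (h2 : p ≠ 2) (hD : El p (n + 1) D C[t]) (hy : y ∈ D)
    (h1 : y ≠ 1) : ∃ H, El p n H D ∧ y ∉ C(K ⊓ C(H)) := by
  by_contra! hc
  exact h1 (hK.faith y (hD.le hy) ((hD.pg.sing_ne h2).elt hy) (le_cent1_iff.1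
    (H18.coprime_abelem_gen_cent hD (hD.le.trans hK.norm) (hK.pg.coprime (hD.pg.sing_ne h2))
      fun H hH => le_cent1_iff.2 (hc H hH))))

theorem Cr.hn (hK : Cr t K) (hD : El p n D C[t]) (hH : H ≤ D) : D ≤ N(K ⊓ C(H)) :=
  norms_inf (hD.le.trans hK.norm) (norms_cent (norms_of_comm hD.comm le_rfl hH))

theorem step4 (hG : LC p G) (hG2 : LC 2 G) (h2 : p ≠ 2) (hm : ¬ Good p (d + 3) G)
    (h : Good p (d + 2) G) : ∃ E A : Subgroup G, El p d E ⊤ ∧ El 2 3 A C(E) := by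
  obtain ⟨t, D, ht, hD⟩ := h
  obtain ⟨K, hK⟩ := exists_cr hG hG2 h2 hm ht hD
  obtain ⟨x, hx, x1⟩ := exists_ne_one hD.ne_bot
  obtain ⟨H, hH, hxH⟩ := hK.exists_hyp h2 hD hx x1
  obtain ⟨y, hy, y1⟩ := exists_ne_one hH.ne_bot
  obtain ⟨L, hL, hyL⟩ := hK.exists_hyp h2 hD (hH.le hy) y1
  obtain ⟨a1, ha1, a2, ha2, e1, e2, na⟩ := hK.qp hG h2 hm hD inf_le_left (hK.hn hD hH.le)
    fun e => hxH (cents_symm e hx)
  obtain ⟨b1, hb1, b2, hb2, f1, f2, nb⟩ := hK.qp hG h2 hm hD inf_le_left (hK.hn hD hL.le)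
    fun e => hyL (cents_symm e (hH.le hy))
  have l1 := commg_le_left (hK.hn hD hH.le)
  have l2 := commg_le_left (hK.hn hD hL.le)
  have hc := hK.hyp_cents hD hL (hH.le hy) (fun e => hyL (cents_symm inf_le_right e))
    (inf_le_left (b := C(H))) (cents_symm inf_le_right hy)
  have c : ∀ a ∈ ⁅K ⊓ C(H), D⁆, ∀ b ∈ ⁅K ⊓ C(L), D⁆, Commute a b := fun a ha b hb =>
    mem_cent.1 (hc hb) a (l1 ha)
  obtain ⟨E, hE⟩ := exists_el_inf hD hH hL
  have m1 : ∀ a ∈ ⁅K ⊓ C(H), D⁆, ∀ b ∈ ⁅K ⊓ C(L), D⁆, a * b ∈ C(E) := fun a ha b hb =>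
    mul_mem (cent_mono (hE.le.trans inf_le_left) (l1 ha).2)
      (cent_mono (hE.le.trans inf_le_right) (l2 hb).2)
  exact ⟨E, _, hE.top, (hK.el3 (l1 ha1).1 (l1 ha2).1 (l2 hb1).1 (l2 hb2).1 e1 e2 f1 f2 na nb
    (c _ ha1 _ hb1) (c _ ha1 _ hb2) (c _ ha2 _ hb1) (c _ ha2 _ hb2)).of_le (sup_le (sup_le
    (zp_cent (hE.le.trans (inf_le_left.trans (hH.le.trans hD.le))))
    (zpowers_le.2 (m1 _ ha1 _ hb1))) (zpowers_le.2 (m1 _ ha2 _ hb2)))⟩

end H22.KM
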