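import Cfsg.Agent.H22.KM2

/-!
Klinger–Mason, last part.
-/

set_option autoImplicit false

namespace H22.KM
open Cfsg Subgroup H19
open scoped commutatorElement

variable {G : Type*} [Group G] [Finite G] {p n m d : ℕ} {A B D E H K L M P R T U V X Y : Subgroup G}
  {s t a y : G}

/-- an involution inverting `y` and centralizing the complement `E` moves the other hyperplanes -/
theorem moved (h2 : p ≠ 2) (hE : El p n E ⊤) (hy : orderOf y = p) (hc : y ∈ C(E))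
    (hi : a * y * a⁻¹ = y⁻¹) (ha : a ∈ C(E)) (hH : El p n H (E ⊔ zpowers y)) (hyH : y ∉ H)
    (hEH : ¬ E ≤ H) : ∃ h ∈ H, a * h * a⁻¹ ∉ H := by
  obtain ⟨h, hh, hE'⟩ := SetLike.not_le_iff_exists.1 fun e => hEH (hH.eq_of_le hE e).ge
  refine ⟨h, hh, fun hm => ?_⟩
  obtain ⟨e, he, z, hz, rfl⟩ :=
    (mem_sup_of_norm (norms_of_cents (zpowers_le.2 hc))).1 (hH.le hh)
  have hY := el1_zpowers hE.prime (mem_top y) hy
  have iz : a * z * a⁻¹ = z⁻¹ := by
    obtain ⟨j, rfl⟩ := mem_zpowers_iff.1 hz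
    rw [← conj_zpow, hi, inv_zpow]
  have e1 : (a * (e * z) * a⁻¹)⁻¹ * (e * z) = z * z := by
    rw [← mul_assoc a, ← mem_cent.1 ha e he, mul_assoc e, mul_assoc e, iz]; group
  have z1 : z ≠ 1 := fun e => hE' (by simpa [e] using he)
  refine hyH (le_of_prime_of_inf_ne_bot hY.prime_card (ne_bot_of_mem (x := z * z)
    (mem_inf.2 ⟨mul_mem hz hz, e1 ▸ mul_mem (inv_mem hm) hh⟩) fun e => ?_) (mem_zpowers y))
  exact h2 ((Nat.prime_dvd_prime_iff_eq hE.prime Nat.prime_two).1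
    (orderOf_of_pow hE.prime (hY.ab.2 z hz) z1 ▸ orderOf_dvd_of_pow_eq_one (by rw [pow_two, e])))

theorem step5 (hG : LC p G) (hG2 : LC 2 G) (h2 : p ≠ 2) (hm : ¬ Good p (d + 4) G)
    (hD : El p (d + 1) D ⊤) (hA : El 2 3 A C(D)) : False := by
  have hP := Oc_pi {p} C(D)
  have hPD := Oc_le {p} C(D)
  have hPn := Oc_norm {p} C(D)
  have nf := fun B (hB : El 2 2 B C(D)) => hG.not_le h2 hD hB
  obtain ⟨B, a, y, hB, ha, hy, hyB, yo, hi⟩ := step h2 hP hA (hA.le.trans hPn)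
    (hG.not_le h2 hD hA)
  generalize Oc {p} C(D) = P at hP hPD hPn nf hy
  have hBD := hB.le.trans hA.le
  have hY := el1_zpowers hD.prime (mem_top y) yo
  obtain ⟨S, u, z, hS, hu, hz, hzS, zo, hj⟩ := step (P := P ⊓ C(zpowers y)) h2 (hP.infl _) hB
    (norms_inf (hBD.trans hPn) (norms_cent (norms_of_cents (cents_symm (zpowers_le.2 hyB)))))
    fun e => nf B (hB.of_le hBD) (PxQ hP hY.pg (hB.pg.sing_ne h2.symm) (zpowers_le.2 hyB)
      (norms_of_le (zpowers_le.2 hy)) (hBD.trans hPn) (cents_symm e))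
  obtain ⟨s, -, s2, rfl⟩ := hS.exists_gen
  have hs : s ∈ B := hS.le (mem_zpowers s)
  have hE := el_adj h2 hD yo (hPD hy) hi (hA.le ha)
  have hBE : B ≤ C(D ⊔ zpowers y) := cents_sup hBD (cents_symm (zpowers_le.2 hyB))
  have hzE : z ∈ C(D ⊔ zpowers y) := by rw [cent_sup]; exact ⟨hPD hz.1, hz.2⟩
  have hDE : D ≤ D ⊔ zpowers y := le_sup_left
  generalize D ⊔ zpowers y = E at hE hBE hzE hDE
  rw [cent_zpowers] at hzS
  have hF : El p (d + 3) (E ⊔ zpowers z) C[s] := (el_adj h2 hE zo hzE hj (hBE hu)).of_le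
    (sup_le (le_cent1_iff.2 (hBE hs)) (zpowers_le.2 hzS))
  have hzF : z ∈ E ⊔ zpowers z := mem_sup_right (mem_zpowers z)
  obtain ⟨K, hK⟩ := exists_cr hG hG2 h2 hm s2 hF
  have hc : P ⊓ C[s] ≤ C(K ⊓ C(D)) := (hP.infl _).cents_of_norms
    ((hK.pg.infl _).sing_ne h2.symm)
    (norms_inf (inf_le_right.trans hPn) (norms_of_le (inf_le_left.trans hK.le)))
    (norms_inf (inf_le_right.trans hK.norm) (norms_of_le (inf_le_left.trans hPD)))
  obtain ⟨H, hH, hzH⟩ := hK.exists_hyp h2 hF hzF (fun e => by simp [e] at zo; exact hD.prime.one_lt.ne zo)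
  obtain ⟨h, hh, hm'⟩ := moved h2 hE zo hzE hj (hBE hu) hH
    (fun e => hzH (cents_symm inf_le_right e)) fun e =>
      hzH (cent_mono (inf_le_inf_left K (cent_mono (hDE.trans e))) (hc ⟨hz.1, hzS⟩))
  have u2 : u * u = 1 := by rw [← pow_two]; exact hB.ab.2 u hu
  have ui : u⁻¹ = u := inv_eq_of_mul_eq_one_right u2
  have us : u ∈ C[s] := mem_cent1.2 (mul_comm_of_comm hB.comm hu hs)
  have uK := hK.norm us
  have uF : u ∈ N(E ⊔ zpowers z) := by
    refine norms_sup (A := zpowers u) (norms_of_cents (zpowers_le.2 (hBE hu)))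
      (zpowers_le.2 (mem_norm_of_cj_le ?_)) (mem_zpowers u)
    rw [cj_zpowers, hj, zpowers_inv]
  have l1 := commg_le_left (hK.hn hF hH.le)
  obtain ⟨a1, ha1, a2, ha2, e1, e2, na⟩ := hK.qp hG h2 hm hF inf_le_left (hK.hn hF hH.le)
    fun e => hzH (cents_symm e hzF)
  have hc2 := hK.hyp_cents hF hH (conj_mem_of_norm uF (hH.le hh)) hm'
    (X := cj u (K ⊓ C(H))) (cj_le_of_mem_norm uK inf_le_left)
    (by rw [← cj_cent, conj_mem_cj]; exact cents_symm inf_le_right hh)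
  have c : ∀ a ∈ ⁅K ⊓ C(H), E ⊔ zpowers z⁆, ∀ b ∈ ⁅K ⊓ C(H), E ⊔ zpowers z⁆,
      Commute a (u * b * u⁻¹) := fun a ha b hb =>
    (mem_cent.1 (hc2 ha) _ (conj_mem_cj.2 (l1 hb))).symm
  have sq : ∀ b, b * b = s → u * b * u⁻¹ * (u * b * u⁻¹) = s := fun b hb => by
    rw [conj_mul, hb, mem_cent1.1 us, mul_inv_cancel_right]
  have h3 := hK.el3 (l1 ha1).1 (l1 ha2).1 (conj_mem_of_norm uK (l1 ha1).1)
    (conj_mem_of_norm uK (l1 ha2).1) e1 e2 (sq _ e1) (sq _ e2) na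
    (fun e => na (by rw [conj_mul, conj_mul] at e; simpa using e))
    (c _ ha1 _ ha1) (c _ ha1 _ ha2) (c _ ha2 _ ha1) (c _ ha2 _ ha2)
  have uo : u ∉ K := fun e => by
    have : z * z ∈ K := by
      have := mul_mem (conj_mem_of_norm (hK.norm hzS) e) (inv_mem e)
      rwa [mul_assoc, mul_assoc, ← mul_assoc u, show u * z⁻¹ * u⁻¹ = z by
        rw [← conj_inv, hj, inv_inv]] at this
    have h1 := PiN.e_eq_one ((hP.of_le (zpowers_le.2 (mul_mem hz.1 hz.1))).elt (mem_zpowers _))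
      ((hK.pg.sing_ne h2.symm).elt this)
    exact h2 ((Nat.prime_dvd_prime_iff_eq hD.prime Nat.prime_two).1
      (zo ▸ orderOf_dvd_of_pow_eq_one (by rw [pow_two, h1])))
  have cu : ∀ b ∈ ⁅K ⊓ C(H), E ⊔ zpowers z⁆, b * (u * b * u⁻¹) ∈ C[u] := fun b hb =>
    mem_cent1.2 (by
      conv_rhs => rw [(c b hb b hb).eq]
      simp only [ui, ← mul_assoc, u2, one_mul]
      rw [mul_assoc (b * u * b), u2, mul_one])
  have h4 := h3.sup (el1_zpowers' Nat.prime_two (mem_top u) (by rw [pow_two, u2])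
    fun e => uo (e ▸ one_mem _)) (by
      rw [cent_zpowers]
      exact sup_le (sup_le (zpowers_le.2 (mem_cent1_symm.1 us)) (zpowers_le.2 (cu _ ha1)))
        (zpowers_le.2 (cu _ ha2))) fun e => uo (sup_le (sup_le (zpowers_le.2
          (e1 ▸ mul_mem (l1 ha1).1 (l1 ha1).1))
          (zpowers_le.2 (mul_mem (l1 ha1).1 (conj_mem_of_norm uK (l1 ha1).1))))
          (zpowers_le.2 (mul_mem (l1 ha2).1 (conj_mem_of_norm uK (l1 ha2).1))) (e (mem_zpowers u)))
  obtain ⟨W, hW⟩ := exists_el_inf hF hH (hE.of_le le_sup_left)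
  have uW : u ∈ C(W) := cent_mono (hW.le.trans inf_le_right) (hBE hu)
  have m1 : ∀ b ∈ ⁅K ⊓ C(H), E ⊔ zpowers z⁆, b * (u * b * u⁻¹) ∈ C(W) := fun b hb => by
    have := cent_mono (hW.le.trans inf_le_left) (l1 hb).2
    exact mul_mem this (mul_mem (mul_mem uW this) (inv_mem uW))
  exact hm (lemA hG h2 hW.top (h4.of_le (sup_le (sup_le (sup_le
    (zpowers_le.2 (cent_mono (hW.le.trans inf_le_right) (hBE hs)))
    (zpowers_le.2 (m1 _ ha1))) (zpowers_le.2 (m1 _ ha2))) (zpowers_le.2 uW))))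

theorem not_good3 (hG : LC p G) (hG2 : LC 2 G) (h2 : p ≠ 2) : ¬ Good p 3 G := fun h => by
  have all : ∀ d, Good p (d + 3) G := fun d => by
    induction d with
    | zero => exact h
    | succ d ih =>
      by_contra hm
      obtain ⟨E, A, hE, hA⟩ := step4 (d := d + 1) hG hG2 h2 hm ih
      exact step5 hG hG2 h2 hm hE hA
  obtain ⟨t, D, -, hD⟩ := all (Nat.card G)
  have := hD.top.lt_card
  rw [card_top] at this
  omega

theorem main [hp : Fact p.Prime] (h2 : p ≠ 2) (hGp : IsOfLocalCharacteristic p G)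
    (hG2 : IsCharacteristicTwoType G) : TwoLocalPRankLE p 2 G := by
  rintro _ ⟨T, hT, h1, rfl⟩
  rw [prankLE_iff hp.out]
  exact prk_le fun B hB => not_good3 (lc_of hGp.2) (lc_of hG2.2) h2
    (good3 (lc_of hGp.2) h2 (PiN.of_isPGroup Nat.prime_two hT) h1 hB)

end H22.KM
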