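import Cfsg.Agent.H27.PSL2Max2
import Cfsg.Agent.H27.Klein

/-! Normalizers of non-normal subgroups of `PSL₂(13)` are maximal. -/

set_option autoImplicit false

open Subgroup MulAction H27 Matrix.ProjGenLinGroup
open scoped MatrixGroups

namespace H22.L13

theorem le_norm {G : Type*} [Group G] [Finite G] {M H : Subgroup G}
    (h : ∀ g ∈ M, ∀ x ∈ H, g * x * g⁻¹ ∈ H) : M ≤ normalizer (H : Set G) := fun g hg =>
  mem_normalizer_fintype fun x hx => h g hg x hx

theorem inv_unique {G : Type*} [Group G] {a h : G} {m : ℕ} (ho : orderOf a = 2 * m)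
    (hh : h ∈ zpowers a) (h2 : h ^ 2 = 1) : h = 1 ∨ h = a ^ m := by
  obtain ⟨k, rfl⟩ := mem_zpowers_iff.1 hh
  rw [← zpow_natCast, ← zpow_mul, ← orderOf_dvd_iff_zpow_eq_one, ho] at h2
  obtain ⟨j, hj⟩ := h2
  have hk : k = m * j := by
    push_cast at hj
    linarith
  have e : (a ^ (m : ℤ)) ^ (2 : ℤ) = 1 := by
    rw [← zpow_mul, ← orderOf_dvd_iff_zpow_eq_one, ho]
    push_cast
    rw [mul_comm]
  rcases Int.even_or_odd' j with ⟨i, rfl | rfl⟩
  · left
    rw [hk, zpow_mul, zpow_mul, e, one_zpow]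
  · right
    rw [hk, zpow_mul, zpow_add, zpow_mul, e, one_zpow, one_mul, zpow_one, zpow_natCast]

variable {F : Type*} [Field F] [Fintype F]

theorem upT_pow (t : F) (k : ℕ) : upT t ^ k = upT (k * t) := by
  induction k with
  | zero => simp [upT_zero]
  | succ k ih => rw [pow_succ, ih, ← upT_add]; congr 1; push_cast; ring

theorem cases {a s g : PG F} (hT : IsTorus a s) (hg : g ∈ zpowers a ⊔ zpowers s) :
    (∃ j : ℤ, g = a ^ j) ∨ ∃ j : ℤ, g = a ^ j * s :=
  H4.mem_sup_cases (k := -1) (by rw [hT.inv, _root_.zpow_neg_one])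
    (by rw [hT.s_sq]; exact one_mem _) hg

theorem conj_inv {a s g h : PG F} (hT : IsTorus a s) (hg : g ∈ zpowers a ⊔ zpowers s)
    (hn : g ∉ zpowers a) (hh : h ∈ zpowers a) : g * h * g⁻¹ = h⁻¹ := by
  obtain ⟨k, rfl⟩ := mem_zpowers_iff.1 hh
  rcases cases hT hg with ⟨j, rfl⟩ | ⟨j, rfl⟩
  · exact (hn (zpow_mem_zpowers a j)).elim
  · calc a ^ j * s * a ^ k * (a ^ j * s)⁻¹ = a ^ j * (s * a * s⁻¹) ^ k * (a ^ j)⁻¹ := by
          rw [_root_.conj_zpow]; group
      _ = _ := by rw [hT.inv]; group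

theorem conj_eq {a g h : PG F} (hg : g ∈ zpowers a) (hh : h ∈ zpowers a) : g * h * g⁻¹ = h := by
  obtain ⟨k, rfl⟩ := mem_zpowers_iff.1 hh
  obtain ⟨j, rfl⟩ := mem_zpowers_iff.1 hg
  group

theorem mul_mem_T {a s g h : PG F} (hT : IsTorus a s) (hg : g ∈ zpowers a ⊔ zpowers s)
    (hn : g ∉ zpowers a) (hh : h ∈ zpowers a ⊔ zpowers s) (hn' : h ∉ zpowers a) :
    g * h⁻¹ ∈ zpowers a := by
  rcases cases hT hg with ⟨j, rfl⟩ | ⟨j, rfl⟩
  · exact (hn (zpow_mem_zpowers a j)).elim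
  rcases cases hT hh with ⟨k, rfl⟩ | ⟨k, rfl⟩
  · exact (hn' (zpow_mem_zpowers a k)).elim
  exact ⟨j - k, by simp only; group⟩

theorem sq_one {a s g : PG F} (hT : IsTorus a s) (hg : g ∈ zpowers a ⊔ zpowers s)
    (hn : g ∉ zpowers a) : g ^ 2 = 1 := by
  rcases cases hT hg with ⟨j, rfl⟩ | ⟨j, rfl⟩
  · exact (hn (zpow_mem_zpowers a j)).elim
  · have : (a ^ j * s) ^ 2 = a ^ j * (s * a * s⁻¹) ^ j * s ^ 2 := by
      rw [_root_.conj_zpow, sq, sq]; group
    rw [this, hT.inv, hT.s_sq]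
    simp

variable (hF : Fintype.card F = 13)
include hF

theorem maxT {a s : PG F} (hT : IsTorus a s) : MaxIn (PS F) ((zpowers a ⊔ zpowers s) ⊓ PS F) :=
  maxIn_torus hT (by
    rcases hT.ord with h | h
    · exact Or.inr ⟨h, by rw [hF]; decide⟩
    · exact Or.inl ⟨h, by rw [hF]; decide⟩)

theorem tor0 {a s : PG F} (hT : IsTorus a s) {H : Subgroup (PG F)} (h : H ≤ zpowers a) :
    ∃ M, MaxIn (PS F) M ∧ M ≤ normalizer (H : Set (PG F)) := by
  refine ⟨_, maxT hF hT, le_norm fun g hg x hx => ?_⟩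
  by_cases hn : g ∈ zpowers a
  · rwa [conj_eq hn (h hx)]
  · rw [conj_inv hT hg.1 hn (h hx)]
    exact inv_mem hx

theorem tor [CharP F 13] {a s : PG F} (hT : IsTorus a s) {H : Subgroup (PG F)} (hL : H ≤ PS F)
    (h : H ≤ zpowers a ⊔ zpowers s) : ∃ M, MaxIn (PS F) M ∧ M ≤ normalizer (H : Set (PG F)) := by
  have : Fact (Nat.Prime 13) := ⟨by norm_num⟩
  by_cases h0 : H ≤ zpowers a
  · exact tor0 hF hT h0
  obtain ⟨r, hr, hrn⟩ := SetLike.not_le_iff_exists.1 h0
  have r2 := sq_one hT (h hr) hrn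
  have r1 : r ≠ 1 := fun e => hrn (e ▸ one_mem _)
  have hg : Nat.gcd 2 (Fintype.card F - 1) = 2 := by rw [hF]; decide
  have hI := hT.inf_PS
  rw [hg] at hI
  by_cases h1 : ∀ x ∈ H, x ∈ zpowers a → x = 1
  · obtain ⟨a', s', hT', hr'⟩ := exists_isTorus 13 (c := r) (by
      rw [show 13 = 2 * 6 + 1 from rfl, pow_succ, pow_mul, r2, one_pow, one_mul]; exact r1)
    refine tor0 hF hT' fun x hx => ?_
    by_cases hn : x ∈ zpowers a
    · rw [h1 x hx hn]
      exact one_mem _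
    · have := h1 _ (mul_mem hx (inv_mem hr)) (mul_mem_T hT (h hx) hn (h hr) hrn)
      rw [mul_inv_eq_one.1 this]
      exact hr'
  by_cases h2 : ∀ x ∈ H, x ∈ zpowers a → x ^ 2 = 1
  · push Not at h1
    obtain ⟨x, hx, hxa, x1⟩ := h1
    have two : (2 : F) ≠ 0 := two_ne_zero_iff_odd.2 (by rw [hF]; decide)
    have hn : x * r ∉ zpowers a := fun e => hrn ((mul_mem_cancel_left hxa).1 e)
    have kp : KP x r := ⟨x1, r1, fun e => hn (e ▸ one_mem _), h2 x hx hxa, r2,
      sq_one hT (h (mul_mem hx hr)) hn, hL hx, hL hr⟩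
    obtain ⟨m, hm⟩ : ∃ m, orderOf a = 2 * m := by
      rcases hT.ord with e | e <;> rw [e, hF]
      exacts [⟨6, rfl⟩, ⟨7, rfl⟩]
    have u : ∀ y ∈ H, y ∈ zpowers a → y = 1 ∨ y = x := fun y hy hya => by
      rw [(inv_unique hm hxa (h2 x hx hxa)).resolve_left x1]
      exact inv_unique hm hya (h2 y hy hya)
    have e : H = closure {x, r} := by
      refine le_antisymm (fun y hy => ?_) ((closure_le _).2 ?_)
      · rw [mem_closure_klein kp.x2 kp.y2 kp.xy2]
        by_cases hya : y ∈ zpowers a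
        · rcases u y hy hya with e | e <;> simp [e]
        · rcases u _ (mul_mem hy (inv_mem hr)) (mul_mem_T hT (h hy) hya (h hr) hrn) with e | e
          · simp [mul_inv_eq_one.1 e]
          · simp [mul_inv_eq_iff_eq_mul.1 e]
      · rintro _ (rfl | rfl)
        exacts [hx, hr]
    obtain ⟨-, φ, h3, h4, -⟩ := kp.normalizer_S4 two ⊤
    refine ⟨(alternatingGroup (Fin 4)).map φ, maxIn_A4 (by rw [hF]; norm_num) (by rw [hF]; decide)
      (by rw [hF]; decide) (by rw [hF]; decide) ⟨(equivMapOfInjective _ φ h3).symm⟩, ?_⟩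
    rw [e, ← h4]
    exact map_le_range _ _
  push Not at h2
  obtain ⟨x, hx, hxa, x2⟩ := h2
  have a4 : a ^ 4 ∈ H := by
    obtain ⟨k, rfl⟩ := mem_zpowers_iff.1 (hI.le ⟨hxa, hL hx⟩)
    have e : ((a ^ 2) ^ k) ^ 2 = (a ^ 4) ^ k := by
      rw [← zpow_natCast, ← zpow_natCast, ← zpow_natCast, ← zpow_mul, ← zpow_mul, ← zpow_mul]
      congr 1
      push_cast
      ring
    have hp : (orderOf (a ^ 4)).Prime := by
      rw [orderOf_pow' _ (by decide)]
      rcases hT.ord with e | e <;> rw [e, hF] <;> norm_num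
    rw [e] at x2
    have : a ^ 4 ∈ zpowers ((a ^ 4) ^ k) := by
      rw [mem_zpowers_zpow_iff, Int.gcd_comm, Int.gcd_eq_natAbs, Int.natAbs_natCast]
      refine (Nat.Prime.coprime_iff_not_dvd hp).2 fun hd => x2 ?_
      rw [← orderOf_dvd_iff_zpow_eq_one]
      exact Int.natCast_dvd.2 hd
    exact zpowers_le.2 (e ▸ pow_mem hx 2) this
  have sqH : ∀ t ∈ PS F, t ∈ zpowers a → t ^ 2 ∈ H := fun t ht hta => by
    obtain ⟨k, rfl⟩ := mem_zpowers_iff.1 (hI.le ⟨hta, ht⟩)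
    have e : ((a ^ 2) ^ k) ^ 2 = (a ^ 4) ^ k := by
      rw [← zpow_natCast, ← zpow_natCast, ← zpow_natCast, ← zpow_mul, ← zpow_mul, ← zpow_mul]
      congr 1
      push_cast
      ring
    exact e ▸ zpow_mem a4 k
  refine ⟨_, maxT hF hT, le_norm fun g hg y hy => ?_⟩
  by_cases hya : y ∈ zpowers a
  · by_cases hn : g ∈ zpowers a
    · rwa [conj_eq hn hya]
    · rw [conj_inv hT hg.1 hn hya]
      exact inv_mem hy
  have key : ∀ t ∈ PS F, t ∈ zpowers a → t * y * t⁻¹ ∈ H := fun t ht hta => by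
    have := conj_inv hT (h hy) hya (inv_mem hta)
    have e : t * y * t⁻¹ = t ^ 2 * y := by
      rw [inv_inv, mul_inv_eq_iff_eq_mul] at this
      rw [mul_assoc, this, sq, mul_assoc]
    exact e ▸ mul_mem (sqH t ht hta) hy
  by_cases hn : g ∈ zpowers a
  · exact key g hg.2 hn
  · have := key _ (mul_mem hg.2 (inv_mem (hL hy))) (mul_mem_T hT hg.1 hn (h hy) hya)
    convert this using 1
    group

end H22.L13

namespace H22.L13

local instance instFact13 : Fact (Nat.Prime 13) := ⟨by norm_num⟩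

theorem core {H : Subgroup (PG (ZMod 13))} (hL : H ≤ PS (ZMod 13)) (hne : H ≠ PS (ZMod 13)) :
    ∃ M, MaxIn (PS (ZMod 13)) M ∧ M ≤ normalizer (H : Set (PG (ZMod 13))) := by
  have hF : Fintype.card (ZMod 13) = 13 := ZMod.card 13
  have hc : Nat.card (PS (ZMod 13)) = 1092 := by
    have := card_PS_odd (F := ZMod 13) (by rw [hF]; decide)
    rw [hF] at this
    omega
  have hd := card_dvd_of_le hL
  rw [hc] at hd
  rcases dickson_sub 13 H with ⟨x, h⟩ | ⟨a, s, hT, h⟩ | ⟨-, h | h | h⟩ | ⟨h, -⟩ | ⟨c, F₀, -, h⟩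
  · by_cases hu : ∃ u ∈ H, u ≠ 1 ∧ u ^ 13 = 1
    · obtain ⟨u, hu, u1, u13⟩ := hu
      obtain ⟨c, rfl⟩ := exists_smul_inf x
      have U : ∀ v : PG (ZMod 13), v • c • inf _ = c • inf _ → v ^ 13 = 1 →
          ∃ t, c⁻¹ * v * c = pgm (upT t) := fun v h1 h2 =>
        (unip_inf_iff 13 _).1 ⟨(conj_smul_iff _ _ _ _).2 h1, (conj_pow_eq_one_iff _ _ _).2 h2⟩
      obtain ⟨t, ht⟩ := U u (h hu) u13
      have t0 : t ≠ 0 := by
        rintro rfl
        rw [upT_zero, map_one] at ht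
        exact u1 (by simpa [mul_assoc, inv_mul_eq_one] using ht)
      refine ⟨_, maxIn_stabilizer (c • inf _), le_norm fun g hg y hy => ?_⟩
      obtain ⟨t', ht'⟩ := U (g * y * g⁻¹ * y⁻¹)
        ((stabilizer _ _).mul_mem (mul_mem (mul_mem hg.1 (h hy)) (inv_mem hg.1)) (inv_mem (h hy)))
        (comm_unip_of_fixed 13 hg.1 (h hy))
      have e : g * y * g⁻¹ * y⁻¹ = u ^ (t' / t).val := by
        rw [← MulAut.conj_symm_apply] at ht ht'
        apply (MulAut.conj c).symm.injective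
        rw [map_pow, ht, ht', ← map_pow, upT_pow, ZMod.natCast_zmod_val, div_mul_cancel₀ _ t0]
      have := mul_mem (e ▸ pow_mem hu _) hy
      rwa [inv_mul_cancel_right] at this
    · push Not at hu
      by_cases hb : H = ⊥
      · obtain ⟨a, s, hT, -⟩ := exists_split_torus (F := ZMod 13)
        exact tor0 hF hT (hb ▸ bot_le)
      obtain ⟨⟨c, hc⟩, c1⟩ := ne_bot_iff_exists_ne_one.1 hb
      replace c1 : c ≠ 1 := fun e => c1 (Subtype.ext e)
      obtain ⟨a, s, hT, hca⟩ := exists_isTorus 13 (hu c hc c1)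
      refine tor hF hT hL fun g hg => hT.norm c hca c1 g (Or.inl ?_)
      by_contra e
      exact hu _ (mul_mem (mul_mem (mul_mem hg hc) (inv_mem hg)) (inv_mem hc))
        (fun e' => e (mul_inv_eq_one.1 e')) (comm_unip_of_fixed 13 (h hg) (h hc))
  · exact tor hF hT hL h
  · exact ⟨H, maxIn_A4 (by rw [hF]; norm_num) (by rw [hF]; decide)
      (by rw [hF]; decide) (by rw [hF]; decide) h, le_normalizer⟩
  · rw [card_of_equiv h, Nat.card_perm] at hd
    simp at hd
    exact absurd hd (by decide)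
  · rw [card_of_equiv h, nat_card_alternatingGroup] at hd
    simp at hd
    exact absurd hd (by decide)
  · exact absurd h (by decide)
  · rw [subfield_eq_top_of_prime (by rw [hF]; norm_num) F₀] at h
    exact (hne (eq_PS_of_top hL h)).elim

/-- Every subgroup is normal or normalized by a maximal subgroup. -/
def Q (G : Type*) [Group G] : Prop :=
  ∀ H : Subgroup G, ⊤ ≤ normalizer (H : Set G) ∨ ∃ M, IsCoatom M ∧ M ≤ normalizer (H : Set G)

theorem q_psl : Q PSL(2, ZMod 13) := fun H => by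
  by_cases h : H = ⊤
  · left
    rw [h]
    exact le_normalizer
  right
  obtain ⟨M, h1, h2⟩ := core (up_le H) fun e => h (up_injective (e.trans up_top.symm))
  obtain ⟨M, rfl⟩ := exists_up h1.1.le
  refine ⟨M, (isCoatom_iff_up M).2 h1, le_norm fun g hg x hx => ?_⟩
  obtain ⟨y, hy, e⟩ := (mem_normalizer_iff.1 (h2 ⟨g, hg, rfl⟩) _).1 ⟨x, hx, rfl⟩
  rw [← map_inv, ← map_mul, ← map_mul] at e
  exact Matrix.ProjectiveSpecialLinearGroup.toPGL_injective e ▸ hy

theorem Q.lift {G K : Type*} [Group G] [Finite G] [Group K] (h : Q K) (π : G →* K)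
    (hπ : Function.Surjective π)
    (hc : ∀ H : Subgroup G, ∀ g, ∀ x ∈ H, ∀ y ∈ H, π (g * x * g⁻¹) = π y → g * x * g⁻¹ ∈ H) :
    Q G := fun H => by
  have key : ∀ M ≤ normalizer (H.map π : Set K), M.comap π ≤ normalizer (H : Set G) :=
    fun M hM => le_norm fun g hg x hx => by
      obtain ⟨y, hy, e⟩ := (mem_normalizer_iff.1 (hM hg) _).1 ⟨x, hx, rfl⟩
      exact hc H g x hx y hy (by rw [e, map_mul, map_mul, map_inv])
  rcases h (H.map π) with h | ⟨M, h1, h2⟩
  · exact Or.inl (key _ h)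
  · exact Or.inr ⟨_, isCoatom_comap_of_surjective hπ h1, key _ h2⟩

end H22.L13
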