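import Cfsg.Agent.H22.Gam

/-! # Lang's theorem for the general linear group over an algebraically closed field -/

set_option autoImplicit false

namespace H22

open Module Polynomial

variable {K : Type*} [Field K] [IsAlgClosed K] {V : Type*} [AddCommGroup V] [Module K V] {q : ℕ}
  (hq : 2 ≤ q) (τ : V →+ V) (hτ : ∀ (c : K) v, τ (c • v) = c ^ q • τ v)
include hq

omit [IsAlgClosed K] in
theorem lang_poly (a : ℕ → K) (h0 : a 0 ≠ 0) : ∃ P : ℕ → K[X], P 0 = C (a 0) * X ^ q ∧
    (∀ i, P (i + 1) = P i ^ q + C (a (i + 1)) * X ^ q) ∧ ∀ i, q ≤ (P i).natDegree ∧ X ^ 2 ∣ P i := by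
  refine ⟨fun i => Nat.rec (C (a 0) * X ^ q) (fun i p => p ^ q + C (a (i + 1)) * X ^ q) i, rfl, fun _ => rfl,
    fun i => ?_⟩
  induction i with
  | zero => exact ⟨by simp [natDegree_C_mul_X_pow _ _ h0], (pow_dvd_pow _ hq).mul_left _⟩
  | succ i ih =>
    refine ⟨?_, (ih.2.pow (by omega)).add ((pow_dvd_pow _ hq).mul_left _)⟩
    have h := natDegree_C_mul_X_pow_le (a (i + 1)) q
    rw [natDegree_add_eq_left_of_natDegree_lt (by rw [natDegree_pow]; nlinarith [ih.1]), natDegree_pow]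
    nlinarith [ih.1]

include hτ

theorem exists_fix_vec [FiniteDimensional K V] [Nontrivial V] (hi : Function.Injective τ) :
    ∃ w, w ≠ 0 ∧ τ w = w := by
  classical
  obtain ⟨v, hv⟩ := exists_ne (0 : V)
  have H : ∃ m, ∃ a : ℕ → K, τ^[m] v = ∑ i ∈ Finset.range m, a i • τ^[i] v := by
    obtain ⟨n, hn⟩ := monotone_stabilizes_iff_noetherian.2 (inferInstance : IsNoetherian K V)
      ⟨fun m => Submodule.span K ((fun i => τ^[i] v) '' Finset.range m), fun a b h =>
        Submodule.span_mono (Set.image_mono (by simpa using h))⟩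
    obtain ⟨a, ha⟩ := (Submodule.mem_span_image_finset_iff_exists_fun' K).1
      ((hn (n + 1) n.le_succ).ge (Submodule.subset_span ⟨n, by simp, rfl⟩))
    exact ⟨n, a, ha.symm⟩
  obtain ⟨a, ha⟩ := Nat.find_spec H
  obtain ⟨m, hm⟩ : ∃ m, Nat.find H = m + 1 := ⟨Nat.find H - 1, by
    have : Nat.find H ≠ 0 := fun e => hv (by simpa [e] using ha)
    omega⟩
  have hmin := Nat.find_min H (m := m) (by omega)
  rw [hm] at ha
  have h0 : a 0 ≠ 0 := fun h0 => hmin (by
    choose b hb using fun i => IsAlgClosed.exists_pow_nat_eq (a (i + 1)) (n := q) (by omega)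
    refine ⟨b, hi ?_⟩
    rw [← Function.iterate_succ_apply' τ, ha, Finset.sum_range_succ', h0, zero_smul, add_zero, map_sum]
    simp only [hτ, hb, Function.iterate_succ_apply'])
  obtain ⟨P, p0, p1, p2⟩ := lang_poly hq a h0
  obtain ⟨R, hR⟩ := (p2 m).2
  obtain ⟨y, hy⟩ := IsAlgClosed.exists_root (X * R - 1) (fun e => by
    have h1 := (p2 m).1
    have h2 := eq_C_of_degree_eq_zero e
    rw [hR, sq, mul_assoc, sub_eq_iff_eq_add.1 h2, ← map_one C, ← C_add, map_one] at h1
    have := natDegree_mul_C_le X ((X * R - 1).coeff 0 + 1)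
    rw [natDegree_X] at this
    omega)
  have y0 : y ≠ 0 := by rintro rfl; simp at hy
  have y1 : (P m).eval y = y := by
    rw [IsRoot.def] at hy
    rw [hR]; simp at hy ⊢; linear_combination y * hy
  refine ⟨∑ i ∈ Finset.range (m + 1), (P i).eval y • τ^[i] v, fun e => hmin ⟨fun i => -(y⁻¹ * (P i).eval y), ?_⟩, ?_⟩
  · rw [Finset.sum_range_succ, y1, add_eq_zero_iff_neg_eq] at e
    rw [← inv_smul_smul₀ y0 (τ^[m] v), ← e]
    simp [Finset.smul_sum, smul_smul]
  · rw [map_sum]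
    simp only [hτ, ← Function.iterate_succ_apply' τ]
    rw [Finset.sum_range_succ, ha, y1, Finset.sum_range_succ', Finset.sum_range_succ', p0]
    simp only [p1, eval_add, eval_pow, eval_mul, eval_C, eval_X, add_smul, Finset.sum_add_distrib, smul_add,
      Finset.smul_sum, smul_smul, mul_comm (y ^ q), add_assoc]

theorem span_fix_eq_top [FiniteDimensional K V] (hi : Function.Injective τ) :
    Submodule.span K {v | τ v = v} = ⊤ := by
  by_contra hne
  set W := Submodule.span K {v | τ v = v}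
  have h1 : ∀ w ∈ W, τ w ∈ W ∧ (∃ u ∈ W, τ u = w) ∧ ∃ u ∈ W, τ u - u = w := fun w hw => by
    refine Submodule.span_induction (p := fun w _ => ∀ c : K, τ (c • w) ∈ W ∧ (∃ u ∈ W, τ u = c • w) ∧
      ∃ u ∈ W, τ u - u = c • w) (fun x hx c => ?_) (fun c => ?_) (fun x y _ _ hx hy c => ?_)
      (fun a x _ hx c => by simpa [smul_smul] using hx (c * a)) hw 1 |>.imp (by simp) (by simp)
    · have hW : x ∈ W := Submodule.subset_span hx
      obtain ⟨b, hb⟩ := IsAlgClosed.exists_pow_nat_eq c (n := q) (by omega)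
      obtain ⟨t, ht⟩ := IsAlgClosed.exists_root (X ^ q - (X + C c)) (by
        rw [degree_sub_eq_left_of_degree_lt (by rw [degree_X_add_C, degree_X_pow]; exact_mod_cast hq), degree_X_pow]
        exact_mod_cast (by omega : q ≠ 0))
      refine ⟨by rw [hτ, hx]; exact W.smul_mem _ hW, ⟨_, W.smul_mem b hW, by rw [hτ, hx, hb]⟩,
        _, W.smul_mem t hW, ?_⟩
      rw [hτ, hx, ← sub_smul]
      simp at ht
      rw [show t ^ q - t = c by linear_combination ht]
    · exact ⟨by simp, ⟨0, by simp⟩, 0, by simp⟩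
    · obtain ⟨a1, ⟨u, a2, a3⟩, u', a4, a5⟩ := hx c
      obtain ⟨b1, ⟨v, b2, b3⟩, v', b4, b5⟩ := hy c
      exact ⟨by rw [smul_add, map_add]; exact add_mem a1 b1, ⟨_, add_mem a2 b2, by rw [map_add, a3, b3, smul_add]⟩,
        _, add_mem a4 b4, by rw [map_add, smul_add, ← a5, ← b5]; abel⟩
  have : Nontrivial (V ⧸ W) := Submodule.Quotient.nontrivial_iff.2 hne
  obtain ⟨w, h2, h3⟩ := exists_fix_vec hq (V := V ⧸ W)
    (QuotientAddGroup.map W.toAddSubgroup W.toAddSubgroup τ fun w hw => (h1 w hw).1) (fun c v => by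
      obtain ⟨v, rfl⟩ := W.mkQ_surjective v
      exact congrArg W.mkQ (hτ c v)) ((injective_iff_map_eq_zero _).2 fun v hv => by
      obtain ⟨v, rfl⟩ := W.mkQ_surjective v
      obtain ⟨u, h4, h5⟩ := (h1 _ ((Submodule.Quotient.mk_eq_zero W).1 hv)).2.1
      exact (Submodule.Quotient.mk_eq_zero W).2 (hi h5 ▸ h4))
  obtain ⟨w, rfl⟩ := W.mkQ_surjective w
  obtain ⟨u, h4, h5⟩ := (h1 _ ((Submodule.Quotient.eq W).1 h3)).2.2
  refine h2 ((Submodule.Quotient.mk_eq_zero W).2 ?_)
  rw [← sub_add_cancel w u]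
  exact add_mem (Submodule.subset_span (by
    rw [Set.mem_ofPred_eq, map_sub]; linear_combination (norm := abel) -h5)) h4

end H22
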