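/-
Minimal `2`-fusion systems: targets from matrix groups with a graph automorphism given by minors.
-/
import Cfsg.Agent.H4.MF2
import Cfsg.Agent.H22.Ind

set_option autoImplicit false
set_option linter.unusedSectionVars false

namespace H22.MF
open Subgroup H25 H4.MF Matrix
variable {K : Type} [Field K] [CharP K 2] {ι : Type} [Fintype ι] [DecidableEq ι] {H : Type} [Group H]
  {ν : H →* Matrix ι ι K} {α β ψ : MulAut H} {σ τ ρ : K ≃+* K} {d d' : ι → K} {ε : Bool} {e : Uc K →* H} {W h : H}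
  {p q : ι → ι} {l m : K}

/-- minors -/
def mi (p q : ι → ι) (M : Matrix ι ι K) (i j : ι) : K := M (p i) (p j) * M (q i) (q j) - M (q i) (p j) * M (p i) (q j)
/-- `α` is semilinear diagonal -/
def Dm (ν : H →* Matrix ι ι K) (α : MulAut H) (σ : K ≃+* K) (d : ι → K) : Prop :=
  (∀ i, d i ≠ 0) ∧ ∀ M i j, ν (α M) i j * d j = d i * σ (ν M i j)
theorem Dm.mul (a : Dm ν α σ d) (b : Dm ν β τ d') : Dm ν (α * β) (τ.trans σ) fun i => d i * σ (d' i) :=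
  ⟨fun i => mul_ne_zero (a.1 i) ((map_ne_zero σ).2 (b.1 i)), fun M i j => by
    have := congrArg σ (b.2 M i j)
    rw [map_mul, map_mul] at this
    rw [MulAut.mul_apply, ← mul_assoc, a.2, mul_assoc, this, ← mul_assoc]; rfl⟩
theorem Dm.one : Dm ν 1 (.refl K) 1 := ⟨fun _ => one_ne_zero, fun _ _ _ => by simp⟩
theorem exDm [Finite H] (inj : Function.Injective ν) (d0 : ∀ i, d i ≠ 0)
    (k : ∀ M, ∃ N, ∀ i j, ν N i j * d j = d i * σ (ν M i j)) : ∃ α, Dm ν α σ d := by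
  choose f hf using k
  refine ⟨MulEquiv.ofBijective (MonoidHom.mk' f fun M N => inj (Matrix.ext fun i j => mul_right_cancel₀ (d0 j) ?_))
    (Finite.injective_iff_bijective.1 fun M N e => inj (Matrix.ext fun i j => σ.injective (mul_left_cancel₀ (d0 i) ?_))), d0, hf⟩
  · simp only [hf, map_mul, mul_apply, map_sum, Finset.sum_mul, Finset.mul_sum, mul_assoc]
    exact Finset.sum_congr rfl fun k _ => by rw [← mul_assoc, ← hf, mul_assoc]
  · rw [← hf, ← hf]; exact congrArg (ν · i j * d j) e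

/-- the matrix data -/
structure Mx (ε : Bool) (ν : H →* Matrix ι ι K) (e : Uc K →* H) (W : H) (ψ : MulAut H) (p q : ι → ι) : Prop where
  inj : Function.Injective ν
  zo : CenterPFree 2 H
  ker : ∀ u, e u = 1 ↔ u.a = 0 ∧ u.s = 0 ∧ u.c = 0 ∧ (ε = true → u.d = 0)
  dia : ∀ u i, ν (e u) i i = 1
  ea : ∃ i j, ∀ u, ν (e u) i j = u.a
  con : ∀ d : ι → K, (∀ u i j, ν (e u) i j * d j = d i * ν (e u) i j) → ∀ i j, d i = d j
  mψ : ∀ M i j, ν (ψ M) i j = mi p q (ν M) i j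
  ψψ : ∀ M i j, ν (ψ (ψ M)) i j = if ε then ν M i j ^ 2 else ν M i j
  sw : ∀ ρ u i j, ν (e (sw ε ρ u)) i j = ρ (mi p q (ν (e u)) i j)
  fld : ∀ (σ : K ≃+* K) M, ∃ N, ∀ i j, ν N i j = σ (ν M i j)
  dm : ∀ (σ : K ≃+* K) l m, l ≠ 0 → m ≠ 0 → ∃ d : ι → K, (∀ i, d i ≠ 0) ∧ (∀ M, ∃ N, ∀ i j, ν N i j * d j = d i * σ (ν M i j)) ∧
    ∀ u i j, ν (e (dg σ l m u)) i j * d j = d i * σ (ν (e u) i j)
  tri : ∀ h ∈ nz e.range, ∃ u t d, ν t = diagonal d ∧ h = e u * t ∧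
    ∃ l m, Dg e t (.refl K) l m ∧ (ε = true ∨ ∃ n, l = m * n ^ 3)
  wa : Wa e W
  br : ∀ h ∈ nz ((UA K).map e), h ∈ nz e.range ∨ ∃ u, W * e u * h ∈ nz e.range
  cz : ∀ c d, c ≠ 0 → (ε = true → d ≠ 0) → ∀ h, h * e ⟨0, 0, c, d⟩ * h⁻¹ = e ⟨0, 0, c, d⟩ → h ∈ nz e.range

/-- `Tg` without simplicity -/
structure Tq {Γ : Type} [Group Γ] (ε : Bool) (ρ : K ≃+* K) (L Γ₀ : Subgroup Γ) (ev : Uc K →* Γ) (x w : Γ) : Prop where
  ker : ∀ u, ev u = 1 ↔ u.a = 0 ∧ u.s = 0 ∧ u.c = 0 ∧ (ε = true → u.d = 0)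
  xx : x * x = 1
  sw : ∀ u, x * ev u * x⁻¹ = ev (sw ε ρ u)
  syl : Syl 2 ev.range L
  wL : w ∈ L
  wa : Wa ev w
  xΓ : x ∈ Γ₀
  fth : ∀ y ∈ Γ₀, y ∈ cz ev.range → y = 1
  dg : ∀ σ l m, l ≠ 0 → m ≠ 0 → ∃ y ∈ Γ₀, Dg ev y σ l m
  nb : ∀ g ∈ L, g ∈ nz ev.range → ∃ b ∈ ev.range, ∃ y ∈ Γ₀, g = b * y ∧
    ∃ l m, Dg ev y (.refl K) l m ∧ (ε = true ∨ ∃ n, l = m * n ^ 3)
  br : ∀ g ∈ L, g ∈ nz ((UA K).map ev) → g ∈ nz ev.range ∨ ∃ b ∈ ev.range, w * b * g ∈ nz ev.range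
  cz : ∀ c d, c ≠ 0 → (ε = true → d ≠ 0) → ∀ g ∈ L, g * ev ⟨0, 0, c, d⟩ * g⁻¹ = ev ⟨0, 0, c, d⟩ → g ∈ nz ev.range

theorem pw_mem {G : Type*} [Group G] {S : Subgroup G} {s τ : G} (hs : s ∈ S) (hτ : τ ∈ nz S) (n : ℕ) :
    (s * τ) ^ n * (τ ^ n)⁻¹ ∈ S := by
  induction n with
  | zero => simp
  | succ n ih =>
    have := mul_mem ih (conj_mem_of_mem_nz (pow_mem hτ n) hs)
    convert this using 1
    simp only [pow_succ]; group
theorem sg_inv {G : Type*} [Group G] [Finite G] {P : G → Prop} (h1 : P 1) (h : ∀ a b, P a → P b → P (a * b)) {a : G}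
    (ha : P a) : P a⁻¹ := by
  have k : ∀ n : ℕ, P (a ^ n) := fun n => by
    induction n with
    | zero => simpa using h1
    | succ n ih => rw [pow_succ]; exact h _ _ ih ha
  have e : a⁻¹ = a ^ (orderOf a - 1) := by
    rw [inv_eq_iff_mul_eq_one, ← pow_succ', Nat.sub_add_cancel (orderOf_pos a), pow_orderOf_eq_one]
  exact e ▸ k _
/-- inner automorphisms of the central quotient -/
def inn (H : Type) [Group H] : H →* MulAut (PQ H) := MulAut.conj.comp (QuotientGroup.mk' _)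
theorem inn_cj (α : MulAut H) (h : H) : pqAut H α * inn H h * (pqAut H α)⁻¹ = inn H (α h) :=
  mul_inv_eq_iff_eq_mul.2 (pq_ext fun s => congrArg pmk (show α (h * s * h⁻¹) = α h * α s * (α h)⁻¹ by simp))
theorem pq_conj (h : H) : pqAut H (MulAut.conj h) = inn H h := pq_ext fun _ => rfl
theorem range_inn : (inn H).range = (MulAut.conj : PQ H →* _).range := by
  rw [inn, MonoidHom.range_comp, QuotientGroup.range_mk', ← MonoidHom.range_eq_map]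

namespace Mx
variable [Finite H] (c : Mx ε ν e W ψ p q)
include c
theorem syl : Syl 2 e.range ⊤ := by
  refine syl_of_maximal (pgB e) le_top fun Y h1 _ h3 => ?_
  by_contra h4
  have : Group.IsNilpotent Y := h3.isNilpotent
  obtain ⟨g, g1, g2⟩ := SetLike.exists_of_lt (Group.normalizerCondition_of_isNilpotent (e.range.subgroupOf Y)
    (lt_top_iff_ne_top.2 fun e => h4 (subgroupOf_eq_top.1 e)))
  have n : (g : H) ∈ nz e.range := mem_nz_of_conj_mem fun x hx => (mem_normalizer_iff.1 g1 ⟨x, h1 hx⟩).1 hx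
  obtain ⟨u, t, d, ht, e', -⟩ := c.tri _ n
  obtain ⟨k, hk⟩ := h3 g
  have n' : t ∈ nz e.range := by simpa [e'] using mul_mem (inv_mem (le_nz_self _ (⟨u, rfl⟩ : e u ∈ e.range))) n
  have m := pw_mem (⟨u, rfl⟩ : e u ∈ e.range) n' (2 ^ k)
  rw [← e', ← coe_pow, hk, coe_one, one_mul, inv_mem_iff] at m
  obtain ⟨c', e''⟩ := m
  have t1 : ∀ i, d i = 1 := fun i => by
    have := c.dia c' i
    rw [e'', map_pow, ht, diagonal_pow, diagonal_apply_eq, Pi.pow_apply] at this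
    have f := sub_pow_char_pow (d i) 1 (p := 2) (n := k)
    rw [this, one_pow, sub_self] at f
    exact sub_eq_zero.1 (pow_eq_zero_iff (pow_pos two_pos k).ne' |>.1 f)
  refine g2 (mem_subgroupOf.2 ⟨u, ?_⟩)
  rw [e', show t = 1 from c.inj (by rw [ht, map_one, funext t1]; exact diagonal_one), mul_one]
theorem exξ (rL : ε = false → ∀ a, ρ (ρ a) = a) (rS : ε = true → ∀ a, ρ (ρ a) ^ 2 = a) :
    ∃ ξ : MulAut H, ξ * ξ = 1 ∧ ∀ M i j, ν (ξ M) i j = ρ (mi p q (ν M) i j) := by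
  obtain ⟨φ, -, k⟩ := exDm (σ := ρ) (d := 1) c.inj (fun _ => one_ne_zero) (by simpa using c.fld ρ)
  simp only [Pi.one_apply, mul_one, one_mul] at k
  have a : ∀ M i j, ν ((φ * ψ) M) i j = ρ (mi p q (ν M) i j) := fun M i j => by rw [MulAut.mul_apply, k, c.mψ]
  refine ⟨φ * ψ, MulEquiv.ext fun M => c.inj (Matrix.ext fun i j => ?_), a⟩
  have : mi p q (ν ((φ * ψ) M)) i j = ρ (ν (ψ (ψ M)) i j) := by simp only [mi, a, c.mψ, map_sub, map_mul]
  rw [MulAut.mul_apply, a, this, c.ψψ]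
  cases ε
  · exact rL rfl _
  · simpa using rS rfl _
theorem lift (hz : center (PQ H) = ⊥) {u : Uc K} {g : H} (k : PElt 2 g) (h : inn H g = inn H (e u)) : g = e u :=
  PElt.eq_of_pmk_eq c.zo k (PElt.of_mem (pgB e) ⟨u, rfl⟩) (by
    refine (injective_iff_map_eq_one (MulAut.conj : PQ H →* _)).2 (fun a ha => ?_) h
    exact mem_bot.1 (hz ▸ mem_center_iff.2 fun b => (mul_inv_eq_iff_eq_mul.1 (MulEquiv.congr_fun ha b)).symm))
theorem nz_iff (hz : center (PQ H) = ⊥) (U : Subgroup (Uc K)) : inn H h ∈ nz (U.map ((inn H).comp e)) ↔ h ∈ nz (U.map e) := by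
  refine ⟨fun n => mem_nz_of_conj_mem ?_, fun n => mem_nz_of_conj_mem ?_⟩ <;> rintro _ ⟨u, hu, rfl⟩
  · obtain ⟨v, hv, k⟩ := conj_mem_of_mem_nz n (mem_map_of_mem _ hu)
    exact ⟨v, hv, (c.lift hz ((PElt.of_mem (pgB e) ⟨u, rfl⟩).conj h) (by simpa using k.symm)).symm⟩
  · obtain ⟨v, hv, k⟩ := conj_mem_of_mem_nz n (mem_map_of_mem _ hu)
    exact ⟨v, hv, by simp [k]⟩
theorem nz_iff' (hz : center (PQ H) = ⊥) : inn H h ∈ nz ((inn H).comp e).range ↔ h ∈ nz e.range := by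
  rw [MonoidHom.range_eq_map, MonoidHom.range_eq_map]; exact c.nz_iff hz ⊤
theorem tq (hz : center (PQ H) = ⊥) (rL : ε = false → ∀ a, ρ (ρ a) = a) (rS : ε = true → ∀ a, ρ (ρ a) ^ 2 = a) :
    ∃ Γ₀ x, Tq ε ρ (inn H).range Γ₀ ((inn H).comp e) x (inn H W) := by
  obtain ⟨ξ, xx, hξ⟩ := c.exξ rL rS
  have xM : ∀ M, ξ (ξ M) = M := fun M => MulEquiv.congr_fun xx M
  have xe : ∀ u, ξ (e u) = e (H4.MF.sw ε ρ u) := fun u => c.inj (Matrix.ext fun i j => by rw [hξ, c.sw])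
  let D : MulAut H → Prop := fun α => ∃ σ d, Dm ν α σ d
  have D1 : ∀ α β, D α → D β → D (α * β) := fun _ _ ⟨_, _, a⟩ ⟨_, _, b⟩ => ⟨_, _, a.mul b⟩
  have D2 : ∀ α, D α → D (ξ * α * ξ) := fun α ⟨σ, d, a⟩ => ⟨(ρ.symm.trans σ).trans ρ, fun i => ρ (d (p i) * d (q i)),
    fun i => by simp [a.1], fun M i j => by
      obtain ⟨N, rfl⟩ := ξ.surjective M
      simp only [MulAut.mul_apply, xM, hξ, RingEquiv.trans_apply, RingEquiv.symm_apply_apply, ← map_mul]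
      congr 1
      simp only [mi, map_sub, map_mul]
      linear_combination ν (α N) (q i) (q j) * d (q j) * a.2 N (p i) (p j) + d (p i) * σ (ν N (p i) (p j)) * a.2 N (q i) (q j) -
        ν (α N) (p i) (q j) * d (q j) * a.2 N (q i) (p j) - d (q i) * σ (ν N (q i) (p j)) * a.2 N (p i) (q j)⟩
  have x3 : ∀ α, ξ * (ξ * α) = α := fun α => by rw [← mul_assoc, xx, one_mul]
  have D3 : ∀ α β, D α ∨ D (ξ * α) → D β ∨ D (ξ * β) → D (α * β) ∨ D (ξ * (α * β)) := by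
    rintro α β (a | a) (b | b)
    · exact .inl (D1 _ _ a b)
    · exact .inr (by simpa [mul_assoc, x3] using D1 _ _ (D2 _ a) b)
    · exact .inr (by simpa [mul_assoc] using D1 _ _ a b)
    · exact .inl (by simpa [mul_assoc, x3] using D1 _ _ (D2 _ a) b)
  let Γ₁ : Subgroup (MulAut H) := ⟨⟨⟨{α | D α ∨ D (ξ * α)}, D3 _ _⟩, .inl ⟨_, _, Dm.one⟩⟩,
    sg_inv (P := fun α => D α ∨ D (ξ * α)) (.inl ⟨_, _, Dm.one⟩) D3⟩
  have dg' : ∀ {α σ l m}, l ≠ 0 → m ≠ 0 → (∀ u, α (e u) = e (dg σ l m u)) → Dg ((inn H).comp e) (pqAut H α) σ l m :=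
    fun l0 m0 k => ⟨l0, m0, fun u => by rw [MonoidHom.comp_apply, inn_cj, k]; rfl⟩
  refine ⟨Γ₁.map (pqAut H), pqAut H ξ, fun u => ⟨fun k => (c.ker u).1 (c.lift hz (u := u) .one (by simpa using k.symm)).symm,
    fun k => by simp [(c.ker u).2 k]⟩, by rw [← map_mul, xx, map_one], fun u => by rw [MonoidHom.comp_apply, inn_cj, xe]; rfl,
    ⟨by rintro _ ⟨u, rfl⟩; exact ⟨_, rfl⟩, fun k => c.syl.2 ?_⟩, ⟨W, rfl⟩, fun a b d => by
      simpa using congrArg (inn H) (c.wa a b d), mem_map_of_mem _ (.inr (xx ▸ ⟨_, _, Dm.one⟩)), ?_, fun σ l m l0 m0 => ?_,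
    ?_, ?_, ?_⟩
  · rw [MonoidHom.range_comp, MonoidHom.range_eq_map (inn H), relIndex_map_map, top_sup_eq] at k
    exact k.trans (relIndex_dvd_of_le_left _ le_sup_left)
  · rintro _ ⟨α, a, rfl⟩ k
    have f : ∀ u, α (e u) = e u := fun u => c.lift hz ((PElt.of_mem (pgB e) ⟨u, rfl⟩).map α.toMonoidHom)
      ((inn_cj α _).symm.trans (mem_cz.1 k _ ⟨u, rfl⟩))
    obtain ⟨i, j, ea⟩ := c.ea
    rcases a with ⟨σ, d, a⟩ | ⟨σ, d, a⟩
    · have b : ∀ x, x * d j = d i * σ x := fun x => by simpa [f, ea] using a.2 (e ⟨x, 0, 0, 0⟩) i j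
      have b1 : d j = d i := by simpa using b 1
      have b2 : ∀ x, σ x = x := fun x => mul_left_cancel₀ (a.1 i) (by rw [← b, b1, mul_comm])
      have b3 := c.con d fun u i j => by simpa [f, b2] using a.2 (e u) i j
      rw [show α = 1 from MulEquiv.ext fun M => c.inj (Matrix.ext fun i j => mul_right_cancel₀ (a.1 j) (by
        rw [a.2, b2, b3 i j, mul_comm]; rfl)), map_one]
    · exact absurd (by simpa [f, xe, ea] using a.2 (e ⟨0, 1, 0, 0⟩) i j) (a.1 j)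
  · obtain ⟨d, d0, k1, k2⟩ := c.dm σ l m l0 m0
    obtain ⟨α, a⟩ := exDm c.inj d0 k1
    exact ⟨_, mem_map_of_mem _ (.inl ⟨_, _, a⟩), dg' l0 m0 fun u => c.inj (Matrix.ext fun i j =>
      mul_right_cancel₀ (d0 j) ((a.2 _ i j).trans (k2 u i j).symm))⟩
  · rintro _ ⟨h, rfl⟩ n
    obtain ⟨u, t, d, ht, rfl, l, m, k1, k2⟩ := c.tri h ((c.nz_iff' hz).1 n)
    have d0 : ∀ i, d i ≠ 0 := fun i z => by
      have := congrFun (congrFun (congrArg ν (mul_inv_cancel t)) i) i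
      rw [map_mul, ht, diagonal_mul, z, map_one] at this
      simp at this
    refine ⟨_, ⟨u, rfl⟩, _, mem_map_of_mem _ (x := MulAut.conj t) (.inl ⟨.refl K, d, d0, fun M i j => ?_⟩),
      by rw [pq_conj, map_mul]; rfl, l, m, dg' k1.l0 k1.m0 k1.act, k2⟩
    have := congrFun (congrFun (congrArg ν (inv_mul_cancel_right (t * M) t)) i) j
    rwa [map_mul, ht, mul_diagonal, map_mul (x := t), ht, diagonal_mul] at this
  · rintro _ ⟨h, rfl⟩ n
    exact (c.br h ((c.nz_iff hz _).1 n)).imp (c.nz_iff' hz).2 fun ⟨u, k⟩ => ⟨_, ⟨u, rfl⟩, by simpa using (c.nz_iff' hz).2 k⟩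
  · rintro a b a0 b0 _ ⟨h, rfl⟩ k
    exact (c.nz_iff' hz).2 (c.cz a b a0 b0 h (c.lift hz ((PElt.of_mem (pgB e) ⟨_, rfl⟩).conj h) (by simpa using k)))
theorem cen [IsSimpleGroup (PQ H)] : center (PQ H) = ⊥ := (Subgroup.Normal.eq_bot_or_eq_top inferInstance).resolve_right fun k => by
  have := mem_center_iff.1 (k ▸ mem_top (pmk (e ⟨1, 0, 0, 0⟩))) (pmk (e ⟨0, 1, 0, 0⟩))
  rw [← pmk_mul, ← pmk_mul, ← map_mul, ← map_mul] at this
  have := PElt.eq_of_pmk_eq c.zo (PElt.of_mem (pgB e) ⟨_, rfl⟩) (PElt.of_mem (pgB e) ⟨_, rfl⟩) this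
  rw [← mul_inv_eq_one, ← map_inv, ← map_mul, c.ker] at this
  simpa [aa] using this.2.2.1
end Mx
theorem cj_conj {P : Type} [Group P] (α : MulAut P) (a : P) : α * MulAut.conj a * α⁻¹ = MulAut.conj (α a) :=
  MulEquiv.ext fun b => by simp
theorem conj_inj {P : Type} [Group P] (hz : center P = ⊥) : Function.Injective (MulAut.conj : P →* _) :=
  (injective_iff_map_eq_one _).2 fun a ha =>
    mem_bot.1 (hz ▸ mem_center_iff.2 fun b => (mul_inv_eq_iff_eq_mul.1 (MulEquiv.congr_fun ha b)).symm)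
theorem cz_inn {P : Type} [Group P] (hz : center P = ⊥) : H25.cz (MulAut.conj : P →* _).range = ⊥ :=
  eq_bot_iff.2 fun α k => mem_bot.2 (MulEquiv.ext fun a => conj_inj hz
    ((cj_conj α a).symm.trans (mem_cz.1 k _ ⟨a, rfl⟩)))
theorem Mx.tg [Finite H] [IsSimpleGroup (PQ H)] (c : Mx ε ν e W ψ p q) (hq : 4 ≤ Nat.card K) (rL : ε = false → ∀ a, ρ (ρ a) = a)
    (rS : ε = true → ∀ a, ρ (ρ a) ^ 2 = a) : ∃ (X : Type) (_ : Group X) (_ : Finite X) (L Γ₀ : Subgroup X) (ev : Uc K →* X)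
      (x w : X), Tg ε ρ L Γ₀ ev x w ∧ Nonempty (L ≃* PQ H) := by
  obtain ⟨Γ₀, x, t⟩ := c.tq c.cen rL rS
  have i : (inn H).range ≃* PQ H := (MulEquiv.subgroupCongr range_inn).trans (MonoidHom.ofInjective (conj_inj c.cen)).symm
  exact ⟨_, _, inferInstance, _, Γ₀, _, x, _, ⟨⟨.inl hq, t.ker, rL, rS, t.xx, t.sw⟩, i.isSimpleGroup, range_inn (H := H) ▸ cz_inn c.cen,
    fun g _ => mem_nz_of_conj_mem (by
      rw [range_inn]; rintro _ ⟨a, rfl⟩; exact ⟨g a, (cj_conj g a).symm⟩),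
    t.syl, t.wL, t.wa, t.xΓ, t.fth, t.dg, t.nb, t.br, t.cz⟩, ⟨i⟩⟩

end H22.MF
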