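/-
Minimal `2`-fusion systems: the target `L₃(q)`.
-/
import Cfsg.Agent.H22.MF1
import Cfsg.Agent.H11.SL

set_option autoImplicit false
set_option linter.unusedSectionVars false

namespace H22.MF
open Subgroup H25 H4.MF Matrix
variable {K : Type} [Field K] [CharP K 2]

abbrev S3 (K : Type) [Field K] := SpecialLinearGroup (Fin 3) K
def n3 : S3 K →* Matrix (Fin 3) (Fin 3) K := SpecialLinearGroup.coeMonoidHom
theorem n3_inj : Function.Injective (n3 (K := K)) := fun _ _ => Subtype.ext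
theorem n3_det (M : S3 K) : (n3 M).det = 1 := M.2
theorem ex3 {M : Matrix (Fin 3) (Fin 3) K} (h : M.det = 1) : ∃ N : S3 K, n3 N = M := ⟨⟨M, h⟩, rfl⟩
def e3 : Uc K →* S3 K := MonoidHom.mk' (fun u => ⟨!![1, u.s, u.c; 0, 1, u.a; 0, 0, 1], by simp [det_fin_three]⟩) fun u v =>
  Subtype.ext (show _ = !![1, u.s, u.c; 0, 1, u.a; 0, 0, 1] * !![1, v.s, v.c; 0, 1, v.a; 0, 0, 1] by
    ext i j; fin_cases i <;> fin_cases j <;> simp [mul_apply, Fin.sum_univ_three] <;> ring)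
theorem n3_e3 (u : Uc K) : n3 (e3 u) = !![1, u.s, u.c; 0, 1, u.a; 0, 0, 1] := rfl
def W3 : S3 K := ⟨!![0, 1, 0; 1, 0, 0; 0, 0, 1], by simp [det_fin_three, CharTwo.neg_eq]⟩
theorem n3_W3 : n3 (W3 : S3 K) = !![0, 1, 0; 1, 0, 0; 0, 0, 1] := rfl
def p3 : Fin 3 → Fin 3 := ![0, 0, 1]
def q3 : Fin 3 → Fin 3 := ![1, 2, 2]
def ψ0 (M : S3 K) : S3 K := ⟨.of (mi p3 q3 (n3 M)), by
  have := n3_det M
  simp only [det_fin_three] at this
  simp [det_fin_three, mi, p3, q3]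
  linear_combination (n3 M 0 0 * n3 M 1 1 * n3 M 2 2 - n3 M 0 0 * n3 M 1 2 * n3 M 2 1 - n3 M 0 1 * n3 M 1 0 * n3 M 2 2 +
    n3 M 0 1 * n3 M 1 2 * n3 M 2 0 + n3 M 0 2 * n3 M 1 0 * n3 M 2 1 - n3 M 0 2 * n3 M 1 1 * n3 M 2 0 + 1) * this⟩
theorem n3_ψ0 (M : S3 K) (i j : Fin 3) : n3 (ψ0 M) i j = mi p3 q3 (n3 M) i j := rfl
theorem ψ0_ψ0 (M : S3 K) : ψ0 (ψ0 M) = M := n3_inj (Matrix.ext fun i j => by
  have := n3_det M
  simp only [det_fin_three] at this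
  fin_cases i <;> fin_cases j <;> simp [n3_ψ0, mi, p3, q3] <;> grind)
def ψ3 : MulAut (S3 K) := ⟨⟨ψ0, ψ0, ψ0_ψ0, ψ0_ψ0⟩, fun M N => n3_inj (Matrix.ext fun i j => by
  rw [map_mul]
  fin_cases i <;> fin_cases j <;> simp [n3_ψ0, mi, p3, q3, mul_apply, Fin.sum_univ_three] <;> ring)⟩
theorem tri3 {h : S3 K} (a10 : n3 h 1 0 = 0) (a20 : n3 h 2 0 = 0) (a21 : n3 h 2 1 = 0) : ∃ u t d, n3 t = diagonal d ∧
    h = e3 u * t ∧ ∃ l m, Dg e3 t (.refl K) l m ∧ (false = true ∨ ∃ n, l = m * n ^ 3) := by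
  have d := n3_det h
  simp [det_fin_three, a10, a20, a21] at d
  have n1 := right_ne_zero_of_mul (left_ne_zero_of_mul_eq_one d)
  have n0 := left_ne_zero_of_mul (left_ne_zero_of_mul_eq_one d)
  have n2 := right_ne_zero_of_mul_eq_one d
  obtain ⟨t, ht⟩ : ∃ t : S3 K, n3 t = diagonal fun i => n3 h i i := ex3 (by rwa [det_diagonal, Fin.prod_univ_three])
  refine ⟨⟨n3 h 1 2 / n3 h 2 2, n3 h 0 1 / n3 h 1 1, n3 h 0 2 / n3 h 2 2, 0⟩, t, _, ht, n3_inj (Matrix.ext fun i j => ?_),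
    n3 h 1 1 / n3 h 2 2, n3 h 0 0 / n3 h 1 1, ⟨by simp [*], by simp [*], fun u => mul_inv_eq_iff_eq_mul.2 (n3_inj
      (Matrix.ext fun i j => ?_))⟩, .inr ⟨n3 h 1 1, by field_simp; linear_combination -d⟩⟩
  · rw [map_mul, ht, mul_diagonal]
    fin_cases i <;> fin_cases j <;> simp [n3_e3, *]
  · rw [map_mul, map_mul, ht, mul_diagonal, diagonal_mul]
    fin_cases i <;> fin_cases j <;> simp [n3_e3] <;> field_simp
theorem up3 {h : S3 K} (a10 : n3 h 1 0 = 0) (a20 : n3 h 2 0 = 0) (a21 : n3 h 2 1 = 0) : h ∈ nz (e3 (K := K)).range := by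
  obtain ⟨u, t, -, -, rfl, l, m, k, -⟩ := tri3 a10 a20 a21
  exact mul_mem (le_nz_self _ ⟨u, rfl⟩) k.nzR
theorem nrm {ι H : Type} [Fintype ι] [DecidableEq ι] [Group H] (ν : H →* Matrix ι ι K) {e : Uc K →* H} {h : H}
    {U : Subgroup (Uc K)} (n : h ∈ nz (U.map e)) {u : Uc K} (hu : u ∈ U) :
    ∃ v ∈ U, ∀ i j, (ν (e u) * ν h) i j = (ν h * ν (e v)) i j := by
  obtain ⟨v, k, a⟩ := conj_mem_of_mem_nz' n (mem_map_of_mem _ hu)
  exact ⟨v, k, fun i j => by rw [← map_mul, ← map_mul, a, ← mul_assoc, mul_inv_cancel_left]⟩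
theorem mx3 : Mx false (n3 (K := K)) e3 W3 ψ3 p3 q3 where
  inj := n3_inj
  zo z hz := fun ⟨k, hk⟩ => by
    obtain ⟨r, -, e⟩ := Matrix.SpecialLinearGroup.mem_center_iff.1 hz
    have e' : n3 z = diagonal fun _ => r := e.symm
    have := congrFun (congrFun (congrArg n3 hk) 0) 0
    rw [map_pow, e', diagonal_pow, diagonal_apply_eq, Pi.pow_apply, map_one, one_apply_eq] at this
    have f := sub_pow_char_pow r 1 (p := 2) (n := k)
    rw [this, one_pow, sub_self, pow_eq_zero_iff (pow_pos two_pos k).ne', sub_eq_zero] at f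
    exact n3_inj (by rw [e', f, map_one]; exact diagonal_one)
  ker u := ⟨fun h => by
    have := fun i j => congrFun (congrFun (congrArg n3 h) i) j
    exact ⟨this 1 2, this 0 1, this 0 2, by simp⟩, fun h => n3_inj (by
      ext i j; fin_cases i <;> fin_cases j <;> simp [n3_e3, h])⟩
  dia u i := by fin_cases i <;> rfl
  ea := ⟨1, 2, fun _ => rfl⟩
  con d h i j := by
    have a := h ⟨1, 1, 0, 0⟩ 0 1
    have b := h ⟨1, 1, 0, 0⟩ 1 2
    simp [n3_e3] at a b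
    fin_cases i <;> fin_cases j <;> simp [a, b]
  mψ := n3_ψ0
  ψψ M i j := congrArg (n3 · i j) (ψ0_ψ0 M)
  sw ρ u i j := by
    fin_cases i <;> fin_cases j <;> simp [n3_e3, sw, mi, p3, q3, CharTwo.sub_eq_add]
    ring
  fld σ M := ⟨⟨(σ : K →+* K).mapMatrix (n3 M), by rw [← RingHom.map_det, n3_det, map_one]⟩, fun _ _ => rfl⟩
  dm σ l m l0 m0 := by
    have n0 : ∀ i, ![l * m, l, 1] i ≠ 0 := fun i => by fin_cases i <;> simp [l0, m0]
    refine ⟨_, n0, fun M => ?_, fun u i j => by fin_cases i <;> fin_cases j <;> simp [n3_e3] <;> ring⟩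
    generalize ![l * m, l, 1] = d at n0
    obtain ⟨N, e⟩ : ∃ N : S3 K, n3 N = diagonal d * (σ : K →+* K).mapMatrix (n3 M) * diagonal fun i => (d i)⁻¹ :=
      ex3 (by rw [det_mul, det_mul, ← RingHom.map_det, n3_det, map_one, mul_one, ← det_mul, diagonal_mul_diagonal]; simp [n0])
    exact ⟨N, fun i j => by simp [e, n0]⟩
  tri h n := by
    rw [MonoidHom.range_eq_map] at n
    obtain ⟨v, -, e⟩ := nrm n3 n (mem_top ⟨0, 1, 0, 0⟩)
    obtain ⟨v', -, e'⟩ := nrm n3 n (mem_top ⟨1, 0, 0, 0⟩)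
    have a10 := e 0 0
    have a20 := e' 1 0
    simp [n3_e3, mul_apply, Fin.sum_univ_three] at a10 a20
    have a21 := e' 1 1
    simp [n3_e3, mul_apply, Fin.sum_univ_three, a10] at a21
    exact tri3 a10 a20 a21
  wa a c d := mul_inv_eq_iff_eq_mul.2 (n3_inj (by
    rw [map_mul, map_mul]; ext i j; fin_cases i <;> fin_cases j <;> simp [n3_e3, n3_W3, mul_apply, Fin.sum_univ_three]))
  br h n := by
    obtain ⟨v, k, e⟩ := nrm n3 n (show ⟨1, 0, 0, 0⟩ ∈ UA K from rfl)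
    have a20 := e 1 0
    have a21 := e 1 1
    simp [n3_e3, mul_apply, Fin.sum_univ_three, mem_UA.1 k] at a20 a21
    by_cases a10 : n3 h 1 0 = 0
    · exact .inl (up3 a10 a20 a21)
    refine .inr ⟨⟨0, n3 h 0 0 / n3 h 1 0, 0, 0⟩, up3 ?_ ?_ ?_⟩ <;>
      simp [n3_e3, n3_W3, mul_apply, Fin.sum_univ_three, a10, a20, a21, aa]
  cz c d c0 _ h k := by
    have e := fun i j => congrFun (congrFun (congrArg n3 (mul_inv_eq_iff_eq_mul.1 k)) i) j
    have a10 := e 1 2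
    have a20 := e 2 2
    have a21 := e 0 1
    simp [n3_e3, mul_apply, Fin.sum_univ_three, c0] at a10 a20 a21
    exact up3 a10 a20 a21
theorem tl [Finite K] : TL K := fun _ hq hρ =>
  have : IsSimpleGroup (PQ (S3 K)) := H11.psl_simple (by simp)
  mx3.tg hq (fun _ => hρ) (by simp)

end H22.MF
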