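/-
Minimal `2`-fusion systems: the target `Sp₄(q)`.
-/
import Cfsg.Agent.H22.MF2
import Cfsg.Agent.H22.Sp4
import Cfsg.Agent.H11.SpSimple

set_option autoImplicit false
set_option linter.unusedSectionVars false

namespace H22.MF
open Subgroup H25 H4.MF Matrix H11
variable {K : Type} [Field K] [CharP K 2]

abbrev I4 := Fin 2 ⊕ Fin 2
abbrev Sp (K : Type) [Field K] := symplecticGroup (Fin 2) K
def n4 : Sp K →* Matrix I4 I4 K := (symplecticGroup (Fin 2) K).subtype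
theorem n4_inj : Function.Injective (n4 (K := K)) := fun _ _ => Subtype.ext
theorem fm4 (M : Sp K) (u v : I4 → K) : (spForm (Fin 2) K).B (n4 M *ᵥ u) (n4 M *ᵥ v) = (spForm (Fin 2) K).B u v :=
  (mem_symplecticGroup_iff _).1 M.2 u v
theorem col4 (M : Sp K) (i j : I4) : (spForm (Fin 2) K).B (fun k => n4 M k i) (fun k => n4 M k j) =
    (spForm (Fin 2) K).B (Pi.single i 1) (Pi.single j 1) := by
  have := fm4 M (Pi.single i 1) (Pi.single j 1)
  rwa [mulVec_single_one, mulVec_single_one] at this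
def um (u : Uc K) : Matrix I4 I4 K := fromBlocks !![1, u.a; 0, 1] !![u.d + u.a * u.c, u.c + u.a * u.s; u.c, u.s] 0 !![1, 0; u.a, 1]
/-- case distinction on the entries -/
macro "ent4" i:ident j:ident : tactic => `(tactic| (rcases $i:ident with i | i <;> rcases $j:ident with j | j <;> fin_cases i <;> fin_cases j))
def e4 : Uc K →* Sp K := MonoidHom.mk' (fun u => ⟨um u, (mem_symplecticGroup_iff _).2 fun x y => by
    have := Uc.two K
    simp [B4, um, mulVec, dotProduct]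
    grind⟩) fun u v => Subtype.ext (show um (u * v) = um u * um v by
  have := Uc.two K
  ext i j
  ent4 i j <;> simp [um, mul_apply] <;> grind)
theorem n4_e4 (u : Uc K) : n4 (e4 u) = um u := rfl
def wm : Matrix I4 I4 K := fromBlocks !![1, 0; 0, 0] !![0, 0; 0, 1] !![0, 0; 0, 1] !![1, 0; 0, 0]
def Ws : Sp K := ⟨wm, (mem_symplecticGroup_iff _).2 fun x y => by
  have := Uc.two K
  simp [B4, wm, mulVec, dotProduct]
  grind⟩
theorem n4_Ws : n4 (Ws : Sp K) = wm := rfl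
theorem exS (σ : K ≃+* K) {d : I4 → K} (d0 : ∀ i, d i ≠ 0) (e : d (.inl 0) * d (.inr 0) = d (.inl 1) * d (.inr 1)) (M : Sp K) :
    ∃ N, ∀ i j, n4 N i j * d j = d i * σ (n4 M i j) := by
  let k : (I4 → K) → I4 → K := fun v i => d i * σ (v i)
  have k1 : ∀ u v, (spForm (Fin 2) K).B (k u) (k v) = d (.inl 0) * d (.inr 0) * σ ((spForm (Fin 2) K).B u v) := fun u v => by
    simp only [B4, k, map_add, map_sub, map_mul]
    linear_combination (σ (u (.inl 1)) * σ (v (.inr 1)) - σ (u (.inr 1)) * σ (v (.inl 1))) * e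
  have k2 : Function.Surjective k := fun v => ⟨fun i => σ.symm (v i / d i), funext fun i => by simp [k, mul_div_cancel₀, d0]⟩
  have k3 : ∀ v, (of fun i j => d i * σ (n4 M i j) / d j) *ᵥ k v = k (n4 M *ᵥ v) := fun v => funext fun i => by
    simp only [k, mulVec, dotProduct, of_apply, map_sum, map_mul, Finset.mul_sum]
    exact Finset.sum_congr rfl fun j _ => by rw [← mul_assoc, div_mul_cancel₀ _ (d0 j), mul_assoc]
  refine ⟨⟨of fun i j => d i * σ (n4 M i j) / d j, (mem_symplecticGroup_iff _).2 fun u v => ?_⟩, fun i j => div_mul_cancel₀ _ (d0 j)⟩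
  obtain ⟨u, rfl⟩ := k2 u
  obtain ⟨v, rfl⟩ := k2 v
  rw [k3, k3, k1, k1, fm4]
theorem tri4 {h : Sp K} (a1 : n4 h (.inl 1) (.inl 0) = 0) (a2 : n4 h (.inr 0) (.inl 0) = 0) (a3 : n4 h (.inr 1) (.inl 0) = 0)
    (a4 : n4 h (.inr 1) (.inl 1) = 0) : ∃ u t d, n4 t = diagonal d ∧
    h = e4 u * t ∧ ∃ l m, Dg e4 t (.refl K) l m ∧ (true = true ∨ ∃ n, l = m * n ^ 3) := by
  have two := Uc.two K
  have e0 := col4 h (.inr 0) (.inl 0)
  have e1 := col4 h (.inl 1) (.inl 0)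
  have e2 := col4 h (.inr 1) (.inl 0)
  simp [B4, a1, a2, a3] at e0 e1 e2
  have n0 := right_ne_zero_of_mul_eq_one e0
  have m0 := left_ne_zero_of_mul_eq_one e0
  have a5 := e1.resolve_right n0
  have a6 := e2.resolve_right n0
  have e3 := col4 h (.inr 1) (.inl 1)
  have e4' := col4 h (.inr 0) (.inl 1)
  have e5 := col4 h (.inr 0) (.inr 1)
  simp [B4, a4, a5, a6] at e3 e4' e5
  have n1 := right_ne_zero_of_mul_eq_one e3
  have m1 := left_ne_zero_of_mul_eq_one e3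
  obtain ⟨t, ht⟩ : ∃ t : Sp K, n4 t = diagonal fun i => n4 h i i := ⟨⟨diagonal fun i => n4 h i i,
    (mem_symplecticGroup_iff _).2 fun x y => by
      simp only [B4, mulVec_diagonal]
      linear_combination (x (.inr 0) * y (.inl 0) - x (.inl 0) * y (.inr 0)) * e0 +
        (x (.inr 1) * y (.inl 1) - x (.inl 1) * y (.inr 1)) * e3⟩, rfl⟩
  refine ⟨⟨n4 h (.inl 0) (.inl 1) / n4 h (.inl 1) (.inl 1), n4 h (.inl 1) (.inr 1) / n4 h (.inr 1) (.inr 1),
    n4 h (.inl 1) (.inr 0) / n4 h (.inr 0) (.inr 0), (n4 h (.inl 0) (.inr 0) + n4 h (.inl 0) (.inl 1) / n4 h (.inl 1) (.inl 1) *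
      n4 h (.inl 1) (.inr 0)) / n4 h (.inr 0) (.inr 0)⟩, t, _, ht, n4_inj (Matrix.ext fun i j => ?_),
    n4 h (.inl 0) (.inl 0) / n4 h (.inl 1) (.inl 1), n4 h (.inl 1) (.inl 1) ^ 2, ⟨by simp [*], by simp [*],
      fun u => mul_inv_eq_iff_eq_mul.2 (n4_inj (Matrix.ext fun i j => ?_))⟩, .inl rfl⟩
  · rw [map_mul, ht, mul_diagonal]
    ent4 i j <;> simp [n4_e4, um, *] <;> field_simp <;> grind
  · rw [map_mul, map_mul, ht, mul_diagonal, diagonal_mul]
    ent4 i j <;> simp [n4_e4, um] <;> field_simp <;> grind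
theorem up4 {h : Sp K} (a1 : n4 h (.inl 1) (.inl 0) = 0) (a2 : n4 h (.inr 0) (.inl 0) = 0) (a3 : n4 h (.inr 1) (.inl 0) = 0)
    (a4 : n4 h (.inr 1) (.inl 1) = 0) : h ∈ nz (e4 (K := K)).range := by
  obtain ⟨u, t, -, -, rfl, l, m, k, -⟩ := tri4 a1 a2 a3 a4
  exact mul_mem (le_nz_self _ ⟨u, rfl⟩) k.nzR
theorem cen4 [Finite K] : center (Sp K) = ⊥ := alt_center_eq_bot (spData K le_rfl).rep (spData K le_rfl).dim'
set_option maxHeartbeats 1600000 in
theorem mx4 [Finite K] : Mx true (n4 (K := K)) e4 Ws (psiA (Uc.two K)) p4 q4 where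
  inj := n4_inj
  zo z hz _ := mem_bot.1 (cen4 (K := K) ▸ hz)
  ker u := ⟨fun h => by
    have := fun i j => congrFun (congrFun (congrArg n4 h) i) j
    have a : u.a = 0 := this (.inl 0) (.inl 1)
    exact ⟨a, this (.inl 1) (.inr 1), this (.inl 1) (.inr 0), fun _ => by simpa [n4_e4, um, a] using this (.inl 0) (.inr 0)⟩,
    fun h => by rw [show u = 1 from Uc.ext h.1 h.2.1 h.2.2.1 (h.2.2.2 rfl), map_one]⟩
  dia u i := by rcases i with i | i <;> fin_cases i <;> rfl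
  ea := ⟨.inl 0, .inl 1, fun _ => rfl⟩
  con d h i j := by
    have a := h ⟨1, 1, 0, 0⟩ (.inl 0) (.inl 1)
    have b := h ⟨1, 1, 0, 0⟩ (.inl 1) (.inr 1)
    have c := h ⟨1, 1, 0, 0⟩ (.inr 1) (.inr 0)
    simp [n4_e4, um] at a b c
    ent4 i j <;> simp [← a, ← b, c]
  mψ M i j := show psi4 M.1 i j = _ by simp [psi4, W4, mi, n4]
  ψψ M i j := psiH_psiH (Uc.two K) M i j
  sw ρ u i j := by
    have := Uc.two K
    ent4 i j <;> simp [n4_e4, um, sw, mi, p4, q4] <;> grind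
  fld σ M := by simpa using exS σ (d := 1) (fun _ => one_ne_zero) rfl M
  dm σ l m l0 m0 := by
    have n0 : ∀ i, Sum.elim ![l ^ 2 * m, l * m] ![1, l] i ≠ 0 := fun i => by
      rcases i with i | i <;> fin_cases i <;> simp [l0, m0]
    exact ⟨_, n0, exS σ n0 (by simp; ring), fun u i j => by ent4 i j <;> simp [n4_e4, um] <;> ring⟩
  tri h n := by
    rw [MonoidHom.range_eq_map] at n
    obtain ⟨v, -, e⟩ := nrm n4 n (mem_top ⟨1, 0, 0, 0⟩)
    obtain ⟨v', -, e'⟩ := nrm n4 n (mem_top ⟨0, 1, 0, 0⟩)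
    have a1 := e (.inl 0) (.inl 0)
    have a2 := e (.inr 1) (.inl 0)
    have a3 := e' (.inl 1) (.inl 0)
    simp [n4_e4, um, mul_apply] at a1 a2 a3
    have a4 := e' (.inl 1) (.inl 1)
    simp [n4_e4, um, mul_apply, a1] at a4
    exact tri4 a1 a2 a3 a4
  wa a c d := mul_inv_eq_iff_eq_mul.2 (n4_inj (by
    rw [map_mul, map_mul]; ext i j; ent4 i j <;> simp [n4_e4, n4_Ws, um, wm, mul_apply, mul_comm]))
  br h n := by
    obtain ⟨v, -, e⟩ := nrm n4 n (show ⟨1, 0, 0, 0⟩ ∈ UA K from rfl)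
    obtain ⟨v', -, e'⟩ := nrm n4 n (show ⟨0, 0, 1, 0⟩ ∈ UA K from rfl)
    have a1 := e (.inl 0) (.inl 0)
    have a2 := e (.inr 1) (.inl 0)
    have a3 := e' (.inl 0) (.inl 0)
    simp [n4_e4, um, mul_apply] at a1 a2 a3
    by_cases a4 : n4 h (.inr 1) (.inl 1) = 0
    · exact .inl (up4 a1 a2 a3 a4)
    refine .inr ⟨⟨0, n4 h (.inl 1) (.inl 1) / n4 h (.inr 1) (.inl 1), 0, 0⟩, up4 ?_ ?_ ?_ ?_⟩ <;>
      simp [n4_e4, n4_Ws, um, wm, mul_apply, a1, a2, a3, a4, aa]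
  cz c d c0 d0 h k := by
    have e := fun i j => congrFun (congrFun (congrArg n4 (mul_inv_eq_iff_eq_mul.1 k)) i) j
    have a2 := e (.inr 0) (.inr 1)
    have a3 := e (.inr 1) (.inr 1)
    simp [n4_e4, um, mul_apply, c0] at a2 a3
    have a4 := e (.inr 1) (.inr 0)
    have b1 := e (.inl 1) (.inr 1)
    have b2 := e (.inl 0) (.inr 1)
    have b3 := col4 h (.inr 1) (.inl 0)
    simp [n4_e4, um, mul_apply, c0, a2, a3, B4] at a4 b1 b2 b3
    have := Uc.two K
    have := d0 rfl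
    exact up4 (by grind) a2 a3 a4
theorem ts [Finite K] : TS K := fun _ hq hρ =>
  have := Fintype.ofFinite K
  have : IsSimpleGroup (PQ (Sp K)) := psp_simple le_rfl fun _ => by rw [← Nat.card_eq_fintype_card]; omega
  mx4.tg hq (by simp) fun _ => hρ

end H22.MF
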