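/-
Minimal `2`-fusion systems: the target `Aut(A₆)`.
-/
import Cfsg.Agent.H22.MF3
import Cfsg.Agent.H29.MF4
import Cfsg.Agent.H25.C2S4
import Cfsg.Agent.H11.PermRep

set_option autoImplicit false
set_option linter.unusedSectionVars false

namespace H22.MF
open Subgroup H25 H25.FS H4.MF H29.MF H22.FZ Equiv

theorem autA6 : Nonempty (MulAut (Perm (Fin 6)) ≃* MulAut (alternatingGroup (Fin 6))) ∨
    Nat.card (MulAut (Perm (Fin 6))) < 2 * Nat.card (Perm (Fin 6)) := by
  refine or_iff_not_imp_right.2 fun h => ⟨MulEquiv.ofBijective (MulAut.characteristic (alternatingGroup (Fin 6)))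
    ((Nat.bijective_iff_injective_and_card _).2 ⟨?_, ?_⟩)⟩
  rotate_left
  let c : Perm (Fin 6) →* MulAut (alternatingGroup (Fin 6)) := MulAut.conjNormal
  have ci : Function.Injective c := H22.Alt.conj_injective (by simp)
  all_goals
    have inj : Function.Injective (MulAut.characteristic (alternatingGroup (Fin 6))) :=
      (injective_iff_map_eq_one _).2 fun α e => MulEquiv.ext fun s => H22.Alt.conj_injective (by simp) (MulEquiv.ext fun a => by
        have k : ∀ a : alternatingGroup (Fin 6), α a = a := fun a => congrArg Subtype.val (MulEquiv.congr_fun e a)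
        refine Subtype.ext ?_
        have := k (MulAut.conjNormal s a)
        simpa [k] using this)
  swap
  · exact inj
  refine le_antisymm (Nat.card_le_card_of_injective _ inj) ((not_lt.1 h).trans' ?_)
  have A : ∀ y : alternatingGroup (Fin 6), orderOf y = 3 →
      (y : Perm (Fin 6)).cycleType = {3} ∨ (y : Perm (Fin 6)).cycleType = {3, 3} := fun y hy => by
    rw [← Subgroup.orderOf_coe] at hy
    obtain ⟨k, hk⟩ := Perm.cycleType_prime_order (σ := (y : Perm (Fin 6))) (hy ▸ Nat.prime_three)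
    have := Perm.sum_cycleType_le (y : Perm (Fin 6))
    rw [hy] at hk
    rw [hk, Multiset.sum_replicate, Fintype.card_fin, smul_eq_mul] at this
    have : k ≤ 1 := by omega
    interval_cases k
    exacts [.inl hk, .inr hk]
  have B : ∀ (α : MulAut (alternatingGroup (Fin 6))) y, orderOf y = 3 →
      (α y : Perm (Fin 6)).cycleType = (y : Perm (Fin 6)).cycleType → α ∈ c.range := fun α y hy e => by
    obtain ⟨s, hs⟩ := isConj_iff.1 (Perm.isConj_iff_cycleType_eq.2 e)
    exact (mul_mem_cancel_left (⟨s, rfl⟩ : c s ∈ c.range)).1 (H12.alt_aut_inner (by simp) _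
      (three_pres_of_fix (by simp) (c s * α) hy (Subtype.ext hs)))
  obtain ⟨y, hy⟩ := exists_prime_orderOf_dvd_card' (G := alternatingGroup (Fin 6)) 3 (by
    have := two_mul_nat_card_alternatingGroup (α := Fin 6)
    rw [Nat.card_perm, Nat.card_fin] at this
    rw [show Nat.factorial 6 = 720 from rfl] at this
    omega)
  have i2 := H28.GC.two_idx (H := ⊤) (K := c.range) fun a _ b _ ha hb => B _ y hy (by
    have h1 : orderOf (b y) = 3 := by rwa [MulEquiv.orderOf_eq]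
    have h2 : orderOf (a (b y)) = 3 := by rwa [MulEquiv.orderOf_eq]
    have n1 := mt (B b y hy) hb
    have n2 := mt (B a _ h1) ha
    rcases A _ hy with e | e <;> rcases A _ h1 with e1 | e1 <;> rcases A _ h2 with e2 | e2 <;> simp_all)
  rw [relIndex_top_right] at i2
  rw [← c.range.index_mul_card, ← Nat.card_congr (MonoidHom.ofInjective ci).toEquiv]
  exact Nat.mul_le_mul_right _ i2

theorem gz2 {Γ : Type} [Group Γ] [Finite Γ] {L Γ₀ : Subgroup Γ} {ev : Uc (ZMod 2) →* Γ} {x w : Γ}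
    (t : Tq true (.refl _) L Γ₀ ev x w) (hi : L.index = 2) : Gz true (.refl _) ⊤ (ev.range ⊔ zpowers x) ev x w (zpowers x) ∧
      ¬ Mo true (.refl _) (ofSub ⊤ (ev.range ⊔ zpowers x)) ev x := by
  have h : Cb true (.refl _) ev x := ⟨.inr rfl, t.ker, by simp, fun _ => by decide, t.xx, t.sw⟩
  have c' := co_of h
  generalize ev.range ⊔ zpowers x = T at c'
  have nL : ∀ g, g ∈ nz L := fun g => (normalizer_eq_top_iff.2 (L.normal_of_index_eq_two hi)).ge trivial
  have u : ∀ l : ZMod 2, l ≠ 0 → l = 1 := by decide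
  have nb0 : ∀ l ∈ L, l ∈ nz ev.range → l ∈ ev.range := fun l a b => by
    obtain ⟨b, hb, y, hy, rfl, l, m, d, -⟩ := t.nb l a b
    obtain rfl := u l d.l0
    obtain rfl := u m d.m0
    rwa [t.fth y hy d.cen, mul_one]
  have mG : ∀ g, g ∈ L ∨ g * x ∈ L := fun g => or_iff_not_imp_left.2 fun k =>
    (mul_mem_iff_of_index_two hi).2 (iff_of_false k fun e => h.xB (nb0 x e h.xR))
  have gx : ∀ g, g * x * x = g := fun g => by rw [mul_assoc, t.xx, mul_one]
  have nb : ∀ g ∈ nz ev.range, g ∈ T := fun g n => (mG g).elim (fun k => c'.BT (nb0 g k n)) fun k =>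
    gx g ▸ mul_mem (c'.BT (nb0 _ k (mul_mem n h.xR))) c'.xT
  have BL := t.syl.le
  have k' : Cy ev x (zpowers x) := by
    refine ⟨mem_zpowers x, fun y hy => ?_, fun y hy => t.fth y (zpowers_le.2 t.xΓ hy), fun d => ?_,
      fun s n => ⟨1, one_mem _, by simpa [u s n] using Dg.one ev⟩⟩
    · obtain ⟨n, rfl⟩ := hy
      have e : x ^ (2 : ℤ) = 1 := by rw [zpow_two, h.xx]
      rcases Int.even_or_odd' n with ⟨k, rfl | rfl⟩
      · exact .inl ⟨_, _, _, by simpa [zpow_mul, e] using Dg.one ev⟩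
      · exact .inr ⟨_, _, _, by simpa [zpow_add, zpow_mul, e, t.xx] using Dg.one ev⟩
    · rw [Nat.card_zpowers] at d
      exact absurd (d.trans (orderOf_dvd_of_pow_eq_one ((pow_two x).trans t.xx))) (by decide)
  have nZ : ∀ Z, Z ≠ ⊥ → Z ≤ T → T ≤ cz Z → nz Z ≤ nz ev.range := fun Z z1 z2 z3 g hg => by
    obtain ⟨⟨z, hz⟩, n⟩ := ne_bot_iff_exists_ne_one.1 z1
    replace n : z ≠ 1 := fun e => n (Subtype.ext e)
    obtain ⟨⟨a, s, c, d⟩, ⟨rfl : s = 0, rfl : a = 0⟩, rfl⟩ := c'.CB.le ⟨z2 hz, le_cz_comm.1 (c'.BT.trans z3) hz⟩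
    have e := mem_cz.1 (z3 c'.xT) _ hz
    rw [t.sw, h.eq_iff] at e
    rw [ne_eq, t.ker] at n
    have H : L ⊓ cz Z ≤ nz ev.range := fun l hl => t.cz c d (by
      rintro rfl; simp [sw] at e n; exact n e.1) (by
      rintro - rfl; simp [sw] at e n; exact n e.2) l hl.1 (mem_cz.1 hl.2 _ hz)
    have BH := le_inf BL (c'.BT.trans z3)
    have gH := mem_nz.1 (mem_nz_inf (nL g) (mem_nz_cz hg))
    exact mem_nz_of_le ((t.syl.mono_right BH inf_le_left).le_of_normal (isPGroup_cj g (pgB ev)) (gH ▸ cj_mono g BH)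
      (by rw [← cj_nz, ← gH]; exact cj_mono g H))
  refine ⟨⟨c', k', syl_of_maximal c'.pg le_top fun Y h1 _ h3 y hy => ?_, le_top, trivial, t.wa, fun g _ n => ?_, fun g _ b => ?_,
    fun Z z1 z2 z3 => ?_⟩, ?_⟩
  · have e := (t.syl.eq_of_le (h3.to_le inf_le_right) (le_inf BL (c'.BT.trans h1)) inf_le_left).le
    exact (mG y).elim (fun k => c'.BT (e ⟨k, hy⟩)) fun k => gx y ▸ mul_mem (c'.BT (e ⟨k, mul_mem hy (h1 c'.xT)⟩)) c'.xT
  · obtain ⟨v, rfl | rfl⟩ := (c'.mem g).1 (nb g n)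
    exacts [⟨_, ⟨v, rfl⟩, 1, one_mem _, (mul_one _).symm⟩, ⟨_, ⟨v, rfl⟩, x, mem_zpowers x, rfl⟩]
  · refine t.br g ((mG g).resolve_right fun hl => ?_) b
    rw [← gx g, mem_nz, ← cj_cj, h.cjA] at b
    generalize g * x = l at hl b
    obtain ⟨s, hs, e⟩ := (t.syl.mono_right (le_inf BL (B_nzA ev)) inf_le_left).exists_cj_le (isPGroup_cj l (pgB ev))
      (le_inf (cj_le_of_mem hl BL) (by rw [← b, ← cj_nz]; exact cj_mono l (B_nzB ev)))
    have := B_nzB ev (nb0 _ (mul_mem hs.1 hl) (mem_nz_of_le (cj_cj s l _ ▸ e)))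
    rw [mem_nz, ← cj_cj, b, mem_nz.1 hs.2] at this
    exact h.A_ne this
  · exact chP_of (le_inf le_top (c'.BT.trans (z3.trans (cz_le_nz Z)))) (inf_le_right.trans (nZ Z z1 z2 z3)) (pgB ev)
      fun g hg => mA_le _ _ (c'.CB.le ⟨nb g (cz_le_nz _ hg.2), hg.2⟩)
  · rintro ⟨a, ha, n⟩
    obtain ⟨n', g, -, e⟩ := mem_ai.1 (ofSub_A le_top c'.R0_le ▸ ha)
    obtain ⟨z1, z2⟩ := zoR c'
    exact n ((e.mono ((C_le_E ev).trans h.E_le_R0)).mem_nz (h.nz_C (nZ _ z1 (zo_le.trans c'.R0_le)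
      (le_cz_comm.1 (z2.trans inf_le_right)) (nz_zo (e.symm.mem_nz n')))))

theorem ta : TA := by
  have hz : center (PQ (Sp (ZMod 2))) = ⊥ := (spData (ZMod 2) le_rfl).center_eq_bot
  obtain ⟨Γ₀, x, t⟩ := (mx4 (K := ZMod 2)).tq (ρ := .refl _) hz (by simp) fun _ => by decide
  have c := card_aut_psp4 (F := ZMod 2) rfl
  rw [card_ringAut (p := 2) (f := 1) rfl, mul_one] at c
  obtain ⟨f⟩ := H11.nonempty_sp4_two_equiv (F := ZMod 2) rfl
  have e : PQ (Sp (ZMod 2)) ≃* Perm (Fin 6) :=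
    ((QuotientGroup.quotientMulEquivOfEq cen4).trans QuotientGroup.quotientBot).trans f
  obtain ⟨g⟩ := autA6.resolve_right (by
    rw [← Nat.card_congr (MulAut.congr e).toEquiv, ← Nat.card_congr e.toEquiv, c]; exact lt_irrefl _)
  obtain ⟨a, b⟩ := gz2 t (by
    have := (inn (Sp (ZMod 2))).range.index_mul_card
    rw [c, range_inn, ← Nat.card_congr (MonoidHom.ofInjective (conj_inj hz)).toEquiv, ← range_inn] at this
    exact Nat.eq_of_mul_eq_mul_right Nat.card_pos this)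
  exact ⟨_, _, inferInstance, _, _, _, _, _, _, a, b, ⟨topEquiv.trans ((MulAut.congr e).trans g)⟩⟩

end H22.MF
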