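/-
Minimal `2`-fusion systems: the target `Aut(L₃(3))`.
-/
import Cfsg.Agent.H22.MF4
import Cfsg.Agent.H22.AutPSL2

set_option autoImplicit false
set_option linter.unusedSectionVars false

namespace H22.MF
open Subgroup H25 H25.FS H4.MF H29.MF

/-- the data -/
structure D3 {Γ : Type} [Group Γ] (ev : Uc (ZMod 2) →* Γ) (x w t : Γ) (L : Subgroup Γ) : Prop extends Cb true (.refl _) ev x where
  wa : Wa ev w
  tz : t ∈ cz (zpowers (ev ⟨0, 0, 1, 1⟩))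
  tR : t ∈ nz (R0 true (.refl _) ev x)
  tC : t ∉ nz ((UC (ZMod 2)).map ev)
  nL : L.Normal
  dL : ev ⟨0, 0, 0, 1⟩ ∉ L
  zL : ev ⟨0, 0, 1, 1⟩ ∈ L
  cG : Nat.card Γ = 11232
  cZ : Nat.card (cz (zpowers (ev ⟨0, 0, 1, 1⟩))) ≤ 96

theorem D3.gz {Γ : Type} [Group Γ] [Finite Γ] {L : Subgroup Γ} {ev : Uc (ZMod 2) →* Γ} {x w t : Γ} (h : D3 ev x w t L) :
    Gz true (.refl _) ⊤ (ev.range ⊔ zpowers x) ev x w (zpowers x) ∧ Mo true (.refl _) (ofSub ⊤ (ev.range ⊔ zpowers x)) ev x := by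
  have c' := co_of h.toCb
  generalize ev.range ⊔ zpowers x = T at c'
  have cT : Nat.card T = 32 := by rw [c'.card, h.cardR, h.cardA, h.cardC, Nat.card_zmod]; rfl
  have u : ∀ l : ZMod 2, l ≠ 0 → l = 1 := by decide
  have zC : ev ⟨0, 0, 1, 1⟩ ∈ (UC (ZMod 2)).map ev := h.memC.2 ⟨rfl, rfl⟩
  have z1 : ev ⟨0, 0, 1, 1⟩ ≠ 1 := fun e => one_ne_zero ((h.ker _).1 e).2.2.1
  have TZ : T ≤ cz (zpowers (ev ⟨0, 0, 1, 1⟩)) := c'.le_of ((B_czC ev).trans (cz_anti (zpowers_le.2 zC)))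
    (mem_cz_zpowers.2 ((h.sw _).trans (congrArg ev rfl)))
  have mx : ∀ N, T ≤ N → N ≤ cz (zpowers (ev ⟨0, 0, 1, 1⟩)) → N = T ∨ N = cz (zpowers (ev ⟨0, 0, 1, 1⟩)) := fun N h1 h2 => by
    obtain ⟨a, ha⟩ := card_dvd_of_le h1
    obtain ⟨b, hb⟩ := card_dvd_of_le h2
    have d := card_subgroup_dvd_card N
    have := h.cZ
    rw [cT] at ha
    rw [h.cG, ha] at d
    have p : 0 < Nat.card (cz (zpowers (ev ⟨0, 0, 1, 1⟩))) := Nat.card_pos
    have : a ≤ 3 := by nlinarith [Nat.pos_of_ne_zero (fun e : b = 0 => by simp [hb, e] at p)]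
    interval_cases a
    · simp [hb, ha] at p
    · exact .inl (eq_of_le_of_card_ge h1 (by omega)).symm
    · exact absurd d (by decide)
    · exact .inr (eq_of_le_of_card_ge h2 (by omega))
  have K1 : ∀ g ∈ nz ((UC (ZMod 2)).map ev), g ∈ cz (zpowers (ev ⟨0, 0, 1, 1⟩)) → g ∈ T := fun g a b =>
    ((mx _ (le_inf c'.nzC TZ) inf_le_right).resolve_right fun e => h.tC (e.ge h.tz).1).le ⟨a, b⟩
  have nR : cz (zpowers (ev ⟨0, 0, 1, 1⟩)) ≤ nz (R0 true (.refl _) ev x) := inf_eq_right.1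
    ((mx _ (le_inf c'.nzR0 TZ) inf_le_right).resolve_left fun e => h.tC (c'.nzC (e.le ⟨h.tR, h.tz⟩)))
  have K2 : ∀ g ∈ nz ((UA (ZMod 2)).map ev), g ∈ cz (zpowers (ev ⟨0, 0, 1, 1⟩)) → g ∈ nz ev.range := fun g a b =>
    c'.nzR (K1 g (by
      rw [show (UC (ZMod 2)).map ev = (UA (ZMod 2)).map ev ⊓ R0 true (.refl _) ev x from le_antisymm
        (le_inf (C_le_A ev) ((C_le_E ev).trans h.E_le_R0)) (by
          rintro _ ⟨⟨v, k, rfl⟩, k'⟩
          exact h.memC.2 ⟨k, (h.E_a0 (h.ev_R0.1 k')).2 k⟩)]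
      exact mem_nz_inf a (nR b)) b)
  have k' : Cy ev x (zpowers x) := by
    have e : x ^ (2 : ℤ) = 1 := by rw [zpow_two, h.xx]
    refine ⟨mem_zpowers x, fun y hy => ?_, fun y hy k => ?_, fun d => ?_,
      fun s n => ⟨1, one_mem _, by simpa [u s n] using Dg.one ev⟩⟩
    · obtain ⟨n, rfl⟩ := hy
      rcases Int.even_or_odd' n with ⟨k, rfl | rfl⟩
      · exact .inl ⟨_, _, _, by simpa [zpow_mul, e] using Dg.one ev⟩
      · exact .inr ⟨_, _, _, by simpa [zpow_add, zpow_mul, e, h.xx] using Dg.one ev⟩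
    · obtain ⟨n, rfl⟩ := hy
      rcases Int.even_or_odd' n with ⟨k, rfl | rfl⟩
      · simp [zpow_mul, e]
      · exact absurd (cz_le_nz _ (cz_anti (mA_le _ _) k)) (by simpa [zpow_add, zpow_mul, e] using h.x_nA)
    · rw [Nat.card_zpowers] at d
      exact absurd (d.trans (orderOf_dvd_of_pow_eq_one ((pow_two x).trans h.xx))) (by decide)
  refine ⟨⟨c', k', ⟨le_top, fun d => ?_⟩, le_top, trivial, h.wa, fun g _ n => ?_, fun g _ b => ?_, fun Z z0 z2 z3 => ?_⟩,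
    t, ofSub_A le_top c'.R0_le ▸ mem_ai_of_mem trivial h.tR, h.tC⟩
  · have := T.index_mul_card
    rw [relIndex_top_right] at d
    rw [cT, h.cG] at this
    omega
  · have e : ev ⟨1, 1, 0, 0⟩ * ev ⟨1, 1, 0, 0⟩ = ev ⟨0, 0, 1, 1⟩ := by rw [← map_mul]; rfl
    obtain ⟨v, k⟩ := conj_mem_of_mem_nz n ⟨⟨1, 1, 0, 0⟩, rfl⟩
    have k2 : g * ev ⟨0, 0, 1, 1⟩ * g⁻¹ = ev (v * v) := by rw [map_mul, k, conj_mul, e]
    have : ∀ a s : ZMod 2, s * a = 0 ∧ s * a ^ 2 = 0 ∨ s * a = 1 ∧ s * a ^ 2 = 1 := by decide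
    rw [Uc.sq] at k2
    rcases this v.a v.s with ⟨a, b⟩ | ⟨a, b⟩ <;> rw [a, b] at k2
    · exact (z1 (conj_eq_one_iff.1 (k2.trans ev.map_one))).elim
    obtain ⟨v, rfl | rfl⟩ := (c'.mem g).1 (K1 g (h.nz_C n) (mem_cz_zpowers.2 k2))
    exacts [⟨_, ⟨v, rfl⟩, 1, one_mem _, (mul_one _).symm⟩, ⟨_, ⟨v, rfl⟩, x, mem_zpowers x, rfl⟩]
  · obtain ⟨⟨a, s, c, d⟩, rfl : s = 0, k⟩ := conj_mem_of_mem_nz b (C_le_A ev zC)
    have m : ev ⟨a, 0, c, d⟩ ∈ L := k ▸ h.nL.conj_mem _ h.zL g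
    have z' : ev ⟨1, 0, 0, 1⟩ ∈ L := h.wa 0 1 1 ▸ h.nL.conj_mem _ h.zL w
    have f : ∀ v, w * ev v * ev ⟨a, 0, c, d⟩ * (w * ev v)⁻¹ = ev ⟨0, 0, 1, 1⟩ → w * ev v * g ∈ nz ev.range := fun v e =>
      K2 _ (mul_mem (mul_mem h.wa.nzA (B_nzA ev ⟨v, rfl⟩)) b) (mem_cz_zpowers.2 (.trans (by rw [k]; group) e))
    have n : ∀ v, ev v ∈ L → ev (v * ⟨a, 0, c, d⟩) ∈ L := fun v hv => by rw [map_mul]; exact mul_mem hv m
    have n1 := n 1 (by rw [map_one]; exact one_mem _)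
    have n2 := n _ h.zL
    have n3 := n _ z'
    have n4 := n (_ * _) (by rw [map_mul]; exact mul_mem h.zL z')
    fin_cases a <;> fin_cases c <;> fin_cases d
    exacts [(z1 (conj_eq_one_iff.1 (k.symm.trans ev.map_one))).elim, (h.dL n1).elim, (h.dL n2).elim,
      .inl (K2 g b (mem_cz_zpowers.2 k.symm)), (h.dL n3).elim, .inr ⟨_, ⟨1, rfl⟩, f 1 (by rw [map_one, mul_one]; exact h.wa 1 0 1)⟩,
      .inr ⟨_, ⟨_, rfl⟩, f ⟨0, 1, 0, 0⟩ (by
        rw [← h.wa 1 0 1, show (⟨1, 0, 0, 1⟩ : Uc (ZMod 2)) = ⟨0, 1, 0, 0⟩ * ⟨1, 0, 1, 0⟩ * ⟨0, 1, 0, 0⟩⁻¹ from rfl,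
          map_mul, map_mul, map_inv, mul_inv_rev, ← mul_assoc, ← mul_assoc, ← mul_assoc]; rfl)⟩, (h.dL n4).elim]
  · have eZ : Z = zpowers (ev ⟨0, 0, 1, 1⟩) := by
      have k : ∀ y ∈ Z, y = 1 ∨ y = ev ⟨0, 0, 1, 1⟩ := fun y hy => by
        obtain ⟨⟨a, s, c, d⟩, ⟨rfl : s = 0, rfl : a = 0⟩, rfl⟩ := c'.CB.le ⟨z2 hy, le_cz_comm.1 (c'.BT.trans z3) hy⟩
        have e := h.eq_c ((h.sw _).symm.trans (mem_cz.1 (z3 c'.xT) _ hy))
        simp [sw] at e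
        subst e
        fin_cases d
        exacts [.inl ev.map_one, .inr rfl]
      obtain ⟨⟨y, hy⟩, n⟩ := ne_bot_iff_exists_ne_one.1 z0
      exact le_antisymm (fun y hy => (k y hy).elim (· ▸ one_mem _) (· ▸ mem_zpowers _))
        (zpowers_le.2 ((k y hy).resolve_left (fun e => n (Subtype.ext e)) ▸ hy))
    subst eZ
    have n : nz (zpowers (ev ⟨0, 0, 1, 1⟩)) ≤ cz (zpowers (ev ⟨0, 0, 1, 1⟩)) := fun g k => mem_cz_zpowers.2 (by
      obtain ⟨n, e⟩ := conj_mem_of_mem_nz k (mem_zpowers _)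
      have e2 : ev ⟨0, 0, 1, 1⟩ ^ (2 : ℤ) = 1 := by rw [zpow_two, ← map_mul]; exact ev.map_one
      rcases Int.even_or_odd' n with ⟨k, rfl | rfl⟩
      · exact (z1 (by simpa [zpow_mul, e2] using e.symm)).elim
      · simpa [zpow_add, zpow_mul, e2] using e.symm)
    refine chP_of (le_inf le_top (c'.R0_le.trans (TZ.trans (cz_le_nz _)))) (inf_le_right.trans (n.trans nR)) (c'.pg.to_le c'.R0_le)
      fun g hg => ?_
    have gC := cz_anti ((C_le_E ev).trans h.E_le_R0) hg.2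
    obtain ⟨v, rfl | rfl⟩ := (c'.mem g).1 (K1 g (cz_le_nz _ gC) (n hg.1.2))
    · exact h.ev_R0.2 (h.fix_out (u := 1) (by
        rw [map_one, one_mul, mul_inv_eq_iff_eq_mul]; exact mem_cz'.1 hg.2 x h.x_R0)).1
    · have := mem_cz.1 gC _ (h.memC.2 (⟨rfl, rfl⟩ : (⟨0, 0, 1, 0⟩ : Uc (ZMod 2)).s = 0 ∧ _))
      rw [h.out_conj, Uc.conj] at this
      simpa [sw] using h.eq_c this

open Matrix
abbrev S33 := SpecialLinearGroup (Fin 3) (ZMod 3)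
/-- the cofactor matrix -/
def cf (M : Matrix (Fin 3) (Fin 3) (ZMod 3)) : Matrix (Fin 3) (Fin 3) (ZMod 3) :=
  .of fun i j => M (i + 1) (j + 1) * M (i + 2) (j + 2) - M (i + 1) (j + 2) * M (i + 2) (j + 1)
def τ0 (M : S33) : S33 := ⟨cf M.1, by
  have := M.2
  simp only [det_fin_three] at this
  simp [det_fin_three, cf]
  grind⟩
theorem τ0_τ0 (M : S33) : τ0 (τ0 M) = M := Subtype.ext (Matrix.ext fun i j => by
  have := M.2
  simp only [det_fin_three] at this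
  change cf (cf M.1) i j = _
  fin_cases i <;> fin_cases j <;> simp [cf] <;> grind)
def τ3 : MulAut S33 := ⟨⟨τ0, τ0, τ0_τ0, τ0_τ0⟩, fun M N => Subtype.ext (Matrix.ext fun i j => by
  change cf (M.1 * N.1) i j = (cf M.1 * cf N.1) i j
  fin_cases i <;> fin_cases j <;> simp [cf, mul_apply, Fin.sum_univ_three] <;> ring)⟩
def φ3 : Multiplicative (ZMod 2) →* MulAut S33 := invHom τ3 (MulEquiv.ext τ0_τ0)
abbrev X3 := S33 ⋊[φ3] Multiplicative (ZMod 2)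
instance iX3 : DecidableEq X3 := fun a b => decidable_of_iff
  (a.left.1 = b.left.1 ∧ a.right = b.right) ⟨fun h => SemidirectProduct.ext (Subtype.ext h.1) h.2, fun h => h ▸ ⟨rfl, rfl⟩⟩
def sg (a : ZMod 2) : ZMod 3 := if a = 0 then 1 else 2
def ev3 : Uc (ZMod 2) →* X3 := MonoidHom.mk' (fun u => ⟨⟨if u.s = 0 then !![sg u.c, 0, 0; 0, sg u.a * sg u.c, 0; 0, 0, sg u.a] else
    !![0, -sg u.c, 0; -(sg u.a * sg u.c), 0, 0; 0, 0, -sg u.a], by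
      obtain ⟨a, s, c, d⟩ := u
      rw [det_fin_three]; revert a s c d; decide⟩, .ofAdd (u.a + u.s + u.c + u.d)⟩) (by
  rintro ⟨a, s, c, d⟩ ⟨a', s', c', d'⟩
  revert a s c d a' s' c' d'
  decide +kernel)
def x3 : X3 := ⟨⟨!![1, 1, 0; 1, 2, 0; 0, 0, 1], by rw [det_fin_three]; decide⟩, g2⟩
def w3 : X3 := ⟨⟨!![0, 0, 2; 0, 2, 0; 2, 0, 0], by rw [det_fin_three]; decide⟩, 1⟩
def t3' : X3 := ⟨⟨!![1, 1, 0; 0, 1, 0; 0, 0, 1], by rw [det_fin_three]; decide⟩, 1⟩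
theorem c33 : Nat.card S33 = 5616 := by
  have h := H11.card_units_mul_card_sl (ι := Fin 3) (F := ZMod 3)
  rw [Matrix.card_GL_field, Fin.prod_univ_three] at h
  simp only [Nat.card_units, Nat.card_zmod, ZMod.card, Fin.val_zero, Fin.val_one, Fin.val_two] at h
  unfold S33
  omega
theorem cX3 : Nat.card X3 = 11232 := by rw [SemidirectProduct.card, c33, Nat.card_eq_fintype_card]; rfl
instance : Finite X3 := Nat.finite_of_card_ne_zero (by rw [cX3]; decide)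
theorem cb3 : Cb true (.refl _) ev3 x3 := ⟨.inr rfl, fun ⟨a, s, c, d⟩ => by revert a s c d; decide +kernel, by simp, fun _ => by decide,
  by decide +kernel, fun ⟨a, s, c, d⟩ => mul_inv_eq_iff_eq_mul.2 (by revert a s c d; decide +kernel)⟩
theorem d3 : D3 ev3 x3 w3 t3' SemidirectProduct.rightHom.ker := by
  refine ⟨cb3, fun a c d => mul_inv_eq_iff_eq_mul.2 (by revert a c d; decide +kernel),
    mem_cz_zpowers.2 (mul_inv_eq_iff_eq_mul.2 (by decide +kernel)), mem_nz_of_le ?_, fun k => ?_, inferInstance,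
    by rw [MonoidHom.mem_ker]; decide, by rw [MonoidHom.mem_ker]; decide, cX3, ?_⟩
  · rw [R0, cj_sup, cj_zpowers]
    refine sup_le (cj_le.2 ?_) (zpowers_le.2 (cb3.mem_R0.2 ⟨⟨0, 0, 1, 0⟩, rfl, .inl (mul_inv_eq_iff_eq_mul.2 (by decide +kernel))⟩))
    rintro _ ⟨⟨a, s, c, d⟩, k : s = a ^ 2, rfl⟩
    have : ∀ a c d : ZMod 2, ∃ a' c' d' : ZMod 2, t3' * ev3 ⟨a, a ^ 2, c, d⟩ = ev3 ⟨a', a' ^ 2, c', d'⟩ * t3' ∨
      t3' * ev3 ⟨a, a ^ 2, c, d⟩ = ev3 ⟨a', a' ^ 2, c', d'⟩ * x3 * t3' := by decide +kernel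
    obtain ⟨a', c', d', e⟩ := this a c d
    exact cb3.mem_R0.2 ⟨⟨a', a' ^ 2, c', d'⟩, rfl, k ▸ e.imp mul_inv_eq_iff_eq_mul.2 mul_inv_eq_iff_eq_mul.2⟩
  · have := conj_mem_of_mem_nz k (cb3.memC.2 (⟨rfl, rfl⟩ : (⟨0, 0, 0, 1⟩ : Uc (ZMod 2)).s = 0 ∧ _))
    rw [show t3' * ev3 ⟨0, 0, 0, 1⟩ * t3'⁻¹ = ev3 ⟨1, 1, 0, 0⟩ * x3 from mul_inv_eq_iff_eq_mul.2 (by decide +kernel)] at this
    exact cb3.not_mem _ (mA_le _ _ this)
  · have k : ∀ g ∈ cz (zpowers (ev3 ⟨0, 0, 1, 1⟩)), g.left.1 0 2 = 0 ∧ g.left.1 1 2 = 0 ∧ g.left.1 2 0 = 0 ∧ g.left.1 2 1 = 0 ∧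
        (g.left.1 0 0 * g.left.1 1 1 - g.left.1 0 1 * g.left.1 1 0) * g.left.1 2 2 = 1 := fun g hg => by
      have e := congrArg SemidirectProduct.left (mem_cz'.1 hg _ (mem_zpowers _))
      have f : ∀ b, φ3 b (ev3 ⟨0, 0, 1, 1⟩).left = (ev3 ⟨0, 0, 1, 1⟩).left := by decide +kernel
      rw [SemidirectProduct.mul_left, SemidirectProduct.mul_left, f, show (ev3 ⟨0, 0, 1, 1⟩).right = 1 from rfl, map_one,
        MulAut.one_apply] at e
      have e' : !![2, 0, 0; 0, 2, 0; 0, 0, 1] * g.left.1 = g.left.1 * !![2, 0, 0; 0, 2, 0; 0, 0, 1] := by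
        rw [← show (ev3 ⟨0, 0, 1, 1⟩).left.1 = !![2, 0, 0; 0, 2, 0; 0, 0, 1] by decide]
        exact congrArg Subtype.val e
      have d := g.left.2
      rw [det_fin_three] at d
      have e1 := congrFun (congrFun e' 0) 2
      have e2 := congrFun (congrFun e' 1) 2
      have e3 := congrFun (congrFun e' 2) 0
      have e4 := congrFun (congrFun e' 2) 1
      simp [mul_apply, Fin.sum_univ_three] at e1 e2 e3 e4
      refine ⟨?_, ?_, ?_, ?_, ?_⟩ <;> grind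
    refine (Nat.card_le_card_of_injective (fun g => ((⟨(g.1.left.1 0 0, g.1.left.1 0 1, g.1.left.1 1 0, g.1.left.1 1 1),
      left_ne_zero_of_mul_eq_one (k _ g.2).2.2.2.2⟩ : {p : ZMod 3 × ZMod 3 × ZMod 3 × ZMod 3 // p.1 * p.2.2.2 - p.2.1 * p.2.2.1 ≠ 0}),
        g.1.right)) fun g g' e => ?_).trans (by rw [Nat.card_eq_fintype_card]; decide +kernel)
    simp only [Prod.mk.injEq, Subtype.mk.injEq] at e
    obtain ⟨⟨e0, e1, e2, e3⟩, e4⟩ := e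
    obtain ⟨a0, a1, a2, a3, a4⟩ := k _ g.2
    obtain ⟨b0, b1, b2, b3, b4⟩ := k _ g'.2
    refine Subtype.ext (SemidirectProduct.ext (Subtype.ext (Matrix.ext fun i j => ?_)) e4)
    fin_cases i <;> fin_cases j <;> simp [*]
    grind
theorem t3 : T3 := by
  have hz : center S33 = ⊥ := eq_bot_iff.2 fun z hz => by
    obtain ⟨r, h, e⟩ := Matrix.SpecialLinearGroup.mem_center_iff.1 hz
    have : ∀ r : ZMod 3, r ^ 3 = 1 → r = 1 := by decide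
    exact Subtype.ext (by rw [← e, this r h, map_one]; rfl)
  let Θ : X3 →* MulAut S33 := SemidirectProduct.lift MulAut.conj φ3 fun b => MonoidHom.ext fun a => (cj_conj _ a).symm
  have e : PQ S33 ≃* S33 := (QuotientGroup.quotientMulEquivOfEq hz).trans QuotientGroup.quotientBot
  have b : Function.Bijective Θ := (Nat.bijective_iff_injective_and_card _).2 ⟨(injective_iff_map_eq_one _).2 fun ⟨a, b⟩ k => by
    rcases zmod2_cases b with rfl | rfl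
    · exact SemidirectProduct.ext (conj_inj hz ((SemidirectProduct.lift_inl _ _ _ a).symm.trans (k.trans (map_one _).symm))) rfl
    obtain ⟨M, hM⟩ : ∃ M : S33, trace (τ0 M).1 ≠ trace M.1 := ⟨⟨!![1, 0, 1; 1, 0, 0; 0, 1, 0], by rw [det_fin_three]; decide⟩, by decide⟩
    have : a * τ0 M * a⁻¹ = M := MulEquiv.congr_fun k M
    refine (hM ?_).elim
    conv_rhs => rw [← this]
    rw [Matrix.SpecialLinearGroup.coe_mul, trace_mul_comm, ← Matrix.SpecialLinearGroup.coe_mul, inv_mul_cancel_left], by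
    rw [cX3, ← Nat.card_congr (MulAut.congr e).toEquiv, card_aut_psl_three (by simp), card_ringAut (p := 3) (f := 1) rfl,
      H11.card_pgl_eq_card_sl, c33]⟩
  exact ⟨X3, _, inferInstance, _, _, _, _, _, _, d3.gz.1, d3.gz.2,
    ⟨topEquiv.trans ((MulEquiv.ofBijective Θ b).trans (MulAut.congr e.symm))⟩⟩

end H22.MF
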