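import Cfsg.Agent.H6.Gallagher
import Cfsg.Agent.H5.Kernel
import Cfsg.Agent.H5.Induce
import Mathlib.GroupTheory.RegularWreathProduct

/-! M-groups are closed under wreath products with groups of prime order. -/

set_option autoImplicit false

open Cfsg H5

namespace H22.MG

/-- Monomial functions. -/
def Mono {G : Type*} [Group G] [Fintype G] (χ : G → ℂ) : Prop :=
  ∃ (H : Subgroup G) (lam : H →* ℂˣ), χ = indFun H (fun h => (lam h : ℂ))

theorem Mono.ind {G : Type*} [Group G] [Fintype G] {K : Subgroup G} [Fintype K] {θ : K → ℂ}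
    (h : Mono θ) : Mono (indFun K θ) := by
  obtain ⟨L, lam, rfl⟩ := h
  exact ⟨L.map K.subtype,
    lam.comp (L.equivMapOfInjective K.subtype K.subtype_injective).symm.toMonoidHom,
    indFun_indFun_map K L _⟩

section Pi

variable {ι M : Type*} [Fintype ι] [DecidableEq ι] [Group M] [Fintype M]

theorem inner_prod (φ ψ : ι → M → ℂ) :
    classInner (fun f : ι → M => ∏ i, φ i (f i)) (fun f => ∏ i, ψ i (f i)) =
      ∏ i, classInner (φ i) (ψ i) := by
  simp only [classInner_def, Finset.prod_mul_distrib, Finset.prod_univ_sum,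
    Fintype.piFinset_univ, map_prod, Nat.card_fun, Finset.prod_const, Finset.card_univ,
    Nat.cast_pow, inv_pow, Nat.card_eq_fintype_card (α := ι)]

omit [DecidableEq ι] [Fintype M] in
theorem char_prod (φ : ι → M → ℂ) (h : ∀ i, IsCharacter M (φ i)) :
    IsCharacter (ι → M) (fun f => ∏ i, φ i (f i)) := by
  have : (fun f : ι → M => ∏ i, φ i (f i)) = ∏ i, fun f : ι → M => φ i (f i) := by
    ext f
    simp
  rw [this]
  exact Finset.prod_induction _ (IsCharacter (ι → M)) (fun _ _ => H6.char_mul) H6.char_one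
    fun i _ => (h i).comp (Pi.evalMonoidHom (fun _ => M) i)

theorem irr_pi {θ : (ι → M) → ℂ} (hθ : IsIrrCharacter _ θ) :
    ∃ φ : ι → M → ℂ, (∀ i, IsIrrCharacter M (φ i)) ∧ θ = fun f => ∏ i, φ i (f i) := by
  have h1 : regChar (ι → M) = ∑ φ : ι → IrrCharacter M,
      (∏ i, (φ i).1 1) • fun f : ι → M => ∏ i, (φ i).1 (f i) := by
    ext f
    have : regChar (ι → M) f = ∏ i, regChar M (f i) := by
      by_cases hf : f = 1
      · subst hf
        simp [regChar_one]
      · obtain ⟨i, hi⟩ := Function.ne_iff.1 hf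
        rw [regChar_of_ne_one hf, Finset.prod_eq_zero (f := fun i => regChar M (f i)) (Finset.mem_univ i)
          (regChar_of_ne_one hi)]
    rw [this]
    simp only [← sum_irr_one_mul_apply, Finset.prod_univ_sum, Fintype.piFinset_univ,
      Finset.sum_apply, Pi.smul_apply, smul_eq_mul, Finset.prod_mul_distrib]
  have h2 := classInner_regChar_left θ
  rw [h1, classInner_sum_left] at h2
  have h3 : (starRingEnd ℂ) (θ 1) ≠ 0 := (map_ne_zero _).2 (H6.irr_one_ne_zero hθ)
  rw [← h2] at h3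
  obtain ⟨φ, -, hφ⟩ := Finset.exists_ne_zero_of_sum_ne_zero h3
  rw [classInner_smul_left] at hφ
  refine ⟨fun i => (φ i).1, fun i => (φ i).2, (H6.irr_eq_of_inner_ne_zero ?_ hθ
    (right_ne_zero_of_mul hφ)).symm⟩
  refine H6.irr_of_norm_one (char_prod _ fun i => (φ i).2.isCharacter) ?_
  rw [inner_prod]
  exact Finset.prod_eq_one fun i _ => H6.inner_irr_self (φ i).2

/-- The product of linear characters. -/
def piHom (K : ι → Subgroup M) (lam : ∀ i, K i →* ℂˣ) : Subgroup.pi Set.univ K →* ℂˣ where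
  toFun f := ∏ i, lam i ⟨f.1 i, f.2 i trivial⟩
  map_one' := Finset.prod_eq_one fun i _ => map_one (lam i)
  map_mul' f g := by
    rw [← Finset.prod_mul_distrib]
    exact Finset.prod_congr rfl fun i _ => map_mul (lam i) ⟨f.1 i, _⟩ ⟨g.1 i, _⟩

theorem ind_pi (K : ι → Subgroup M) (lam : ∀ i, K i →* ℂˣ) (f : ι → M) :
    indFun (Subgroup.pi Set.univ K) (fun h => (piHom K lam h : ℂ)) f =
      ∏ i, indFun (K i) (fun h => (lam i h : ℂ)) (f i) := by
  have h1 : ∀ g : ι → M, extendByZero (Subgroup.pi Set.univ K) (fun h => (piHom K lam h : ℂ)) g =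
      ∏ i, extendByZero (K i) (fun h => (lam i h : ℂ)) (g i) := fun g => by
    by_cases hg : g ∈ Subgroup.pi Set.univ K
    · rw [extendByZero_of_mem _ _ hg]
      simp only [piHom, MonoidHom.coe_mk, OneHom.coe_mk, Units.coe_prod]
      exact Finset.prod_congr rfl fun i _ => by rw [extendByZero_of_mem _ _ (hg i trivial)]
    · rw [extendByZero_of_not_mem _ _ hg]
      obtain ⟨i, hi⟩ : ∃ i, g i ∉ K i := by
        by_contra! h
        exact hg fun i _ => h i
      exact (Finset.prod_eq_zero (Finset.mem_univ i) (by rw [extendByZero_of_not_mem _ _ hi])).symm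
  have h2 : Nat.card (Subgroup.pi Set.univ K) = ∏ i, Nat.card (K i) := by
    rw [← Nat.card_pi]
    exact Nat.card_congr
      { toFun := fun f i => ⟨f.1 i, f.2 i trivial⟩
        invFun := fun f => ⟨fun i => f i, fun i _ => (f i).2⟩
        left_inv := fun _ => rfl
        right_inv := fun _ => rfl }
  simp only [indFun_apply, h1, h2, Finset.prod_mul_distrib, Finset.prod_univ_sum,
    Fintype.piFinset_univ, Nat.cast_prod, Finset.prod_inv_distrib, Pi.mul_apply, Pi.inv_apply]

end Pi

section Wreath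

open RegularWreathProduct

variable {M Q : Type*} [Group M] [Group Q]

/-- The base group. -/
abbrev B (M Q : Type*) [Group M] [Group Q] : Subgroup (M ≀ᵣ Q) := (rightHom : M ≀ᵣ Q →* Q).ker

/-- The base group is a power. -/
def eB (M Q : Type*) [Group M] [Group Q] : B M Q ≃* (Q → M) where
  toFun b := b.1.left
  invFun f := ⟨⟨f, 1⟩, rfl⟩
  left_inv b := Subtype.ext (RegularWreathProduct.ext rfl b.2.symm)
  right_inv _ := rfl
  map_mul' a b := by
    have : a.1.right = 1 := a.2
    ext x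
    simp [this]

/-- The wreath product of a subgroup. -/
def L (K : Subgroup M) (Q : Type*) [Group Q] : Subgroup (M ≀ᵣ Q) where
  carrier := {w | ∀ i, w.left i ∈ K}
  mul_mem' ha hb i := K.mul_mem (ha i) (hb _)
  one_mem' _ := K.one_mem
  inv_mem' ha _ := K.inv_mem (ha _)

/-- The canonical extension of a power of a linear character. -/
def LHom [Fintype Q] {K : Subgroup M} (lam : K →* ℂˣ) : L K Q →* ℂˣ where
  toFun w := ∏ i, lam ⟨w.1.left i, w.2 i⟩
  map_one' := Finset.prod_eq_one fun _ _ => map_one lam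
  map_mul' a b := by
    rw [← Fintype.prod_equiv (Equiv.mulLeft a.1.right⁻¹)
      (fun i => lam ⟨b.1.left (a.1.right⁻¹ * i), b.2 _⟩) (fun i => lam ⟨b.1.left i, b.2 i⟩)
      fun _ => rfl, ← Finset.prod_mul_distrib]
    exact Finset.prod_congr rfl fun i _ => map_mul lam ⟨a.1.left i, _⟩ ⟨b.1.left _, _⟩

theorem wreath [Fintype M] [Finite Q] [Fintype (M ≀ᵣ Q)]
    (hM : ∀ φ : M → ℂ, IsIrrCharacter M φ → Mono φ) (hQ : ∀ S : Subgroup Q, S = ⊥ ∨ S = ⊤)
    (hc : ∀ a b : Q, a * b = b * a) {χ : M ≀ᵣ Q → ℂ} (hχ : IsIrrCharacter _ χ) : Mono χ := by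
  classical
  have := Fintype.ofFinite Q
  have := Fintype.ofFinite (B M Q)
  obtain ⟨θ, hθ, h1⟩ := H6.exists_irr_under_res (B M Q) hχ
  obtain ⟨φ, hφ, h2⟩ := irr_pi (H6.irr_comp_equiv hθ (eB M Q).symm)
  have h3 : ∀ b, θ b = ∏ i, φ i (b.1.left i) := fun b => by
    have := congrFun h2 (eB M Q b)
    rwa [Function.comp_apply, MulEquiv.symm_apply_apply] at this
  have hB := H6.le_inertia (H6.irr_cf hθ)
  have hs : Function.Surjective (rightHom : M ≀ᵣ Q →* Q) := fun q => ⟨inl q, rfl⟩
  rcases hQ ((H6.inertia θ).map rightHom) with h | h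
  · rw [Subgroup.map_eq_bot_iff] at h
    have e : χ = indFun _ θ := H6.irr_eq_of_inner_ne_zero hχ (H6.irr_indFun_of_inertia_le hθ h)
      (by rwa [classInner_indFun_right _ _ (H6.irr_cf hχ)])
    rw [e]
    refine Mono.ind ?_
    choose K lam hK using fun i => hM _ (hφ i)
    refine ⟨(Subgroup.pi Set.univ K).comap (eB M Q).toMonoidHom,
      (piHom K lam).comp ((eB M Q).toMonoidHom.subgroupComap _), funext fun b => ?_⟩
    rw [h3]
    refine Eq.trans ?_ (indFun_comap _ (eB M Q).toMonoidHom (eB M Q).surjective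
      (fun h => (piHom K lam h : ℂ)) b).symm
    rw [ind_pi]
    exact Finset.prod_congr rfl fun i _ => congrFun (hK i) _
  have hT : H6.inertia θ = ⊤ := by
    rw [← Subgroup.comap_map_eq_self hB, h, Subgroup.comap_top]
  have hone : ∀ i, φ i 1 ≠ 0 := fun i => H6.irr_one_ne_zero (hφ i)
  have hs1 : ∀ i m, θ ((eB M Q).symm (Pi.mulSingle i m)) =
      φ i m * ∏ j ∈ Finset.univ.erase i, φ j 1 := fun i m => by
    rw [h3, ← Finset.mul_prod_erase _ _ (Finset.mem_univ i)]
    change φ i (Pi.mulSingle (M := fun _ => M) i m i) * ∏ j ∈ _,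
      φ j (Pi.mulSingle (M := fun _ => M) i m j) = _
    rw [Pi.mulSingle_eq_same]
    congr 1
    exact Finset.prod_congr rfl fun j hj => by
      rw [Pi.mulSingle_eq_of_ne (Finset.mem_erase.1 hj).1]
  have heq : ∀ i, φ i = φ 1 := fun i => by
    have e : ∀ m, φ i m * ∏ j ∈ Finset.univ.erase i, φ j 1 =
        φ 1 m * ∏ j ∈ Finset.univ.erase 1, φ j 1 := fun m => by
      have hi : inl i ∈ H6.inertia θ := hT ▸ Subgroup.mem_top _
      rw [← hs1, ← hs1, ← H6.mem_inertia'.1 hi ((eB M Q).symm (Pi.mulSingle 1 m))]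
      congr 1
      refine Subtype.ext (RegularWreathProduct.ext (funext fun x => ?_) ?_)
      · simp [eB, Pi.mulSingle_apply, inv_mul_eq_one, eq_comm]
      · simp [eB]
    have p1 : ∏ j ∈ Finset.univ.erase i, φ j 1 ≠ 0 := Finset.prod_ne_zero_iff.2 fun j _ => hone j
    have p2 : ∏ j ∈ Finset.univ.erase 1, φ j 1 ≠ 0 := Finset.prod_ne_zero_iff.2 fun j _ => hone j
    refine H6.irr_eq_of_inner_ne_zero (hφ i) (hφ 1) ?_
    have : φ i = ((∏ j ∈ Finset.univ.erase 1, φ j 1) / ∏ j ∈ Finset.univ.erase i, φ j 1) • φ 1 := by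
      ext m
      rw [Pi.smul_apply, smul_eq_mul, div_mul_eq_mul_div, eq_div_iff p1, e, mul_comm]
    rw [this, classInner_smul_left, H6.inner_irr_self (hφ 1), mul_one]
    exact div_ne_zero p2 p1
  obtain ⟨K, lam, hK⟩ := hM _ (hφ 1)
  have := Fintype.ofFinite (L K Q)
  have hψ : (fun b : B M Q => indFun (L K Q) (fun h => (LHom lam h : ℂ)) b) = θ := by
    ext b
    rw [indFun_restrict_of_mul_eq_top (L K Q) (B M Q) (fun g => ⟨inl g.right, fun _ => K.one_mem,
      (inl g.right)⁻¹ * g, by simp [MonoidHom.mem_ker], by simp⟩)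
      (isCharacter_unitsHom _).isClassFunction, h3]
    have e := indFun_comap (Subgroup.pi Set.univ fun _ : Q => K) (eB M Q).toMonoidHom
      (eB M Q).surjective (fun h => (piHom (fun _ => K) (fun _ => lam) h : ℂ)) b
    rw [ind_pi] at e
    simp only [heq, hK]
    refine Eq.trans ?_ e
    have hL : (L K Q).subgroupOf (B M Q) =
        (Subgroup.pi Set.univ fun _ : Q => K).comap (eB M Q).toMonoidHom :=
      Subgroup.ext fun b => ⟨fun h i _ => h i, fun h i => h i trivial⟩
    refine congrFun (indFun_congr_conj _ _ _ _ 1 (fun g => ?_) (by rw [hL])) b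
    rw [one_mul, inv_one, mul_one]
    by_cases hg : g ∈ (L K Q).subgroupOf (B M Q)
    · rw [extendByZero_of_mem _ _ hg, extendByZero_of_mem _ _ (hL ▸ hg)]
      rfl
    · rw [extendByZero_of_not_mem _ _ hg, extendByZero_of_not_mem _ _ (hL ▸ hg)]
  obtain ⟨β, hβ, hker, e⟩ := H6.gallagher_one_surj (N := B M Q)
    (isCharacter_unitsHom (LHom (Q := Q) lam)).ind (hψ ▸ hθ) hχ (hψ ▸ h1)
  have hβ1 : β 1 = 1 := hβ.apply_one_eq_one_iff.2 (le_trans (by
    rw [commutator, Subgroup.commutator_le]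
    intro a _ b _
    rw [MonoidHom.mem_ker, map_commutatorElement, commutatorElement_eq_one_iff_mul_comm]
    exact hc _ _) hker)
  obtain ⟨f, rfl⟩ := hβ.isCharacter.exists_unitsHom hβ1
  refine ⟨L K Q, LHom lam * f.comp (L K Q).subtype, ?_⟩
  rw [e, mul_comm, ← indFun_mul_restrict _ _ (H6.irr_cf hβ)]
  rfl

/-- The Kaloujnine-Krasner embedding. -/
theorem embed {G : Type*} [Group G] (N : Subgroup G) [N.Normal] (f : N →* M)
    (hf : Function.Injective f) : ∃ F : G →* M ≀ᵣ (G ⧸ N), Function.Injective F := by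
  have hm : ∀ (g : G) (x : G ⧸ N), x.out⁻¹ * g * ((g : G ⧸ N)⁻¹ * x).out ∈ N := fun g x => by
    rw [← QuotientGroup.eq_one_iff]
    simp
  refine ⟨MonoidHom.mk' (fun g => ⟨fun x => f ⟨_, hm g x⟩, g⟩) fun a b => ?_, ?_⟩
  · refine RegularWreathProduct.ext (funext fun x => ?_) rfl
    simp only [mul_left, Pi.mul_apply, ← map_mul]
    congr 1
    refine Subtype.ext ?_
    simp [mul_assoc]
  · rw [injective_iff_map_eq_one]
    intro g hg
    have h1 : (g : G ⧸ N) = 1 := congrArg RegularWreathProduct.right hg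
    have h2 : f ⟨_, hm g 1⟩ = 1 := congrFun (congrArg RegularWreathProduct.left hg) 1
    rw [map_eq_one_iff f hf] at h2
    have h3 := congrArg Subtype.val h2
    simp only [h1, inv_one, mul_one, OneMemClass.coe_one] at h3
    simpa [mul_assoc, inv_mul_eq_one] using h3

end Wreath

end H22.MG
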