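import Cfsg.Agent.H13.MS2
import Cfsg.Agent.H12.MS0
import Cfsg.Agent.H8.GA8

/-! S5899 part 3, the case `C(p) ≤ N`: the steps `TG` and `TS`. -/

set_option autoImplicit false
set_option linter.unusedVariables false
set_option linter.unusedSectionVars false

namespace H22.MS
open Cfsg Subgroup H18 H17.GS H28.S H2.GW H27.MS H12.MS H13.MS
open H19 hiding eq_bot_mono
open H28.NG hiding Hyp Uniq Ch

universe u

theorem tg (bk : BK.{u}) (hd : HD.{u}) : TG.{u} := by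
  intro G _ _ N Q T V H p t h tT tQ tt TH HN c3 c2
  haveI : Fact (Nat.Prime 2) := ⟨Nat.prime_two⟩
  obtain ⟨l7, a, VQ, cV, nV, -, -, -, pt⟩ := bk h.toBd
  obtain ⟨P, R, q⟩ := pt p h.pV h.p1
  rw [← q.eP]
  have PN : P ≤ N := q.eP ▸ inf_le_left
  have TP : T ≤ P := q.eP ▸ le_inf h.syl.le h.pT
  have i3 : T.relIndex H = 3 :=
    Nat.eq_of_mul_eq_mul_left (card_pos T) (by rw [card_mul_relIndex TH, c3, mul_comm])
  have e : H ⊓ P = T := (H28.eq_or_eq_of_relIndex_prime (i3 ▸ Nat.prime_three) (le_inf TH TP)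
    inf_le_left).resolve_right fun k => HN (k.ge.trans (inf_le_right.trans PN))
  have RP : R ≤ P := q.eR ▸ Oc_le _ _
  have g2 : H8.GA.G3 P H := H8.GA.G3.of_six (by
    rw [inf_comm, e]
    exact H28.isSylowIn_of_not_dvd_relIndex TP h.syl.pi.isPGroup
      ((h.syl.of_le TP PN).not_dvd_relIndex Nat.prime_two le_rfl)) (by
    rw [← Oc2, ← q.eR]
    exact Nat.eq_of_mul_eq_mul_left (card_pos R) (by rw [card_mul_relIndex RP, q.cP, mul_comm]))
  have g1 : H8.GA.G3 H P := ⟨e ▸ h.syl.pi.isPGroup, by rw [← inf_relIndex_left, e, i3], by rw [e, ← Oc2, c2]⟩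
  by_contra k
  push Not at k
  have b := g1.card g2 fun K k1 k2 k3 => by_contra fun k0 => k K k0 (h.syl.pi.of_le (e ▸ k1)) k2 k3
  have d := g2.qtwo
  rw [inf_comm, e, ← Oc2, ← q.eR] at d
  have RT : R ≤ T := q.eR ▸ Oc_le_hall (h.syl.of_le TP PN)
  have cT := card_mul_relIndex RT
  rw [e] at b
  have cR := q.cR
  have c8 := h.c8
  have := (hd h.toFr l7 ⟨VQ.le.trans h.nq.le, nV.ge⟩ VQ (fun X _ x1 x2 => ?_) (h.syl.le tT) tQ
    (tt ▸ one_mem _)).2
  · rw [d] at cT; omega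
  by_cases j : X = V
  · exact .inl j
  obtain ⟨m, hm⟩ := card_dvd_of_le x1
  have := card_lt (x1.lt_of_ne' j)
  rw [d] at cT
  refine .inr (eq_of_le_of_card_ge x2 ?_)
  have : 2 ≤ m := by_contra fun w => by
    have : m ≤ 1 := by omega
    nlinarith
  nlinarith

theorem ts (lc : LC.{u}) (mb1 : MB1.{u}) (ic : IC.{u}) (nr : NR.{u}) : H13.MS.TS.{u} := by
  intro G _ _ N Q T V Z p h z nV c
  by_contra s
  have pZ : p ∈ Z := z.eZ ▸ le_Kc (mem_zpowers p)
  have l := (lc h.hy (ne_bot_of_mem pZ h.p1) (ab_pg z.ab) le_rfl s ((nr h.toBd).1.of_le z.TN le_top)).1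
  have VT : V ≤ T := ((le_centralizer_iff.1 h.sec.cq').trans h.chr).trans h.toFr.le
  have DZ : Oc {2} N(Z) ≤ C(Z) := cents_symm (z.eZ.le.trans
    (Kc_cents (cents_symm (zp_cent (l.toFr.le.trans h.pT))) (Oc_norm _ _)))
  have sec := sec_bot z.ab le_rfl DZ fun k => nV ((VT.trans z.TN).trans k)
  obtain ⟨v, v1, v2⟩ := SetLike.not_le_iff_exists.1 nV
  have pp := sq_one z.ab pZ
  have eb : Eb ⊥ Z v 1 := by
    rw [Eb, Cm_bot, cent_zpowers, pow_one, mul_comm]
    exact card_le_cent pp (le_Cm' ((ab_cent1 z.ab pZ).trans (cent1_le_norm_zpowers p))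
      ((commutator_mono (zpowers_le' v1) le_rfl).trans c))
  obtain ⟨-, s2, c8⟩ := mb1 l.toFr sec (z.TN (VT v1)) (fun k => v2 (DZ k)) eb
  refine nV ((ic ⟨l, s2, by simpa using c8⟩ h.toBd (ne_bot_mono (le_inf ?_ (c.trans (zpowers_le' h.pV)))
    (mt commg_eq_bot.1 nV))).trans DZ)
  rw [commg_comm]
  exact (commutator_mono le_rfl (VT.trans z.TN)).trans le_sup_left

end H22.MS
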