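import Cfsg.Agent.H1.MS2
import Cfsg.Agent.H17.MS4

/-! S5899 part 3: the sign homomorphism on transvections. -/

set_option autoImplicit false
set_option linter.unusedVariables false
set_option linter.unusedSectionVars false

namespace H22.MS
open Cfsg Subgroup H18 H17.GS H28.S H2.GW H27.MS H12.MS
open H19 hiding eq_bot_mono
open H28.NG hiding Hyp Uniq Ch

universe u

/-- the kernel of the sign of a conjugation action -/
theorem sgn {G X : Type*} [Group G] [Finite G] [Group X] [Finite X] {H : Subgroup G} (ψ : H →* X) (S : Set X)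
    (hS : ∀ h, ∀ s ∈ S, ψ h * s * (ψ h)⁻¹ ∈ S) (α : H) {v w : X} (hv : v ∈ S) (hw : w ∈ S) (ne : v ≠ w)
    (e1 : ψ α * v * (ψ α)⁻¹ = w) (e2 : ψ α * w * (ψ α)⁻¹ = v)
    (e3 : ∀ s ∈ S, s ≠ v → s ≠ w → ψ α * s * (ψ α)⁻¹ = s) :
    ∃ T₀ ≤ H, #H = 2 * #T₀ ∧ α.1 ∉ T₀ ∧ ∀ h : H, (∀ s ∈ S, ψ h * s * (ψ h)⁻¹ = s) → h.1 ∈ T₀ := by
  classical
  letI : Fintype S := Fintype.ofFinite S
  letI : MulAction H S :=
    { smul := fun h s => ⟨_, hS h s.1 s.2⟩
      one_smul := fun s => Subtype.ext (show ψ 1 * s.1 * (ψ 1)⁻¹ = s.1 by simp)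
      mul_smul := fun a b s => Subtype.ext (show ψ (a * b) * s.1 * (ψ (a * b))⁻¹ =
        ψ a * (ψ b * s.1 * (ψ b)⁻¹) * (ψ a)⁻¹ by rw [map_mul]; group) }
  let σ : H →* ℤˣ := Equiv.Perm.sign.comp (MulAction.toPermHom H S)
  have a : σ α = -1 := by
    have : MulAction.toPermHom H S α = Equiv.swap ⟨v, hv⟩ ⟨w, hw⟩ := Equiv.ext fun s => by
      by_cases c : s = ⟨v, hv⟩
      · rw [c, Equiv.swap_apply_left]; exact Subtype.ext e1
      by_cases d : s = ⟨w, hw⟩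
      · rw [d, Equiv.swap_apply_right]; exact Subtype.ext e2
      rw [Equiv.swap_apply_of_ne_of_ne c d]
      exact Subtype.ext (e3 s.1 s.2 (fun k => c (Subtype.ext k)) fun k => d (Subtype.ext k))
    exact (congrArg Equiv.Perm.sign this).trans (Equiv.Perm.sign_swap fun k => ne (congrArg Subtype.val k))
  refine ⟨σ.ker.map H.subtype, map_subtype_le _, ?_, fun k => ?_, fun h k => ⟨h, ?_, rfl⟩⟩
  · have r : σ.range = ⊤ := top_le_iff.1 fun x _ => (Int.units_eq_one_or x).elim (fun e => e ▸ one_mem _)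
      fun e => ⟨α, a.trans e.symm⟩
    rw [card_map_of_injective H.subtype_injective, ← σ.ker.index_mul_card, index_ker, r, card_top,
      Nat.card_eq_fintype_card, Fintype.card_units_int]
  · obtain ⟨b, p, q⟩ := k
    rw [Subtype.ext q, SetLike.mem_coe, MonoidHom.mem_ker, a] at p
    exact absurd p (by decide)
  · have : MulAction.toPermHom H S h = 1 := Equiv.ext fun s => Subtype.ext (k s.1 s.2)
    exact (congrArg Equiv.Perm.sign this).trans (map_one _)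

variable {G : Type u} [Group G] [Finite G] {C D Z U : Subgroup G} {a c : G}

theorem trJ (s : H1.MS.Sv C D Z U) (t : H1.MS.Tr C D Z U a) (hc : c ∈ C) : H1.MS.Tr C D Z U (c * a * c⁻¹) := by
  have n : c ∈ N(D) := s.eD ▸ Oc_norm _ _ hc
  refine ⟨mul_mem (mul_mem hc t.1) (inv_mem hc), fun k => t.2.1 (by simpa [mul_assoc] using conj_mem_of_norm' n k), ?_⟩
  have := t.2.2.J c
  rwa [cj_of_mem_norm (s.nZ hc), cj_of_mem_norm (s.nU hc)] at this

theorem dih4 {X : Type*} [Group X] {α φ : X} (h : α * φ * α⁻¹ = φ⁻¹) : φ * α * φ⁻¹ = φ * φ * α ∧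
    φ⁻¹ * α * φ⁻¹⁻¹ = (φ * φ)⁻¹ * α ∧ α * (φ * φ * α) * α⁻¹ = (φ * φ)⁻¹ * α ∧
    α * ((φ * φ)⁻¹ * α) * α⁻¹ = φ * φ * α :=
  ⟨calc _ = φ * (α * φ * α⁻¹)⁻¹ * α := by group
      _ = _ := by rw [h, inv_inv],
    calc _ = φ⁻¹ * (α * φ * α⁻¹) * α := by group
      _ = _ := by rw [h, mul_inv_rev],
    calc _ = α * φ * α⁻¹ * (α * φ * α⁻¹) * α := by group
      _ = _ := by rw [h, mul_inv_rev],
    calc _ = (α * φ * α⁻¹)⁻¹ * (α * φ * α⁻¹)⁻¹ * α := by group
      _ = _ := by rw [h, inv_inv]⟩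

theorem td (t1 : H1.MS.T1.{u}) : H1.MS.TD.{u} := by
  intro G _ _ N Q T V P R D U p a h pV p1 q s VU DR aQ t
  obtain ⟨f, fC, fo, fD, f3, fi, c2, l2, tri⟩ := t1 s t
  have nD : C[p] ≤ N(D) := s.eD ▸ Oc_norm _ _
  have DC : D ≤ C[p] := s.eD ▸ Oc_le _ _
  have ab := h.sec.ab
  have pp := sq_one ab pV
  have PC : P ≤ C[p] := q.eP ▸ inf_le_right
  have PV : P ≤ N(V) := (q.eP ▸ inf_le_left : P ≤ N).trans h.sec.nV
  have RP : R ≤ P := q.eR ▸ Oc_le _ _
  have VZ : V ≤ N(zpowers p) := VU.trans s.ea.norm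
  have QC : ∀ {b}, b ∈ Q → b ∈ Cm (zpowers p) V := fun k => Cm_of_cent (zpowers_le' (s.nZ (PC (RP (q.QR k)))))
    (zpowers_le' (h.sec.cq' k)) (mem_zpowers _)
  have DM : D ≤ Cm (zpowers p) V := fun d k => Cm_anti VU ((s.ker d (DC k)).2 k)
  have aP := RP (q.QR aQ)
  have aC := t.1
  set W := V ⊓ Cm (zpowers p) (zpowers f) with eW
  have fW : f ∈ Cm (zpowers p) W := Cm_symm inf_le_right (zpowers_le' (s.nZ fC)) (mem_zpowers f)
  have pW : zpowers p ≤ W := le_inf (zpowers_le' pV) (Cm_self (zpowers_le' (s.nZ fC)))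
  have cW : #W = 4 := by
    have l : W < V := inf_le_left.lt_of_ne fun e => fD (by
      have m : f ∈ Cm (zpowers p) V := Cm_anti e.ge fW
      have := q.ker f (q.eP ▸ ⟨(H17.MS.bdnV h).le (norm_of_Cm le_rfl (zpowers_le' pV) le_rfl m), fC⟩) m
      rw [PiN.e_eq_one ((q.eR ▸ Oc_pi _ _ : H19.PG 2 R).elt this) (odd_iff_pi.1 fo)]
      exact one_mem _)
    have H : H17.GS.Hyp (U ⊓ Cm (zpowers p) (zpowers f)) (U ⊓ Cm (zpowers p) (zpowers a)) :=
      ⟨le_inf inf_le_left l2, Nat.eq_of_mul_eq_mul_left (card_pos _) (by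
        rw [card_mul_relIndex (le_inf inf_le_left l2), c2, mul_comm])⟩
    have := H.card_inf (le_inf VU (Cm_symm (zpowers_le' (QC aQ)) VZ))
    rw [← inf_assoc, inf_eq_left.2 VU, ← eW, h.c8] at this
    have b := card_lt l
    have d := card_dvd_of_le l.le
    rw [h.c8] at b d
    have : #W ≤ 8 := b.le
    interval_cases #W <;> omega
  have an := nD aC
  have fn := nD fC
  have ia : qm D a * qm D f * (qm D a)⁻¹ = (qm D f)⁻¹ := by
    rw [← qm_conj an fn, eq_inv_iff_mul_eq_one, ← qm_mul (mul_mem (mul_mem an fn) (inv_mem an)) fn,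
      qm_eq_one (mul_mem (mul_mem (mul_mem an fn) (inv_mem an)) fn)]
    exact fi
  have f1 : ∀ k, qm D f ^ 2 ^ k ≠ 1 := fun k e => fD (H28.mem_of_pow_mem_of_pow_mem
    ((Nat.coprime_two_left.2 fo).pow_left k) ((qm_eq_one (pow_mem fn _)).1 ((qm_pow fn _).trans e)) (by simp))
  have eq1 : ∀ {x y}, x ∈ C[p] → y ∈ C[p] → x * y⁻¹ ∈ D → qm D x = qm D y := fun {x y} i j k => by
    rw [← mul_inv_eq_one, ← qm_inv (nD j), ← qm_mul (nD i) (inv_mem (nD j)), qm_eq_one (mul_mem (nD i) (inv_mem (nD j)))]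
    exact k
  have TN : P ⊓ N(W) ≤ N(D) := inf_le_left.trans (PC.trans nD)
  have WV : W ≤ V := inf_le_left
  have aW : a ∈ N(W) := norm_of_Cm le_rfl pW WV (QC aQ)
  let ψ : ↥(P ⊓ N(W)) →* Quo D := (qmk D).comp (inclusion TN)
  have eψ : ∀ x : ↥(P ⊓ N(W)), ψ x = qm D x := fun x => (qm_eq (TN x.2)).symm
  have fi' := inv_mem fC
  have aW' := Cm_anti WV (QC aQ)
  have va : qm D (f * a * f⁻¹) = qm D f * qm D f * qm D a := by
    rw [qm_conj fn an, (dih4 ia).1]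
  have wa : qm D (f⁻¹ * a * f⁻¹⁻¹) = (qm D f * qm D f)⁻¹ * qm D a := by
    rw [qm_conj (inv_mem fn) an, qm_inv fn, (dih4 ia).2.1]
  obtain ⟨T₀, l0, c0, a0, k0⟩ := sgn ψ {σ | ∃ b, H1.MS.Tr C[p] D (zpowers p) U b ∧ b ∈ Cm (zpowers p) W ∧ qm D b = σ}
    (by
      rintro x _ ⟨b, i, j, rfl⟩
      exact ⟨_, trJ s i (PC x.2.1), conj_mem_of_norm (norms_Cm (inf_le_left.trans (PC.trans s.nZ)) inf_le_right x.2) j,
        by rw [eψ, qm_conj (TN x.2) (nD i.1)]⟩) ⟨a, aP, aW⟩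
    ⟨_, trJ s t fC, mul_mem (mul_mem fW aW') (inv_mem fW), rfl⟩
    ⟨_, trJ s t fi', mul_mem (mul_mem (inv_mem fW) aW') (inv_mem (inv_mem fW)), rfl⟩
    (by
      rw [va, wa]
      exact fun e => f1 2 (by rw [← mul_right_cancel e |> eq_inv_iff_mul_eq_one.1]; simp [pow_succ, mul_assoc]))
    (by rw [eψ, va, wa]; exact (dih4 ia).2.2.1) (by rw [eψ, va, wa]; exact (dih4 ia).2.2.2)
    (by
      rintro _ ⟨b, i, j, rfl⟩ n1 n2
      rw [eψ, ← qm_conj an (nD i.1)]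
      rcases tri b i with k | k | k
      · exact eq1 (mul_mem (mul_mem aC i.1) (inv_mem aC)) i.1 k
      · exact (n1 (eq1 (trJ s t fC).1 i.1 k).symm).elim
      · exact (n2 (eq1 (trJ s t fi').1 i.1 (by rwa [inv_inv])).symm).elim)
  refine ⟨W, f, T₀, pW (mem_zpowers p), WV, cW, cent_of_stable fo (pg_zpowers pp) (zp_cent le_rfl fC) fW,
    fun k e => f1 (k + 1) ?_, l0, c0, fun d i => k0 ⟨d, RP (DR i), norm_of_Cm le_rfl pW WV (DM i)⟩ fun σ _ => ?_, a0,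
    fun x i j => k0 ⟨_, mul_mem (mul_mem (P.inv_mem i) aP) i, norm_of_Cm le_rfl pW WV (QC ?_)⟩ ?_⟩
  · have m := mul_mem (nD (trJ s t fC).1) (inv_mem an)
    rw [← qm_eq_one (pow_mem m _), qm_pow m, qm_mul (nD (trJ s t fC).1) (inv_mem an), va, qm_inv an,
      mul_inv_cancel_right, ← sq, ← pow_mul] at e
    rwa [pow_succ']
  · rw [eψ, (qm_eq_one (nD (DC i))).2 i]; simp
  · exact conj_mem_of_norm' (h.nq.norm ((q.eP ▸ inf_le_left : P ≤ N) i)) aQ
  rintro _ ⟨b, bt, bW, rfl⟩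
  have xC := PC i
  have aC' := mul_mem (mul_mem (inv_mem xC) aC) xC
  have nx : x ∈ N(zpowers p) := s.nZ xC
  have key : ∀ y, (y = f ∨ y = f⁻¹) → y * a * y⁻¹ * (x * b * x⁻¹)⁻¹ ∉ D := fun y ey k => j (by
    have xW : cj x W ≤ V := (cj_mono x WV).trans (cj_of_mem_norm (PV i)).le
    have b' : x * b * x⁻¹ ∈ Cm (zpowers p) (cj x W) := by
      have := (conj_mem_cj (g := x)).2 bW
      rwa [cj_Cm, cj_of_mem_norm nx] at this
    have a' := Cm_anti xW (QC aQ)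
    have r := (mul_mem_cancel_right (inv_mem b')).1 (Cm_anti xW (DM k))
    have d := Cm_anti xW (DM fi)
    have : f ∈ Cm (zpowers p) (cj x W) := by
      rcases ey with rfl | rfl
      · exact mem_of_inv fo a' r d
      · exact mem_of_sq fo (by convert mul_mem (mul_mem (inv_mem a') d) r using 1; group)
    exact mem_norm_of_cj_le (le_inf xW (Cm_symm (zpowers_le' this) (xW.trans VZ))))
  rw [eψ, ← qm_conj (nD aC') (nD bt.1)]
  rcases tri _ (trJ s bt xC) with k | k | k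
  · refine eq1 (mul_mem (mul_mem aC' bt.1) (inv_mem aC')) bt.1 ?_
    convert conj_mem_of_norm' (nD xC) k using 1
    group
  · exact (key f (.inl rfl) k).elim
  · exact (key f⁻¹ (.inr rfl) (by rwa [inv_inv])).elim

end H22.MS
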