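/-
Fusion systems on a Sylow `p`-subgroup of `PSU₅(q)`: transfer from the linear algebra on `Q₁ / Z` (chunk TR).
-/
import Cfsg.Agent.H8.PU3

set_option autoImplicit false
set_option linter.unusedSectionVars false

namespace H22.PU
open Subgroup H25 H25.FS H8.PU H8.PU.Cd
universe u v
variable {K : Type v} [Field K] [Finite K] {σ : K →+* K} [IV σ] {Γ : Type u} [Group Γ] [Finite Γ] {p : ℕ} [Fact p.Prime]
  [CharP K p] {S A : Subgroup Γ} {ev : Cd σ →* Γ} {g g' β τ M1 M2 : Γ} {f f' : AV K} {r t : K} {φ : K ≃+* K} {c c' : Cd σ}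

/-- the image in `Q₁ / Z` -/
def pr (c : Cd σ) : K × K × K := (c.a, c.b, c.c)
/-- a section of `pr` -/
noncomputable def qv (v : K × K × K) : Cd σ := el v.1 v.2.1 v.2.2 0
theorem qv_mem (v : K × K × K) : (qv v : Cd σ) ∈ Q1 σ := ⟨rfl, by simp [qv]⟩
theorem pr_mul (h' : c' ∈ Q1 σ) : pr (c * c') = pr c + pr c' := by simp [pr, h'.1, h'.2]
theorem mul_d' (h' : c' ∈ Q1 σ) : (c * c').d = c.d + c'.d - hh σ (pr c) (pr c') := by simp [pr, hh, h'.1, h'.2]; ring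
theorem ext1 (h : c ∈ Q1 σ) (h' : c' ∈ Q1 σ) (e : pr c = pr c') (e' : c.d = c'.d) : c = c' := by
  simp only [pr, Prod.mk.injEq] at e
  exact Cd.ext e.1 e.2.1 e.2.2 e' (h.1.trans h'.1.symm) (h.2.trans h'.2.symm)
theorem zq (h : c ∈ Q1 σ) (h' : c' ∈ Q1 σ) : c⁻¹ * c' ∈ Z σ ↔ pr c = pr c' := by
  simp only [pr, Prod.mk.injEq, mZ, mul_a, mul_b, mul_c, mul_x, mul_y, inv_a, inv_b, inv_c, inv_x, inv_y, h.1, h.2, h'.1, h'.2]
  grind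
theorem cmq {d d' : Cd σ} (h : c ∈ Q1 σ) (h' : c' ∈ Q1 σ) (k : d ∈ Q1 σ) (k' : d' ∈ Q1 σ) :
    c * c' * c⁻¹ * c'⁻¹ = d * d' * d⁻¹ * d'⁻¹ ↔ ff σ (pr c) (pr c') = ff σ (pr d) (pr d') := by
  simp only [pr, ff, hh, Cd.ext_iff, mul_a, mul_b, mul_c, mul_d, mul_x, mul_y, inv_a, inv_b, inv_c, inv_d, inv_x, inv_y,
    h.1, h.2, h'.1, h'.2, k.1, k.2, k'.1, k'.2, map_zero, map_sub, map_add, map_mul, map_neg]
  grind

/-- `g` acts on `Q₁ / Z` as `f` -/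
def Ac (ev : Cd σ →* Γ) (g : Γ) (f : AV K) : Prop := ∀ c ∈ Q1 σ, ∃ c' ∈ Q1 σ, g * ev c * g⁻¹ = ev c' ∧ pr c' = f (pr c)
theorem Ac.mul (k : Ac ev g f) (k' : Ac ev g' f') : Ac ev (g * g') (f * f') := fun c hc =>
  let ⟨c1, h1, e1, e2⟩ := k' c hc
  let ⟨c2, h2, e3, e4⟩ := k c1 h1
  ⟨c2, h2, by rw [cj_mul2, e1, e3], by rw [e4, e2]; rfl⟩
theorem Ac.ag (k : Ac ev g' f) (e : Agree ((Q1 σ).map ev) g g') : Ac ev g f := fun c hc =>
  let ⟨c1, h1, e1, e2⟩ := k c hc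
  ⟨c1, h1, (e _ (mem_map_of_mem ev hc)).trans e1, e2⟩
theorem Ac.bo (k : Ac ev g f) (b : Bo f) : g ∈ nz ((Z2 σ).map ev) := mem_nz_of_conj_mem (by
  rintro _ ⟨c, hc, rfl⟩
  obtain ⟨c1, h1, e1, e2⟩ := k c ⟨hc.2.2.1, hc.2.2.2⟩
  have := b c.c
  rw [show (0, 0, c.c) = pr c by simp [pr, hc.1, hc.2.1], ← e2] at this
  exact ⟨c1, ⟨this.1, this.2, h1.1, h1.2⟩, e1.symm⟩)
theorem acU (u : Cd σ) : Ac ev (ev u) (uu u) := fun c hc => ⟨u * c * u⁻¹, by simp [mQ1, hc.1, hc.2]; ring, by simp, by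
  simp only [pr, uu_ap, mul_a, mul_b, mul_c, mul_x, mul_y, inv_a, inv_b, inv_c, inv_x, inv_y, hc.1, hc.2, map_zero, map_neg, u.sy,
    Prod.mk.injEq]
  cg⟩
theorem acM (y : Wy ev M1 M2) : Ac ev M1 n1 := fun c hc => ⟨m1 c, ⟨rfl, rfl⟩, y.f1 c hc.1 hc.2, rfl⟩

section
variable (h : Co S ev)
include h
theorem uq (k : Ac ev g f) (k' : Ac ev g f') : f = f' := LinearEquiv.ext fun v =>
  let ⟨_, _, e1, e2⟩ := k _ (qv_mem v)
  let ⟨_, _, e3, e4⟩ := k' _ (qv_mem v)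
  e2.symm.trans (h.inj (e1.symm.trans e3) ▸ e4)
theorem nzZ (hg : g ∈ nz ((Q1 σ).map ev)) : g ∈ nz ((Z σ).map ev) :=
  nz_of_cz (fun w => ⟨fun k => ⟨(by sl h : (Z σ).map ev ≤ (Q1 σ).map ev) k, cz_anti (h.le _) (h.cS1.symm.cz k)⟩, fun ⟨k1, k2⟩ => by
    ob h k1 c hc
    have e := fun v : K × K × K => (cmq hc (qv_mem v) (one_mem _) (one_mem _)).1 (h.inj (by
      simp [mul_inv_eq_one, mem_cz.1 k2 _ (mem_map_of_mem ev (qv_mem v))]))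
    refine h.mm.2 ⟨sk_of (σ := σ) fun z => ?_, sk_of (σ := σ) fun z => ?_, sk_of (σ := σ) fun z => ?_, hc⟩
    · have := e (0, 0, z); simp [ff, hh, pr, qv] at this; grind
    · have := e (0, z, 0); simp [ff, hh, pr, qv] at this; grind
    · have := e (z, 0, 0); simp [ff, hh, pr, qv] at this; grind⟩) hg hg
theorem ex0 (hg : g ∈ nz ((Q1 σ).map ev)) : ∃ F : K × K × K → K × K × K,
    ∀ c ∈ Q1 σ, ∃ c' ∈ Q1 σ, g * ev c * g⁻¹ = ev c' ∧ pr c' = F (pr c) := by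
  choose F k e using fun c (hc : c ∈ Q1 σ) => conj_mem_of_mem_nz hg (mem_map_of_mem ev hc)
  refine ⟨fun v => pr (F _ (qv_mem v)), fun c hc => ⟨_, k c hc, (e c hc).symm, (zq (k _ _) (k _ _)).1 (h.mm.1 ?_)⟩⟩
  have := conj_mem_of_mem_nz (nzZ h hg) (h.mm.2 ((zq hc (qv_mem (pr c))).2 rfl))
  simpa [e, mul_assoc] using this
theorem ex1 (hg : g ∈ nz ((Q1 σ).map ev)) : ∃ f, Ac ev g f := by
  obtain ⟨F, k⟩ := ex0 h hg
  have a : ∀ v w, F (v + w) = F v + F w := fun v w => by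
    obtain ⟨c1, h1, e1, k1⟩ := k _ (qv_mem v)
    obtain ⟨c2, h2, e2, k2⟩ := k _ (qv_mem w)
    obtain ⟨c3, h3, e3, k3⟩ := k _ (mul_mem (qv_mem v) (qv_mem w))
    rw [map_mul, cj_mul', e1, e2, ← map_mul] at e3
    rw [← h.inj e3, pr_mul h2, pr_mul (qv_mem w), k1, k2] at k3
    exact k3.symm
  refine ⟨(AddEquiv.ofBijective (AddMonoidHom.mk' F a) (Finite.injective_iff_bijective.1 fun v w e => ?_)).toIntLinearEquiv, k⟩
  obtain ⟨c1, h1, e1, k1⟩ := k _ (qv_mem v)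
  obtain ⟨c2, h2, e2, k2⟩ := k _ (qv_mem w)
  have := conj_mem_of_mem_nz' (nzZ h hg) (h.mm.2 ((zq h1 h2).2 (k1.trans (Eq.trans e k2.symm))))
  rw [map_mul, map_inv, ← e1, ← e2] at this
  exact (zq (qv_mem v) (qv_mem w)).1 (h.mm.1 (by simpa [mul_assoc] using this))
theorem dg (w : Wt ev τ r t φ) (k : Ac ev τ f) : Dg σ f r t φ := fun v =>
  let ⟨_, _, e1, e2⟩ := k _ (qv_mem v)
  e2.symm.trans (h.inj (e1.symm.trans (w.cj _)) ▸ rfl)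
theorem fm (k : Ac ev g f) : ∃ ζ : K → K, ∀ v w, ff σ (f v) (f w) = ζ (ff σ v w) := by
  obtain ⟨ζ, e⟩ := (Function.factorsThrough_iff (f := fun x : (K × K × K) × K × K × K => ff σ x.1 x.2)
    fun x => ff σ (f x.1) (f x.2)).1 fun x y e => by
      obtain ⟨c1, h1, e1, k1⟩ := k _ (qv_mem x.1)
      obtain ⟨c2, h2, e2, k2⟩ := k _ (qv_mem x.2)
      obtain ⟨c3, h3, e3, k3⟩ := k _ (qv_mem y.1)
      obtain ⟨c4, h4, e4, k4⟩ := k _ (qv_mem y.2)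
      have := congrArg (g * ev · * g⁻¹) ((cmq (qv_mem x.1) (qv_mem x.2) (qv_mem y.1) (qv_mem y.2)).2 e)
      simp only [map_mul, map_inv, cj_cm, e1, e2, e3, e4] at this
      have := (cmq h1 h2 h3 h4).1 (h.inj (by simpa using this))
      rwa [k1, k2, k3, k4] at this
  exact ⟨ζ, fun v w => congrFun e (v, w)⟩
theorem sq (h2 : p = 2) (k : Ac ev g f) (v : K × K × K) (e : hh σ v v = 0) : hh σ (f v) (f v) = 0 := by
  subst h2
  have k2 : ∀ c ∈ Q1 σ, c * c = 1 ↔ hh σ (pr c) (pr c) = 0 := fun c hc => by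
    simp [Cd.ext_iff, pr, hh, hc.1, hc.2, CharTwo.add_self_eq_zero, CharTwo.sub_eq_add, add_assoc]
  obtain ⟨c1, h1, e1, k1⟩ := k _ (qv_mem v)
  have := congrArg (g * ev · * g⁻¹) ((k2 _ (qv_mem v)).2 e)
  simp only [map_mul, cj_mul', e1, map_one, mul_one, mul_inv_cancel] at this
  exact k1 ▸ (k2 _ h1).1 (h.inj (by simpa using this))
/-- an automorphism trivial on `Q₁ / Z` that commutes with a fixed point free torus element modulo inner ones is inner -/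
theorem inn (k : Ac ev β 1) (w : Wt ev τ r t (.refl K)) (w0 : r * σ r * t * σ t = 1) (w1 : r ≠ 1) (w2 : r * t ≠ 1)
    (w3 : r * t * σ t ≠ 1) {u : Cd σ} (hu : u ∈ Q1 σ) (e : Agree ((Q1 σ).map ev) (β * τ) (ev u * τ * β)) :
    ∃ u ∈ Q1 σ, Agree ((Q1 σ).map ev) β (ev u) := by
  choose! F m e1 e2 using k
  have e2 : ∀ c ∈ Q1 σ, pr (F c) = pr c := e2
  have a : ∀ c ∈ Q1 σ, ∀ c' ∈ Q1 σ, (F (c * c')).d - (c * c').d = (F c).d - c.d + ((F c').d - c'.d) := fun c hc c' hc' => by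
    have := e1 _ (mul_mem hc hc')
    rw [map_mul, cj_mul', e1 c hc, e1 c' hc', ← map_mul] at this
    rw [← h.inj this, mul_d' (m _ hc'), mul_d' hc', e2 c hc, e2 c' hc']; ring
  have z : ∀ c ∈ Z σ, (F c).d = c.d := fun c hc => by
    obtain ⟨b, eb⟩ := ex_sk (h.skZ hc) (one_ne_zero (α := K))
    have q : ∀ b, (xb b : Cd σ) ∈ Q1 σ := fun _ => ⟨rfl, rfl⟩
    have e3 := a _ (q 1) _ (q b)
    rw [show xb 1 * xb b = c * (xb b * xb 1) from h.inj (by cs h [] at hc eb; cs h [hc, ← eb]; cg),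
      a _ ⟨hc.2.2.2.1, hc.2.2.2.2⟩ _ (mul_mem (q b) (q 1)), a _ (q b) _ (q 1)] at e3
    linear_combination e3
  have n : ∀ {x : K}, x ≠ 1 → ∃ y, x * y = y + 1 ∧ σ x * σ y = σ y + 1 := fun {x} k => by
    have e : x * (x - 1)⁻¹ = (x - 1)⁻¹ + 1 := by have := sub_ne_zero.2 k; field_simp; ring
    exact ⟨_, e, by simpa only [map_mul, map_add, map_one] using congrArg σ e⟩
  obtain ⟨x1, n1, m1⟩ := n w1
  obtain ⟨x2, n2, m2⟩ := n w2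
  obtain ⟨x3, n3, m3⟩ := n w3
  refine ⟨_, qv_mem (u.a * σ (x3 + 1), u.b * σ (x2 + 1), u.c * σ (x1 + 1)), ?_⟩
  rintro _ ⟨c, hc, rfl⟩
  obtain ⟨d, hd, k0⟩ : ∃ d ∈ Q1 σ, pr d = (x1 * c.a, x2 * c.b, x3 * c.c) := ⟨_, qv_mem (_, _, _), rfl⟩
  have hs : sc r t (.refl K) d ∈ Q1 σ := by simp [mQ1, hd.1, hd.2]
  have e3 := e _ (mem_map_of_mem ev hd)
  rw [cj_mul2, cj_mul2, cj_mul2, w.cj, e1 _ hs, e1 _ hd, w.cj] at e3
  have k1 := (e2 d hd).trans k0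
  have k2 := e2 c hc
  simp only [pr, Prod.mk.injEq] at k0 k1 k2
  have z1 : (d * c)⁻¹ * sc r t (.refl K) d ∈ Z σ := (zq (mul_mem hd hc) hs).2 (by
    rw [pr_mul hc]; simp only [pr, k0, sc, RingEquiv.refl_apply, Prod.mk_add_mk, Prod.mk.injEq]; cg)
  have e4 := a _ (mul_mem hd hc) _ ⟨z1.2.2.2.1, z1.2.2.2.2⟩
  rw [mul_inv_cancel_left, z _ z1, a _ hd _ hc] at e4
  have e5 := congrArg Cd.d (h.inj (e3.trans (by rw [← map_inv, ← map_mul, ← map_mul])))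
  have k3 := m d hd
  have k4 := m c hc
  rw [e1 c hc]
  cs h [] at hu hc k3 k4 m1 m2 m3
  cs h [hu, k1, k3, w0] at e4 e5
  cs h [qv, hc, k2, k4]
  refine ⟨by ring, by ring, by ring, ?_⟩
  linear_combination e5 - e4 - u.a * σ c.c * m3 - u.b * σ c.b * m2 - u.c * σ c.a * m1 + σ u.c * c.a * n1 + σ u.b * c.b * n2 +
    σ u.a * c.c * n3
end

/-- the chunk TR -/
theorem tr : TR σ Γ p := fun L S A D ev M1 M2 h y e hD hB ⟨τ, hτ, wτ⟩ => by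
  choose π0 k0 using fun g : A => ex1 h (e.An g.2)
  let π : A →* AV K := .mk' π0 fun g g' => uq h (k0 _) ((k0 g).mul (k0 g'))
  have k : ∀ g : A, Ac ev g (π g) := k0
  have mA : ∀ u, ev u ∈ A := fun u => e.mA (h.mS u) (h.nQ1 (h.mS u))
  have bor : ∀ g : A, Bo (π g) → ∃ u : Cd σ, ∃ κ ∈ D, ∃ r t φ, Wt ev κ r t φ ∧ Dg σ ((uu u)⁻¹ * π g) r t φ := fun g b => by
    obtain ⟨_, hu, κ, hκ, r, t, φ, w, a⟩ := hB g g.2 ((k g).bo b)
    obtain ⟨u, -, rfl⟩ := h.ex hu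
    obtain ⟨δ, hδ⟩ := ex1 h (h.w1 w)
    exact ⟨u, κ, hκ, r, t, φ, w, by rw [uq h (k g) (((acU u).mul hδ).ag a), inv_mul_cancel_left]; exact dg h w hδ⟩
  obtain ⟨s1, ⟨n, hn⟩, s3⟩ := L π.range ⟨⟨by rintro _ ⟨u, rfl⟩; exact ⟨⟨_, mA u⟩, uq h (k _) (acU u)⟩, fun c => e.syl.2 (c.trans (by
      rw [π.range_eq_map, ← relIndex_comap, relIndex_top_right]
      refine index_dvd_of_le fun g hg => ?_
      obtain ⟨-, _, hu, a⟩ := mem_ai.1 (mem_subgroupOf.1 hg)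
      obtain ⟨u, -, rfl⟩ := h.ex hu
      exact ⟨u, uq h ((acU u).ag a) (k g)⟩))⟩,
    by rintro _ ⟨g, rfl⟩; exact fm h (k g), by rintro h2 _ ⟨g, rfl⟩; exact sq h h2 (k g),
    by rintro _ ⟨g, rfl⟩ b; exact let ⟨u, _, _, r, t, φ, w, d⟩ := bor g b; ⟨u, r, t, φ, w.r0, w.t0, d⟩,
    let ⟨g, hg, c⟩ := h.ne1 e; ⟨_, ⟨⟨g, hg⟩, rfl⟩, fun b => c ((k _).bo b)⟩, ⟨_, ⟨⟨τ, hτ⟩, rfl⟩, dg h wτ (k ⟨τ, hτ⟩)⟩⟩
  have t1 : ∀ ν, ν ≠ 0 → ∃ κ ∈ D, W0 ev κ 1 ν := fun ν hν => by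
    obtain ⟨_, ⟨g, rfl⟩, d⟩ := s1 ν hν
    obtain ⟨u, κ, hκ, r, t, φ, w, d'⟩ := bor g fun c => by simp [d _]
    have q : ∀ v, π g v = uu u (((uu u)⁻¹ * π g) v) := fun v => by rw [← LinearEquiv.mul_apply, mul_inv_cancel_left]
    have q1 : ∀ a, ν * a = r * φ a := fun a => by simpa [d _, d' _, uu_ap] using congrArg (·.1) (q (a, 0, 0))
    have q2 : ν = r := by simpa using q1 1
    have q3 := congrArg (·.2.1) (q (0, 1, 0))
    simp only [d _, d' _, uu_ap, map_zero, map_one, mul_zero, zero_mul, sub_zero, mul_one, ← q2] at q3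
    obtain rfl : φ = .refl K := RingEquiv.ext fun a => (mul_left_cancel₀ hν (q2 ▸ q1 a)).symm
    exact ⟨κ, hκ, by simpa [W0, q2 ▸ mul_left_cancel₀ hν q3, q2] using w⟩
  refine ⟨t1, ?_, fun g hg => (s3 _ ⟨⟨g, hg⟩, rfl⟩).imp (k _).bo fun ⟨u, b⟩ =>
    ⟨_, h.mS u, (((acM y).mul (acU u)).mul (k ⟨g, hg⟩)).bo b⟩⟩
  obtain ⟨ν, hν⟩ := IV.ne (σ := σ)
  have ν0 : ν ≠ 0 := fun e => hν (by simp [e])
  have ν1 := sn (σ := σ) ν0
  obtain ⟨a, ha, wa⟩ := t1 ν ν0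
  obtain ⟨b, hb, wb⟩ := t1 _ (inv_ne_zero ν1)
  have ag : Agree ((Q1 σ).map ev) (M1 * a) (b * M1) := by
    rintro _ ⟨c, hc, rfl⟩
    rw [cj_mul2, cj_mul2, wa.cj, y.f1 c hc.1 hc.2, wb.cj, y.f1 _ (by simp [hc.1]) (by simp [hc.2])]
    cs h [map_div₀, map_inv₀, map_pow]
    refine ⟨?_, ?_, ?_, ?_⟩ <;> field_simp
  have kn : Ac ev n n1 := hn ▸ k n
  have kβ : Ac ev (M1⁻¹ * n) 1 := by
    rw [y.i1, ← show n1 * n1 = (1 : AV K) from LinearEquiv.ext fun v => by simp [n1_ap]]; exact (acM y).mul kn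
  let a' : A := ⟨a, hD ha⟩
  let b' : A := ⟨b, hD hb⟩
  have x1 : π (n * a' * (b' * n)⁻¹) = 1 := by
    rw [map_mul, map_inv, mul_inv_eq_one, map_mul, map_mul, hn]
    exact uq h ((acM y).mul (k a')) (((k b').mul (acM y)).ag ag)
  obtain ⟨-, u0, hu, x2⟩ := mem_ai.1 (h.in1 e (n * a' * (b' * n)⁻¹).2 (by
    rintro _ ⟨c, hc, rfl⟩
    obtain ⟨c', h1, e1, e2⟩ := k (n * a' * (b' * n)⁻¹) c hc
    rw [e1, ← map_inv, ← map_mul, h.mm]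
    rw [x1] at e2
    simp only [pr, LinearEquiv.coe_one, id, Prod.mk.injEq] at e2
    simp [mZ, e2, hc.1, hc.2, h1.1, h1.2]))
  obtain ⟨u, hu', eu⟩ := conj_mem_of_mem_nz' (h.n1 y) hu
  obtain ⟨u1, h1, x3⟩ := inn h kβ wa (by simp only [map_div₀, map_mul, map_pow, map_one, ss]; field_simp)
    (fun e => hν (by simp [show ν = 1 by simpa using e])) (fun e => hν (by field_simp at e; exact e))
    (fun e => hν (by
      simp only [map_div₀, map_mul, map_pow, map_one, ss] at e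
      field_simp at e
      have := congrArg σ e
      rw [ss, map_one] at this
      rw [← e, this])) hu' fun w hw => by
    have e1 := x2 _ (conj_mem_of_mem_nz (e.An (b' * n).2) hw)
    have e2 := ag _ (conj_mem_of_mem_nz (mul_mem (inv_mem (h.n1 y)) (e.An n.2)) hw)
    simp only [coe_mul, coe_inv, a', b'] at e1
    calc _ = M1⁻¹ * (n * a * (b * n)⁻¹ * (b * n * w * (b * n)⁻¹) * (n * a * (b * n)⁻¹)⁻¹) * M1 := by group
      _ = M1⁻¹ * (u0 * (b * M1 * (M1⁻¹ * n * w * (M1⁻¹ * n)⁻¹) * (b * M1)⁻¹) * u0⁻¹) * M1 := by rw [e1]; group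
      _ = _ := by rw [← e2, eu]; group
  simpa using mul_mem n.2 (inv_mem (e.PA (x3.mem_ai (le_ai_self _ (mem_map_of_mem ev h1)))))

end H22.PU
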