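/-
Fusion systems on a Sylow `p`-subgroup of `PSU₅(q)`: the Weyl element on `Q₂` (chunk N2).
-/
import Cfsg.Agent.H8.PU3

set_option autoImplicit false
set_option linter.unusedSectionVars false

namespace H22.PU
open Subgroup H25 H25.FS H8.PU H8.PU.Cd
universe u v
variable {K : Type v} [Field K] [Finite K] {σ : K →+* K} [IV σ] {Γ : Type u} [Group Γ] [Finite Γ] {p : ℕ} [Fact p.Prime]
  [CharP K p] {S X : Subgroup Γ} {ev : Cd σ →* Γ} {β : Γ}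

/-- `Z(Q₂) = [Q₂, Q₂]` -/
theorem cmA (h : Co S ev) (cm : ∀ c c' : Cd σ, c.a = 0 → c'.a = 0 → ev c * ev c' * (ev c)⁻¹ * (ev c')⁻¹ ∈ X) :
    (A0 σ).map ev ≤ X := by
  have z1 : (Z σ).map ev ≤ X := h.Zle' fun _ _ => cm _ _ rfl rfl
  have z2 : (Z2 σ).map ev ≤ X := h.up z1 fun u hu => ⟨_, cm (xx 1) (xb u.c) rfl rfl, by cs h [] at hu; cs h [hu]; cg⟩
  exact h.up z2 fun u hu => let ⟨z, e⟩ := ex_sk (h.skY hu.2.2) (one_ne_zero (α := K))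
    ⟨_, cm (xx 1) (xx z) rfl rfl, by cs h [] at hu e; cs h [hu, ← e]; cg⟩
theorem ex_inv {x : K} (k : x ≠ 1) : ∃ y, x * y = y + 1 ∧ σ x * σ y = σ y + 1 := by
  have e : x * (x - 1)⁻¹ = (x - 1)⁻¹ + 1 := by have := sub_ne_zero.2 k; field_simp; ring
  exact ⟨_, e, by simpa only [map_mul, map_add, map_one] using congrArg σ e⟩

/-- an automorphism trivial on `Q₂ / Z(Q₂)` that commutes with the torus modulo inner ones is inner -/
theorem inn2 (h : Co S ev) (k : ∀ c : Cd σ, c.a = 0 → ∃ c' : Cd σ, (c'.a = 0 ∧ c'.b = c.b ∧ c'.x = c.x) ∧ β * ev c * β⁻¹ = ev c')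
    (w : ∀ l ν, l ≠ 0 → ν ≠ 0 → ∃ τ, ∃ u ∈ Q2 σ, W0 ev τ l ν ∧ Agree ((Q2 σ).map ev) (β * τ) (ev u * τ * β)) :
    ∃ u ∈ Q2 σ, Agree ((Q2 σ).map ev) β (ev u) := by
  choose! F m e1 using k
  have z : ∀ c ∈ A0 σ, β * ev c * β⁻¹ = ev c := fun c hc => mul_inv_eq_iff_eq_mul.2 (mem_centralizer_singleton_iff.1
    (cmA h (X := centralizer {β}) (fun c c' k k' => mem_centralizer_singleton_iff.2 (mul_inv_eq_iff_eq_mul.1 (by
      rw [cj_cm, e1 c k, e1 c' k']; cs h [k, k', m c k, m c' k']; cg)).symm) (mem_map_of_mem ev hc))).symm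
  have a : ∀ c c' d : Cd σ, c.a = 0 → c'.a = 0 → d.a = 0 → d.b = c.b + c'.b → d.x = c.x + c'.x →
      (F d).c - d.c = (F c).c - c.c + ((F c').c - c'.c) ∧ (F d).d - d.d = (F c).d - c.d + ((F c').d - c'.d) ∧
        (F d).y - d.y = (F c).y - c.y + ((F c').y - c'.y) := fun c c' d k k' k0 k1 k2 => by
    have := e1 d k0
    rw [show ev d = ev c * ev c' * ev ((c * c')⁻¹ * d) by simp [mul_assoc], cj_mul', cj_mul', e1 c k, e1 c' k',
      z _ (by cs h [k, k', k0, k1, k2]; cg)] at this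
    cs h [k, k', k0, k1, k2, m c k, m c' k', m d k0] at this
    obtain ⟨-, q1, q2, q3⟩ := this
    exact ⟨by linear_combination -q1, by linear_combination -q2, by linear_combination -q3⟩
  have w2 : ∀ l ν s t, l ≠ 0 → ν ≠ 0 → s * ν = l * σ ν → t * (l * ν ^ 2) = σ ν → ∃ ub ux, ∀ c d : Cd σ, c.a = 0 → d.a = 0 →
      d.b = s * c.b → d.x = t * c.x → (F d).c - d.c = s * σ t * ((F c).c - c.c) - ub * σ d.x + d.b * σ ux ∧
        (F d).d - d.d = s * σ s * ((F c).d - c.d) - ub * σ d.b + d.b * σ ub ∧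
          (F d).y - d.y = t * σ t * ((F c).y - c.y) - ux * σ d.x + d.x * σ ux := fun l ν s t l0 ν0 hs ht => by
    obtain ⟨τ, u, hu, w, e⟩ := w l ν l0 ν0
    rw [W0, ← eq_div_of_mul_eq (by simp [l0, ν0]) ht] at w
    obtain rfl : s = l ^ 2 * ν * t := mul_right_cancel₀ ν0 (by linear_combination hs - l * ht)
    generalize l ^ 2 * ν = r at *
    refine ⟨u.b, u.x, fun c d k k0 k1 k2 => ?_⟩
    have e3 := e _ (mem_map_of_mem ev (show c ∈ Q2 σ from k))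
    have k3 : (sc r t (.refl K) c).a = 0 := by simp [k]
    rw [cj_mul2, cj_mul2, cj_mul2, w.cj, e1 _ k3, e1 _ k, w.cj] at e3
    have e4 := a _ 1 d k3 rfl k0 (by simp [k1]) (by simp [k2])
    rw [h.inj ((e1 1 rfl).symm.trans (z 1 (one_mem _)))] at e4
    cs h [mQ2.1 hu, k, m c k, m _ k3] at e3 e4
    cs h [k1, k2]
    obtain ⟨-, q1, q2, -, q3⟩ := e3
    exact ⟨by linear_combination q1 + e4.1, by linear_combination q2 + e4.2.1, by linear_combination q3 + e4.2.2⟩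
  obtain ⟨ν, hν⟩ := IV.ne (σ := σ)
  have ν0 : ν ≠ 0 := fun e => hν (by simp [e])
  have ν1 := sn (σ := σ) ν0
  obtain ⟨ub, ux, w3⟩ := w2 (ν / σ ν) 1 (ν / σ ν) (σ ν / ν) (div_ne_zero ν0 ν1) one_ne_zero (by simp) (by field_simp; simp)
  obtain ⟨x1, n1, m1⟩ := ex_inv (σ := σ) (x := ν / σ ν) fun e => hν (by field_simp at e; exact e.symm)
  obtain ⟨x2, n2, m2⟩ := ex_inv (σ := σ) (x := σ ν / ν) fun e => hν (by field_simp at e; exact e)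
  have s1 : ν / σ ν * σ (ν / σ ν) = 1 := by rw [map_div₀, ss]; field_simp
  have s2 : σ ν / ν * σ (σ ν / ν) = 1 := by rw [map_div₀, ss]; field_simp
  generalize ν / σ ν = s, σ ν / ν = t at *
  obtain ⟨wb, wx, w4⟩ : ∃ wb wx, ∀ c : Cd σ, c.a = 0 → (F c).d - c.d = c.b * σ wb - wb * σ c.b ∧
      (F c).y - c.y = c.x * σ wx - wx * σ c.x := ⟨ub * σ (x1 + 1), ux * σ (x2 + 1), fun c k => by
    obtain ⟨c1, k1, k2, k3⟩ : ∃ c1 : Cd σ, c1.a = 0 ∧ c1.b = x1 * c.b ∧ c1.x = x2 * c.x := ⟨el 0 _ 0 _, rfl, rfl, rfl⟩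
    obtain ⟨d, k4, k5, k6⟩ : ∃ d : Cd σ, d.a = 0 ∧ d.b = s * c1.b ∧ d.x = t * c1.x := ⟨el 0 _ 0 _, rfl, rfl, rfl⟩
    have e3 := w3 c1 d k1 k4 k5 k6
    have e4 := a c1 c d k1 k k4 (by grind) (by grind)
    cs h [k2, k3, k5, k6, s1, s2] at e3 ⊢
    exact ⟨by linear_combination e3.2.1 - e4.2.1 - ub * σ c.b * m1 + σ ub * c.b * n1,
      by linear_combination e3.2.2 - e4.2.2 - ux * σ c.x * m2 + σ ux * c.x * n2⟩⟩
  obtain ⟨μ, μ0, hμ⟩ := ex_mu (σ := σ)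
  have μ1 := sn (σ := σ) μ0
  obtain ⟨ub, ux, w5⟩ := w2 (μ / σ μ) μ 1 (σ μ ^ 2 / μ ^ 3) (div_ne_zero μ0 μ1) μ0 (by field_simp) (by field_simp)
  obtain ⟨vb, vx, w6⟩ := w2 (σ μ / μ ^ 2) μ (σ μ ^ 2 / μ ^ 3) 1 (by simp [μ0, μ1]) μ0 (by field_simp) (by field_simp)
  have r0 : σ μ ^ 2 / μ ^ 3 ≠ 0 := by simp [μ0, μ1]
  have r1 : 1 - σ μ ^ 2 / μ ^ 3 ≠ 0 := sub_ne_zero.2 fun e => hμ (by field_simp at e; exact e)
  generalize σ μ ^ 2 / μ ^ 3 = r at *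
  have r2 := sn (σ := σ) r1
  have u1 : ux = (1 - r) * wx := sub_eq_zero.1 ((mul_eq_zero.1 (sk_of (σ := σ) (a := (ux - (1 - r) * wx) * σ r) fun x => by
    have e3 := (w5 (xx x) (xx (r * x)) rfl rfl (by simp) rfl).2.2
    rw [(w4 _ rfl).2, (w4 _ rfl).2] at e3
    cs h [] at e3 ⊢
    linear_combination -e3)).resolve_right (sn r0))
  have u2 : vb = (1 - r) * wb := sub_eq_zero.1 ((mul_eq_zero.1 (sk_of (σ := σ) (a := (vb - (1 - r) * wb) * σ r) fun x => by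
    have e3 := (w6 (xb x) (xb (r * x)) rfl rfl rfl (by simp)).2.1
    rw [(w4 _ rfl).1, (w4 _ rfl).1] at e3
    cs h [] at e3 ⊢
    linear_combination -e3)).resolve_right (sn r0))
  refine ⟨el 0 wb 0 wx, rfl, ?_⟩
  rintro _ ⟨c, hc, rfl⟩
  have k : c.a = 0 := hc
  have e3 := (w5 (xb c.b) (xb c.b) rfl rfl (by simp) (by simp)).1
  have e4 := (w6 (xx c.x) (xx c.x) rfl rfl (by simp) (by simp)).1
  have e5 := (a (xb c.b) (xx c.x) c rfl rfl k (by simp) (by simp)).1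
  have e6 := w4 c k
  cs h [u1, u2] at e3 e4 e5 r2
  have e7 : (F (xb c.b)).c = c.b * σ wx := mul_left_cancel₀ r2 (by linear_combination e3)
  have e8 : (F (xx c.x)).c = -wb * σ c.x := mul_left_cancel₀ r1 (by linear_combination e4)
  rw [e1 c k]
  cs h [k, m c k]
  exact ⟨by ring, by linear_combination e5 + e7 + e8, by linear_combination e6.1, by ring, by linear_combination e6.2⟩

/-- the chunk N2 -/
theorem n2 : N2 σ Γ p := fun S A ev M1 M2 h y e hT ⟨g, hg, kg⟩ => by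
  obtain ⟨τ, hτ, w⟩ := hT 1 (-1) one_ne_zero (by simp)
  obtain ⟨n, hn, kn⟩ : ∃ n ∈ A, ∀ c : Cd σ, c.a = 0 → ∃ c' : Cd σ, (c'.a = 0 ∧ c'.b = c.x ∧ c'.x = c.b) ∧ n * ev c * n⁻¹ = ev c' :=
    ⟨_, mul_mem hτ hg, fun c k => by
      obtain ⟨c1, k1, e1⟩ := conj_mem_of_mem_nz (e.An hg) (mem_map_of_mem ev (show c ∈ Q2 σ from k))
      refine ⟨_, ?_, by rw [cj_mul2, ← e1, w.cj]⟩
      simp [mQ2.1 k1, kg c c1 k e1.symm]⟩
  obtain ⟨u1, h1, x3⟩ := inn2 h (β := M2⁻¹ * n) (fun c k => let ⟨c1, k1, e1⟩ := kn c k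
    ⟨m2 c1, ⟨rfl, k1.2.2, k1.2.1⟩, by rw [y.i2, cj_mul2, e1, y.f2 _ k1.1]⟩) fun l ν l0 ν0 => by
    have ν1 := sn (σ := σ) ν0
    have l1 := sn (σ := σ) l0
    obtain ⟨a, ha, wa⟩ := hT l ν l0 ν0
    obtain ⟨b, hb, wb⟩ := hT (l * ν)⁻¹ ν (by simp [l0, ν0]) ν0
    have ag : Agree ((Q2 σ).map ev) (M2 * a) (b * M2) := by
      rintro _ ⟨c, hc, rfl⟩
      have k : c.a = 0 := hc
      rw [cj_mul2, cj_mul2, wa.cj, y.f2 c k, wb.cj, y.f2 _ (by simp [k])]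
      cs h [map_div₀, map_inv₀, map_pow, k]
      refine ⟨?_, ?_, ?_, ?_, ?_⟩ <;> field_simp
    have bn := e.An (mul_mem hb hn)
    obtain ⟨-, u0, hu, x2⟩ := mem_ai.1 (h.in2 e (mul_mem (mul_mem hn ha) (inv_mem (mul_mem hb hn))) fun w hw => by
      obtain ⟨c, hc, e1⟩ := conj_mem_of_mem_nz' bn hw
      obtain ⟨c1, k1, e2⟩ := kn c hc
      obtain ⟨c2, k2, e3⟩ := kn (sc _ _ _ c) (by simp [mQ2.1 hc])
      rw [show w = b * (n * ev c * n⁻¹) * b⁻¹ by rw [e1]; group, show ∀ x, n * a * (b * n)⁻¹ * (b * (n * x * n⁻¹) * b⁻¹) *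
        (n * a * (b * n)⁻¹)⁻¹ = n * (a * x * a⁻¹) * n⁻¹ from fun x => by group, wa.cj, e3, e2, wb.cj]
      cs h [k1, k2]
      constructor <;> field_simp <;> ring)
    obtain ⟨u, hu', eu⟩ := conj_mem_of_mem_nz' (h.n2 y) hu
    refine ⟨a, u, hu', wa, fun w hw => ?_⟩
    have e1 := x2 _ (conj_mem_of_mem_nz bn hw)
    have e2 := ag _ (conj_mem_of_mem_nz (mul_mem (inv_mem (h.n2 y)) (e.An hn)) hw)
    calc _ = M2⁻¹ * (n * a * (b * n)⁻¹ * (b * n * w * (b * n)⁻¹) * (n * a * (b * n)⁻¹)⁻¹) * M2 := by group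
      _ = M2⁻¹ * (u0 * (b * M2 * (M2⁻¹ * n * w * (M2⁻¹ * n)⁻¹) * (b * M2)⁻¹) * u0⁻¹) * M2 := by rw [e1]; group
      _ = _ := by rw [← e2, eu]; group
  simpa using mul_mem hn (inv_mem (e.PA (x3.mem_ai (le_ai_self _ (mem_map_of_mem ev h1)))))

end H22.PU
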