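/-
Fusion systems on a Sylow `p`-subgroup of `PSU₅(q)`: characteristic subgroups and automorphisms of `S` (chunk CH).
-/
import Cfsg.Agent.H8.PU3

set_option autoImplicit false
set_option linter.unusedSectionVars false

namespace H22.PU
open Subgroup H25 H25.FS H8.PU H8.PU.Cd
universe u v
variable {K : Type v} [Field K] [Finite K] {σ : K →+* K} [IV σ] {Γ : Type u} [Group Γ] [Finite Γ]
  {S : Subgroup Γ} {ev : Cd σ →* Γ} {g : Γ}

section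
variable (h : Co S ev) (hg : g ∈ nz S)
include h hg
theorem gZ : g ∈ nz ((Z σ).map ev) := nz_of_cz (fun w => ⟨fun k => ⟨h.le _ k, h.cS1.symm.cz k⟩, fun ⟨k1, k2⟩ => by
  ob h k1 c hc
  have e1 := mem_cz'.1 k2 _ (h.mS (xa 1))
  have e2 := mem_cz'.1 k2 _ (h.mS (xx 1))
  have e3 : c.c = 0 := sk_of (σ := σ) fun z => by
    have := mem_cz'.1 k2 _ (h.mS (xa z))
    cs h [] at this e1 e2; grind
  cs h [] at e1 e2 ⊢; grind⟩) hg hg
theorem gZ2 : g ∈ nz ((Z2 σ).map ev) := nz_of_char (fun w => ⟨fun k => ⟨h.le _ k, h.cS2.symm w k⟩, fun ⟨k1, k2⟩ => by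
  ob h k1 c hc
  have e1 := k2 _ (h.mS (xa 1))
  have e2 := k2 _ (h.mS (xx 1))
  cs h [] at e1 e2 ⊢; grind⟩) hg hg (gZ h hg)
theorem gZ3 : g ∈ nz ((Z3 σ).map ev) := nz_of_char (fun w => ⟨fun k => ⟨h.le _ k, h.cS3.symm w k⟩, fun ⟨k1, k2⟩ => by
  ob h k1 c hc
  have e1 := k2 _ (h.mS (xa 1))
  have e2 := k2 _ (h.mS (xx 1))
  cs h [] at e1 e2 ⊢; grind⟩) hg hg (gZ2 h hg)
theorem gQ2 : g ∈ nz ((Q2 σ).map ev) :=
  nz_of_cz (fun _ => ⟨fun k => ⟨h.le _ k, cz_anti (by sl h) (h.c2A.cz k)⟩, fun k => h.cZ2 k.1 k.2⟩) hg (gZ2 h hg)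
theorem gR1 : g ∈ nz ((R1 σ).map ev) := nz_of_on (fun w => ⟨fun k => ⟨h.le _ k, fun o => by
    obtain ⟨ε, e0, e1⟩ := ex_ep σ
    obtain ⟨x, hx, e⟩ := o (ev (xy ε e1)) (by cs h [])
    ob h k c hc
    ob h hx d hd
    cs h [mR1.1 hc] at e
    grind⟩, fun ⟨k1, k2⟩ => by
  ob h k1 c hc
  refine h.mm.2 (by_contra fun c0 => k2 ?_)
  rintro _ ⟨d, hd, rfl⟩
  obtain ⟨z, e⟩ := ex_sk (h.skY hd.2) c0
  obtain ⟨a, e'⟩ : ∃ a, a * c.x = c.a * z - d.b := ⟨_, div_mul_cancel₀ _ c0⟩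
  refine ⟨_, h.mS (el a 0 0 z), ?_⟩
  cs h [] at hd
  cs h [hd]
  cg⟩) hg hg (gZ3 h hg) (gZ2 h hg)
theorem gQ1 : g ∈ nz ((Q1 σ).map ev) := nz_of_on (fun w => ⟨fun k => ⟨(by sl h : (Q1 σ).map ev ≤ (R1 σ).map ev) k, fun o => by
    ob h k c hc
    obtain ⟨x, hx, e⟩ := o (ev (xc 1)) (by cs h [])
    obtain ⟨x', hx', e'⟩ := o (ev (xc (c.a * th σ))) (by cs h [])
    ob h hx d hd
    ob h hx' d' hd'
    have k1 := h.skY hd'
    have k2 := s_th (σ := σ)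
    cs h [] at hc hd hd'
    cs h [hc, hd, hd'] at e e'
    have : d'.y = th σ := by grind
    grind⟩, fun ⟨k1, k2⟩ => by
  ob h k1 c hc
  refine h.mm.2 ⟨hc, by_contra fun c0 => k2 ?_⟩
  rintro _ ⟨d, hd, rfl⟩
  obtain ⟨a, e'⟩ : ∃ a, a * c.y = -d.c := ⟨_, div_mul_cancel₀ _ c0⟩
  refine ⟨ev (xa a), by cs h [], ?_⟩
  cs h [] at hd hc
  cs h [hd, hc]
  cg⟩) (gR1 h hg) (gR1 h hg) (gZ2 h hg) (gZ h hg)
end

/-- the chunk CH -/
theorem ch : CH σ Γ := fun S ev h g hg => by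
  refine ⟨gZ2 h hg, gZ3 h hg, gQ1 h hg, gQ2 h hg, ?_⟩
  choose f1 k1 h1 using fun a => conj_mem_of_mem_nz (gR1 h hg) (show ev (xa a) ∈ (R1 σ).map ev by cs h [])
  choose f2 k2 h2 using fun a => conj_mem_of_mem_nz (gQ2 h hg) (show ev (xx a) ∈ (Q2 σ).map ev by cs h [])
  choose f3 k3 h3 using fun a => conj_mem_of_mem_nz (gZ3 h hg) (show ev (xb a) ∈ (Z3 σ).map ev by cs h [])
  cs h [] at k1 k2 k3
  have cj : ∀ a b : Γ, g * (a⁻¹ * b) * g⁻¹ = (g * a * g⁻¹)⁻¹ * (g * b * g⁻¹) := fun a b => by group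
  have m : ∀ a x, (f3 (a * x)).b = (f1 a).a * (f2 x).x := fun a x => by
    have := conj_mem_of_mem_nz (gZ2 h hg) (x := (ev (xb (a * x)))⁻¹ * (ev (xa a) * ev (xx x) * (ev (xa a))⁻¹ * (ev (xx x))⁻¹))
      (by cs h []; cg)
    rw [cj, cj_cm, ← h1, ← h2, ← h3] at this
    cs h [k1, k2, k3] at this; grind
  have ad : ∀ a x, (f3 (a + x)).b = (f3 a).b + (f3 x).b := fun a x => by
    have := conj_mem_of_mem_nz (gZ2 h hg) (x := (ev (xb (a + x)))⁻¹ * (ev (xb a) * ev (xb x))) (by cs h []; cg)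
    rw [cj, cj_mul', ← h3, ← h3, ← h3] at this
    cs h [k3] at this; grind
  have n1 := not_cj (w := ev (xa 1)) (gQ2 h hg) (by cs h []; simp)
  have n2 := not_cj (w := ev (xx 1)) (gR1 h hg) (by cs h []; simp)
  rw [← h1] at n1
  rw [← h2] at n2
  cs h [] at n1 n2
  have n3 : (f3 1).b ≠ 0 := by have := m 1 1; grind
  let φ : K →+* K := ⟨⟨⟨fun v => (f3 v).b / (f3 1).b, div_self n3⟩, fun a v => by
    have := m a v; have := m a 1; have := m 1 v; have := m 1 1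
    grind⟩, by have := ad 0 0; grind, fun a v => by simp only [ad, add_div]⟩
  refine ⟨(f1 1).a, (f2 1).x, RingEquiv.ofBijective φ (Finite.injective_iff_bijective.1 φ.injective), n1, n2, fun c c' e => ?_⟩
  have := conj_mem_of_mem_nz (gZ3 h hg) (x := (ev c)⁻¹ * (ev (xa c.a) * ev (xx c.x))) (by cs h [])
  rw [cj, cj_mul', ← h1, ← h2, e] at this
  cs h [k1, k2] at this
  show _ = _ * ((f3 c.a).b / (f3 1).b) ∧ _ = _ * ((f3 c.x).b / (f3 1).b)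
  have := m c.a 1; have := m 1 c.x; have := m 1 1
  grind

end H22.PU
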