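/-
Fusion systems on a Sylow `p`-subgroup of `PSU₄(q)`: the essential subgroups (chunk XE).
-/
import Cfsg.Agent.H7.PV2
import Cfsg.Agent.H8.PU5

set_option autoImplicit false
set_option linter.unusedSectionVars false
set_option linter.unusedVariables false

namespace H22.PV
open Subgroup H25 H25.FS H8.PU H7.PV H7.PV.Cu
universe u v
variable {K : Type v} [Field K] [Finite K] {σ : K →+* K} [IV σ] {Γ : Type u} [Group Γ] [Finite Γ] {p : ℕ} [Fact p.Prime]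
  [CharP K p] {S P A B D : Subgroup Γ} {ev : Cu σ →* Γ} {g v w : Γ} {a : K}

omit [CharP K p] in
theorem idx_on (hP : IsPGroup p P) (hv : v ∈ P) (hB : B ≤ nz P) (on : On v B D (fr P)) :
    (fr P).relIndex D ≤ P.relIndex B :=
  idx_le (fun u => v * u * v⁻¹ * u⁻¹) on fun u hu w _ k => by
    simpa [mul_assoc] using conj_mem_of_mem_nz (nz_le_nz_fr P (hB hu)) (cm_fr hP hv k)

section
variable (h : Cv S ev)
include h
theorem e2 (e : Es p S P A) (g : Gen S P A) (hP : ¬ P ≤ (Q2 σ).map ev) : (Z2 σ).map ev ≤ P := by_contra fun n => by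
  have z1 : (Z σ).map ev ≤ P := e.cP (h.le _) e.le h.cS1
  have n2 : (Z2 σ).map ev ≤ nz P := h.cS2.symm.nz' e.le z1
  have l2 : (Z2 σ).map ev ≤ (Q2 σ).map ev := by ul h
  by_cases z : zo p P ≤ (Q2 σ).map ev
  · exact n fun x hx => e.ch [zo p P] ⟨e.zo_n, trivial⟩ (h.le _ hx) (n2 hx)
      ⟨h.cS2.symm.cm hx e.le fun w hw => ⟨z1 hw, cz_anti e.le (h.cS1.symm.cz hw), h.pw2 ((by ul h : (Z σ).map ev ≤ _) hw)⟩,
        h.c22.cm (l2 hx) z bot_le⟩
  obtain ⟨v, ⟨hv, cv, -⟩, z⟩ := SetLike.not_le_iff_exists.1 z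
  obtain ⟨c, -, rfl⟩ := h.ex (e.le hv)
  us h [] at z
  have f := dff S P A _ ((Z σ).map ev) e g (h.le _) n2 n (h.cS2.mono (h.le _) le_rfl z1)
    (fun b hb => h.pw2 (p := p) (l2 hb) ▸ one_mem P) (h.cS2.symm.mono le_rfl e.le le_rfl) z1 (idx_on e.pP hv n2 (by
      rintro _ ⟨u, hu, rfl⟩
      obtain ⟨y, k⟩ := ex_ts u.sv z
      refine ⟨ev (xs y), by us h [], ?_⟩
      rw [show ev c * ev (xs y) * (ev c)⁻¹ * (ev (xs y))⁻¹ = ev u by
        rw [cm_eq]; us h [] at hu; us h [hu, ← k]; cg]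
      simp))
  have nz1 : ¬ (Z σ).map ev ≤ fr P := fun k => n (relIndex_eq_one.1 (f.eq ▸ relIndex_eq_one.2 k))
  have cm : ∀ u : Cu σ, ev u ∈ P → u.t * c.u = c.t * u.u := fun u hu => by
    have := mem_cz'.1 cv _ hu
    us h [] at this
    grind
  by_cases u0 : c.u = 0
  · have r : P ≤ (Q1 σ).map ev := fun u hu => by
      obtain ⟨u, -, rfl⟩ := h.ex (e.le hu)
      have := cm u hu
      us h [u0] at this ⊢
      grind
    refine (fx_lt σ).not_ge ((le_idx (fun s => ev (xs s)) (fun s => by us h []) fun s s' k => by_contra fun k0 => nz1 ?_).trans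
      (f.eq.symm.trans_le (idx_le' (fun l : Fx σ => ev (xv l.1 l.2)) ?_)))
    · refine h.up bot_le fun x hx => ?_
      obtain ⟨t, ht⟩ := ex_ts x.sv (sub_ne_zero.2 (Ne.symm k0))
      obtain ⟨_, ⟨u, hu, rfl⟩, k1⟩ := f.nm _ (h.mS (xt t)) (h.c11.nz' r z1 (by us h []))
      refine ⟨_, cm_fr e.pP k1 k, ?_⟩
      us h [] at hu hx ht
      us h [hu, hx, ← ht]
      cg
    · rintro _ ⟨u, hu, rfl⟩
      exact ⟨⟨u.v, u.sv⟩, by rw [show xv u.v u.sv = u from Cu.ext hu.1.symm hu.2.1.symm hu.2.2.symm rfl]; simp⟩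
  have c1 : P ≤ (C1 σ c.t).map ev := fun u hu => by
    obtain ⟨u, -, rfl⟩ := h.ex (e.le hu)
    have := cm u hu
    have k := congrArg σ this
    us h [] at k ⊢
    exact mul_right_cancel₀ u0 (by linear_combination σ c.t * this - c.t * k)
  have zz := e.cP (h.le _) c1 (h.cC1 z)
  obtain ⟨ε, ε0, hε⟩ := ex_ep σ
  obtain ⟨_, ⟨u, hu, rfl⟩, k⟩ := f.nm _ (h.mS (xt (ε * c.t))) (mem_nz_of_conj_mem fun u hu => by
    refine (mul_mem_cancel_right (inv_mem hu)).1 (zz ?_)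
    obtain ⟨u, -, rfl⟩ := h.ex (e.le hu)
    us h [hε]
    cg)
  rw [h.inv, h.mul] at k
  have := cm _ k
  us h [] at hu
  us h [hu] at this
  grind
/-- the centre of `C1 a` -/
theorem zC1 (ha : a ≠ 0) : w ∈ (Z1 σ a).map ev ↔ w ∈ (C1 σ a).map ev ∧ w ∈ cz ((C1 σ a).map ev) :=
  ⟨fun k => ⟨(by ul h : (Z1 σ a).map ev ≤ _) k, (h.cC1 ha).symm.cz k⟩, fun ⟨k1, k2⟩ => by
    have k3 := h.cZ2 (h.le _ k1) (cz_anti (by ul h) k2)
    uo h k1 c hc
    have := mem_cz'.1 k2 (ev (xt a)) (by us h []; ring)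
    us h [] at k3
    us h [k3] at this ⊢
    grind⟩
theorem nZ1 (ha : a ≠ 0) (hg : g ∈ nz ((C1 σ a).map ev)) : g ∈ nz ((Z1 σ a).map ev) := nz_of_cz (fun _ => zC1 h ha) hg hg
/-- `Q₂` is characteristic in `C1 a` in characteristic two -/
theorem nJ (two : (2 : K) = 0) (ha : a ≠ 0) (hg : g ∈ nz ((C1 σ a).map ev)) : g ∈ nz ((Q2 σ).map ev) :=
  nz_of_on (fun w => ⟨fun k => ⟨(by ul h : (Q2 σ).map ev ≤ _) k, fun on => by
    uo h k c hc
    obtain ⟨x, hx, k1⟩ := on (ev (xv 1 (map_one σ))) (by us h [])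
    obtain ⟨y, hy, k2⟩ := on (ev (xs a)) (by us h []; grind)
    uo h hx d hd
    uo h hy d' hd'
    us h [] at hc
    us h [hc] at k1 k2
    have u0 : c.u ≠ 0 := by grind
    have t0 : d.t = 0 := by grind
    us h [t0] at k1
    grind⟩, fun ⟨k1, k2⟩ => by_contra fun n => k2 (by
      uo h k1 c hc
      rintro _ ⟨y, hy, rfl⟩
      us h [] at n hc hy
      obtain ⟨l, l1, l2⟩ := ex_fx ha hc
      obtain ⟨m, m1, m2⟩ := ex_fx (σ := σ) (c := y.s) ha (by grind)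
      have l0 : l ≠ 0 := fun k => n (by simp [l2, k])
      have f : σ (m / l) = m / l := by rw [map_div₀, l1, m1]
      obtain ⟨s, hs⟩ := ex_ts (σ := σ) (v := y.v - c.t * σ c.t * (m / l)) (by us h [f]; ring) n
      refine ⟨ev ⟨0, m / l, s, 0, f, map_zero σ⟩, by us h [], ?_⟩
      have m3 : y.s = c.t * (m / l) := by rw [m2, l2]; field_simp
      generalize m / l = x at *
      us h [hy, m3, f]
      cg)⟩) hg hg (nZ1 h ha hg) (nz_bot g)
end

/-- the chunk XE -/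
theorem xe : XE σ Γ p := fun S P A ev h e g => by
  by_cases hQ : P ≤ (Q2 σ).map ev
  · exact .inr (.inl (le_antisymm hQ (e.cP (h.le _) hQ h.c22)))
  have h2 := e2 h e g hQ
  have nS : S ≤ nz P := h.nS h2 e.le
  have zf := h.frZ e.pP h2 e.le hQ
  by_cases h1 : P ≤ (Q1 σ).map ev
  · exact .inl (le_antisymm h1 fun x hx => e.ch [] trivial (h.le _ hx) (nS (h.le _ hx)) (h.c11.cm hx h1 zf))
  refine .inr (.inr ?_)
  have key : ¬ A ≤ nz ((Z2 σ).map ev) := fun a => e.nS fun x hx => e.ch [(Z2 σ).map ev] ⟨⟨h2, a⟩, trivial⟩ hx (nS hx)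
    ⟨h.cSS.cm hx e.le le_rfl, h.cS2.cm hx le_rfl zf⟩
  obtain ⟨_, k0, t0⟩ := SetLike.not_le_iff_exists.1 hQ
  obtain ⟨c0, -, rfl⟩ := h.ex (e.le k0)
  obtain ⟨_, k1, u1⟩ := SetLike.not_le_iff_exists.1 h1
  obtain ⟨c1, -, rfl⟩ := h.ex (e.le k1)
  us h [] at t0 u1
  have st := sn (σ := σ) t0
  have zp : ∀ u : Cu σ, ev u ∈ cz P → u ∈ Z2 σ ∧ ∀ c : Cu σ, ev c ∈ P → c.t * σ u.s + σ c.t * u.s = 0 := fun u hu => by
    have a := h.cZ2 (h.mS u) (cz_anti h2 hu)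
    have k := mem_cz'.1 hu _ k0
    us h [] at a
    us h [a] at k
    have y : u.u = 0 := by grind
    refine ⟨⟨a, y⟩, fun c hc => ?_⟩
    have k := mem_cz'.1 hu _ hc
    us h [a, y] at k
    grind
  by_cases! al : ¬ P ≤ (C1 σ c0.t).map ev
  · obtain ⟨_, k2, a2⟩ := SetLike.not_le_iff_exists.1 al
    obtain ⟨c2, -, rfl⟩ := h.ex (e.le k2)
    us h [] at a2
    have z1 : (Z σ).map ev ≤ (Z2 σ).map ev := by ul h
    have aZ : A ≤ nz ((Z σ).map ev) := fun g hg => nz_of_cz (fun w => ⟨fun k => ⟨h2 (z1 k), cz_anti e.le (h.cS1.symm.cz k)⟩,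
      fun ⟨k1, k3⟩ => by
        obtain ⟨u, -, rfl⟩ := h.ex (e.le k1)
        obtain ⟨k1, k3⟩ := zp u k3
        exact h.mm.2 ⟨k1.1, k1.2, (mul_eq_zero.1 (by linear_combination c2.t * k3 _ k0 - c0.t * k3 _ k2)).resolve_left
          (sub_ne_zero.2 a2)⟩⟩) (e.An hg) (e.An hg)
    refine (key fun g hg => nz_of_char (fun w => ⟨fun k => ⟨h2 k, h.cS2.symm.cm k e.le le_rfl⟩, fun ⟨k3, k⟩ => ?_⟩)
      (e.An hg) (e.An hg) (aZ hg)).elim
    obtain ⟨u, -, rfl⟩ := h.ex (e.le k3)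
    have q : ∀ c : Cu σ, ev c ∈ P → u.t * c.u = c.t * u.u := fun c hc => by
      have := k _ hc
      us h [] at this
      grind
    have u0 : u.u = 0 := by_contra fun n => a2 (mul_right_cancel₀ (mul_ne_zero n n) (by
      have q0 := congrArg σ (q _ k0)
      have q2 := congrArg σ (q _ k2)
      us h [] at q0 q2
      linear_combination -(c2.t * u.u) * q0 + c0.t * u.u * q2 - σ u.t * c0.u * q _ k2 + σ u.t * c2.u * q _ k0))
    exact h.mm.2 ⟨by simpa [u0, u1] using q _ k1, u0⟩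
  have f := dff S P A S ((Z2 σ).map ev) e g le_rfl nS e.nS (h.cSS.mono le_rfl le_rfl h2) (fun b hb => h2 (h.pwS hb))
    (h.cSS.mono le_rfl e.le le_rfl) h2 (idx_on e.pP k1 nS (by
      rintro _ ⟨u, hu, rfl⟩
      obtain ⟨ξ, hξ⟩ : ∃ ξ, u.s = -ξ * c1.u := ⟨-u.s / c1.u, by field_simp⟩
      refine ⟨ev (xt ξ), h.mS _, zf ?_⟩
      us h [] at hu
      us h [hu, hξ]
      cg))
  obtain rfl : P = (C1 σ c0.t).map ev := le_antisymm al fun t ht => by_contra fun n => by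
    have := f.nt (cz (P ⊓ cz P)) (fun g hg => mem_nz_cz (e.z_n.2 hg))
      (ai_cz inf_le_left (le_cz_comm.1 inf_le_right)) t (h.le _ ht) (nS (h.le _ ht)) n
      (cz_anti (fun w hw => by
        obtain ⟨u, -, rfl⟩ := h.ex (e.le hw.1)
        obtain ⟨k1, k2⟩ := zp u hw.2
        exact h.mm.2 ⟨k1.1, k1.2, by linear_combination k2 _ k0⟩) ((h.cC1 t0).cz ht))
    obtain ⟨ε, ε0, hε⟩ := ex_ep σ
    have m : ev (xs (ε * c0.t)) ∈ (Z1 σ c0.t).map ev := by us h [hε]; ring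
    refine mul_ne_zero ε0 t0 (ts0 (σ := σ) fun α => ?_)
    have k := mem_cz'.1 (this (e.mA (h.mS (xt α)) (nS (h.mS _)))) (ev (xs (ε * c0.t)))
      ⟨h2 (by us h []), cz_anti al ((h.cC1 t0).symm.cz m)⟩
    us h [] at k ⊢
    grind
  generalize c0.t = a at t0 st e g key h2 nS
  refine ⟨fun l hl => ?_, a, t0, rfl⟩
  by_cases two : (2 : K) = 0
  swap
  · refine (key fun g hg => ?_).elim
    rw [show (Z2 σ).map ev = (Z1 σ a).map ev ⊔ ⁅(C1 σ a).map ev, (C1 σ a).map ev⁆ from le_antisymm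
      (h.up le_sup_left fun x hx => ?_) (sup_le (by ul h) (commutator_le_iff'.2 (h.cSS.mono (h.le _) (h.le _) le_rfl)))]
    · exact mem_nz_sup (nZ1 h t0 (e.An hg)) (mem_nz.2 (by rw [cj_commutator, mem_nz.1 (e.An hg)]))
    obtain ⟨m, hm⟩ : ∃ m, 2 * (a * σ a) * m = σ a * x.s + a * σ x.s := ⟨_, mul_div_cancel₀ _ (by simp [two, t0, st])⟩
    have sm : σ m = m := mul_left_cancel₀ (show 2 * (a * σ a) ≠ 0 by simp [two, t0, st]) (by
      have := congrArg σ hm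
      us h [map_ofNat] at this
      linear_combination this - hm)
    refine ⟨_, mem_sup_right (commutator_mem_commutator (show ev (xt a) ∈ _ by us h []; ring)
      (show ev (xu m sm) ∈ _ by us h [])), ?_⟩
    us h [] at hx
    us h [commutatorElement_def, hx, sm]
    cg
  have aJ : A ≤ nz ((Q2 σ).map ev) := fun g hg => nJ h two t0 (e.An hg)
  have jP : (Q2 σ).map ev ≤ (C1 σ a).map ev := by ul h
  have as := g (stab _ ((Q2 σ).map ev)) (ai_le (fun s hs => mem_stab'.2 ⟨hs.2, h.cSS.cm hs.1 e.le (by ul h)⟩) (cz_le_stab _ _))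
    fun g hg => mem_nz_stab (e.An hg) (mem_nz_inf (e.An hg) (aJ hg))
  by_contra! n
  refine key fun g hg => mem_nz_of_conj_mem ?_
  rintro _ ⟨c, hc, rfl⟩
  have q : ∀ m, σ m = m → ∀ j ∈ (Q2 σ).map ev, g * (ev (xt (m * a)) * j * (ev (xt (m * a)))⁻¹ * j⁻¹) * g⁻¹ =
      ev (xt (m * a)) * (g * j * g⁻¹) * (ev (xt (m * a)))⁻¹ * (g * j * g⁻¹)⁻¹ := fun m hm j hj => by
    have k := mem_cz.1 (h.c22.cz (mem_stab.1 (as hg) |>.2 (ev (xt (m * a))) (by us h [hm]; ring))) _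
      (conj_mem_of_mem_nz (aJ hg) hj)
    rw [cj_cm]
    conv_rhs => enter [1, 1, 2]; rw [← k]
    group
  have j0 : ev c ∈ (Q2 σ).map ev := h.mm.2 hc.1
  have j1 : ev (xs (l * c.s)) ∈ (Q2 σ).map ev := by us h []
  have q1 := q 1 (map_one σ) _ j1
  have q2 := q l hl _ j1
  rw [show ev (xt (1 * a)) * ev (xs (l * c.s)) * (ev (xt (1 * a)))⁻¹ * (ev (xs (l * c.s)))⁻¹ = ev (xt (l * a)) * ev c *
    (ev (xt (l * a)))⁻¹ * (ev c)⁻¹ by us h [hc.1, hc.2, hl]; cg, q l hl _ j0] at q1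
  rw [show ev (xt (l * a)) * ev (xs (l * c.s)) * (ev (xt (l * a)))⁻¹ * (ev (xs (l * c.s)))⁻¹ = ev (xt (l * l * a)) * ev c *
    (ev (xt (l * l * a)))⁻¹ * (ev c)⁻¹ by us h [hc.1, hc.2, hl]; cg, q _ (by rw [map_mul, hl]) _ j0] at q2
  obtain ⟨d, hd, e1⟩ := conj_mem_of_mem_nz (aJ hg) j0
  obtain ⟨d', hd', e2⟩ := conj_mem_of_mem_nz (aJ hg) j1
  rw [← e1, ← e2] at q1 q2
  rw [← e1]
  us h [mQ2.1 hd, mQ2.1 hd', hl] at q1 q2 ⊢
  have u1 : d'.u = l * d.u := mul_left_cancel₀ t0 (by linear_combination -q1.1)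
  rw [u1] at q1 q2
  exact (mul_eq_zero.1 (by linear_combination q2.2 - l * q1.2)).resolve_left
    (mul_ne_zero (mul_ne_zero (pow_ne_zero 2 n.1) (pow_ne_zero 2 (sub_ne_zero.2 n.2))) (mul_ne_zero t0 st))

end H22.PV
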