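/-
Fusion systems on a Sylow `p`-subgroup of `PSU₄(q)`: automorphisms of `S` and of `C1 a` (chunks XC and XQ).
-/
import Cfsg.Agent.H22.PV1

set_option autoImplicit false
set_option linter.unusedSectionVars false
set_option linter.unusedVariables false
set_option linter.unusedSimpArgs false

namespace H22.PV
open Subgroup H25 H25.FS H8.PU H7.PV H7.PV.Cu
universe u v
variable {K : Type v} [Field K] [Finite K] {σ : K →+* K} [IV σ] {Γ : Type u} [Group Γ] [Finite Γ] {p : ℕ} [Fact p.Prime]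
  [CharP K p] {S P A : Subgroup Γ} {ev : Cu σ →* Γ} {g w : Γ} {a : K}

/-- an additive map that is semilinear over the fixed field and preserves norm and trace is multiplicative -/
theorem mul_of {f : K → K} (ha : ∀ x y, f (x + y) = f x + f y) (hm : ∀ l x, σ l = l → f (l * x) = f l * f x) (h1 : f 1 = 1)
    (hn : ∀ x, f (x * σ x) = f x * σ (f x)) (ht : ∀ x, f (x + σ x) = f x + σ (f x)) (x y : K) : f (x * y) = f x * f y := by
  by_cases k : σ y = y
  · rw [mul_comm, hm y x k, mul_comm]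
  have n := sub_ne_zero.2 k
  have n' : y - σ y ≠ 0 := sub_ne_zero.2 (Ne.symm k)
  obtain ⟨l, m, hl, hm', rfl⟩ : ∃ l m, σ l = l ∧ σ m = m ∧ x = l + m * y := ⟨(x * σ y - σ x * y) / (σ y - y),
    (σ x - x) / (σ y - y), by simp only [map_div₀, map_sub, map_mul, ss]; field_simp; ring,
    by simp only [map_div₀, map_sub, ss]; field_simp; ring, by field_simp; ring⟩
  have e := ha (y * y) (y * σ y)
  rw [show y * y + y * σ y = (y + σ y) * y by ring, hm _ _ (by rw [map_add, ss, add_comm]), ht, hn] at e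
  rw [add_mul, ha, ha, mul_assoc, hm l _ hl, hm m _ hm', hm m _ hm']
  linear_combination -f m * e

/-- the chunk XC -/
theorem xc : XC σ Γ := fun S ev h g hg => by
  have n1 : g ∈ nz ((Z σ).map ev) := nz_of_cz (fun w => ⟨fun k => ⟨h.le _ k, h.cS1.symm.cz k⟩, fun ⟨k1, k2⟩ => by
    have k3 := h.cZ2 k1 (cz_anti (h.le _) k2)
    uo h k3 c hc
    have k4 := fun z => mem_cz'.1 k2 _ (h.mS (xt z))
    us h [mQ2.1 hc] at k4
    have u0 : c.u = 0 := by have := k4 1; grind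
    exact h.mm.2 ⟨hc, u0, ts0 (σ := σ) fun z => by have := k4 z; grind⟩⟩) hg hg
  have n2 : g ∈ nz ((Z2 σ).map ev) := nz_of_char (fun w => ⟨fun k => ⟨h.le _ k, h.cS2.symm w k⟩, fun ⟨k1, k2⟩ => by
    uo h k1 c hc
    have k3 := k2 _ (h.mS (xt 1))
    have k4 := k2 _ (h.mS (xu 1 (map_one σ)))
    us h [] at k3 k4 ⊢
    grind⟩) hg hg n1
  have n4 : g ∈ nz ((Q2 σ).map ev) := nz_of_cz (fun _ => ⟨fun k => ⟨h.le _ k, cz_anti (by ul h) (h.c22.cz k)⟩,
    fun k => h.cZ2 k.1 k.2⟩) hg n2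
  have n3 : g ∈ nz ((Q1 σ).map ev) := nz_of_on (fun w => ⟨fun k => ⟨h.le _ k, fun on => by
    uo h k c hc
    have : c.t = 0 ∧ ∀ s, ∃ l, σ l = l ∧ s = c.t * l := by
      have q : ∀ s, ∃ l, σ l = l ∧ s = c.t * l := fun s => by
        obtain ⟨x, hx, k1⟩ := on (ev (xs s)) (by us h [])
        uo h hx d hd
        us h [mQ1.1 hc] at k1
        exact ⟨d.u, d.su, by grind⟩
      exact ⟨sk_of (σ := σ) fun s => by obtain ⟨l, l1, rfl⟩ := q s; rw [map_mul, l1]; ring, q⟩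
    simpa [this.1] using this.2 1⟩, fun ⟨k1, k2⟩ => by_contra fun n => k2 (by
      uo h k1 c hc
      rintro _ ⟨y, hy, rfl⟩
      us h [] at n hy
      obtain ⟨ξ, hξ⟩ : ∃ ξ, y.s = -ξ * c.u := ⟨-y.s / c.u, by field_simp⟩
      exact ⟨ev (xt ξ), h.mS _, by us h [hy, hξ]; cg⟩)⟩) hg hg n2 n1
  refine ⟨n1, n2, n3, n4, ?_⟩
  choose G _ e using fun c => h.ex (conj_mem_of_mem_nz hg (h.mS c))
  have mul : ∀ c d, G (c * d) = G c * G d := fun c d => h.inj (by rw [map_mul, e, e, e, map_mul, cj_mul'])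
  have n : ∀ {X : Subgroup (Cu σ)}, g ∈ nz (X.map ev) → ∀ {c}, G c ∈ X ↔ c ∈ X := fun k c =>
    ⟨fun a => h.mm.1 (by simpa [e, mul_assoc] using conj_mem_of_mem_nz' k (h.mm.2 a)),
      fun a => h.mm.1 (e c ▸ conj_mem_of_mem_nz k (h.mm.2 a))⟩
  have q1 := @n _ n3
  have q2 := @n _ n4
  have z1 := @n _ n1
  have z2 := @n _ n2
  have sp : ∀ c d, G d = G c * G (c⁻¹ * d) := fun c d => by rw [← mul, mul_inv_cancel_left]
  have cm : ∀ c d, G (c * d * c⁻¹ * d⁻¹) = G c * G d * (G c)⁻¹ * (G d)⁻¹ := fun c d => h.inj (by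
    simp only [map_mul, map_inv, e, cj_cm])
  obtain ⟨r, hr⟩ : ∃ r, (G (xt 1)).t = r := ⟨_, rfl⟩
  have r0 : r ≠ 0 := fun k => one_ne_zero (mQ2.1 (q2.1 (hr.trans k)))
  have r1 := sn (σ := σ) r0
  obtain ⟨f, hf⟩ : ∃ f : K → K, ∀ c, (G c).t = r * f c.t := ⟨fun a => (G (xt a)).t / r, fun c => by
    rw [sp (xt c.t) c, mul_t, mQ2.1 (q2.2 (show (xt c.t)⁻¹ * c ∈ Q2 σ by simp [mQ2])), add_zero, mul_div_cancel₀ _ r0]⟩
  have f1 : f 1 = 1 := mul_left_cancel₀ r0 ((hf (xt 1)).symm.trans (hr.trans (mul_one r).symm))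
  have ha : ∀ x y, f (x + y) = f x + f y := fun x y => mul_left_cancel₀ r0 ((hf (xt x * xt y)).symm.trans (by
    rw [mul, mul_t, hf, hf, mul_add]; rfl))
  have f0 : f 0 = 0 := by simpa using ha 0 0
  have a0 : ∀ x, f x = 0 → x = 0 := fun x k => q2.1 ((hf (xt x)).trans (by rw [xt_t, k, mul_zero]))
  have L : ∀ t u hu, (G (xs (t * u))).s = r * f t * (G (xu u hu)).u ∧ (G (xs (t * u))).v + (G (xv (t * σ t * u) (by
      simp only [map_mul, ss, hu]; ring))).v = r * f t * σ (G (xu u hu)).s + σ (r * f t) * (G (xu u hu)).s +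
        r * f t * σ (r * f t) * (G (xu u hu)).u := fun t u hu => by
    have k := cm (xt t) (xu u hu)
    rw [show xt t * xu u hu * (xt t)⁻¹ * (xu u hu)⁻¹ = xs (t * u) * xv (t * σ t * u) (by simp only [map_mul, ss, hu]; ring) by
      ext <;> us h [hu] <;> ring, mul] at k
    us h [hf, f0, mQ2.1 (q2.2 (show xu u hu ∈ Q2 σ from rfl)), mQ1.1 (q1.2 (show xt t ∈ Q1 σ from rfl)),
      mZ2.1 (z2.2 (show xs (t * u) ∈ Z2 σ from ⟨rfl, rfl⟩)), mZ.1 (z1.2 (show xv (t * σ t * u) _ ∈ Z σ from ⟨rfl, rfl, rfl⟩))]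
      at k ⊢
    exact ⟨by linear_combination k.1, by linear_combination k.2⟩
  obtain ⟨b, hb⟩ : ∃ b, (G (xu 1 (map_one σ))).u = b := ⟨_, rfl⟩
  have b0 : b ≠ 0 := fun k => one_ne_zero (mQ1.1 (q1.1 (hb.trans k)))
  have sb : σ b = b := hb ▸ su _
  have hs : ∀ s, (G (xs s)).s = r * f s * b := fun s => by simpa [hb] using (L s 1 (map_one σ)).1
  have hu : ∀ u hu, (G (xu u hu)).u = b * f u := fun u hu => mul_left_cancel₀ r0 (by
    have := (L 1 u hu).1
    rw [hs, one_mul, f1] at this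
    linear_combination -this)
  have hm : ∀ l x, σ l = l → f (l * x) = f l * f x := fun l x hl => mul_left_cancel₀ (mul_ne_zero r0 b0) (by
    have := (L x l hl).1
    rw [hs, hu, mul_comm x] at this
    linear_combination this)
  have sf : ∀ l, σ l = l → σ (f l) = f l := fun l hl => mul_left_cancel₀ b0 (by
    have := su (G (xu l hl))
    rwa [hu, map_mul, sb] at this)
  have hT : ∀ t s, (G (xv (t * σ s + σ t * s) (by simp only [map_add, map_mul, ss]; ring))).v =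
      r * σ r * b * (f t * σ (f s) + σ (f t) * f s) := fun t s => by
    rw [← show xt t * xs s * (xt t)⁻¹ * (xs s)⁻¹ = xv (t * σ s + σ t * s) (by simp only [map_add, map_mul, ss]; ring) by
      us h []; cg, cm]
    us h [hf, f0, hs, sb, mQ1.1 (q1.2 (show xt t ∈ Q1 σ from rfl)), mZ2.1 (z2.2 (show xs s ∈ Z2 σ from ⟨rfl, rfl⟩))]
    ring
  obtain ⟨ε, hε⟩ : ∃ ε, ∀ v hv, (G (xv v hv)).v = ε * f v := by
    obtain ⟨s, k⟩ := ex_ts (map_one σ) (one_ne_zero (α := K))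
    refine ⟨r * σ r * b * (σ (f s) + f s), fun v hv => ?_⟩
    have := hT v s
    simp only [hv, sf v hv, show v * σ s + v * s = v by rw [map_one] at k; linear_combination v * k] at this
    rw [this]; ring
  have L1 : ∀ t u hu, u ≠ 0 → f u * (G (xs t)).v + (ε * f (t * σ t) - r * σ r * b * (f t * σ (f t))) =
      r * f t * σ (G (xu u hu)).s + σ (r * f t) * (G (xu u hu)).s := fun t u k u0 => by
    obtain ⟨t, rfl⟩ : ∃ t', t = t' * u := ⟨t / u, by field_simp⟩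
    have := (L t u k).2
    rw [hε, hu] at this
    rw [show t * u * σ (t * u) = u * (t * σ t * u) by rw [map_mul, k]; ring, hm u _ k, show f (t * u) = f u * f t by
      rw [mul_comm, hm u _ k]]
    simp only [map_mul, sf u k] at this ⊢
    linear_combination f u * this
  have hn : ∀ t, ε * f (t * σ t) = r * σ r * b * (f t * σ (f t)) := fun t => by
    by_cases F : F2 σ
    · by_cases t0 : t = 0
      · simp [t0, f0]
      have N : σ (t * σ t) = t * σ t := by rw [map_mul, ss, mul_comm]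
      have f2 : f t ≠ 0 := mt (a0 t) t0
      rw [(F (ε * f (t * σ t)) (by rw [← hε _ N, sv])).resolve_left fun k => ?_, (F (r * σ r * b * (f t * σ (f t))) (by
        simp only [map_mul, ss, sb]; ring)).resolve_left (by simp [r0, r1, b0, f2])]
      have k1 := mZ.1 (z1.2 (show xv _ N ∈ Z σ from ⟨rfl, rfl, rfl⟩))
      have := e (xv _ N)
      rw [show G (xv _ N) = 1 from Cu.ext k1.1 k1.2.1 k1.2.2 ((hε _ N).trans k), map_one, eq_comm, mul_inv_eq_one,
        mul_eq_left] at this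
      us h [] at this
      exact mul_ne_zero t0 (sn t0) this
    obtain ⟨l, hl, l0, l1⟩ : ∃ l, σ l = l ∧ l ≠ 0 ∧ l ≠ 1 := by simpa [F2, not_or] using F
    have s1 : σ (1 - l) = 1 - l := by rw [map_sub, map_one, hl]
    have k1 := L1 t l hl l0
    have k2 := L1 t _ s1 (sub_ne_zero.2 l1.symm)
    have k3 := L1 t 1 (map_one σ) one_ne_zero
    have k4 := ha l (1 - l)
    have k5 := congrArg Cu.s (mul (xu l hl) (xu _ s1))
    rw [show xu l hl * xu _ s1 = xu 1 (map_one σ) by us h []; ring, mul_s, mQ2.1 (q2.2 (show xu l hl ∈ Q2 σ from rfl))] at k5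
    rw [add_sub_cancel] at k4
    rw [k5, k4] at k3
    simp only [map_add, map_mul, map_zero, zero_mul] at k1 k2 k3
    linear_combination k1 + k2 - k3
  have e0 : ε = r * σ r * b := by simpa [f1] using hn 1
  have m0 : r * σ r * b ≠ 0 := by simp [r0, r1, b0]
  let φ : K →+* K := .mk' ⟨⟨f, f1⟩, mul_of (σ := σ) ha hm f1 (fun x => mul_left_cancel₀ m0 (e0 ▸ hn x)) fun x =>
    mul_left_cancel₀ m0 (by simpa [hε, e0, f1] using hT x 1)⟩ ha
  refine ⟨r, b, .ofBijective φ (Finite.injective_iff_bijective.1 φ.injective), r0, b0, sb, fun c c' e1 => ?_⟩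
  rw [← h.inj ((e c).trans e1), hf, sp (xu c.u c.su) c, mul_u, mQ1.1 (q1.2 (show (xu c.u c.su)⁻¹ * c ∈ Q1 σ by simp [mQ1])),
    hu, add_zero]
  exact ⟨rfl, rfl⟩

/-- the chunk XQ -/
theorem xq : XQ σ Γ p := fun F S ev a h a0 => by
  have two := F.two
  have a1 := sn (σ := σ) a0
  have ta : ∀ c : Cu σ, c ∈ C1 σ a → c.t = 0 ∨ c.t = a := fun c hc =>
    let ⟨l, hl, e⟩ := ex_fx a0 hc; (F l hl).imp (fun k => by simp [e, k]) fun k => by simp [e, k]
  have xa : ev (xt a) ∈ (C1 σ a).map ev := by us h []; ring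
  have jP : (Q2 σ).map ev ≤ (C1 σ a).map ev := by ul h
  have zV : (Z1 σ a).map ev ≤ (V8 σ a).map ev := fun x hx => by uo h hx c hc; us h [] at hc; us h [hc]; grind
  have nV : nz ((C1 σ a).map ev) ≤ nz ((V8 σ a).map ev) := fun g hg => mem_nz_of_conj_mem (by
    rintro _ ⟨c, hc, rfl⟩
    by_cases t0 : c.t = 0
    · exact zV (conj_mem_of_mem_nz (nZ1 h a0 hg) (by us h [] at hc; us h [hc, t0]; grind))
    obtain ⟨d, hd, e⟩ := conj_mem_of_mem_nz hg (h.mm.2 hc.2.1)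
    have d0 := (ta d hd).resolve_left fun k => not_cj (nJ h two a0 hg) (mt h.mm.1 t0) (e ▸ h.mm.2 k)
    have k : ev d * ev d = 1 := by
      rw [e, ← cj_mul', show ev c * ev c = 1 by us h [] at hc; us h [hc, (ta c hc.2.1).resolve_left t0]; grind]; simp
    rw [← e]
    us h [d0] at k ⊢
    grind)
  have xj : ∀ g ∈ nz ((C1 σ a).map ev), ∃ d ∈ V8 σ a, d.t = a ∧ ev d = g * ev (xt a) * g⁻¹ := fun g hg =>
    let ⟨d, hd, e⟩ := conj_mem_of_mem_nz (nV hg) (h.mm.2 (show xt a ∈ V8 σ a by us h []; ring))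
    ⟨d, hd, (ta d hd.2.1).resolve_left fun k => not_cj (nJ h two a0 hg) (mt h.mm.1 a0) (e ▸ h.mm.2 k), e⟩
  refine ⟨fun g hg => ⟨nJ h two a0 hg, nV hg⟩, fun g hg => agree_iff.2 ?_, fun g hg => ?_, fun A e => ?_, fun w hw => ?_,
    CC.nz (by uc h), fun M1 M2 y => mem_nz_of_conj_mem ?_⟩
  · obtain ⟨d, -, k, e⟩ := xj g hg
    have := conj_mem_of_mem_nz' (nJ h two a0 hg) (show (ev (xt a))⁻¹ * ev d ∈ _ by us h [k])
    exact h.c22.cz (by simpa [e, mul_assoc] using this)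
  · obtain ⟨d, hd, k, e⟩ := xj g hg.1
    obtain ⟨l, hl, k1⟩ := ex_fx a0 hd.2.2
    obtain ⟨s, hs⟩ := ex_ts (σ := σ) (v := d.v - a * σ a * l) (by us h [hl]; ring) a0
    let j : Cu σ := ⟨0, l, s, 0, hl, map_zero σ⟩
    have e1 : g * ev (xt a) * g⁻¹ = ev j * ev (xt a) * (ev j)⁻¹ := by
      rw [← e]; us h [j, k, k1, hd.1, hl]; grind
    refine Agree.mem_ai (h := ev j) ?_ (le_ai_self _ (jP (h.mm.2 rfl)))
    have q : Agree ((Q2 σ).map ev) g (ev j) := agree_iff.2 (mul_mem (inv_mem (h.c22.cz (h.mm.2 rfl))) hg.2)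
    rintro _ ⟨c, hc, rfl⟩
    rcases ta c hc with t | t
    · exact q _ (h.mm.2 t)
    · rw [← mul_inv_cancel_left (ev (xt a)) (ev c), cj_mul' g, cj_mul' (ev j), e1, q _ (by us h [t])]
  · have h2 : (Z2 σ).map ev ≤ (C1 σ a).map ev := by ul h
    obtain ⟨g, hg, k⟩ := SetLike.not_le_iff_exists.1 fun k : A ≤ nz ((Z σ).map ev) => e.nS fun x hx => e.ch [(Z2 σ).map ev]
      ⟨⟨h2, fun g hg => nz_of_char (fun w => ⟨fun k => ⟨(by ul h : (Z2 σ).map ev ≤ _) k, h.cS2.symm.cm k (h.le _) le_rfl⟩,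
        fun ⟨k1, k2⟩ => by
          uo h k1 c hc
          have := k2 _ xa
          us h [mQ2.1 hc] at this ⊢
          grind⟩) (nJ h two a0 (e.An hg)) (e.An hg) (k hg)⟩, trivial⟩ hx (h.nC1 hx)
      ⟨h.cSS.cm hx e.le le_rfl, h.cS2.cm hx le_rfl (h.frZ e.pP h2 e.le fun k => a0 (h.mm.1 (k xa)))⟩
    obtain ⟨j, hj⟩ := h.ex2 (nJ h two a0 (e.An hg))
    obtain ⟨x, x1, x2, x3⟩ : ∃ x : Jv σ, x.u = 0 ∧ x.s = 0 ∧ ¬ ((j x).u = 0 ∧ (j x).s = 0) := by
      simpa [B2] using mt hj.bo k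
    have := conj_mem_of_mem_nz (nZ1 h a0 (e.An hg)) (h.mm.2 (show nj x ∈ Z1 σ a from ⟨rfl, x1, by simp [x2]⟩))
    rw [hj x, h.mm] at this
    obtain ⟨l, hl, k1⟩ := ex_fx (σ := σ) (c := (j x).s) a0 (this.2.2.trans (by simp only [nj_s]; grind))
    exact ⟨a0, j, ⟨g, hg, hj⟩, x, x1, x2, this.2.1, (F l hl).elim (fun k => (x3 ⟨this.2.1, by simp [k1, k]⟩).elim)
      fun k => by simp [k1, k]⟩
  · obtain ⟨c, -, rfl⟩ := h.ex hw.1
    have k1 := mem_cz'.1 hw.2 (ev (xt a)) (by us h []; ring)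
    have k2 := mem_cz'.1 hw.2 (ev (xs a)) (by us h []; ring)
    us h [] at k1 k2 ⊢
    grind
  · rintro _ ⟨c, hc, rfl⟩
    rw [y.f1 c hc.1]
    us h [] at hc ⊢
    grind

end H22.PV
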