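/-
Fusion systems on a Sylow `2`-subgroup of `PSU₄(2)`: subgroups of `GL₄(2)` (chunk QC).
-/
import Cfsg.Agent.H2.PV1
import Cfsg.Agent.H2.TD3

set_option autoImplicit false
set_option linter.unusedSectionVars false
set_option linter.unusedVariables false
set_option linter.unusedSimpArgs false

namespace H22.PV
open Subgroup H25 H8.PU H7.PV H7.PV.Cu H2.PV
open H24.SP (mul_ap one_ap inv_ap ap_inv inv_fix inv_eq_of)
universe u v
variable {K : Type v} [Field K] [Finite K] {σ : K →+* K} [IV σ] [CharP K 2] {G : Subgroup (A2 σ)} {g y y' : A2 σ} {x : Jv σ}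
  {ω a l c : K}

/-- the field with four elements -/
structure F4 (σ : K →+* K) (ω : K) : Prop where
  f2 : F2 σ
  sq : ω * ω = ω + 1
  sg : σ ω = ω + 1
  all : ∀ x, x = 0 ∨ x = 1 ∨ x = ω ∨ x = ω + 1
/-- the vectors `(0, 0, 1)` and `(1, 0, 0)` -/
def zz : Jv σ := jv 0 0 1 (map_zero σ) (map_one σ)
def ff : Jv σ := jv 1 0 0 (map_one σ) (map_zero σ)
theorem zz_c : (zz : Jv σ).u = 0 ∧ (zz : Jv σ).s = 0 ∧ (zz : Jv σ).v = 1 := ⟨rfl, rfl, rfl⟩
theorem ff_c : (ff : Jv σ).u = 1 ∧ (ff : Jv σ).s = 0 ∧ (ff : Jv σ).v = 0 := ⟨rfl, rfl, rfl⟩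
/-- normalization of coordinates -/
macro "jq" "[" ls:Lean.Parser.Tactic.simpLemma,* "]" loc:(Lean.Parser.Tactic.location)? : tactic => `(tactic|
  js [zz_c, ff_c, es_u, es_s, es_v, $ls,*] $[$loc]?)
/-- the normal form of an involution centralizing `x_a` -/
def Py (ω a l : K) (y : A2 σ) : Prop := ∀ x, (y x).u = a * σ x.s + σ a * x.s ∧
  (y x).s = x.s + (x.u + a * σ x.s + σ a * x.s) * (a * ω) + (x.u * l + x.v) * a ∧
    (y x).v = x.v + (x.u + a * σ x.s + σ a * x.s) * l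
theorem Py.uq (h : Py ω a l y) (h' : Py ω a l y') : y = y' := LinearEquiv.ext fun x => by jq [h x, h' x]
theorem aa (x : Jv σ) : x + x = 0 := by jq [CharTwo.add_self_eq_zero]

namespace F4
variable (F : F4 σ ω)
include F
theorem nm (h : a ≠ 0) : a * σ a = 1 := (F.f2 _ (by rw [map_mul, ss, mul_comm])).resolve_left (mul_ne_zero h (sn h))
theorem zZ (h1 : x.u = 0) (h2 : x.s = 0) : x = 0 ∨ x = zz := (F.f2 _ x.sv).imp (fun k => by jq [h1, h2, k]) fun k => by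
  jq [h1, h2, k]
theorem fix (h : a ≠ 0) (e : (xx a : A2 σ) x = x) : x = 0 ∨ x = zz ∨ x = es a ∨ x = zz + es a := by
  jq [add_eq_left, mul_eq_zero, h, false_or] at e
  have u0 := e.1
  jq [u0] at e
  obtain ⟨m, hm, k⟩ := ex_fx (σ := σ) (c := x.s) h (by grind)
  rcases F.f2 m hm with rfl | rfl <;> rcases F.f2 _ x.sv with k' | k' <;> jq [u0, k, k', true_or, or_true]
theorem gen (h : a ≠ 0) {P : Jv σ → Prop} (h0 : P 0) (ad : ∀ x y, P x → P y → P (x + y)) (h1 : P zz) (h2 : P (es a))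
    (h3 : P (es (a * ω))) (h4 : P ff) (x : Jv σ) : P x := by
  rw [show x = jv x.u 0 0 x.su (map_zero σ) + es (a * (x.s / a)) + jv 0 0 x.v (map_zero σ) x.sv by jq []; field_simp]
  refine ad _ _ (ad _ _ ?_ ?_) ?_
  · rcases F.f2 _ x.su with k | k
    · convert h0 using 1; jq [k]
    · convert h4 using 1; jq [k]
  · rcases F.all (x.s / a) with k | k | k | k <;> rw [k]
    · convert h0 using 1; jq []
    · rwa [mul_one]
    · exact h3
    · rw [mul_add, mul_one, es_add]; exact ad _ _ h3 h2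
  · rcases F.f2 _ x.sv with k | k
    · convert h0 using 1; jq [k]
    · convert h1 using 1; jq [k]
theorem xj (h : a ≠ 0) : (xx (a * ω) : A2 σ) (es a) = zz + es a := by
  have := F.nm h; jq [F.sg]; grind
theorem mT (h : Syl 2 (TT σ) G) (hg : g ∈ G) (b : g zz = zz) (e : g ^ 2 = 1) : g ∈ TT σ :=
  memT h hg (fun x h1 h2 => by rcases F.zZ h1 h2 with rfl | rfl <;> jq [b, map_zero]) e
theorem ej0 (h : Syl 2 (TT σ) G) (e : Ej G a) : ∃ g ∈ G, g zz = es a := by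
  obtain ⟨a0, g, hg, x, h1, h2, h3, h4⟩ := e
  rcases F.zZ h1 h2 with rfl | rfl
  · exact (a0 (by simpa using h4.symm)).elim
  rcases F.f2 _ (g zz).sv with k | k
  · exact ⟨g, hg, by jq [h3, h4, k]⟩
  · exact ⟨_, mul_mem (h.le (xx_mem (a * ω))) hg, by have := F.nm a0; jq [mul_ap, h3, h4, k, F.sg]; grind⟩
theorem ex (h : Syl 2 (TT σ) G) (e : Ej G a) : ∃ l, σ l = l ∧ ∃ y ∈ G, Py ω a l y := by
  have a0 := e.1
  have n := F.nm a0
  obtain ⟨g, hg, e⟩ := F.ej0 h e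
  have xf : (xx a : A2 σ) (es a) = es a := by jq []; grind
  obtain ⟨b, hb⟩ := mTT.1 (F.mT h (mul_mem (mul_mem (inv_mem hg) (h.le (xx_mem a))) (inv_mem (inv_mem hg))) (by
    rw [mul_ap, mul_ap, inv_inv, e, xf, ← e, inv_ap]) (cj_p _ _))
  obtain ⟨_, ⟨t, ht, rfl⟩, nw⟩ := SetLike.not_le_iff_exists.1 fun k : cj g (TT σ) ≤ TT σ => by
    obtain ⟨t, ht, k⟩ := mem_cj'.1 ((cj_eq_of_le k).ge (xx_mem (a * ω)))
    have := F.xj a0
    rw [← k, ← e, mul_ap, mul_ap, inv_ap, (T_st ht).2.2 _ ⟨rfl, rfl⟩, e] at this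
    simpa [zz_c, es_v] using congrArg Jv.v this
  obtain ⟨t, rfl⟩ := mTT.1 ht
  have k : ∀ w ∈ G, w * w = 1 → w * xx a = xx a * w → w (es a) = es a → w zz = zz + es a → (w (es (a * ω))).u = 1 →
      (w (es (a * ω))).s = 0 → ∃ l, σ l = l ∧ ∃ y ∈ G, Py ω a l y := fun w hw w2 wc w3 w4 w5 w6 => by
    refine ⟨_, (w (es (a * ω))).sv, w, hw, ?_⟩
    have w7 : w (w (es (a * ω))) = es (a * ω) := by rw [← mul_ap, w2, one_ap]
    have w8 := F.f2 _ (w (es (a * ω))).sv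
    generalize hl : (w (es (a * ω))).v = l at *
    refine F.gen a0 (by jq [map_zero]) (fun x y k k' => by jq [map_add, k, k']; cg) (by jq [w4])
      (by jq [w3]; cg) (by jq [w5, w6, hl, F.sg]; have := F.sq; cg) ?_
    rcases w8 with rfl | rfl
    · rw [show w (es (a * ω)) = ff by jq [w5, w6, hl]] at w7
      jq [w7]
    · rw [show w (es (a * ω)) = ff + zz by jq [w5, w6, hl], map_add, w4, ← eq_sub_iff_add_eq] at w7
      jq [w7]; cg
  obtain ⟨w, hw, w1, w2, wc, w3⟩ : ∃ w ∈ G, w ∉ TT σ ∧ w * w = 1 ∧ w * xx a = xx a * w ∧ w (es a) = es a :=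
    ⟨_, mul_mem (mul_mem hg (h.le ht)) (inv_mem hg), nw, pow_two (g * xx t * g⁻¹) ▸ cj_p g t, by
      rw [show (xx a : A2 σ) = g * xx b * g⁻¹ by rw [← hb]; group, ← cj_mul', ← cj_mul', ← xx_add, add_comm, xx_add], by
      rw [← e, mul_ap, mul_ap, inv_ap, xx_fix ⟨rfl, rfl⟩]⟩
  have c : ∀ x, w (xx a x) = xx a (w x) := fun x => by rw [← mul_ap, wc, mul_ap]
  have w4 : w zz = zz + es a := by
    rcases F.fix a0 (x := w zz) (by rw [← c, xx_fix ⟨rfl, rfl⟩]) with k | k | k | k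
    · simpa [zz_c] using congrArg Jv.v (w.injective (k.trans (map_zero w).symm))
    · exact (w1 (F.mT h hw k (by rw [pow_two, w2]))).elim
    · simpa [zz_c, es_v] using congrArg Jv.v (w.injective (k.trans w3.symm))
    · exact k
  have w5 := c (es (a * ω))
  rw [show (xx a : A2 σ) (es (a * ω)) = es (a * ω) + zz by jq [F.sg]; grind, map_add, w4] at w5
  jq [] at w5
  have u1 : (w (es (a * ω))).u = 1 := by grind
  obtain ⟨m, hm, e1⟩ := ex_fx (σ := σ) (c := (w (es (a * ω))).s) a0 (by grind)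
  rcases F.f2 m hm with rfl | rfl
  · exact k w hw w2 wc w3 w4 u1 (by simp [e1])
  · exact k _ (mul_mem (h.le (xx_mem a)) hw) (by rw [mul_assoc, ← mul_assoc w, wc, mul_assoc, w2, mul_one, ← pow_two, xx_p])
      (by rw [mul_assoc, wc]) (by rw [mul_ap, w3, xf]) (by rw [mul_ap, w4, map_add, xf, xx_fix ⟨rfl, rfl⟩])
      (by jq [mul_ap, u1]) (by jq [mul_ap, u1, e1, CharTwo.add_self_eq_zero])
/-- equal labels generate `S₅` -/
theorem dif (h : Syl 2 (TT σ) G) (a0 : a ≠ 0) (hl : σ l = l) (hy : y ∈ G) (hy' : y' ∈ G) (k : Py ω a l y)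
    (k' : Py ω (a * ω) l y') : False := by
  have n := F.nm a0
  have s := F.sq
  have l2 : l * l = l := by rcases F.f2 l hl with rfl | rfl <;> simp
  have l1 : σ (1 + l) = 1 + l := by jq [hl]
  have e1 : (y * y' * y) (zz + es (a * (ω + 1))) = zz := by
    rw [mul_ap, mul_ap, show y (zz + es (a * (ω + 1))) = jv 1 0 (1 + l) (map_one σ) l1 by jq [k _, F.sg]; cg,
      show y' (jv 1 0 (1 + l) (map_one σ) l1) = zz + es a by jq [k' _, F.sg]; cg]
    jq [k _, F.sg]; cg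
  have e2 : (y * y' * y) (es (a * (ω + 1))) = es (a * (ω + 1)) := by
    rw [mul_ap, mul_ap, show y (es (a * (ω + 1))) = jv 1 a l (map_one σ) hl by jq [k _, F.sg]; cg,
      show y' (jv 1 a l (map_one σ) hl) = jv 1 a l (map_one σ) hl by jq [k' _, F.sg]; cg]
    jq [k _, F.sg]; cg
  have e3 : ((y * y' * y) (ff + es a)).u = 0 := by
    rw [mul_ap, mul_ap, show y (ff + es a) = jv 0 (a * (ω + l + 1)) l (map_zero σ) hl by jq [k _, F.sg]; cg,
      show y' (jv 0 (a * (ω + l + 1)) l (map_zero σ) hl) = jv (1 + l) 0 l l1 hl by jq [k' _, F.sg, hl]; cg]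
    jq [k _]
  have m := mul_mem (mul_mem hy hy') hy
  generalize y * y' * y = g at *
  have := ((T_st (F.mT h (mul_mem (mul_mem m (h.le (xx_mem (a * (ω + 1))))) (inv_mem m)) (by
    rw [mul_ap, mul_ap, inv_eq_of e1]; exact (congrArg g (by jq [F.sg]; cg)).trans e1) (cj_p _ _))).2.1 _ e3).2
  rw [mul_ap, mul_ap, inv_ap, ← map_sub, show (xx (a * (ω + 1)) : A2 σ) (ff + es a) - (ff + es a) = es (a * (ω + 1)) by
    jq [F.sg]; cg, e2, es_s] at this
  grind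
theorem nall (h : Syl 2 (TT σ) G) : ∃ a, a ≠ 0 ∧ ¬ Ej G a := by
  by_contra! c
  have s := F.sq
  obtain ⟨l1, h1, y1, m1, k1⟩ := F.ex h (c 1 one_ne_zero)
  obtain ⟨l2, h2, y2, m2, k2⟩ := F.ex h (c (1 * ω) (by grind))
  obtain ⟨l3, h3, y3, m3, k3⟩ := F.ex h (c (1 * ω * ω) (by grind))
  by_cases e : l1 = l2
  · exact F.dif h one_ne_zero h1 m1 m2 k1 (e ▸ k2)
  by_cases e' : l2 = l3
  · exact F.dif h (by grind) h2 m2 m3 k2 (e' ▸ k3)
  have e3 : l3 = l1 := by have := F.f2 _ h1; have := F.f2 _ h2; have := F.f2 _ h3; grind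
  exact F.dif h (by grind) h3 m3 m1 k3 (by rw [show 1 * ω * ω * ω = 1 by grind, e3]; exact k1)
theorem sv (h : Syl 2 (TT σ) G) (s : SE G) : SV G := fun g hg x h1 h2 h3 => by_contra fun a0 => by
  obtain ⟨b, b0, nb⟩ := F.nall h
  obtain ⟨g0, m0, e0⟩ := F.ej0 h ⟨a0, g, hg, x, h1, h2, h3, rfl⟩
  generalize (g x).s = a at a0 e0
  obtain ⟨X, -, -, s3, s4⟩ := s
  obtain ⟨k, hk, nk⟩ := SetLike.not_le_iff_exists.1 s3
  have n1 : ∀ {a : K} (a0 : a ≠ 0), (⟨xx a, h.le (xx_mem a)⟩ : G) ≠ 1 := fun a0 e =>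
    a0 (xx_inj ((congrArg Subtype.val e).trans xx_zero.symm))
  obtain ⟨k, -, e⟩ := H2.TD.t2a (T := (TT σ).subgroupOf G) (X := X.subgroupOf G) ⟨le_top, by rw [relIndex_top_right]; exact h.2⟩
    (fun t ht => Subtype.ext (by
      obtain ⟨t', e⟩ := mTT.1 ht
      exact (congrArg₂ (· * ·) e e).trans (pow_two (xx t' : A2 σ) ▸ xx_p t'))) ⟨⟨k, hk⟩, nk⟩
    (fun g u hu n e => s4 g g.2 u hu (fun c => n (Subtype.ext c)) e) (xx_mem a) (n1 a0) (xx_mem b) (n1 b0)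
  have c : ∀ x, (xx a : A2 σ) x = x → (xx b : A2 σ) (k.1 x) = k.1 x := fun x e1 => by
    rw [← show k.1 * xx a * k.1⁻¹ = xx b from congrArg Subtype.val e, mul_ap, mul_ap, inv_ap, e1]
  have q : ∀ g ∈ G, (xx b : A2 σ) (g zz) = g zz → g zz = zz := fun g hg e => by
    rcases F.fix b0 e with k | k | k | k
    · simpa [zz_c] using congrArg Jv.v (g.injective (k.trans (map_zero g).symm))
    · exact k
    all_goals exact (nb ⟨b0, g, hg, zz, rfl, rfl, by jq [k], by jq [k]⟩).elim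
  have e1 := q _ (mul_mem k.2 m0) (by rw [mul_ap, e0]; exact c _ (by jq []; grind))
  rw [mul_ap, e0] at e1
  simpa [zz_c, es_v] using congrArg Jv.v (k.1.injective (e1.trans (q _ k.2 (c _ (xx_fix ⟨rfl, rfl⟩ _))).symm))
/-- the centralizer of `x_a` -/
theorem cen (h : Syl 2 (TT σ) G) (a0 : a ≠ 0) (hl : σ l = l) (hy : y ∈ G) (k : Py ω a l y) :
    G ⊓ cz (zpowers (xx a)) = closure (TT σ ∪ {y | Py ω a l y}) := by
  have n := F.nm a0
  have s := F.sq
  have tc : TT σ ≤ G ⊓ cz (zpowers (xx a)) := fun t ht => ⟨h.le ht, mem_cz_zpowers.2 (by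
    obtain ⟨t, rfl⟩ := mTT.1 ht
    rw [← xx_add, add_comm, xx_add, mul_inv_cancel_right])⟩
  have yc : y ∈ G ⊓ cz (zpowers (xx a)) := ⟨hy, mem_cz_zpowers.2 (mul_inv_eq_iff_eq_mul.2 (LinearEquiv.ext fun x => by
    jq [mul_ap, k _, F.sg, hl]; cg))⟩
  refine le_antisymm ?_ ((closure_le _).2 (Set.union_subset tc fun g hg => Py.uq k hg ▸ yc))
  have tH : TT σ ≤ closure (TT σ ∪ {y | Py ω a l y}) := fun t ht => subset_closure (.inl ht)
  have yH : y ∈ closure (TT σ ∪ {y | Py ω a l y}) := subset_closure (.inr k)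
  generalize closure (TT σ ∪ {y | Py ω a l y} : Set (A2 σ)) = H at *
  have c : ∀ g ∈ G ⊓ cz (zpowers (xx a)), ∀ x, g (xx a x) = xx a (g x) := fun g hg x => by
    rw [← mul_ap, mul_inv_eq_iff_eq_mul.1 (mem_cz_zpowers.1 hg.2), mul_ap]
  have k0 : ∀ g ∈ G ⊓ cz (zpowers (xx a)), g zz = zz → g (es a) = es a → g ∈ H := fun g hg e1 e2 => by
    have fy : ∀ x, (xx a : A2 σ) x = x → g x = x := fun x e => by
      rcases F.fix a0 e with rfl | rfl | rfl | rfl <;> simp only [map_zero, map_add, e1, e2]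
    refine tH (F.mT h hg.1 e1 (LinearEquiv.ext fun x => ?_))
    have := fy (g x - x) (by
      rw [map_sub, ← c g hg, sub_eq_sub_iff_sub_eq_sub, ← map_sub]; exact fy _ (by jq []; cg))
    rw [map_sub, sub_eq_iff_eq_add] at this
    rw [pow_two, mul_ap, this, one_ap, sub_add_eq_add_sub, aa, zero_sub, neg_eq_iff_add_eq_zero, aa]
  have k1 : ∀ g ∈ G ⊓ cz (zpowers (xx a)), g zz = zz → g ∈ H := fun g hg e1 => by
    rcases F.fix a0 (x := g (es a)) (by rw [← c g hg]; congr 1; jq []; cg) with e | e | e | e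
    · exact (a0 (congrArg Jv.s (g.injective (e.trans (map_zero g).symm)))).elim
    · exact (a0 (congrArg Jv.s (g.injective (e.trans e1.symm)))).elim
    · exact k0 g hg e1 e
    · exact (mul_mem_cancel_left (tH (xx_mem (a * ω)))).1 (k0 _ (mul_mem (tc (xx_mem _)) hg)
        (by rw [mul_ap, e1, xx_fix ⟨rfl, rfl⟩]) (by rw [mul_ap, e, map_add, F.xj a0, xx_fix ⟨rfl, rfl⟩, ← add_assoc, aa, zero_add]))
  have k2 : ∀ g ∈ G ⊓ cz (zpowers (xx a)), g zz = zz + es a → g ∈ H := fun g hg e1 =>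
    (mul_mem_cancel_left yH).1 (k1 _ (mul_mem yc hg) (by jq [mul_ap, e1, k _]; cg))
  intro g hg
  rcases F.fix a0 (x := g zz) (by rw [← c g hg, xx_fix ⟨rfl, rfl⟩]) with e | e | e | e
  · simpa [zz_c] using congrArg Jv.v (g.injective (e.trans (map_zero g).symm))
  · exact k1 g hg e
  · exact (mul_mem_cancel_left (tH (xx_mem (a * ω)))).1 (k2 _ (mul_mem (tc (xx_mem _)) hg) (by rw [mul_ap, e, F.xj a0]))
  · exact k2 g hg e
end F4

theorem t2_inv (hc : σ c = c) (x : Jv σ) : ((t2 c hc)⁻¹ x).u = x.u ∧ ((t2 c hc)⁻¹ x).s = x.s ∧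
    ((t2 c hc)⁻¹ x).v = x.v - c * x.u := ⟨rfl, rfl, rfl⟩
theorem Py.cj (k : Py ω a l y) (hc : σ c = c) : Py ω a (l + c) (t2 c hc * y * (t2 c hc)⁻¹) := fun x => by
  jq [mul_ap, t2_ap, t2_inv, k _]; cg
theorem syl_t2 (h : Syl 2 (TT σ) G) (hc : σ c = c) : Syl 2 (TT σ) (cj (t2 c hc) G) := by
  have := h.cj (t2 c hc)
  rwa [cj_eq_of_le (cj_le.2 fun t ht => by
    obtain ⟨t, rfl⟩ := mTT.1 ht
    exact mTT.2 ⟨t, LinearEquiv.ext fun x => by jq [mul_ap, t2_ap, t2_inv]; ring⟩)] at this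

omit [CharP K 2] in
/-- the chunk QC -/
theorem qc {p : ℕ} [hp : Fact p.Prime] [CharP K p] : QC σ p := fun f => by
  classical
  obtain rfl : p = 2 :=
    (Nat.prime_dvd_prime_iff_eq hp.out Nat.prime_two).1 ((CharP.cast_eq_zero_iff K p 2).1 (by simpa using f.two))
  obtain ⟨ω, h1, h2, h3⟩ := f.ex
  have F : F4 σ ω := ⟨f, h1, h2, h3⟩
  refine ⟨fun G h => ⟨F.nall h, F.sv h⟩, fun a => closure (TT σ ∪ {y | Py ω a (if a = ω then 0 else 1) y}),
    fun G h n a a' ne e e' => ?_⟩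
  have k : ∀ a, Ej G a → a = ω ∨ a = ω + 1 := fun a e => ((h3 a).resolve_left e.1).resolve_left fun c => n (c ▸ e)
  obtain ⟨e1, e2⟩ : Ej G ω ∧ Ej G (ω + 1) := by
    rcases k a e with rfl | rfl <;> rcases k a' e' with rfl | rfl <;> first | exact ⟨e, e'⟩ | exact ⟨e', e⟩ | exact (ne rfl).elim
  obtain ⟨l, hl, y, hy, k1⟩ := F.ex h e1
  obtain ⟨l', hl', y', hy', k2⟩ := F.ex h e2
  have d : l ≠ l' := fun c => F.dif h e1.1 hl hy hy' k1 (h1 ▸ c ▸ k2)
  refine ⟨l, hl, fun a e => ?_⟩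
  rcases k a e with rfl | rfl
  · exact F.cen (syl_t2 h hl) e.1 (by simp) (conj_mem_cj _ hy) (by simpa [CharTwo.add_self_eq_zero] using k1.cj hl)
  · refine F.cen (syl_t2 h hl) e.1 (by simp) (conj_mem_cj _ hy') ?_
    rw [if_neg (by simp)]
    convert k2.cj hl using 1
    have := f l hl; have := f l' hl'
    grind

end H22.PV
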