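/-
`SU₄(q)` for a skew-hermitian antidiagonal form: the Sylow `p`-subgroup and its normalizer.
-/
import Cfsg.Agent.H7.PV2

set_option autoImplicit false
set_option linter.unusedSectionVars false

namespace H22.PV
open Subgroup H25 H8.PU H7.PV H7.PV.Cu Matrix
universe v
variable {K : Type v} [Field K] {σ : K →+* K} [IV σ]

abbrev S4 (K : Type v) [Field K] := SpecialLinearGroup (Fin 4) K
def vl (M : S4 K) : Matrix (Fin 4) (Fin 4) K := M.1
theorem vl_inj {M N : S4 K} (h : vl M = vl N) : M = N := Subtype.ext h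
theorem vl_mul (M N : S4 K) : vl (M * N) = vl M * vl N := rfl
theorem vl_one : vl (1 : S4 K) = 1 := rfl
theorem vl_det (M : S4 K) : (vl M).det = 1 := M.2
/-- the matrix of an element of `Cu σ` -/
def um (c : Cu σ) : Matrix (Fin 4) (Fin 4) K :=
  !![1, c.t, c.s, c.v - c.s * σ c.t; 0, 1, c.u, σ c.s - c.u * σ c.t; 0, 0, 1, -σ c.t; 0, 0, 0, 1]
theorem det_ut {M : Matrix (Fin 4) (Fin 4) K} (h : ∀ i j, j < i → M i j = 0) : M.det = M 0 0 * M 1 1 * M 2 2 * M 3 3 := by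
  rw [det_of_upperTriangular (fun i j k => h i j k), Fin.prod_univ_four]
theorem um_ut (c : Cu σ) : ∀ i j, j < i → um c i j = 0 := by
  intro i j h; fin_cases i <;> fin_cases j <;> first | rfl | exact absurd h (by decide)
theorem um_mul (c c' : Cu σ) : um (c * c') = um c * um c' := by
  ext i j; fin_cases i <;> fin_cases j <;> simp [um, mul_apply, Fin.sum_univ_four, c'.su] <;> ring
def uc : Cu σ →* S4 K := MonoidHom.mk' (fun c => ⟨um c, by rw [det_ut (um_ut c)]; simp [um]⟩) fun c c' => vl_inj (um_mul c c')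
theorem vl_uc (c : Cu σ) : vl (uc c) = um c := rfl
theorem uc_inj : Function.Injective (uc (σ := σ)) := fun c c' e => by
  have k := fun i j => congrFun (congrFun (congrArg vl e) i) j
  have t : c.t = c'.t := k 0 1
  have s : c.s = c'.s := k 0 2
  exact Cu.ext t (k 1 2) s (by simpa [vl_uc, um, t, s] using k 0 3)
variable (σ) in
/-- the antidiagonal skew-hermitian form -/
def hJ (u v : Fin 4 → K) : K := u 0 * σ (v 3) + u 1 * σ (v 2) - u 2 * σ (v 1) - u 3 * σ (v 0)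
variable (σ) in
def UJ : Subgroup (S4 K) := Cfsg.preserving (Cfsg.slToMat 4 K) (hJ σ)
theorem mUJ {M : S4 K} : M ∈ UJ σ ↔ ∀ u v, hJ σ (vl M *ᵥ u) (vl M *ᵥ v) = hJ σ u v := Iff.rfl
theorem uc_mem (c : Cu σ) : uc c ∈ UJ σ := mUJ.2 fun u v => by
  simp [vl_uc, hJ, um, mulVec, dotProduct, Fin.sum_univ_four, ss, c.su, c.sv]; ring
theorem col {M : S4 K} (h : M ∈ UJ σ) (i j : Fin 4) : hJ σ (fun k => vl M k i) (fun k => vl M k j) =
    hJ σ (Pi.single i 1) (Pi.single j 1) := by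
  have := mUJ.1 h (Pi.single i 1) (Pi.single j 1)
  rwa [mulVec_single_one, mulVec_single_one] at this

/-- upper unitriangular unitary matrices -/
theorem ex_uc {M : S4 K} (h : M ∈ UJ σ) (t : ∀ i j, j < i → vl M i j = 0) (d : ∀ i, vl M i i = 1) : ∃ c : Cu σ, M = uc c := by
  have e31 := col h 3 1
  have e22 := col h 2 2
  have e32 := col h 3 2
  have e33 := col h 3 3
  simp [hJ, t, d] at e31 e22 e32 e33
  have f23 : vl M 2 3 = -σ (vl M 0 1) := by linear_combination -e31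
  have su : σ (vl M 1 2) = vl M 1 2 := by linear_combination -e22
  have f13 : vl M 1 3 = σ (vl M 0 2) - vl M 1 2 * σ (vl M 0 1) := by rw [f23, su] at e32; linear_combination e32
  refine ⟨⟨vl M 0 1, vl M 1 2, vl M 0 2, vl M 0 3 + vl M 0 2 * σ (vl M 0 1), su, ?_⟩, vl_inj ?_⟩
  · simp only [f23, f13, su, map_add, map_sub, map_mul, map_neg, ss] at e33 ⊢
    linear_combination -e33
  · ext i j
    fin_cases i <;> fin_cases j <;> simp [vl_uc, um, t, d, f23, f13]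

/-- diagonal matrices -/
def dg (t : Fin 4 → K) (h : ∏ i, t i = 1) : S4 K := ⟨diagonal t, by rwa [det_diagonal]⟩
theorem vl_dg (t : Fin 4 → K) (h : ∏ i, t i = 1) : vl (dg t h) = diagonal t := rfl
theorem dg_pow (t : Fin 4 → K) (h : ∏ i, t i = 1) (n : ℕ) : vl (dg t h ^ n) = diagonal (t ^ n) := by
  rw [← diagonal_pow]; exact Matrix.SpecialLinearGroup.coe_pow (dg t h) n

/-- the Borel subgroup -/
theorem tri2 {M : S4 K} (h : M ∈ UJ σ) (a10 : vl M 1 0 = 0) (a20 : vl M 2 0 = 0) (a30 : vl M 3 0 = 0) (a21 : vl M 2 1 = 0) :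
    ∃ (c : Cu σ) (t : Fin 4 → K) (h : ∏ i, t i = 1), t 0 * σ (t 3) = 1 ∧ t 1 * σ (t 2) = 1 ∧ M = uc c * dg t h := by
  have e0 := col h 0 3
  have e01 := col h 0 1
  have e02 := col h 0 2
  simp [hJ, a10, a20, a30] at e0 e01 e02
  have m0 := left_ne_zero_of_mul_eq_one e0
  have a31 := e01.resolve_left m0
  have a32 := e02.resolve_left m0
  have t : ∀ i j, j < i → vl M i j = 0 := by
    intro i j h; fin_cases i <;> fin_cases j <;> first | assumption | exact absurd h (by decide)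
  have d := vl_det M
  rw [det_ut t] at d
  have e1 := col h 1 2
  simp [hJ, t] at e1
  have s0 := congrArg σ e0
  have s1 := congrArg σ e1
  rw [map_mul, ss, map_one] at s0 s1
  have h' : ∏ i, vl M i i = 1 := by rwa [Fin.prod_univ_four]
  have n0 : ∀ i, vl M i i ≠ 0 := fun i e =>
    zero_ne_one ((Finset.prod_eq_zero (f := fun i => vl M i i) (Finset.mem_univ i) e).symm.trans h')
  have m : dg _ h' ∈ UJ σ := mUJ.2 fun u v => by
    simp only [hJ, vl_dg, mulVec_diagonal, map_mul]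
    linear_combination u 0 * σ (v 3) * e0 + u 1 * σ (v 2) * e1 - u 2 * σ (v 1) * s1 - u 3 * σ (v 0) * s0
  have r : ∀ i j, vl (M * (dg _ h')⁻¹) i j * vl M j j = vl M i j := fun i j => by
    have := congrFun (congrFun (congrArg vl (inv_mul_cancel_right M (dg _ h'))) i) j
    rwa [vl_mul, vl_dg, mul_diagonal] at this
  obtain ⟨c, e⟩ := ex_uc (mul_mem h (inv_mem m)) (fun i j l => (mul_eq_zero.1 ((r i j).trans (t i j l))).resolve_right (n0 j))
    fun i => mul_right_cancel₀ (n0 i) ((r i i).trans (one_mul _).symm)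
  exact ⟨c, _, h', e0, e1, by rw [← e, inv_mul_cancel_right]⟩
theorem nrm {M : S4 K} {X : Subgroup (Cu σ)} (n : M⁻¹ ∈ nz (X.map uc)) {c : Cu σ} (hc : c ∈ X) :
    ∃ c' ∈ X, ∀ i j, (um c * vl M) i j = (vl M * um c') i j := by
  obtain ⟨c', k, e⟩ := conj_mem_of_mem_nz n (mem_map_of_mem _ hc)
  refine ⟨c', k, fun i j => congrFun (congrFun (congrArg vl (?_ : uc c * M = M * uc c')) i) j⟩
  rw [e]; group
/-- the normalizer of the Sylow subgroup is the Borel subgroup -/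
theorem tri {M : S4 K} (h : M ∈ UJ σ) (n : M ∈ nz (uc (σ := σ)).range) :
    ∃ (c : Cu σ) (t : Fin 4 → K) (h : ∏ i, t i = 1), t 0 * σ (t 3) = 1 ∧ t 1 * σ (t 2) = 1 ∧ M = uc c * dg t h := by
  rw [MonoidHom.range_eq_map] at n
  obtain ⟨c, -, e⟩ := nrm (inv_mem n) (mem_top (xt 1))
  obtain ⟨c', -, e'⟩ := nrm (inv_mem n) (mem_top (xu 1 (map_one σ)))
  have a10 := e 0 0
  have a30 := e 2 0
  have a20 := e' 1 0
  simp [um, mul_apply, Fin.sum_univ_four] at a10 a30 a20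
  have a21 := e' 1 1
  simp [um, mul_apply, Fin.sum_univ_four, a10] at a21
  exact tri2 h a10 a20 a30 a21

theorem pw_mem {G : Type*} [Group G] {S : Subgroup G} {s τ : G} (hs : s ∈ S) (hτ : τ ∈ nz S) (n : ℕ) :
    (s * τ) ^ n * (τ ^ n)⁻¹ ∈ S := by
  induction n with
  | zero => simp
  | succ n ih =>
    have := mul_mem ih (conj_mem_of_mem_nz (pow_mem hτ n) hs)
    convert this using 1
    simp only [pow_succ]; group

def w1 : S4 K := ⟨!![1, 0, 0, 0; 0, 0, 1, 0; 0, -1, 0, 0; 0, 0, 0, 1], by simp [det_succ_row_zero, Fin.sum_univ_succ, Fin.succAbove]⟩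
def w2 : S4 K := ⟨!![0, 1, 0, 0; -1, 0, 0, 0; 0, 0, 0, -1; 0, 0, 1, 0], by
  simp [det_succ_row_zero, Fin.sum_univ_succ, Fin.succAbove]⟩
theorem vl_w1 : vl (w1 : S4 K) = !![1, 0, 0, 0; 0, 0, 1, 0; 0, -1, 0, 0; 0, 0, 0, 1] := rfl
theorem vl_w2 : vl (w2 : S4 K) = !![0, 1, 0, 0; -1, 0, 0, 0; 0, 0, 0, -1; 0, 0, 1, 0] := rfl
theorem w1_mem : w1 ∈ UJ σ := mUJ.2 fun u v => by simp [hJ, vl_w1, mulVec, dotProduct, Fin.sum_univ_four]; ring
theorem w2_mem : w2 ∈ UJ σ := mUJ.2 fun u v => by simp [hJ, vl_w2, mulVec, dotProduct, Fin.sum_univ_four]; ring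
theorem w1_cj (c : Cu σ) (h : c.u = 0) : w1 * uc c * w1⁻¹ = uc (m1 c) := mul_inv_eq_iff_eq_mul.2 (vl_inj (by
  rw [vl_mul, vl_mul, vl_uc, vl_uc]
  ext i j; fin_cases i <;> fin_cases j <;> simp [vl_w1, um, mul_apply, Fin.sum_univ_four, h]
  ring))
theorem w2_cj (c : Cu σ) (h : c.t = 0) : w2 * uc c * w2⁻¹ = uc (m2 c) := mul_inv_eq_iff_eq_mul.2 (vl_inj (by
  rw [vl_mul, vl_mul, vl_uc, vl_uc]
  ext i j; fin_cases i <;> fin_cases j <;> simp [vl_w2, um, mul_apply, Fin.sum_univ_four, h, ss]))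

variable [Finite K] {p : ℕ} [hp : Fact p.Prime] [CharP K p]
theorem pg_cu : IsPGroup p (Cu σ) := fun c => by
  have h : Cv (⊤ : Subgroup (Cu σ)) (MonoidHom.id _) := ⟨fun _ _ e => e, fun w => ⟨fun _ => ⟨w, rfl⟩, fun _ => trivial⟩⟩
  have h2 := h.pw2 (p := p) ((by ul h : (Z2 σ).map (MonoidHom.id _) ≤ (Q2 σ).map (MonoidHom.id _)) (h.pwS (p := p) (mem_top c)))
  exact ⟨2, by rw [← h2, ← pow_mul, pow_two]⟩
theorem pg_uc : IsPGroup p (uc (σ := σ)).range := pg_cu.of_surjective _ (uc (σ := σ)).rangeRestrict_surjective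
theorem sylJ : Syl p (uc (σ := σ)).range (UJ σ) := by
  refine syl_of_maximal pg_uc (by rintro _ ⟨c, rfl⟩; exact uc_mem c) fun Y h1 h2 h3 => ?_
  by_contra h4
  have : Group.IsNilpotent Y := h3.isNilpotent
  obtain ⟨g, g1, g2⟩ := SetLike.exists_of_lt (normalizerCondition_of_isNilpotent ((uc (σ := σ)).range.subgroupOf Y)
    (lt_top_iff_ne_top.2 fun e => h4 (subgroupOf_eq_top.1 e)))
  have n : (g : S4 K) ∈ nz (uc (σ := σ)).range := mem_nz_of_conj_mem fun x hx =>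
    (mem_normalizer_iff.1 g1 ⟨x, h1 hx⟩).1 hx
  obtain ⟨c, t, h, -, -, e⟩ := tri (h2 g.2) n
  obtain ⟨k, hk⟩ := h3 g
  have n' : dg t h ∈ nz (uc (σ := σ)).range := by
    simpa [e] using mul_mem (inv_mem (le_nz_self _ (⟨c, rfl⟩ : uc c ∈ (uc (σ := σ)).range))) n
  have m := pw_mem (⟨c, rfl⟩ : uc c ∈ (uc (σ := σ)).range) n' (p ^ k)
  rw [← e, ← coe_pow, hk, coe_one, one_mul, inv_mem_iff] at m
  obtain ⟨c', e'⟩ := m
  have t1 : ∀ i, t i = 1 := fun i => by
    have := congrFun (congrFun (congrArg vl e') i) i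
    rw [dg_pow, diagonal_apply_eq, Pi.pow_apply, vl_uc] at this
    have u : um c' i i = 1 := by fin_cases i <;> rfl
    have f := sub_pow_char_pow (t i) 1 (p := p) (n := k)
    rw [← this, u, one_pow, sub_self] at f
    exact sub_eq_zero.1 (pow_eq_zero_iff (pow_pos hp.out.pos k).ne' |>.1 f)
  refine g2 (mem_subgroupOf.2 ⟨c, ?_⟩)
  rw [e, show dg t h = 1 from vl_inj (by rw [vl_dg, vl_one, funext t1]; exact diagonal_one), mul_one]

end H22.PV
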