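/-
The model for the fusion systems on a Sylow `p`-subgroup of `PSU₄(q)`.
-/
import Cfsg.Agent.H22.PV4

set_option autoImplicit false
set_option linter.unusedSectionVars false

namespace H22.PV
open Subgroup H25 H8.PU H7.PV H7.PV.Cu Matrix
universe v
variable {K : Type v} [Field K] {σ : K →+* K} [IV σ]

abbrev P4 (K : Type v) := Equiv.Perm (Fin 4 → K)
def mp : S4 K →* P4 K := MonoidHom.mk' (fun M => ⟨(vl M *ᵥ ·), (vl M⁻¹ *ᵥ ·),
  fun v => by simp only [mulVec_mulVec, ← vl_mul, inv_mul_cancel, vl_one, one_mulVec],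
  fun v => by simp only [mulVec_mulVec, ← vl_mul, mul_inv_cancel, vl_one, one_mulVec]⟩)
  fun M N => Equiv.ext fun v => (mulVec_mulVec v (vl M) (vl N)).symm
theorem mp_ap (M : S4 K) (v : Fin 4 → K) : mp M v = vl M *ᵥ v := rfl
theorem mp_inj : Function.Injective (mp (K := K)) := fun M N e => vl_inj (by
  ext i j
  have := congrFun (Equiv.congr_fun e (Pi.single j 1)) i
  rwa [mp_ap, mp_ap, mulVec_single_one, mulVec_single_one] at this)
variable (σ) in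
def ev : Cu σ →* P4 K := mp.comp uc
theorem ev_inj : Function.Injective (ev σ) := mp_inj.comp uc_inj
/-- semilinear diagonal maps -/
def Dk (k : P4 K) (d : Fin 4 → K) (φ : K ≃+* K) : Prop := ∀ v i, k v i = d i * φ (v i)
variable {k : P4 K} {d : Fin 4 → K} {φ : K ≃+* K} {r b : K} {M : S4 K}
theorem Dk.cj (h : Dk k d φ) {M N : S4 K} (e : ∀ i j, vl N i j * d j = d i * φ (vl M i j)) : k * mp M * k⁻¹ = mp N := by
  refine mul_inv_eq_iff_eq_mul.2 (Equiv.ext fun v => funext fun i => ?_)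
  rw [Equiv.Perm.mul_apply, h]
  simp only [Equiv.Perm.mul_apply, h v, mp_ap, mulVec, dotProduct, map_sum, map_mul, Finset.mul_sum, ← mul_assoc, e]
theorem Dk.wt (h : Dk k d φ) (r0 : r ≠ 0) (b0 : b ≠ 0) (hb : σ b = b) (e0 : d 0 = r * d 1) (e1 : d 1 = b * d 2)
    (e2 : d 2 = σ r * d 3) : Wu (ev σ) k r b φ := ⟨r0, b0, hb, fun c => h.cj fun i j => by
  rw [e2] at e1; rw [e1] at e0
  fin_cases i <;> fin_cases j <;> simp [vl_uc, um, e0, e1, e2, hb, IV.cm] <;> ring⟩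
variable (σ) in
def dv (r b : K) : Fin 4 → K := ![r, 1, b⁻¹, (b * σ r)⁻¹]
theorem dv_ne (r0 : r ≠ 0) (b0 : b ≠ 0) (i : Fin 4) : dv σ r b i ≠ 0 := by fin_cases i <;> simp [dv, r0, b0]
theorem Dk.wt' (h : Dk k (dv σ r b) φ) (r0 : r ≠ 0) (b0 : b ≠ 0) (hb : σ b = b) : Wu (ev σ) k r b φ := by
  have := sn (σ := σ) r0
  refine h.wt r0 b0 hb ?_ ?_ ?_ <;> simp [dv] <;> field_simp
variable (σ) in
def C0 : Subgroup (P4 K) where
  carrier := {k | ∃ r b φ, r ≠ 0 ∧ b ≠ 0 ∧ σ b = b ∧ Dk k (dv σ r b) φ}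
  one_mem' := ⟨1, 1, .refl K, one_ne_zero, one_ne_zero, map_one σ, fun v i => by fin_cases i <;> simp [dv]⟩
  mul_mem' := by
    rintro k k' ⟨r, b, φ, r0, b0, hb, h⟩ ⟨r', b', φ', r0', b0', hb', h'⟩
    refine ⟨r * φ r', b * φ b', φ'.trans φ, by simp [r0, r0'], by simp [b0, b0'], by rw [map_mul, IV.cm, hb, hb'],
      fun v i => ?_⟩
    rw [Equiv.Perm.mul_apply, h, h']
    fin_cases i <;> simp [dv, IV.cm] <;> ring
  inv_mem' := by
    rintro k ⟨r, b, φ, r0, b0, hb, h⟩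
    refine ⟨φ.symm r⁻¹, φ.symm b⁻¹, φ.symm, by simp [r0], by simp [b0], by rw [IV.cm, map_inv₀ σ, hb], fun v i => ?_⟩
    obtain ⟨w, rfl⟩ := k.surjective v
    rw [Equiv.Perm.coe_inv, k.symm_apply_apply, h, ← φ.injective.eq_iff]
    have := sn (σ := σ) r0
    fin_cases i <;> simp [dv, ← IV.cm] <;> field_simp
theorem Dk.fm (h : Dk k (dv σ r b) φ) (r0 : r ≠ 0) (b0 : b ≠ 0) (hb : σ b = b) (u v : Fin 4 → K) :
    hJ σ (k u) (k v) = b⁻¹ * φ (hJ σ u v) := by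
  have := sn (σ := σ) r0
  simp [hJ, h u, h v, dv, ss, hb, IV.cm]
  field_simp
/-- the Borel subgroup of the model -/
theorem bor {c : Cu σ} {t : Fin 4 → K} {h : ∏ i, t i = 1} (e0 : t 0 * σ (t 3) = 1) (e1 : t 1 * σ (t 2) = 1) :
    ∃ s ∈ (ev σ).range, ∃ τ l ν, l ≠ 0 ∧ ν ≠ 0 ∧ σ ν = ν ∧ Wz (ev σ) τ l ν ∧ mp (uc c * dg t h) = s * τ := by
  have n0 : ∀ i, t i ≠ 0 := fun i e => zero_ne_one ((Finset.prod_eq_zero (Finset.mem_univ i) e).symm.trans h)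
  have hd : Dk (mp (dg t h)) t (.refl K) := fun v i => mulVec_diagonal t v i
  have s0 := congrArg σ e0
  have s1 := congrArg σ e1
  have h' := h
  rw [Fin.prod_univ_four] at h'
  simp only [map_mul, ss, map_one] at s0 s1
  have hν : σ (t 0) * σ (t 1) = t 0 * t 1 := by
    linear_combination -σ (t 0) * σ (t 1) * h' + t 0 * t 1 * σ (t 1) * t 2 * s0 + t 0 * t 1 * s1
  have a0 := n0 0
  have a1 := n0 1
  have b0 := sn (σ := σ) a0
  have b1 := sn (σ := σ) a1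
  refine ⟨ev σ c, ⟨c, rfl⟩, mp (dg t h), t 0, t 0 * t 1, a0, mul_ne_zero a0 a1, by rw [map_mul, hν], ?_, map_mul _ _ _⟩
  refine hd.wt (by simp [n0]) (by simp [n0]) (by rw [map_div₀, map_pow, map_mul, hν, map_mul, ss, mul_comm (σ _)]) ?_ ?_ ?_ <;>
    (try simp only [map_mul, map_div₀, map_pow]) <;> field_simp <;> grind
theorem upn [Finite K] (h : M ∈ UJ σ) (a10 : vl M 1 0 = 0) (a20 : vl M 2 0 = 0) (a30 : vl M 3 0 = 0) (a21 : vl M 2 1 = 0) :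
    mp M ∈ nz ((Z σ).map (ev σ)) ∧ mp M ∈ nz ((Z2 σ).map (ev σ)) := by
  obtain ⟨c, t, h', e0, e1, rfl⟩ := tri2 h a10 a20 a30 a21
  obtain ⟨s, hs, τ, l, ν, -, -, -, w, e⟩ := bor (c := c) (h := h') e0 e1
  have y := cv_range (ev_inj (σ := σ))
  exact e ▸ ⟨mul_mem (y.nZ hs) (y.wZ w), mul_mem (y.nZ2 hs) (y.wZ2 w)⟩
theorem nzm [Finite K] {X : Subgroup (Cu σ)} (n : mp M ∈ nz (X.map (ev σ))) : M ∈ nz (X.map uc) :=
  mem_nz_of_conj_mem fun x hx => by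
    have := conj_mem_of_mem_nz n (Subgroup.map_map X mp uc ▸ mem_map_of_mem mp hx)
    rwa [ev, ← Subgroup.map_map, ← map_inv, ← map_mul, ← map_mul, mem_map_iff_mem mp_inj] at this

variable [Finite K] {p : ℕ} [hp : Fact p.Prime] [CharP K p]
theorem mb1 (h : M ∈ UJ σ) (n : mp M ∈ nz ((Q1 σ).map (ev σ))) : mp M ∈ nz ((Z2 σ).map (ev σ)) ∨
    ∃ s ∈ (ev σ).range, mp w1 * s * mp M ∈ nz ((Z2 σ).map (ev σ)) := by
  obtain ⟨c, -, e⟩ := nrm (inv_mem (nzm n)) (show xt 1 ∈ Q1 σ from rfl)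
  obtain ⟨c', -, e'⟩ := nrm (inv_mem (nzm n)) (show xs 1 ∈ Q1 σ from rfl)
  have a10 := e 0 0
  have a20 := e' 0 0
  have a30 := e' 1 0
  simp [um, mul_apply, Fin.sum_univ_four] at a10 a30 a20
  by_cases a21 : vl M 2 1 = 0
  · exact .inl (upn h a10 a20 a30 a21).2
  have e0 := col h 0 3
  have e01 := col h 0 1
  simp [hJ, a10, a20, a30] at e0 e01
  have a31 := e01.resolve_left (left_ne_zero_of_mul_eq_one e0)
  have e11 := col h 1 1
  simp [hJ, a31] at e11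
  have := sn (σ := σ) a21
  have hu : σ (-(vl M 1 1 / vl M 2 1)) = -(vl M 1 1 / vl M 2 1) := by
    rw [map_neg, map_div₀]; field_simp; linear_combination e11
  refine .inr ⟨_, ⟨xu _ hu, rfl⟩, ?_⟩
  rw [ev, MonoidHom.comp_apply, ← map_mul, ← map_mul]
  refine (upn (mul_mem (mul_mem w1_mem (uc_mem _)) h) ?_ ?_ ?_ ?_).2 <;>
    simp [vl_mul, vl_w1, vl_uc, um, mul_apply, Fin.sum_univ_four, a10, a20, a30, a21]
theorem mb2 (h : M ∈ UJ σ) (n : mp M ∈ nz ((Q2 σ).map (ev σ))) : mp M ∈ nz ((Z σ).map (ev σ)) ∨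
    ∃ s ∈ (ev σ).range, mp w2 * s * mp M ∈ nz ((Z σ).map (ev σ)) := by
  obtain ⟨c, k, e⟩ := nrm (inv_mem (nzm n)) (show xs 1 ∈ Q2 σ from rfl)
  have a20 := e 0 0
  have a30 := e 1 0
  have a21 := e 0 1
  have a31 := e 1 1
  simp [um, mul_apply, Fin.sum_univ_four, mQ2.1 k] at a20 a30 a21 a31
  by_cases a10 : vl M 1 0 = 0
  · exact .inl (upn h a10 a20 a30 a21).1
  refine .inr ⟨_, ⟨xt (-(vl M 0 0 / vl M 1 0)), rfl⟩, ?_⟩
  rw [ev, MonoidHom.comp_apply, ← map_mul, ← map_mul]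
  refine (upn (mul_mem (mul_mem w2_mem (uc_mem _)) h) ?_ ?_ ?_ ?_).1 <;>
    simp [vl_mul, vl_w2, vl_uc, um, mul_apply, Fin.sum_univ_four, a10, a20, a30, a21, a31]
theorem mu : MU σ p := by
  have rg : (ev σ).range = (uc (σ := σ)).range.map mp := MonoidHom.range_comp _ _
  refine ⟨P4 K, inferInstance, inferInstance, ev σ, (UJ σ).map mp, C0 σ, mp w1, mp w2, cv_range ev_inj,
    ⟨fun c hx => by simpa [ev] using congrArg mp (w1_cj c hx), fun c ha => by simpa [ev] using congrArg mp (w2_cj c ha)⟩,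
    rg ▸ pg_uc.map _, rg ▸ ⟨map_mono (sylJ (p := p)).1, ?_⟩, ?_, fun k ⟨r, b, φ, r0, b0, hb, h⟩ => ⟨r, b, φ, h.wt' r0 b0 hb⟩,
    fun r b φ r0 b0 hb => ?_, ?_, ?_, mem_map_of_mem _ w1_mem, mem_map_of_mem _ w2_mem,
    fun _ ⟨_, h, e⟩ => e ▸ mb1 h, fun _ ⟨_, h, e⟩ => e ▸ mb2 h⟩
  · rw [relIndex_map_map_of_injective _ _ mp_inj]; exact (sylJ (p := p)).2
  · rintro k ⟨r, b, φ, r0, b0, hb, h⟩
    refine mem_nz_of_conj_mem ?_
    rintro _ ⟨M, hM, rfl⟩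
    have n0 := dv_ne (σ := σ) r0 b0
    obtain ⟨N, e⟩ : ∃ N : S4 K, vl N = diagonal (dv σ r b) * (φ : K →+* K).mapMatrix (vl M) * diagonal fun i => (dv σ r b i)⁻¹ :=
      ⟨⟨_, by rw [det_mul, det_mul, ← RingHom.map_det, vl_det, map_one, mul_one, ← det_mul, diagonal_mul_diagonal]; simp [n0]⟩, rfl⟩
    have e' := h.cj (M := M) (N := N) fun i j => by simp [e, n0]
    refine ⟨N, mUJ.2 fun u v => ?_, e'.symm⟩
    obtain ⟨u, rfl⟩ := k.surjective u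
    obtain ⟨v, rfl⟩ := k.surjective v
    simp only [← mp_ap, ← e', Equiv.Perm.mul_apply, Equiv.Perm.coe_inv, k.symm_apply_apply, h.fm r0 b0 hb]
    exact congrArg (b⁻¹ * φ ·) (mUJ.1 hM u v)
  · have n0 := dv_ne (σ := σ) r0 b0
    have h : Dk ⟨fun v i => dv σ r b i * φ (v i), fun v i => φ.symm ((dv σ r b i)⁻¹ * v i), fun v => by simp [n0],
      fun v => by simp [n0]⟩ (dv σ r b) φ := fun _ _ => rfl
    exact ⟨_, ⟨r, b, φ, r0, b0, hb, h⟩, h.wt' r0 b0 hb⟩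
  · rintro k ⟨r, b, φ, r0, b0, hb, h⟩ w
    have e := fun c => ev_inj (((h.wt' r0 b0 hb).cj c).symm.trans (w.cj c))
    have e1 : ∀ a, r * φ a = a := fun a => by simpa using congrArg Cu.t (e (xt a))
    have e2 : b = 1 := by simpa using congrArg Cu.u (e (xu 1 (map_one σ)))
    have e3 : r = 1 := by simpa using e1 1
    refine Equiv.ext fun v => funext fun i => ?_
    have := e1 (v i)
    rw [h]
    fin_cases i <;> simpa [dv, e2, e3] using this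
  · rintro _ ⟨M, hM, rfl⟩ n
    rw [MonoidHom.range_eq_map] at n
    obtain ⟨c, t, h, e0, e1, rfl⟩ := tri hM (MonoidHom.range_eq_map (uc (σ := σ)) ▸ nzm n)
    exact bor e0 e1

end H22.PV
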