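/-
The Sylow `p`-subgroup of `PSU₄(q)` in coordinates.
-/
import Cfsg.Agent.H22.PV4

set_option autoImplicit false
set_option linter.unusedSectionVars false

namespace H22.PV
open Subgroup H25 H8.PU H7.PV H7.PV.Cu Matrix
universe v

theorem exP {K : Type v} [Field K] [Finite K] (σ : K →+* K) [IV σ] : ∃ (P : (Matrix (Fin 4) (Fin 4) K)ˣ) (ε : K), ε ≠ 0 ∧ ∀ u v,
    ∑ j, (P.1 *ᵥ u) j * σ ((P.1 *ᵥ v) j) = ε * hJ σ u v := by
  obtain ⟨i, hi⟩ := ex_nm (σ := σ) (r := -1) (by simp)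
  obtain ⟨ε, e0, he⟩ := ex_ep σ
  have ht := s_th (σ := σ)
  generalize th σ = θ at ht
  have i0 : i ≠ 0 := fun e => by simp [e] at hi
  obtain ⟨P, e⟩ := (isUnit_iff_isUnit_det !![1, 0, 0, ε * θ; i, 0, 0, ε * i * (θ + 1); 0, 1, ε * θ, 0; 0, i, ε * i * (θ + 1), 0]).2
    (Ne.isUnit (by
      simp [det_succ_row_zero, Fin.sum_univ_succ, Fin.succAbove]
      intro h
      exact mul_ne_zero (mul_ne_zero e0 i0) (mul_ne_zero e0 i0) (by linear_combination h)))
  refine ⟨P, ε, e0, fun u v => ?_⟩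
  simp [e, hJ, mulVec, dotProduct, Fin.sum_univ_four, ht, he]
  grind
/-- conjugation by an invertible matrix -/
def cg {K : Type v} [Field K] (P : (Matrix (Fin 4) (Fin 4) K)ˣ) : S4 K →* S4 K :=
  MonoidHom.mk' (fun M => ⟨P.1 * vl M * P⁻¹.1, by rw [det_units_conj, vl_det]⟩) fun M N => vl_inj (by
    change P.1 * (vl M * vl N) * P⁻¹.1 = P.1 * vl M * P⁻¹.1 * (P.1 * vl N * P⁻¹.1)
    simp only [Matrix.mul_assoc, Units.inv_mul_cancel_left])
theorem vl_cg {K : Type v} [Field K] (P : (Matrix (Fin 4) (Fin 4) K)ˣ) (M : S4 K) : vl (cg P M) = P.1 * vl M * P⁻¹.1 := rfl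
theorem cg_cg {K : Type v} [Field K] (P : (Matrix (Fin 4) (Fin 4) K)ˣ) (M : S4 K) : cg P (cg P⁻¹ M) = M := vl_inj (by
  simp only [vl_cg, inv_inv, Matrix.mul_assoc, Units.mul_inv_cancel_left, Units.mul_inv, Matrix.mul_one])

theorem su4 : SU4.{v} := by
  intro K _ _ p hp _ n hn hK
  let σ : K →+* K := iterateFrobenius K p n
  have hσ : ∀ x, σ x = x ^ p ^ n := fun x => rfl
  have q1 : 1 < p ^ n := Nat.one_lt_pow (by omega) hp.out.one_lt
  have : IV σ := by
    refine ⟨fun x => by rw [hσ, hσ, ← pow_mul, ← pow_two, ← hK, FiniteField.pow_card], ?_, fun φ x => by rw [hσ, hσ, map_pow]⟩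
    by_contra! h
    obtain ⟨g, hg⟩ := IsCyclic.exists_ofOrder_eq_natCard (α := Kˣ)
    have : g ^ (p ^ n - 1) = 1 := Units.ext (mul_right_cancel₀ g.ne_zero (by
      rw [Units.val_pow_eq_pow_val, ← pow_succ, Nat.sub_add_cancel q1.le, ← hσ, h, Units.val_one, one_mul]))
    have := Nat.le_of_dvd (by omega) (orderOf_dvd_of_pow_eq_one this)
    rw [hg, Nat.card_units, Nat.card_eq_fintype_card, hK] at this
    have : p ^ n < (p ^ n) ^ 2 := by nlinarith
    omega
  refine ⟨σ, this, fun T => ?_⟩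
  obtain ⟨P, ε, e0, hP⟩ := exP σ
  have ci : Function.Injective (cg P) := Function.LeftInverse.injective (g := cg P⁻¹) fun M => by simpa using cg_cg P⁻¹ M
  have e : (UJ σ).map (cg P) = Cfsg.SU 4 K (p ^ n) := Subgroup.ext fun M => ⟨?_, fun h => ⟨_, mUJ.2 fun u v => ?_, cg_cg P M⟩⟩
  rotate_left
  · rintro ⟨M, h, rfl⟩ u v
    have := congrArg (ε * ·) (mUJ.1 h (P⁻¹.1 *ᵥ u) (P⁻¹.1 *ᵥ v))
    simp only [← hP, mulVec_mulVec, ← Matrix.mul_assoc, Units.mul_inv, one_mulVec] at this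
    exact this
  · refine mul_left_cancel₀ e0 ?_
    simp only [← hP, vl_cg, inv_inv, mulVec_mulVec, ← Matrix.mul_assoc, Units.mul_inv, Matrix.one_mul]
    simp only [← mulVec_mulVec]
    exact h _ _
  have s := sylJ (σ := σ) (p := p)
  let f : Cu σ →* Cfsg.SU 4 K (p ^ n) := ((cg P).comp uc).codRestrict _ fun c => e ▸ mem_map_of_mem _ (uc_mem c)
  let π : Cfsg.SU 4 K (p ^ n) →* Cfsg.PSU 4 K (p ^ n) := QuotientGroup.mk' _
  have inj : Function.Injective (π.comp f) := (injective_iff_map_eq_one _).2 fun c hc => by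
    have z : ∀ M ∈ UJ σ, M * uc c * M⁻¹ = uc c := fun M hM => by
      have := congrArg Subtype.val (mem_center_iff.1 ((QuotientGroup.eq_one_iff _).1 hc) ⟨_, e ▸ mem_map_of_mem _ hM⟩)
      change cg P M * cg P (uc c) = cg P (uc c) * cg P M at this
      rw [mul_inv_eq_iff_eq_mul, ← ci.eq_iff, map_mul, map_mul, this]
    have k : ∀ c', c' * c * c'⁻¹ = c := fun c' => uc_inj (by simpa using z _ (uc_mem c'))
    have a1 := congrArg Cu.s (k (xt 1))
    have a2 := congrArg Cu.s (k (xu 1 (map_one σ)))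
    simp at a1 a2
    have m := congrArg Cu.u (uc_inj ((w2_cj c a2).symm.trans (z _ w2_mem)))
    have m' := congrArg Cu.t (uc_inj ((w1_cj c a1).symm.trans (z _ w1_mem)))
    exact Cu.ext a2 a1 (m'.trans a2) (m.trans a1)
  have pg : IsPGroup p (π.comp f).range := pg_cu.of_surjective _ (π.comp f).rangeRestrict_surjective
  have ix : ¬ p ∣ (π.comp f).range.index := fun h => s.2 (by
    have r : f.range = ((uc (σ := σ)).range.map (cg P)).subgroupOf _ := Subgroup.ext fun x =>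
      ⟨by rintro ⟨c, rfl⟩; exact ⟨_, ⟨c, rfl⟩, rfl⟩, by rintro ⟨_, ⟨c, rfl⟩, e⟩; exact ⟨c, Subtype.ext e⟩⟩
    rw [MonoidHom.range_comp] at h
    rw [← relIndex_map_map_of_injective _ _ ci, e]
    exact h.trans (r ▸ index_map_dvd _ (QuotientGroup.mk'_surjective _)))
  exact ⟨(MonoidHom.ofInjective inj).trans ((pg.toSylow ix).equiv T)⟩

end H22.PV
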