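/-
Point stabilizers of primitive groups with linear or unitary socle: reduction to the contexts.
-/
import Cfsg.Agent.H22.SB5
import Cfsg.Agent.H22.SB6
import Cfsg.Agent.H1.Fitting
import Cfsg.Agent.S3682
import Cfsg.Agent.S3688
import Cfsg.Agent.S3684
import Cfsg.Agent.S3385

set_option autoImplicit false
set_option linter.unusedSectionVars false

namespace H22.SB
open Cfsg MulAction
open scoped Nat

universe u

theorem fin (pr : PR.{u}) (d4 : D4.{u}) (wg : WG.{u}) (top : TOP.{u}) {G : Type u} {Ω : Type*}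
    [Group G] [Finite G] [MulAction G Ω] [FaithfulSMul G Ω] [Finite Ω] (N : Subgroup G)
    (hNn : N.Normal) (hNs : IsSimpleGroup N) (hNa : ¬ IsMulCommutative N)
    (hNc : Subgroup.centralizer (N : Set G) = ⊥) (hsoc : IsPSL N ∨ IsPSU N)
    (hprim : IsPreprimitive G Ω) (a b : Ω) (d : ℕ)
    (hd : Nat.card (orbit (stabilizer G a) b) = d) (h2 : 2 ≤ d) :
    Nat.card (stabilizer G a) ≤ W d := by
  have W0 : 0 < W d := by unfold W; positivity
  rcases h2.eq_or_lt with rfl | h3
  · rw [(Agent.S3684.result hprim a b hd).1]; decide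
  rcases (show 3 ≤ d from h3).eq_or_lt with rfl | h4
  · obtain ⟨k, hk, e⟩ := Agent.S3385.result hprim a b hd
    rw [e]; exact Nat.mul_le_mul_right 3 (Nat.pow_le_pow_right two_pos hk)
  by_cases hnc : ∀ p : ℕ, p.Prime →
      generalizedFittingSubgroup (stabilizer G a) ≠ pCore p (stabilizer G a)
  · exact Nat.le_of_dvd W0 (Agent.S3688.result hprim a b d hd h2 hnc)
  push Not at hnc
  obtain ⟨r, rp, hr⟩ := hnc
  set H := stabilizer G a with hH
  have hab : b ≠ a := by
    rintro rfl
    have : Subsingleton (orbit H b) := ⟨fun ⟨_, x, hx⟩ ⟨_, y, hy⟩ =>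
      Subtype.ext (hx.symm.trans (x.2.trans (y.2.symm.trans hy)))⟩
    have := Finite.card_le_one_iff_subsingleton.2 this
    omega
  have : Nontrivial Ω := ⟨⟨b, a, hab⟩⟩
  have mx : IsCoatom H := (isCoatom_stabilizer_iff_preprimitive G a).2 hprim
  have triv : ∀ K : Subgroup G, K.Normal → K ≤ H → K = ⊥ := fun K hK hle =>
    eq_bot_iff.2 fun x hx => eq_of_smul_eq_smul (α := Ω) fun c => by
      obtain ⟨g, rfl⟩ := exists_smul_eq G a c
      have : (g⁻¹ * x * g⁻¹⁻¹) • a = a := hle (hK.conj_mem x hx g⁻¹)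
      rw [inv_inv, mul_smul, mul_smul, inv_smul_eq_iff] at this
      rw [this, one_smul]
  have hc : H.normalCore = ⊥ := triv _ inferInstance H.normalCore_le
  have N0 : N ≠ ⊥ := (Subgroup.nontrivial_iff_ne_bot N).1 inferInstance
  have NH : ¬ N ≤ H := fun h => N0 (triv N hNn h)
  have tr : IsPretransitive N Ω := IsQuasiPreprimitive.isPretransitive_of_normal fun h =>
    NH fun x hx => (h ▸ Set.mem_univ a : a ∈ fixedPoints N Ω) ⟨x, hx⟩
  obtain ⟨t, rfl⟩ := exists_smul_eq N a b
  have tH : (t : G) ∉ H := fun h => hab h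
  have hst : stabilizer G (t • a) = H.map (MulAut.conj (t : G)).toMonoidHom :=
    stabilizer_smul_eq_stabilizer_map_conj (t : G) a
  have hd' : (H.map (MulAut.conj (t : G)).toMonoidHom).relIndex H = d := by
    rw [← hst, ← hd, Nat.card_coe_set_eq, ← index_stabilizer]; rfl
  have H0 : H ≠ ⊥ := fun h => by
    rw [h, Subgroup.relIndex_bot_right] at hd'; omega
  have pr' : ∀ l, l.Prime → l ∣ Nat.card H → l ≤ d := hd' ▸ pr G H t mx hc tH
  obtain ⟨R, R1, R2, R3, R4, R5, R6⟩ := wg G N H r hNn hNs hNa hNc mx NH H0 rp hr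
  by_cases dd : d = 4 → r = 3 ∨ IsPGroup 2 H
  swap
  · push Not at dd
    obtain ⟨rfl, r3, h2'⟩ := dd
    have := Fact.mk rp
    have h3 : 3 ∣ Nat.card H := by
      by_contra h3
      have := Fact.mk Nat.prime_two
      refine h2' (IsPGroup.of_card (n := _) (Nat.eq_prime_pow_of_unique_prime_dvd
        Nat.card_pos.ne' fun {l} hl h => ?_))
      have := pr' l hl h
      have := hl.two_le
      interval_cases l
      · rfl
      · exact absurd h h3
      · exact absurd hl (by decide)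
    have r2 : r = 2 := by
      obtain ⟨j, hj, e⟩ := (IsPGroup.nontrivial_iff_card R2).1
        ((Subgroup.nontrivial_iff_ne_bot R).2 R3)
      have := pr' r rp ((e ▸ dvd_pow_self r hj.ne').trans
        (Subgroup.card_dvd_of_le (R1.trans inf_le_left)))
      have := rp.two_le
      interval_cases r
      · rfl
      · exact absurd rfl r3
      · exact absurd rp (by decide)
    subst r2
    obtain ⟨p, pp, P, Pn, Pp, Pb, Pi⟩ := Agent.S3682.result hprim a (t • a) 4 hd h2
    have := Fact.mk pp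
    have P2 : IsPGroup 2 P := (H1.pCore_isPGroup (p := 2) (G := H)).to_le
      (hr ▸ (H1.le_fitting Pn Pp.isNilpotent).trans le_sup_right)
    have P0 := d4 G H t mx hc hd' h3 (P.map H.subtype) (by
      rintro _ ⟨x, hx, rfl⟩; exact ⟨x.2, hst ▸ Pb ⟨x, hx⟩⟩) (P2.map _) (by
      rintro h hh _ ⟨x, hx, rfl⟩; exact ⟨_, Pn.conj_mem x hx ⟨h, hh⟩, rfl⟩)
    rw [Subgroup.map_eq_bot_iff_of_injective _ H.subtype_injective] at P0
    rw [P0, Subgroup.index_bot] at Pi
    exact Nat.le_of_dvd W0 Pi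
  obtain ⟨F, _, _, Φ, n, X, hX⟩ := hsoc.elim (wl hNc) (wu hNc)
  have hm : ∀ x, X.π x ∈ N := fun x => hX ▸ ⟨x, rfl⟩
  have hs : ∀ y ∈ R, ∃ x, X.π x = y := fun y hy => (hX.ge (R1 hy).2 :)
  obtain ⟨s, hs'⟩ : (t : G) ∈ X.π.range := hX ▸ t.2
  have RR : (R.comap X.π).map X.π = R := Subgroup.map_comap_eq_self fun y hy => hs y hy
  exact top F Φ G n
    { X with
      H := H, mx := mx, s := s, sH := hs' ▸ tH, d := d, hd := hs' ▸ hd', d4 := h4, r := r, rp := rp
      R := R.comap X.π
      RH := fun x hx => (R1 hx).1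
      Rsc := fun x hx => by rw [Subgroup.mem_comap, (X.ker x).2 hx]; exact one_mem _
      Rinv := fun h hh x hx y e => by rw [Subgroup.mem_comap, e]; exact R4 h hh _ hx
      Rr := RR.symm ▸ R2
      Rne := by
        obtain ⟨⟨y, hy⟩, y1⟩ := Subgroup.ne_bot_iff_exists_ne_one.1 R3
        obtain ⟨x, rfl⟩ := hs y hy
        exact ⟨x, hy, fun h => y1 (Subtype.ext ((X.ker x).2 h))⟩
      SC := fun x hx => R5 _ (hm x) fun y hy => by
        obtain ⟨y, rfl⟩ := hs y hy
        exact hx y hy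
      NM := fun x hx => R6 _ fun y hy => by
        obtain ⟨y, rfl⟩ := hs y hy
        simpa using hx y hy
      pr := pr', dd := dd }

end H22.SB
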