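/-
Fusion systems on a Sylow `p`-subgroup of `³D₄(q)`: transfer from the linear algebra on `Q₁ / Z₁` (chunk TR).
-/
import Cfsg.Agent.H29.TD3

set_option autoImplicit false
set_option linter.unusedSectionVars false
set_option linter.unusedSimpArgs false

namespace H22.TD
open Subgroup H29.TD H29.TD.Dc
open H25 hiding Md tr fx
open H8.PU hiding Bo N2 SY S2 Wt sz Ac2 Co sn n1_ap card_K Fx LH Opp Md n1 Tr2 G2 Dg MD AV Wy L2 TR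
universe u v
variable {K : Type v} [Field K] [Finite K] {σ : K →+* K} [TV σ] {Γ : Type u} [Group Γ] [Finite Γ] {p : ℕ} [Fact p.Prime]
  [CharP K p] {S A Z : Subgroup Γ} {ev : Dc σ →* Γ} {g g' β τ M1 M2 : Γ} {f f' : AV σ} {k l : K} {φ : K ≃+* K} {c c' : Dc σ}

/-- the elements acting on `Z` by `±1` -/
def pm (Z : Subgroup Γ) : Subgroup Γ where
  carrier := {g | (∀ z ∈ Z, g * z * g⁻¹ = z) ∨ ∀ z ∈ Z, g * z * g⁻¹ = z⁻¹}
  one_mem' := .inl fun _ _ => by simp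
  mul_mem' := by
    rintro a b (h | h) (h' | h')
    · exact .inl fun z hz => by rw [cj_mul2, h' z hz, h z hz]
    · exact .inr fun z hz => by rw [cj_mul2, h' z hz, h _ (inv_mem hz)]
    · exact .inr fun z hz => by rw [cj_mul2, h' z hz, h z hz]
    · exact .inl fun z hz => by rw [cj_mul2, h' z hz, h _ (inv_mem hz), inv_inv]
  inv_mem' := by
    rintro a (h | h)
    · exact .inl fun z hz => by conv_lhs => rw [← h z hz]
                                group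
    · exact .inr fun z hz => by conv_lhs => rw [← inv_inv z, ← h _ (inv_mem hz)]
                                group
theorem pm_nz (hg : g ∈ nz Z) : g ∈ nz (pm Z) := mem_nz_of_conj_mem fun k hk => hk.imp
  (fun e z hz => by
    rw [show g * k * g⁻¹ * z * (g * k * g⁻¹)⁻¹ = g * (k * (g⁻¹ * z * g) * k⁻¹) * g⁻¹ by group, e _ (conj_mem_of_mem_nz' hg hz)]
    group)
  fun e z hz => by
    rw [show g * k * g⁻¹ * z * (g * k * g⁻¹)⁻¹ = g * (k * (g⁻¹ * z * g) * k⁻¹) * g⁻¹ by group, e _ (conj_mem_of_mem_nz' hg hz)]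
    group
theorem cz_pm : cz Z ≤ pm Z := fun g hg => .inl fun z hz => mem_cz.1 hg z hz

/-- the image in `Q₁ / Z₁` -/
def pr (c : Dc σ) : V σ := (⟨c.u, c.hu⟩, c.s, c.r, ⟨c.v, c.hv⟩)
/-- a section of `pr` -/
def qv (x : V σ) : Dc σ := ⟨0, x.1, x.2.1, x.2.2.1, x.2.2.2, 0, fx _, fx _, map_zero σ⟩
theorem qv_mem (x : V σ) : qv x ∈ Q1 σ := rfl
theorem pr_qv (x : V σ) : pr (qv x) = x := rfl
theorem pr_mul (h' : c' ∈ Q1 σ) : pr (c * c') = pr c + pr c' := by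
  vs [pr, mul_a, mul_u, mul_s, mul_r, mul_v, mQ1.1 h']
theorem zq (h : c ∈ Q1 σ) (h' : c' ∈ Q1 σ) : c⁻¹ * c' ∈ Z1 σ ↔ pr c = pr c' := by
  vs [pr, mZ1, mul_a, mul_u, mul_s, mul_r, mul_v, inv_a, inv_u, inv_s, inv_r, inv_v, mQ1.1 h, mQ1.1 h']
  grind
theorem cmq (h : c ∈ Q1 σ) (h' : c' ∈ Q1 σ) : c * c' * c⁻¹ * c'⁻¹ ∈ Z1 σ ∧ (c * c' * c⁻¹ * c'⁻¹).z = om (pr c) (pr c') := by
  refine ⟨?_, cm1_z h h'⟩
  vs [mZ1, mul_a, mul_u, mul_s, mul_r, mul_v, inv_a, inv_u, inv_s, inv_r, inv_v, mQ1.1 h, mQ1.1 h']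
  cg
theorem om_nd {x : V σ} (h : ∀ y, om x y = 0) : x = 0 :=
  V.ext (by simpa [om, tr] using h (0, 0, 0, 1)) (tr_nd (σ := σ) fun r => by simpa [om, tr_zero] using h (0, 0, r, 0))
    (tr_nd (σ := σ) fun s => by simpa [om, tr_zero, mul_comm] using h (0, s, 0, 0)) (by simpa [om, tr] using h (1, 0, 0, 0))
theorem om_sub (x y z : V σ) : om (x - y) z = om x z - om y z := by vs [om]; ring
theorem om_sm (a : Fx σ) (x z : V σ) : om (a • x) z = a * om x z := by vs [om]; ring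

/-- `g` acts on `Q₁ / Z₁` as `f` -/
def Ap (ev : Dc σ →* Γ) (g : Γ) (f : V σ → V σ) : Prop := ∀ c ∈ Q1 σ, ∃ c' ∈ Q1 σ, g * ev c * g⁻¹ = ev c' ∧ pr c' = f (pr c)
theorem Ap.mul (k : Ap ev g f) (k' : Ap ev g' f') : Ap ev (g * g') (f * f' : AV σ) := fun c hc =>
  let ⟨c1, h1, e1, e2⟩ := k' c hc
  let ⟨c2, h2, e3, e4⟩ := k c1 h1
  ⟨c2, h2, by rw [cj_mul2, e1, e3], by rw [e4, e2]; rfl⟩
theorem Ap.ag (k : Ap ev g' f) (e : Agree ((Q1 σ).map ev) g g') : Ap ev g f := fun c hc =>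
  let ⟨c1, h1, e1, e2⟩ := k c hc
  ⟨c1, h1, (e _ (mem_map_of_mem ev hc)).trans e1, e2⟩
theorem Ap.bo (k : Ap ev g f) (b : Bo f) : g ∈ nz ((Z2 σ).map ev) := mem_nz_of_conj_mem (by
  rintro _ ⟨c, hc, rfl⟩
  obtain ⟨c1, h1, e1, e2⟩ := k c hc.1
  obtain ⟨d, b⟩ := b
  rw [show pr c = (⟨c.v, c.hv⟩ : Fx σ) • e0 by vs [pr, e0, hc.2.1, hc.2.2.1, hc.2.2.2], map_smul, b] at e2
  vs [pr, e0] at e2
  exact ⟨c1, ⟨h1, e2.1, e2.2.1, e2.2.2.1⟩, e1.symm⟩)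
theorem acU (u : Dc σ) : Ap ev (ev u) (tv (-u.a) : AV σ) := fun c hc => ⟨u * c * u⁻¹, by simp [mQ1, mQ1.1 hc], by simp, by
  vs [pr, tv_ap, mul_a, mul_u, mul_s, mul_r, mul_v, inv_a, inv_u, inv_s, inv_r, inv_v, mQ1.1 hc, u.hu, c.hu]
  cg⟩
theorem acM (y : Wy ev M1 M2) : Ap ev M1 (n1 : AV σ) := fun c hc => ⟨m1 c, rfl, y.f1 c hc, rfl⟩

section
variable (h : Co S ev)
include h
theorem uq (k : Ap ev g f) (k' : Ap ev g f') : f = f' := LinearEquiv.ext fun v =>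
  let ⟨_, _, e1, e2⟩ := k _ (qv_mem v)
  let ⟨_, _, e3, e4⟩ := k' _ (qv_mem v)
  e2.symm.trans (h.inj (e1.symm.trans e3) ▸ e4)
theorem bo_of (k : Ap ev g f) (hg : g ∈ nz ((Z2 σ).map ev)) : Bo f := by
  obtain ⟨c1, -, e1, e2⟩ := k _ (qv_mem e0)
  have := h.mm.1 (e1 ▸ conj_mem_of_mem_nz hg (h.mm.2 (show qv e0 ∈ Z2 σ from ⟨rfl, rfl, rfl, rfl⟩)))
  exact ⟨⟨c1.v, c1.hv⟩, by rw [← pr_qv e0, ← e2]; vs [pr, qv, e0, this.2.1, this.2.2.1, this.2.2.2]⟩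
theorem ex0 (hg : g ∈ nz ((Q1 σ).map ev)) : ∃ F, Ap ev g F ∧ ∀ x y, F (x + y) = F x + F y := by
  choose F k e using fun c (hc : c ∈ Q1 σ) => conj_mem_of_mem_nz hg (mem_map_of_mem ev hc)
  have k : Ap ev g fun v => pr (F _ (qv_mem v)) := fun c hc => ⟨_, k c hc, (e c hc).symm, (zq (k _ _) (k _ _)).1 (h.mm.1 (by
    have := conj_mem_of_mem_nz (h.q1Z1 hg) (h.mm.2 ((zq hc (qv_mem (pr c))).2 rfl))
    simpa [e, mul_assoc] using this))⟩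
  refine ⟨_, k, fun v w => ?_⟩
  obtain ⟨c1, h1, e1, k1⟩ := k _ (qv_mem v)
  obtain ⟨c2, h2, e2, k2⟩ := k _ (qv_mem w)
  obtain ⟨c3, h3, e3, k3⟩ := k _ (mul_mem (qv_mem v) (qv_mem w))
  rw [map_mul, cj_mul', e1, e2, ← map_mul] at e3
  rw [← h.inj e3, pr_mul h2, pr_mul (qv_mem w), k1, k2] at k3
  exact k3.symm
theorem fm {F : V σ → V σ} (k : Ap ev g F) (hp : g ∈ pm ((Z1 σ).map ev)) :
    ∃ μ : K, (μ = 1 ∨ μ = -1) ∧ ∀ x y, om (F x) (F y) = μ * om x y := by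
  have e : ∀ x y, ∃ c ∈ Z1 σ, ∃ c' ∈ Z1 σ, g * ev c * g⁻¹ = ev c' ∧ c.z = om x y ∧ c'.z = om (F x) (F y) := fun x y => by
    obtain ⟨c1, h1, e1, k1⟩ := k _ (qv_mem x)
    obtain ⟨c2, h2, e2, k2⟩ := k _ (qv_mem y)
    exact ⟨_, (cmq (qv_mem x) (qv_mem y)).1, _, (cmq h1 h2).1, by simp only [map_mul, map_inv, cj_cm, e1, e2],
      (cmq (qv_mem x) (qv_mem y)).2, by rw [(cmq h1 h2).2, k1, k2]; rfl⟩
  rcases hp with hp | hp
  · refine ⟨1, .inl rfl, fun x y => ?_⟩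
    obtain ⟨c, hc, c', -, e1, e2, e3⟩ := e x y
    rw [← e2, ← e3, ← h.inj ((hp _ (h.mm.2 hc)).symm.trans e1), one_mul]
  · refine ⟨-1, .inr rfl, fun x y => ?_⟩
    obtain ⟨c, hc, c', -, e1, e2, e3⟩ := e x y
    rw [← e2, ← e3, ← h.inj ((h.inv c).symm.trans ((hp _ (h.mm.2 hc)).symm.trans e1))]
    ds h [] at hc
    ds h [hc]
    ring
theorem ex1 (hg : g ∈ nz ((Q1 σ).map ev)) (hp : g ∈ pm ((Z1 σ).map ev)) : ∃ f : AV σ, Ap ev g f := by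
  obtain ⟨F, k, a⟩ := ex0 h hg
  obtain ⟨μ, hμ, e⟩ := fm h k hp
  have μ0 : μ ≠ 0 := by rcases hμ with rfl | rfl <;> simp
  let F' := AddMonoidHom.mk' F a
  have b : Function.Bijective F := Finite.injective_iff_bijective.1 ((injective_iff_map_eq_zero F').2 fun x e0 =>
    om_nd fun y => (mul_eq_zero.1 (by rw [← e, show F x = 0 from e0]; vs [om])).resolve_left μ0)
  exact ⟨.ofBijective ⟨⟨F, a⟩, fun d x => sub_eq_zero.1 (om_nd fun y => by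
    obtain ⟨y, rfl⟩ := b.2 y
    simp only [RingHom.id_apply, om_sub, om_sm, e]
    ring)⟩ b, k⟩
theorem dg (w : Wt ev τ k l φ) (a : Ap ev τ f) : Dg f k l φ := fun v => by
  obtain ⟨_, _, e1, e2⟩ := a _ (qv_mem v)
  rw [← pr_qv v, ← e2, h.inj (e1.symm.trans (w.cj _))]
  exact ⟨rfl, rfl, rfl, rfl⟩
theorem sq2 (h2 : p = 2) (k : Ap ev g f) (v : V σ) (e : qf v = 0) : qf (f v) = 0 := by
  subst h2
  have k2 : ∀ c ∈ Q1 σ, ev c * ev c = 1 ↔ qf (pr c) = 0 := fun c hc => by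
    dt h [mQ1.1 hc, qf, pr, CharTwo.add_self_eq_zero]
    fs [mul_zero, zero_mul, add_zero, sub_zero, true_and]
  obtain ⟨c1, h1, e1, k1⟩ := k _ (qv_mem v)
  have := congrArg (g * · * g⁻¹) ((k2 _ (qv_mem v)).2 e)
  simp only [cj_mul', e1, mul_one, mul_inv_cancel] at this
  exact k1 ▸ (k2 _ h1).1 this
theorem ker1 (e : Es p S ((Q1 σ).map ev) A) (hg : g ∈ A) (k : Ap ev g (1 : AV σ)) : g ∈ ai ((Q1 σ).map ev) ((Q1 σ).map ev) :=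
  h.in1 e hg (by
    rintro _ ⟨c, hc, rfl⟩
    obtain ⟨c', h1, e1, e2⟩ := k c hc
    rw [e1, h.inv, h.mul, h.mm]
    vs [pr, one_ap] at e2
    ds h [e2, mQ1.1 hc, mQ1.1 h1]
    cg)
/-- `Z₂ / Z₁` is the fixed space of `S` on `Q₁ / Z₁` -/
theorem tZ2 (hg : g ∈ nz ((Q1 σ).map ev)) (ht : g ∈ nz (ai S ((Q1 σ).map ev))) : g ∈ nz ((Z2 σ).map ev) :=
  nz_of_char (fun w => ⟨fun k => ⟨h.l31 (h.l23 k), fun t ht => by
    obtain ⟨-, s, hs, a⟩ := mem_ai.1 ht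
    have := h.cS2.symm w k s hs
    rwa [show w * s * w⁻¹ * s⁻¹ = w * (s * w⁻¹ * s⁻¹) by group, ← a _ (inv_mem (h.l31 (h.l23 k))), ← mul_assoc,
      ← mul_assoc] at this⟩, fun ⟨k1, k⟩ => by
    have k2 := fun c => k _ (mem_ai_of_mem (h.mS c) (h.nQ1 (h.mS c)))
    db h k1 c hc
    have e1 := k2 (xa 1)
    have e2 : c.u = 0 := by ds h [mQ1.1 hc] at e1; grind
    have e3 : c.s = 0 := cr_nd (σ := σ) fun a => by
      have := k2 (xa a)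
      ds h [mQ1.1 hc, e2] at this ⊢
      grind
    refine h.mm.2 ⟨hc, e2, e3, tr_nd (σ := σ) fun a => ?_⟩
    have := k2 (xa a)
    ds h [mQ1.1 hc, e2, e3] at this ⊢
    grind⟩) hg ht (h.q1Z1 hg)
end

/-- the chunk TR -/
theorem trc : TR σ Γ p := fun L S A D ev M1 M2 h y e ti hB ⟨τ, hτ, wτ⟩ => by
  let A0 := A ⊓ pm ((Z1 σ).map ev)
  have hT : ai S ((Q1 σ).map ev) ≤ A0 := le_inf e.nA ((ai_le (inf_le_left.trans h.cS1.cz)
    (cz_anti (h.l12.trans (h.l23.trans h.l31)))).trans cz_pm)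
  choose π0 k0 using fun g : A0 => ex1 h (e.An g.2.1) g.2.2
  let π : A0 →* AV σ := .mk' π0 fun g g' => uq h (k0 _) ((k0 g).mul (k0 g'))
  have k : ∀ g : A0, Ap ev g (π g) := k0
  have mT : ∀ u, ev u ∈ ai S ((Q1 σ).map ev) := fun u => mem_ai_of_mem (h.mS u) (h.nQ1 (h.mS u))
  have fra : ∀ g ∈ A, ∃ a ∈ A0, a⁻¹ * g ∈ nz ((Z2 σ).map ev) := fun g hg => by
    obtain ⟨a, ha, c1⟩ := e.cjX hT inf_le_left hg (cj_le_n hT (mem_nz_inf (le_nz_self A hg) (pm_nz (h.q1Z1 (e.An hg)))))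
    exact ⟨a⁻¹, inv_mem ha, by
      rw [inv_inv]; exact tZ2 h (e.An (mul_mem ha.1 hg)) (mem_nz_of_le (cj_cj a g _ ▸ c1))⟩
  have bor : ∀ g : A0, Bo (π g) → ∃ a, ∃ κ ∈ D, ∃ k l φ, Wt ev κ k l φ ∧ Dg ((tv a)⁻¹ * π g) k l φ := fun g b => by
    obtain ⟨_, hu, κ, hκ, k', l, φ, w, a⟩ := hB g g.2.1 ((k g).bo b)
    obtain ⟨u, -, rfl⟩ := h.ex hu
    refine ⟨-u.a, κ, hκ, k', l, φ, w, dg h w ?_⟩
    rw [tv_inv]
    exact ((acU u⁻¹).mul (k g)).ag (by simpa using (a.mul_left (ev u)⁻¹).symm)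
  obtain ⟨s1, ⟨n, hn⟩, s3⟩ := L π.range ⟨⟨by
      rintro _ ⟨a, rfl⟩; exact ⟨⟨_, hT (mT (xa (-a)))⟩, uq h (k _) (by simpa using acU (ev := ev) (xa (-a)))⟩,
    fun c => (e.syl.mono_right hT inf_le_left).2 (c.trans (by
      rw [π.range_eq_map, ← relIndex_comap, relIndex_top_right]
      refine index_dvd_of_le fun g hg => ?_
      obtain ⟨-, _, hu, a⟩ := mem_ai.1 (mem_subgroupOf.1 hg)
      obtain ⟨u, -, rfl⟩ := h.ex hu
      exact ⟨-u.a, uq h (k g) ((acU u).ag a)⟩))⟩,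
    by rintro _ ⟨g, rfl⟩; exact let ⟨μ, hμ, e⟩ := fm h (k g) g.2.2; ⟨μ, by rcases hμ with rfl | rfl <;> simp, e⟩,
    by rintro h2 _ ⟨g, rfl⟩; exact sq2 h h2 (k g),
    by rintro _ ⟨g, rfl⟩ b; exact let ⟨u, _, _, r, t, φ, w, d⟩ := bor g b; ⟨u, r, t, φ, w.k0, w.l0, w.hl, d⟩,
    by
      rintro _ ⟨g, rfl⟩ a a0 ⟨b, eb⟩
      have k1 : Ap ev (ev (xa (-a))) (tv a : AV σ) := by simpa using acU (ev := ev) (xa (-a))
      have k2 := ker1 h e (mul_mem (e.nA (mT (xa b))) (mul_mem (mul_mem g.2.1 (e.nA (mT (xa (-a))))) g⁻¹.2.1)) (by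
        have := (acU (ev := ev) (xa b)).mul (((k g).mul k1).mul (k g⁻¹))
        rwa [map_inv, eb, ← tv_add, xa_a, neg_add_cancel, tv_zero] at this)
      refine bo_of h (k g) (tZ2 h (e.An g.2.1) (ti.ti g g.2.1 _ (mT (xa (-a))) (fun c => a0 ?_) ?_).2)
      · simpa [mQ1] using h.mm.1 (e.mem (h.mS _) c)
      · exact (mul_mem_cancel_left (mT (xa b))).1 (ai_mono (h.le _) _ k2),
    by
      by_contra! c
      refine e.not_nz fun g hg => ?_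
      obtain ⟨a, ha, k1⟩ := fra g hg
      obtain ⟨u, hu, κ, -, _, _, _, w, ag⟩ := hB g hg ((mul_mem_cancel_left (inv_mem ((k ⟨a, ha⟩).bo (c _ ⟨_, rfl⟩)))).1 k1)
      exact ag.mem_of_cz_le ((cz_le_ai _ _).trans (le_nz_self _))
        (mem_nz_ai (mul_mem (le_nz_self S hu) (h.wS w)) (mul_mem (h.nQ1 hu) (h.w1 w))),
    have m : τ ∈ A0 := ⟨hτ, .inr (by
      rintro _ ⟨c, hc, rfl⟩
      rw [wτ.cj]
      ds h [] at hc
      ds h [hc]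
      ring)⟩
    ⟨_, ⟨⟨τ, m⟩, rfl⟩, dg h wτ (k ⟨τ, m⟩)⟩⟩
  refine ⟨fun ν hν => ?_, ⟨n, n.2.1, fun c c' hc e1 => ?_⟩, fun g hg => ?_⟩
  · obtain ⟨_, ⟨g, rfl⟩, d⟩ := s1 ν hν
    have n0 : (nm σ ν)⁻¹ ≠ 0 := inv_ne_zero (nm0 hν)
    obtain ⟨a, κ, hκ, k', l, φ, w, d'⟩ := bor g ⟨(π g e0).2.2.2, by vs [d _, e0, RingEquiv.refl_apply]⟩
    rw [tv_inv] at d'
    have q := d' (1, 0, 0, 0)
    vs [mul_ap, tv_ap, d _, RingEquiv.refl_apply] at q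
    have a0 : a = 0 := by simpa [nm0 hν, hν, sz] using q.2.1
    have q1 : ∀ s, (nm σ ν)⁻¹ * ν ^ 2 * s = l * k' * φ s := fun s => by
      simpa [a0, tv_zero, d _] using (d' (0, s, 0, 0)).2.1
    have l1 : l = (nm σ ν)⁻¹ := by rw [← q.1]; fs []
    have q2 : k' = ν ^ 2 := mul_left_cancel₀ n0 (by simpa [l1] using (q1 1).symm)
    obtain rfl : φ = .refl K := RingEquiv.ext fun s =>
      (mul_left_cancel₀ (mul_ne_zero n0 (pow_ne_zero 2 hν)) (by rw [RingEquiv.refl_apply, q1 s, l1, q2])).symm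
    exact ⟨κ, hκ, w.cast q2 l1⟩
  · obtain ⟨c1, -, e2, e3⟩ := k n c hc
    rw [hn, h.inj (e2.symm.trans e1)] at e3
    vs [pr, n1_ap] at e3
    exact e3
  · obtain ⟨a, ha, k1⟩ := fra g hg
    refine (s3 _ ⟨⟨a, ha⟩, rfl⟩).imp (fun b => (mul_mem_cancel_left (inv_mem ((k _).bo b))).1 k1) fun ⟨t, b⟩ =>
      ⟨_, h.mS (xa (-t)), ?_⟩
    have := mul_mem ((((acM y).mul (by simpa using acU (ev := ev) (xa (-t)))).mul (k ⟨a, ha⟩)).bo b) k1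
    simpa [mul_assoc] using this

end H22.TD
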