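/-
Fusion systems on a Sylow `p`-subgroup of `³D₄(q)`: the Weyl elements (chunks N1 and N2).
-/
import Cfsg.Agent.H29.TD3

set_option autoImplicit false
set_option linter.unusedSectionVars false
set_option linter.unusedSimpArgs false

namespace H22.TD
open Subgroup H29.TD H29.TD.Dc H25.FS
open H25 hiding Md tr fx
open H8.PU hiding Bo N2 SY S2 Wt sz Ac2 Co sn n1_ap card_K Fx LH Opp Md n1 Tr2 G2 Dg MD AV Wy L2 TR
universe u v
variable {K : Type v} [Field K] [Finite K] {σ : K →+* K} [TV σ] {Γ : Type u} [Group Γ] [Finite Γ] {p : ℕ} [Fact p.Prime]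
  [CharP K p] {S A Q Z : Subgroup Γ} {ev : Dc σ →* Γ} {g β τ τ' M : Γ} {k l : K} {X Y : Subgroup (Dc σ)} {F : Dc σ → Dc σ}
  {φ : Dc σ → K} {w : K → K}

/-- a multiplicative function that is not additive -/
structure NA (w : K → K) : Prop where
  mul : ∀ x y, w (x * y) = w x * w y
  ne : ∀ x, x ≠ 0 → w x ≠ 0
  zero : w 0 = 0
  na : ∃ x y, w (x + y) ≠ w x + w y
theorem na_sh : NA (sh σ) := ⟨fun _ _ => by fs []; ring, fun _ => sh0, by fs [mul_zero], by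
  by_contra! h
  exact one_ne_zero (cr_nd (σ := σ) fun a => by have := h a 1; fs [] at this ⊢; linear_combination this)⟩
theorem na_nm : NA (nm σ) := ⟨nm_mul, fun _ => nm0, by fs [mul_zero], by
  by_contra! h
  obtain ⟨θ, hθ⟩ := ex_ne σ
  have e : θ - tr σ θ = 0 := tr_nd (σ := σ) fun y => by
    have a := h 1 (θ + y)
    have b := h 1 θ
    have c := h 1 y
    fs [] at a b c ⊢
    linear_combination b + c - a
  exact hθ (by rw [sub_eq_zero.1 e, s_tr])⟩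
/-- averaging over the multiplicative group -/
theorem avg [Fintype Kˣ] (n : NA w) {f : K → K} (ha : ∀ x y, f (x + y) = f x + f y) {B : Kˣ → K → K}
    (h : ∀ (k : Kˣ) x, f (k * x) = w k * (f x + B k x)) (x : K) : f x = ∑ k, B k x := by
  let Φ : K → K := fun x => ∑ k : Kˣ, (w k)⁻¹ * f (k * x)
  have e : ∀ a, Φ (a * x) = w a * Φ x := fun a => by
    by_cases a0 : a = 0
    · simp [Φ, a0, n.zero, show f 0 = 0 by simpa using ha 0 0]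
    simp only [Φ, Finset.mul_sum]
    refine Fintype.sum_equiv (Equiv.mulLeft (Units.mk0 a a0)) _ _ fun k => ?_
    have := n.ne a a0
    simp only [Equiv.coe_mulLeft, Units.val_mul, Units.val_mk0, n.mul, mul_left_comm (k : K) a, mul_assoc]
    field_simp
  obtain ⟨a, b, c⟩ := n.na
  have e0 : Φ x = 0 := (mul_eq_zero.1 (by
    rw [sub_mul, add_mul, ← e, ← e, ← e]
    simp only [Φ, add_mul, mul_add, ha, Finset.sum_add_distrib, sub_self])).resolve_left (sub_ne_zero.2 c)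
  have := Fintype.ofFinite K
  simp only [Φ, h, inv_mul_cancel_left₀ (n.ne _ (Units.ne_zero _)), Finset.sum_add_distrib, Finset.sum_const, Finset.card_univ,
    nsmul_eq_mul, ← Nat.card_eq_fintype_card, Nat.card_units, Nat.cast_pred (Nat.card_pos (α := K))] at e0
  rw [Nat.card_eq_fintype_card, FiniteField.cast_card_eq_zero] at e0
  linear_combination -e0
theorem one {f : Fx σ → K} (f0 : f 0 = 0) (h : ∀ k, k ≠ 0 → ∃ b, ∀ u : Fx σ, f u = nm σ k * (f u + b * u)) (u : Fx σ) :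
    f u = f 1 * u := by
  obtain ⟨k, e⟩ := nm_onto (σ := σ) 0 (fx u)
  rw [zero_mul, tr_zero, add_zero] at e
  by_cases k0 : k = 0
  · rw [show u = 0 from Subtype.ext (by rw [← e, k0, na_nm.zero]; rfl), f0]; simp
  by_cases u1 : u = 1
  · simp [u1]
  obtain ⟨b, hb⟩ := h k k0
  have e1 := hb 1
  have e2 := hb u
  rw [e] at e1 e2
  exact mul_left_cancel₀ (sub_ne_zero.2 fun c => u1 (Subtype.ext c) : (u : K) - 1 ≠ 0) (by
    rw [Subfield.coe_one] at e1; linear_combination u * e1 - e2)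

theorem co_id : Co ⊤ (MonoidHom.id (Dc σ)) := ⟨fun _ _ e => e, fun w => ⟨fun _ => ⟨w, rfl⟩, fun _ => trivial⟩⟩
/-- the kernel of a homomorphism to the additive group contains the commutators -/
theorem ker_cm (ha : ∀ c ∈ X, ∀ d ∈ X, φ (c * d) = φ c + φ d) : ∃ W : Subgroup (Dc σ), (∀ c ∈ W, φ c = 0) ∧
    ∀ c ∈ X, ∀ d ∈ X, c * d * c⁻¹ * d⁻¹ ∈ W := by
  have e1 : φ 1 = 0 := by simpa using ha 1 (one_mem _) 1 (one_mem _)
  have e2 : ∀ c ∈ X, φ c⁻¹ = -φ c := fun c hc => by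
    have := ha c hc _ (inv_mem hc); rw [mul_inv_cancel, e1] at this; linear_combination -this
  refine ⟨sb (fun c => c ∈ X ∧ φ c = 0) ⟨one_mem _, e1⟩ (fun c d h h' => ⟨mul_mem h.1 h'.1, by rw [ha c h.1 d h'.1, h.2, h'.2, add_zero]⟩)
    fun c h => ⟨inv_mem h.1, by rw [e2 c h.1, h.2, neg_zero]⟩, fun _ h => h.2, fun c hc d hd =>
      ⟨mul_mem (mul_mem (mul_mem hc hd) (inv_mem hc)) (inv_mem hd), ?_⟩⟩
  rw [ha _ (mul_mem (mul_mem hc hd) (inv_mem hc)) _ (inv_mem hd), ha _ (mul_mem hc hd) _ (inv_mem hc), ha c hc d hd, e2 c hc,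
    e2 d hd]
  ring
theorem kill1 (ha : ∀ c ∈ Q1 σ, ∀ d ∈ Q1 σ, φ (c * d) = φ c + φ d) : ∀ c ∈ Z1 σ, φ c = 0 := fun c hc =>
  let ⟨_, h1, h2⟩ := ker_cm ha
  h1 c (co_id.Zle' (c := xs 1) rfl rfl one_ne_zero (fun _ => h2 _ rfl _ rfl) (mem_map_of_mem _ hc))
theorem kill2 (ha : ∀ c ∈ Q2 σ, ∀ d ∈ Q2 σ, φ (c * d) = φ c + φ d) : ∀ c ∈ Z3 σ, φ c = 0 := fun c hc =>
  let ⟨_, h1, h2⟩ := ker_cm ha
  h1 c (co_id.Z3le (co_id.Z2le (co_id.Zle' (c := xs 1) rfl rfl one_ne_zero fun _ => h2 _ rfl _ rfl) (c := xa 1) one_ne_zero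
    fun _ => h2 _ rfl _ rfl) (fun _ _ => h2 _ rfl _ rfl) (mem_map_of_mem _ hc))
/-- averaging on `Q₂` -/
theorem avg2 [Fintype Kˣ] (n : NA w) (ha : ∀ c ∈ Q2 σ, ∀ d ∈ Q2 σ, φ (c * d) = φ c + φ d) {B : Kˣ → K → K → K}
    (h : ∀ (k : Kˣ), ∀ c ∈ Q2 σ, φ (sc k 1 (map_one σ) (.refl K) c) = w k * (φ c + B k c.a c.s)) {c : Dc σ} (hc : c ∈ Q2 σ) :
    φ c = ∑ k, B k c.a c.s := by
  have a : ∀ c ∈ Q2 σ, ∀ d ∈ Q2 σ, d.a = c.a → d.s = c.s → φ d = φ c := fun c hc d hd e e' => by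
    have k : c⁻¹ * d ∈ Z3 σ := by simp [mZ3, mQ2.1 hc, mQ2.1 hd, e, e']
    rw [← mul_inv_cancel_left c d, ha c hc _ k.2.1, kill2 ha _ k, add_zero]
  have := avg n (f := fun x => φ (el (x * c.a) (x * c.s) 0)) (B := fun k x => B k (x * c.a) (x * c.s)) (fun x y => by
    rw [← ha _ rfl _ rfl]; exact a _ (by simp [mQ2]) _ rfl (by simp [add_mul]) (by simp [add_mul])) (fun k x =>
      (a _ (by simp [mQ2]) _ rfl (by simp [mul_assoc]) (by simp [mul_assoc])).trans (h k (el (x * c.a) (x * c.s) 0) rfl)) 1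
  simp only [one_mul] at this
  exact (a (el c.a c.s 0) rfl _ hc rfl rfl).trans this

/-- the commutator with a torus element is inner -/
theorem cmm (hin : ∀ x ∈ A, Cm x Q Z → x ∈ ai Q Q) (hM : M ∈ nz Q) (hM' : M ∈ nz Z) (h1 : τ ∈ nz Q) (h2 : τ ∈ nz Z)
    (hβ : M⁻¹ * g ∈ stab Q Z) (ag : Agree Q (τ' * M) (M * τ)) (hg : g ∈ A) (hτ : τ ∈ A) (hτ' : τ' ∈ A) :
    τ⁻¹ * (M⁻¹ * g) * τ * (M⁻¹ * g)⁻¹ ∈ ai Q Q := by
  have e := agree_iff.1 ag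
  have k := conj_mem_of_mem_nz (mem_nz_stab hM (mem_nz_inf hM hM')) (mul_mem (inv_mem (cz_le_stab Q Z e))
    (mul_mem (conj_mem_of_mem_nz' (mem_nz_stab h1 (mem_nz_inf h1 h2)) hβ) (inv_mem hβ)))
  have := mul_mem (cz_le_ai Q Q e) (conj_mem_of_mem_nz' (nz_le_nz_ai_self Q hM) (hin _ (by
    simpa [mul_assoc] using mul_mem (mul_mem (mul_mem (inv_mem hτ') hg) hτ) (inv_mem hg)) (mem_stab'.1 k).2))
  simpa [mul_assoc] using this

section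
variable (h : Co S ev)
include h
theorem exF (hβ : β ∈ stab (X.map ev) (Y.map ev)) : ∃ F : Dc σ → Dc σ, ∀ c ∈ X, F c ∈ Y ∧ β * ev c * β⁻¹ = ev (F c * c) := by
  choose! F m e using fun c (hc : c ∈ X) => (mem_stab'.1 hβ).2 _ (mem_map_of_mem ev hc)
  exact ⟨F, fun c hc => ⟨m c hc, by rw [map_mul, e c hc, inv_mul_cancel_right]⟩⟩
theorem hom (e : ∀ c ∈ X, F c ∈ Y ∧ β * ev c * β⁻¹ = ev (F c * c)) {c d : Dc σ} (hc : c ∈ X) (hd : d ∈ X) :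
    F (c * d) * (c * d) = F c * c * (F d * d) :=
  h.inj (by rw [← (e _ (mul_mem hc hd)).2, map_mul, cj_mul', (e c hc).2, (e d hd).2, ← map_mul])
theorem rel (hY : Y ≤ X) (e : ∀ c ∈ X, F c ∈ Y ∧ β * ev c * β⁻¹ = ev (F c * c)) (w : Wt ev τ k l (.refl K))
    (i : τ⁻¹ * β * τ * β⁻¹ ∈ ai (X.map ev) (X.map ev)) : ∃ u ∈ X, ∀ c ∈ X, sc k l w.hl (.refl K) c ∈ X →
      F (sc k l w.hl (.refl K) c) * sc k l w.hl (.refl K) c = sc k l w.hl (.refl K) (u * (F c * c) * u⁻¹) := by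
  obtain ⟨-, _, ⟨u, hu, rfl⟩, a⟩ := mem_ai.1 i
  refine ⟨u, hu, fun c hc hs => h.inj ?_⟩
  rw [← (e _ hs).2, ← w.cj, ← w.cj, map_mul, map_mul, map_inv, ← a _ (h.mm.2 (mul_mem (hY (e c hc).1) hc)), ← (e c hc).2]
  group

theorem inn2a (hβ : β ∈ stab ((Q2 σ).map ev) ((Z3 σ).map ev))
    (w : ∀ k, k ≠ 0 → ∃ τ, Wt ev τ k 1 (.refl K) ∧ τ⁻¹ * β * τ * β⁻¹ ∈ ai ((Q2 σ).map ev) ((Q2 σ).map ev)) :
    ∃ y ∈ Q2 σ, (ev y)⁻¹ * β ∈ stab ((Q2 σ).map ev) ((Z2 σ).map ev) := by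
  obtain ⟨F, e⟩ := exF h hβ
  have := Fintype.ofFinite Kˣ
  choose τ w i using fun k : Kˣ => w k k.ne_zero
  choose u hu r using fun k => rel h (fun _ k => (mZ3.1 k).2.1) e (w k) (i k)
  have a := fun c hc => avg2 (φ := fun c => (F c).r) (B := fun k a s => cr σ a (u k).s - cr σ (u k).a s) (c := c) na_sh
    (fun c hc d hd => by
      have := congrArg Dc.r (hom h e hc hd)
      ds h [mZ3.1 (e _ hc).1, mZ3.1 (e _ hd).1, mZ3.1 (e _ (mul_mem hc hd)).1, mQ2.1 hc, mQ2.1 hd] at this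
      linear_combination this)
    (fun k c hc => by
      have s : sc (k : K) 1 (map_one σ) (.refl K) c ∈ Q2 σ := by simp [mQ2, mQ2.1 hc]
      have := congrArg Dc.r (r k c hc s)
      ds h [mZ3.1 (e _ hc).1, mZ3.1 (e _ s).1, mQ2.1 hc, mQ2.1 (hu k)] at this ⊢
      linear_combination this) hc
  refine ⟨el (∑ k, (u k).a) (∑ k, (u k).s) 0, rfl, mem_stab'.2 ⟨mul_mem (inv_mem (h.nQ2 (h.mS _))) hβ.1, ?_⟩⟩
  rintro _ ⟨c, hc, rfl⟩
  have a1 : (F c).r = cr σ c.a (∑ k, (u k).s) - cr σ (∑ k, (u k).a) c.s := by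
    simp only [a c hc, cr, map_sum, Finset.mul_sum, Finset.sum_mul, Finset.sum_add_distrib, Finset.sum_sub_distrib]
  rw [cj_mul2, (e c hc).2]
  generalize ∑ k, (u k).a = ya, ∑ k, (u k).s = ys at a1 ⊢
  ds h [mZ3.1 (e _ hc).1, mQ2.1 hc, a1]
  cg
theorem inn2b (hβ : β ∈ stab ((Q2 σ).map ev) ((Z2 σ).map ev))
    (w : ∀ k, k ≠ 0 → ∃ τ, Wt ev τ k 1 (.refl K) ∧ τ⁻¹ * β * τ * β⁻¹ ∈ ai ((Q2 σ).map ev) ((Q2 σ).map ev)) :
    ∃ y ∈ Q2 σ, Agree ((Q2 σ).map ev) β (ev y) := by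
  obtain ⟨F, e⟩ := exF h hβ
  have := Fintype.ofFinite Kˣ
  choose τ w i using fun k : Kˣ => w k k.ne_zero
  choose u hu r using fun k => rel h (fun _ k => (mZ2.1 k).2.1) e (w k) (i k)
  have s : ∀ k : Kˣ, ∀ c ∈ Q2 σ, sc (k : K) 1 (map_one σ) (.refl K) c ∈ Q2 σ := fun k c hc => by simp [mQ2, mQ2.1 hc]
  have u0 : ∀ k a s, cr σ a (u k).s - cr σ (u k).a s = 0 := fun k a t => (mul_eq_zero.1 (by
    have := congrArg Dc.r (r k (el a t 0) rfl (s _ _ rfl))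
    ds h [mZ2.1 (e (el a t 0) rfl).1, mZ2.1 (e _ (s k (el a t 0) rfl)).1, mQ2.1 (hu k)] at this ⊢
    linear_combination -this)).resolve_left (sh0 (σ := σ) k.ne_zero)
  have u1 : ∀ k, (u k).s = 0 := fun k => cr_nd (σ := σ) fun a => by simpa [cr] using u0 k a 0
  have u2 : ∀ k, (u k).a = 0 := fun k => cr_nd (σ := σ) fun a => by have := u0 k 0 a; fs [mul_zero, zero_mul] at this ⊢; linear_combination -this
  have a := fun c hc => avg2 (φ := fun c => (F c).v) (B := fun k a s => tr σ (a * (u k).r)) (c := c) na_nm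
    (fun c hc d hd => by
      have := congrArg Dc.v (hom h e hc hd)
      ds h [mZ2.1 (e _ hc).1, mZ2.1 (e _ hd).1, mZ2.1 (e _ (mul_mem hc hd)).1, mQ2.1 hc, mQ2.1 hd] at this
      linear_combination this)
    (fun k c hc => by
      have := congrArg Dc.v (r k c hc (s k c hc))
      ds h [mZ2.1 (e _ hc).1, mZ2.1 (e _ (s k c hc)).1, mQ2.1 hc, mQ2.1 (hu k), u1, u2] at this ⊢
      linear_combination this) hc
  have b := fun c hc => avg2 (φ := fun c => (F c).z) (B := fun k a s => tr σ (s * (u k).r)) (c := c) na_nm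
    (fun c hc d hd => by
      have := congrArg Dc.z (hom h e hc hd)
      ds h [mZ2.1 (e _ hc).1, mZ2.1 (e _ hd).1, mZ2.1 (e _ (mul_mem hc hd)).1, mQ2.1 hc, mQ2.1 hd] at this
      linear_combination this)
    (fun k c hc => by
      have := congrArg Dc.z (r k c hc (s k c hc))
      ds h [mZ2.1 (e _ hc).1, mZ2.1 (e _ (s k c hc)).1, mQ2.1 hc, mQ2.1 (hu k), u1, u2] at this ⊢
      linear_combination this) hc
  refine ⟨xr (∑ k, (u k).r), rfl, ?_⟩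
  rintro _ ⟨c, hc, rfl⟩
  have a1 : (F c).v = tr σ (c.a * ∑ k, (u k).r) ∧ (F c).z = tr σ (c.s * ∑ k, (u k).r) := by
    simp only [a c hc, b c hc, tr, map_sum, Finset.mul_sum, Finset.sum_add_distrib, and_self]
  rw [(e c hc).2]
  generalize ∑ k, (u k).r = y at a1 ⊢
  ds h [mZ2.1 (e _ hc).1, mQ2.1 hc, a1]
  cg
theorem inn1 (hβ : β ∈ stab ((Q1 σ).map ev) ((Z1 σ).map ev)) (w : ∀ k l, k ≠ 0 → l ≠ 0 → σ l = l →
    ∃ τ, Wt ev τ k l (.refl K) ∧ τ⁻¹ * β * τ * β⁻¹ ∈ ai ((Q1 σ).map ev) ((Q1 σ).map ev)) :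
    ∃ y ∈ Q1 σ, Agree ((Q1 σ).map ev) β (ev y) := by
  obtain ⟨F, e⟩ := exF h hβ
  have := Fintype.ofFinite Kˣ
  have ha : ∀ c ∈ Q1 σ, ∀ d ∈ Q1 σ, (F (c * d)).z = (F c).z + (F d).z := fun c hc d hd => by
    have := congrArg Dc.z (hom h e hc hd)
    ds h [mZ1.1 (e _ hc).1, mZ1.1 (e _ hd).1, mZ1.1 (e _ (mul_mem hc hd)).1, mQ1.1 hc, mQ1.1 hd] at this
    linear_combination this
  have r : ∀ k l, k ≠ 0 → l ≠ 0 → ∀ hl : σ l = l, ∃ u : Dc σ, ∀ c ∈ Q1 σ, ∀ d, d = sc k l hl (.refl K) c → (F d).z =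
      l ^ 2 * nm σ k * ((F c).z + (u.u * c.v - c.u * u.v - tr σ (u.s * c.r) + tr σ (c.s * u.r))) := fun k l k0 l0 hl => by
    obtain ⟨τ, w, i⟩ := w k l k0 l0 hl
    obtain ⟨u, hu, r⟩ := rel h (fun _ k => (mZ1.1 k).1) e w i
    refine ⟨u, ?_⟩
    rintro c hc _ rfl
    have s : sc k l hl (.refl K) c ∈ Q1 σ := by simp [mQ1, mQ1.1 hc]
    have := congrArg Dc.z (r c hc s)
    ds h [mZ1.1 (e _ hc).1, mZ1.1 (e _ s).1, mQ1.1 hc, mQ1.1 hu, hl] at this ⊢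
    linear_combination this
  choose u r1 using fun k : Kˣ => r k 1 k.ne_zero one_ne_zero (map_one σ)
  choose u' r2 using fun k : Kˣ => r (k : K)⁻¹ _ (inv_ne_zero k.ne_zero) (nm0 k.ne_zero) (s_nm (k : K))
  have n : ∀ k : Kˣ, nm σ k ^ 2 * nm σ (k : K)⁻¹ = nm σ k := fun k => by
    have := sn (σ := σ) k.ne_zero; have := sn (σ := σ) this; fs []; field_simp
  have kl := kill1 (φ := fun c => (F c).z) ha
  have a1 := avg na_nm (f := fun s => (F (xs s)).z) (B := fun k s => tr σ (s * (u k).r))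
    (fun x y => by rw [← ha _ rfl _ rfl]; congr 2; ds h []) fun k x => by
      simpa [tr_zero] using r1 k (xs x) rfl (xs (k * x)) (by dt h [])
  have a2 := avg na_nm (f := fun s => (F (xr s)).z) (B := fun k s => -tr σ ((u' k).s * s))
    (fun x y => by rw [← ha _ rfl _ rfl]; congr 2; ds h []) fun k x => by
      simpa [tr_zero, n] using r2 k (xr x) rfl (xr (k * x)) (by
        have := sn (σ := σ) k.ne_zero; have := sn (σ := σ) this; ds h [map_inv₀]; field_simp)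
  have a3 := one (f := fun x => (F (xu x (fx x))).z) (kl _ ⟨rfl, rfl, rfl, rfl, rfl⟩) fun k k0 => ⟨-(u (.mk0 k k0)).v, fun x => by
    have := r1 (.mk0 k k0) (xu x (fx x)) rfl (xu x (fx x)) (by dt h [])
    dt h [tr_zero, Units.val_mk0] at this
    linear_combination this⟩
  have a4 := one (f := fun x => (F (xv x (fx x))).z) (kl _ ⟨rfl, rfl, rfl, rfl, rfl⟩) fun k k0 => ⟨(u' (.mk0 k k0)).u, fun x => by
    have := r2 (.mk0 k k0) (xv x (fx x)) rfl (xv x (fx x)) (by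
      have := sn (σ := σ) k0; have := sn (σ := σ) this; ds h [map_inv₀, Units.val_mk0]; field_simp)
    rw [n] at this
    dt h [tr_zero, Units.val_mk0] at this
    exact this⟩
  refine ⟨⟨0, (F (xv 1 (map_one σ))).z, ∑ k, (u' k).s, ∑ k, (u k).r, -(F (xu 1 (map_one σ))).z, 0, hz _, by rw [map_neg, hz],
    map_zero σ⟩, rfl, ?_⟩
  rintro _ ⟨c, hc, rfl⟩
  have q : xu c.u c.hu * xs c.s * xr c.r * xv c.v c.hv ∈ Q1 σ := by simp [mQ1]
  have k : (xu c.u c.hu * xs c.s * xr c.r * xv c.v c.hv)⁻¹ * c ∈ Z1 σ := by ds h [mQ1.1 hc]; cg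
  have b := ha _ q _ k.1
  rw [mul_inv_cancel_left, kl _ k, ha _ (by simp [mQ1]) _ rfl, ha _ (by simp [mQ1]) _ rfl, ha _ rfl _ rfl, a1, a2,
    a3 ⟨c.u, c.hu⟩, a4 ⟨c.v, c.hv⟩] at b
  have b1 : ∑ k, tr σ (c.s * (u k).r) = tr σ (c.s * ∑ k, (u k).r) ∧ ∑ k, -tr σ ((u' k).s * c.r) = -tr σ ((∑ k, (u' k).s) * c.r) := by
    simp only [tr, map_sum, Finset.mul_sum, Finset.sum_mul, Finset.sum_add_distrib, Finset.sum_neg_distrib, and_self]
  rw [b1.1, b1.2] at b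
  rw [(e c hc).2]
  generalize ∑ k, (u k).r = y, ∑ k, (u' k).s = y' at b ⊢
  ds h [mZ1.1 (e _ hc).1, mQ1.1 hc, b, Subfield.coe_one]
  cg
end

/-- the chunk N2 -/
theorem n2c : N2 σ Γ p := fun S A ev M1 M2 h y e hT ⟨g, hg, kg⟩ => by
  have hβ : M2⁻¹ * g ∈ stab ((Q2 σ).map ev) ((Z3 σ).map ev) := mem_stab'.2 ⟨mul_mem (inv_mem (h.nM2 y)) (e.An hg), by
    rintro _ ⟨c, hc, rfl⟩
    obtain ⟨d, hd, e1⟩ := conj_mem_of_mem_nz (mul_mem (inv_mem (h.nM2 y)) (e.An hg)) (h.mm.2 hc)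
    have := kg c (m2 d) hc (by rw [← y.f2 d hd, e1]; group)
    rw [← e1]
    dt h [mQ2.1 hc, mQ2.1 hd] at this ⊢
    cg⟩
  have w : ∀ k, k ≠ 0 → ∃ τ, Wt ev τ k 1 (.refl K) ∧
      τ⁻¹ * (M2⁻¹ * g) * τ * (M2⁻¹ * g)⁻¹ ∈ ai ((Q2 σ).map ev) ((Q2 σ).map ev) := fun k k0 =>
    let ⟨τ, hτ, w⟩ := hT k k0
    ⟨τ, w, cmm (fun _ => h.in2 e) (h.nM2 y) (h.q2Z3 (h.nM2 y)) (h.w2 w) (h.q2Z3 (h.w2 w)) hβ (by
      rintro _ ⟨c, hc, rfl⟩
      rw [cj_mul2, cj_mul2, w.cj, y.f2 c hc, w.cj, y.f2 _ (by simp [mQ2.1 hc])]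
      ds h []
      cg) hg hτ hτ⟩
  obtain ⟨u, hu, k⟩ := inn2a h hβ w
  have i := le_ai_self _ (h.mm.2 hu)
  obtain ⟨u', hu', k'⟩ := inn2b h k fun k k0 => let ⟨τ, w, j⟩ := w k k0; ⟨τ, w, by
    simpa [mul_assoc] using mul_mem (mul_mem (conj_mem_of_mem_nz' (nz_le_nz_ai_self _ (h.w2 w)) (inv_mem i)) j) i⟩
  simpa using mul_mem hg (inv_mem (e.PA (mul_mem i (k'.mem_ai (le_ai_self _ (h.mm.2 hu'))))))

/-- the chunk N1 -/
theorem n1c : N1 σ Γ p := fun S A ev M1 M2 h y e hT ⟨g, hg, kg⟩ => by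
  have hβ : M1⁻¹ * g ∈ stab ((Q1 σ).map ev) ((Z1 σ).map ev) := mem_stab'.2 ⟨mul_mem (inv_mem (h.nM1 y)) (e.An hg), by
    rintro _ ⟨c, hc, rfl⟩
    obtain ⟨d, hd, e1⟩ := conj_mem_of_mem_nz (mul_mem (inv_mem (h.nM1 y)) (e.An hg)) (h.mm.2 hc)
    have := kg c (m1 d) hc (by rw [← y.f1 d hd, e1]; group)
    rw [← e1]
    dt h [neg_inj] at this
    ds h [mQ1.1 hc, mQ1.1 hd, this]
    cg⟩
  obtain ⟨u, hu, k⟩ := inn1 h hβ fun k l k0 l0 hl =>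
    let ⟨τ, hτ, w⟩ := hT k l k0 l0 hl
    let ⟨τ', hτ', w'⟩ := hT k⁻¹ (l * nm σ k) (inv_ne_zero k0) (mul_ne_zero l0 (nm0 k0)) (by rw [map_mul, hl, s_nm])
    ⟨τ, w, cmm (fun _ => h.in1 e) (h.nM1 y) (h.q1Z1 (h.nM1 y)) (h.w1 w) (h.q1Z1 (h.w1 w)) hβ (by
      rintro _ ⟨c, hc, rfl⟩
      rw [cj_mul2, cj_mul2, w.cj, y.f1 c hc, w'.cj, y.f1 _ (by simp [mQ1.1 hc])]
      have := sn (σ := σ) k0
      have := sn (σ := σ) this
      ds h [map_inv₀, hl]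
      refine ⟨?_, ?_, ?_, ?_⟩ <;> field_simp) hg hτ hτ'⟩
  simpa using mul_mem hg (inv_mem (e.PA (k.mem_ai (le_ai_self _ (h.mm.2 hu)))))

end H22.TD
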