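/-
Fusion systems on a Sylow `p`-subgroup of `³D₄(q)`: the automizer of `Q₂` (chunks G2 and S2).
-/
import Cfsg.Agent.H29.TD3

set_option autoImplicit false
set_option linter.unusedSectionVars false
set_option linter.unusedSimpArgs false

namespace H22.TD
open Subgroup H29.TD H29.TD.Dc H25.FS
open H25 hiding Md tr fx
open H8.PU hiding Bo N2 SY S2 Wt sz Ac2 Co sn n1_ap card_K Fx LH Opp Md n1 Tr2 G2 Dg MD AV Wy L2 TR
universe u v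
variable {K : Type v} [Field K] [Finite K] {σ : K →+* K} [TV σ] {Γ : Type u} [Group Γ] [Finite Γ] {p : ℕ} [Fact p.Prime]
  [CharP K p] {S A : Subgroup Γ} {ev : Dc σ →* Γ} {g g' t : Γ} {α β γ δ α' β' γ' δ' : K} {c : Dc σ}

theorem ac2_mul (k : Ac2 ev g α β γ δ) (k' : Ac2 ev g' α' β' γ' δ') (hg : g' ∈ nz ((Q2 σ).map ev)) :
    Ac2 ev (g * g') (α * α' + β * γ') (α * β' + β * δ') (γ * α' + δ * γ') (γ * β' + δ * δ') := fun c c' hc e => by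
  obtain ⟨d, hd, e1⟩ := conj_mem_of_mem_nz hg (mem_map_of_mem ev (show c ∈ Q2 σ from hc))
  have k1 := k' c d hc e1.symm
  have k2 := k d c' hd (by rw [e1, ← cj_mul2, e])
  rw [k2.1, k2.2, k1.1, k1.2]
  exact ⟨by ring, by ring⟩
section
variable (h : Co S ev)
include h
theorem key (hg : g ∈ nz ((Q2 σ).map ev)) (e : g * ev (xs 1) * g⁻¹ = ev c) (hc : c.a = 0) : g ∈ nz ((Z1 σ).map ev) :=
  mem_nz_of_conj_mem fun w hw => by
    simpa using mem_cj.1 (h.Zle' (X := cj g⁻¹ ((Z1 σ).map ev)) (c := xs 1) rfl rfl one_ne_zero (fun r => mem_cj.2 (by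
      simpa only [inv_inv, ← cj_cm, ← e] using h.c11 _ (h.mm.2 hc) _
        (h.l31 (conj_mem_of_mem_nz (h.q2Z3 hg) (h.mm.2 (show xr r ∈ Z3 σ from ⟨rfl, rfl, rfl⟩)))))) hw)
/-- an automorphism of `Q₂` that behaves like an element of `S` acts on `Q₂ / Z₃` as a transvection -/
theorem tv2 (h1 : t ∈ stab ((Q2 σ).map ev) ((Z4 σ).map ev)) (h2 : t ∈ stab ((Z3 σ).map ev) ((Z2 σ).map ev))
    (h3 : t ∈ cz ((Z1 σ).map ev)) : ∃ γ, σ γ = γ ∧ Ac2 ev t 1 0 γ 1 := by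
  have k1 : ∀ c c', c.u = 0 → t * ev c * t⁻¹ = ev c' → c'.a = c.a ∧ c'.u = 0 := fun c c' hc e => by
    have := (mem_stab'.1 h1).2 _ (h.mm.2 (show c ∈ Q2 σ from hc))
    rw [e] at this
    dt h [hc] at this
    exact ⟨by linear_combination this.1, this.2⟩
  have k2 : ∀ c c' r, c.u = 0 → t * ev c * t⁻¹ = ev c' → t * (ev c * ev (xr r) * (ev c)⁻¹ * (ev (xr r))⁻¹) * t⁻¹ =
      ev c' * ev (xr r) * (ev c')⁻¹ * (ev (xr r))⁻¹ := fun c c' r hc e => by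
    obtain ⟨d, hd, e1⟩ := (mem_stab'.1 h2).2 (ev (xr r)) (by dt h [])
    rw [cj_cm, e, ← eq_mul_inv_iff_mul_eq.1 e1]
    ds h [] at hd
    ds h [hd, (k1 c c' hc e).2]
    cg
  obtain ⟨c0, h0, e0⟩ := conj_mem_of_mem_nz h1.1 (h.mm.2 (show xa 1 ∈ Q2 σ from rfl))
  have a0 := k1 _ _ rfl e0.symm
  obtain ⟨γ, hγ, e⟩ := perp1 (σ := σ) (m := 1) (x := c0.s) fun r hr => by
    have := k2 _ _ r rfl e0.symm
    rw [show ev (xa 1) * ev (xr r) * (ev (xa 1))⁻¹ * (ev (xr r))⁻¹ = 1 by ds h [] at hr ⊢; cg, mul_one, mul_inv_cancel,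
      eq_comm] at this
    ds h [a0] at this ⊢
    linear_combination -this.2.2.2
  refine ⟨γ, hγ, fun c c' hc e1 => ⟨by simp [k1 c c' hc e1], sub_eq_zero.1 (tr_nd (σ := σ) fun r => ?_)⟩⟩
  have := k2 c c' r hc e1
  rw [show ev c * ev (xr r) * (ev c)⁻¹ * (ev (xr r))⁻¹ = ev (xa 1) * ev (xr (c.a * r)) * (ev (xa 1))⁻¹ * (ev (xr (c.a * r)))⁻¹ *
    ev (xz (-tr σ (c.s * r)) (by rw [map_neg, s_tr])) by ds h [hc]; cg, cj_mul', k2 _ _ _ rfl e0.symm,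
    mem_cz.1 h3 _ (by dt h [])] at this
  ds h [a0, k1 c c' hc e1, e, hγ] at this ⊢
  linear_combination this.2.2.2
end

/-- the chunk G2 -/
theorem g2c : G2 σ Γ := fun S ev M1 M2 h y g hg => by
  obtain ⟨c, hc, e⟩ := conj_mem_of_mem_nz hg (h.mm.2 (show xs 1 ∈ Q2 σ from rfl))
  by_cases a0 : c.a = 0
  · exact .inl (h.q2Z4 hg (key h hg e.symm a0))
  by_cases! k : ∀ d, σ d = d → c.s ≠ d * c.a
  · obtain ⟨d, hd, e1⟩ := conj_mem_of_mem_nz (h.q2Z2 hg) (h.mm.2 (show xv 1 (map_one σ) ∈ Z2 σ from ⟨rfl, rfl, rfl, rfl⟩))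
    obtain ⟨r, k1, k2⟩ := (ind_of a0 k).onto (c := -d.v) (d := -d.z) (by rw [map_neg, d.hv]) (by rw [map_neg, d.hz])
    have := h.c11 (ev (xs 1)) (by dt h []) _ (h.l31 (conj_mem_of_mem_nz' (h.q2Z3 hg) (h.mm.2 (show xr r ∈ Z3 σ from ⟨rfl, rfl, rfl⟩))))
    rw [show ev (xs 1) * (g⁻¹ * ev (xr r) * g) * (ev (xs 1))⁻¹ * (g⁻¹ * ev (xr r) * g)⁻¹ =
      g⁻¹ * (g * ev (xs 1) * g⁻¹ * ev (xr r) * (g * ev (xs 1) * g⁻¹)⁻¹ * (ev (xr r))⁻¹) * g by group, ← e,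
      show ev c * ev (xr r) * (ev c)⁻¹ * (ev (xr r))⁻¹ = ev d by ds h [] at hd k1 k2; ds h [hd, mQ2.1 hc]; cg, e1] at this
    simpa [mul_assoc, h.mm, mZ1] using this
  · obtain ⟨d, hd, k⟩ := k
    have d' : σ (-d) = -d := by rw [map_neg, hd]
    have n := mul_mem (mul_mem (h.nM2 y) (h.nQ2 (h.mS (xu (-d) d')))) hg
    refine .inr ⟨_, h.mS _, h.q2Z4 n (key h n (c := m2 (xu (-d) d' * c * (xu (-d) d')⁻¹)) ?_ ?_)⟩
    · rw [cj_mul2, cj_mul2, ← e, ← y.f2 _ (by simp [mQ2.1 hc])]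
      simp
    · simp [k, mQ2.1 hc]
      ring

/-- the chunk S2 -/
theorem s2c (g2 : G2 σ Γ) : S2 σ Γ p := fun S A ev M1 M2 h y e => by
  have mA : ∀ u, ev u ∈ A := fun u => e.mA (h.mS u) (h.nQ2 (h.mS u))
  obtain ⟨g, hg, k⟩ := h.ne2 e
  obtain ⟨u, hu, b4⟩ := (g2 S ev M1 M2 h y g (e.An hg)).resolve_left k
  have ug := mul_mem (e.mA hu (h.nQ2 hu)) hg
  rw [mul_assoc] at b4
  generalize u * g = x at ug b4
  have b2 := mul_mem (h.nM2 y) (e.An ug)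
  obtain ⟨c1, h1, e1⟩ := conj_mem_of_mem_nz b4 (h.mm.2 (show xs 1 ∈ Z4 σ from ⟨rfl, rfl⟩))
  have b1 := key h b2 e1.symm h1.1
  have b3 := h.q2Z3 b2
  choose f hf a using fun c : Fx σ => tv2 h (t := M2 * x * ev (xu c (fx c)) * (M2 * x)⁻¹)
    (conj_mem_of_mem_nz (mem_nz_stab b2 (mem_nz_inf b2 b4)) (mem_stab'.2 ⟨h.nQ2 (h.mS _), h.cSS.cm (h.mS _) (h.le _) le_rfl⟩))
    (conj_mem_of_mem_nz (mem_nz_stab b3 (mem_nz_inf b3 (h.q2Z2 b2))) (mem_stab'.2 ⟨h.nZ3 (h.mS _), h.cS3 _ (h.mS _)⟩))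
    (conj_mem_of_mem_nz (mem_nz_cz b1) (h.cS1.cz (h.mS _)))
  have on := Finite.surjective_of_injective (f := fun c => (⟨f c, hf c⟩ : Fx σ)) fun c c' k => by
    obtain ⟨d, hd, e2⟩ := conj_mem_of_mem_nz b2 (h.mm.2 (show xa 1 ∈ Q2 σ from rfl))
    obtain ⟨d1, k1, e3⟩ := conj_mem_of_mem_nz (conj_mem_of_mem_nz (le_nz_self _ b2) (h.nQ2 (h.mS (xu c (fx c))))) (h.mm.2 hd)
    obtain ⟨d2, k2, e4⟩ := conj_mem_of_mem_nz (conj_mem_of_mem_nz (le_nz_self _ b2) (h.nQ2 (h.mS (xu c' (fx c'))))) (h.mm.2 hd)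
    have k4 := conj_mem_of_mem_nz' b3 (show ev d1 * (ev d2)⁻¹ ∈ (Z3 σ).map ev by
      dt h [a c d d1 hd e3.symm, a c' d d2 hd e4.symm, mQ2.1 k1, mQ2.1 k2, show f c = f c' from congrArg Subtype.val k]
      ring)
    rw [e3, e4, e2] at k4
    simp only [mul_assoc, mul_inv_rev, inv_inv, inv_mul_cancel_left, mul_inv_cancel_left, inv_mul_cancel, mul_one] at k4
    dt h [] at k4
    exact Subtype.ext (by linear_combination k4)
  let P := fun α β γ δ => ∃ g ∈ A, Ac2 ev g α β γ δ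
  have mul : ∀ {α β γ δ α' β' γ' δ'}, P α β γ δ → P α' β' γ' δ' → P _ _ _ _ := fun ⟨_, k1, k2⟩ ⟨_, k3, k4⟩ =>
    ⟨_, mul_mem k1 k3, ac2_mul k2 k4 (e.An k3)⟩
  have lo : ∀ μ, σ μ = μ → P 1 0 μ 1 := fun μ hμ => ⟨_, mA (xu μ hμ), fun c c' hc k => by
    dt h [hc] at k ⊢
    exact ⟨by linear_combination -k.1, by linear_combination -k.2.2.1⟩⟩
  have up : ∀ μ, σ μ = μ → P 1 μ 0 1 := fun μ hμ => by
    obtain ⟨c, k⟩ := on (-⟨μ, hμ⟩)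
    refine ⟨_, conj_mem_of_mem_nz (le_nz_self A ug) (mA (xu c (fx c))), fun d d' hd e2 => ?_⟩
    have d0 : d'.u = 0 := h.mm.1 (e2 ▸ conj_mem_of_mem_nz (e.An (conj_mem_of_mem_nz (le_nz_self A ug) (mA (xu c (fx c)))))
      (h.mm.2 (show d ∈ Q2 σ from hd)))
    have := a c (m2 d) (m2 d') rfl (by rw [← y.f2 d hd, ← y.f2 d' d0, ← e2]; group)
    dt h [show f c = -μ from congrArg Subtype.val k] at this ⊢
    exact ⟨by linear_combination this.2, by linear_combination -this.1⟩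
  have w : ∀ μ, μ ≠ 0 → σ μ = μ → P 0 μ (-μ⁻¹) 0 := fun μ μ0 hμ => by
    simpa [μ0] using mul (mul (up μ hμ) (lo (-μ⁻¹) (by rw [map_neg, map_inv₀, hμ]))) (up μ hμ)
  have w1 : P 0 (-1) 1 0 := by simpa using w (-1) (by simp) (by simp)
  exact ⟨fun l l0 hl => by simpa using mul (w l⁻¹ (inv_ne_zero l0) (by rw [map_inv₀, hl])) w1, w1⟩

end H22.TD
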