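/-
Fusion systems on a Sylow `p`-subgroup of `³D₄(q)`: automorphisms of the Sylow subgroup (chunk AU).
-/
import Cfsg.Agent.H29.TD3

set_option autoImplicit false
set_option linter.unusedSectionVars false
set_option linter.unusedSimpArgs false

namespace H22.TD
open Subgroup H29.TD H29.TD.Dc H25.FS
open H25 hiding Md tr fx
open H8.PU hiding Bo N2 SY S2 Wt sz Ac2 Co sn n1_ap card_K Fx LH Opp Md n1 Tr2 G2 Dg MD AV Wy L2 TR
universe u v
variable {K : Type v} [Field K] [Finite K] {σ : K →+* K} [TV σ] {Γ : Type u} [Group Γ] [Finite Γ]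

/-- a semilinear map is semilinear for an automorphism of the big field -/
theorem semi {A : K → K} (ha : ∀ x y, A (x + y) = A x + A y) (h1 : A 1 ≠ 0) (ψ : Fx σ → Fx σ)
    (h : ∀ (u : Fx σ) a, A (u * a) = ψ u * A a) : ∃ φ : K ≃+* K, ∀ u : Fx σ, φ u = ψ u := by
  obtain ⟨p, _⟩ := CharP.exists K
  have : Fact p.Prime := ⟨CharP.char_is_prime K p⟩
  let ψ' : Fx σ →+* Fx σ := RingHom.mk' ⟨⟨ψ, Subtype.ext (mul_right_cancel₀ h1 (by rw [← h]; simp))⟩, fun x y =>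
    Subtype.ext (mul_right_cancel₀ h1 (by simp only [← h, Subfield.coe_mul, mul_assoc]))⟩ fun x y =>
      Subtype.ext (mul_right_cancel₀ h1 (by simp only [MonoidHom.coe_mk, OneHom.coe_mk, ← h, Subfield.coe_add, add_mul, ha]))
  let := ZMod.algebra (Fx σ) p
  let θ := RingEquiv.ofBijective ψ' (Finite.injective_iff_bijective.1 ψ'.injective)
  obtain ⟨m, hm⟩ := FiniteField.exists_forall_apply_eq_pow (ZMod p) p (Fx σ) (AlgEquiv.ofRingEquiv (f := θ) fun x =>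
    DFunLike.congr_fun (RingHom.ext_zmod (θ.toRingHom.comp (algebraMap _ _)) (algebraMap _ _)) x)
  exact ⟨iterateFrobeniusEquiv K p m, fun u => by
    rw [show ψ u = _ from hm u, Nat.card_zmod, iterateFrobeniusEquiv_def, SubmonoidClass.coe_pow]⟩
/-- the coefficient of a square -/
theorem quad {c0 c1 c2 d0 d1 d2 : K} (h : ∀ a, c0 * a ^ 2 + c1 * σ a ^ 2 + c2 * σ (σ a) ^ 2 + d0 * (σ a * σ (σ a)) +
    d1 * (a * σ (σ a)) + d2 * (a * σ a) = 0) : c0 = 0 := by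
  have k := fun a => ded (σ := σ) (a := 2 * c0 * a + d2 * σ a + d1 * σ (σ a)) (b := d2 * a + 2 * c1 * σ a + d0 * σ (σ a))
    (c := d1 * a + d0 * σ a + 2 * c2 * σ (σ a)) fun b => by
      have := h (a + b)
      fs [] at this
      linear_combination this - h a - h b
  obtain ⟨e0, e2, e1⟩ := ded fun a => (k a).1
  obtain ⟨-, -, e3⟩ := ded fun a => (k a).2.1
  refine (mul_eq_zero.1 e0).elim (fun t => (ded (σ := σ) (b := c1) (c := c2) fun x => ?_).1) id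
  obtain ⟨a, rfl⟩ := Finite.surjective_of_injective (f := fun a : K => a ^ 2) (fun a b e => sub_eq_zero.1 (pow_eq_zero_iff
    two_ne_zero |>.1 (by linear_combination e + (b ^ 2 - a * b) * t))) x
  simpa [e1, e2, e3] using h a
/-- the structure group of the norm form -/
theorem str {A : K → K} (ha : ∀ x y, A (x + y) = A x + A y) (hm : ∀ c x, σ c = c → A (c * x) = c * A x)
    (h : ∀ y, ∃ s, ∀ x, tr σ (sh σ (A x) * y) = tr σ (sh σ x * s)) :
    ∃ k, ∃ θ : K ≃+* K, (∀ c, σ c = c → θ c = c) ∧ ∀ x, A x = k * θ x := by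
  obtain ⟨α, β, γ, e⟩ := rep (σ := σ) A ha hm
  obtain ⟨e1, e2, e3⟩ := ded (σ := σ) (a := σ γ * σ (σ β)) (b := σ (σ β) * α) (c := α * σ γ) fun y => by
    obtain ⟨s, hs⟩ := h y
    refine quad (σ := σ) (c1 := σ (σ γ * σ (σ β) * y + σ (σ β) * α * σ y + α * σ γ * σ (σ y)))
      (c2 := σ (σ (σ γ * σ (σ β) * y + σ (σ β) * α * σ y + α * σ γ * σ (σ y))))
      (d0 := (σ α * σ (σ α) + σ β * σ (σ γ)) * y + (σ (σ γ) * γ + σ (σ α) * β) * σ y + (β * σ β + γ * σ α) * σ (σ y) - s)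
      (d1 := σ ((σ α * σ (σ α) + σ β * σ (σ γ)) * y + (σ (σ γ) * γ + σ (σ α) * β) * σ y + (β * σ β + γ * σ α) * σ (σ y) - s))
      (d2 := σ (σ ((σ α * σ (σ α) + σ β * σ (σ γ)) * y + (σ (σ γ) * γ + σ (σ α) * β) * σ y + (β * σ β + γ * σ α) * σ (σ y) - s)))
      fun x => ?_
    have := hs x
    fs [e] at this ⊢
    linear_combination this
  let τ := RingEquiv.ofBijective σ (Finite.injective_iff_bijective.1 σ.injective)
  simp only [mul_eq_zero, H29.TD.sz] at e1 e2 e3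
  by_cases a0 : α = 0
  · rcases e1 with c0 | b0
    · exact ⟨β, τ, fun _ k => k, fun x => by simp [e, a0, c0, τ]⟩
    · exact ⟨γ, τ.trans τ, fun c k => by simp [τ, k], fun x => by simp [e, a0, b0, τ]⟩
  · exact ⟨α, .refl K, fun _ _ => rfl, fun x => by simp [e, e2.resolve_right a0, e3.resolve_left a0]⟩

/-- the chunk AU -/
theorem au : AU σ Γ := fun q S ev h g hg => by
  choose G _ e using fun c => h.ex (conj_mem_of_mem_nz hg (h.mS c))
  have mul : ∀ c d, G (c * d) = G c * G d := fun c d => h.inj (by rw [map_mul, e, e, e, map_mul, cj_mul'])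
  have n : ∀ {X : Subgroup (Dc σ)}, g ∈ nz (X.map ev) → ∀ {c}, G c ∈ X ↔ c ∈ X := fun k c =>
    ⟨fun a => h.mm.1 (by simpa [e, mul_assoc] using conj_mem_of_mem_nz' k (h.mm.2 a)),
      fun a => h.mm.1 (e c ▸ conj_mem_of_mem_nz k (h.mm.2 a))⟩
  have q1 := @n _ (h.gQ1 hg)
  have q2 := @n _ (h.gQ2 hg)
  have z1 := @n _ (h.gZ1 hg)
  have z2 := @n _ (h.gZ2 hg)
  have z3 := @n _ (h.gZ3 hg)
  have z4 := @n _ (h.gZ4 hg)
  have sp : ∀ c d, G d = G c * G (c⁻¹ * d) := fun c d => by rw [← mul, mul_inv_cancel_left]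
  have cm : ∀ c d, G (c * d * c⁻¹ * d⁻¹) = G c * G d * (G c)⁻¹ * (G d)⁻¹ := fun c d => h.inj (by
    simp only [map_mul, map_inv, e, cj_cm])
  obtain ⟨A, hA⟩ : ∃ A : K → K, ∀ c, (G c).a = A c.a := ⟨fun a => (G (xa a)).a, fun c => by
    rw [sp (xa c.a) c, mul_a, mQ1.1 (q1.2 (show (xa c.a)⁻¹ * c ∈ Q1 σ by simp [mQ1])), add_zero]⟩
  have ha : ∀ x y, A (x + y) = A x + A y := fun x y => (hA (xa x * xa y)).symm.trans (by rw [mul, mul_a, hA, hA]; rfl)
  have a0 : ∀ x, A x = 0 → x = 0 := fun x k => q1.1 ((hA (xa x)).trans k)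
  have hs : ∀ c d, d ∈ Z4 σ → c ∈ Z4 σ → d.s = c.s → (G d).s = (G c).s := fun c d k k' k1 => by
    have := mZ3.1 (z3.2 (show c⁻¹ * d ∈ Z3 σ by simp [mZ3, mZ4.1 k, mZ4.1 k', k1]))
    rw [sp c d]; simp [this]
  have hC : ∀ a u hu, (G (xs (a * u))).s = A a * (G (xu u hu)).u := fun a u hu => by
    rw [hs (xu u hu * xa a * (xu u hu)⁻¹ * (xa a)⁻¹) _ ⟨rfl, rfl⟩ ⟨cm_a _ _, cm_u _ _⟩ (by simp), cm, cm_s, hA,
      mQ2.1 (q2.2 (show xa a ∈ Q2 σ from rfl))]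
    simp
  obtain ⟨l, hl⟩ : ∃ l, (G (xu 1 (map_one σ))).u = l := ⟨_, rfl⟩
  have l0 : l ≠ 0 := fun k => one_ne_zero (mQ2.1 (q2.1 (hl.trans k)))
  have sl : σ l = l := hl ▸ hu _
  have hC1 : ∀ s, (G (xs s)).s = l * A s := fun s => by simpa [hl, mul_comm] using hC s 1 (map_one σ)
  have hu : ∀ (u : Fx σ) a, A (u * a) = (G (xu u (fx u))).u / l * A a := fun u a => by
    have := hC a u (fx u)
    rw [hC1, mul_comm a] at this
    field_simp
    linear_combination this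
  obtain ⟨φ, hφ⟩ := semi ha (fun k => one_ne_zero (a0 1 k)) (fun u => ⟨_, by rw [mFx, map_div₀, sl, Dc.hu]⟩) hu
  have hm : ∀ c a, σ c = c → A (c * a) = φ c * A a := fun c a k => (hu ⟨c, k⟩ a).trans (by rw [hφ ⟨c, k⟩])
  have sφ : ∀ {c}, σ c = c → σ (φ c) = φ c := fun k => by rw [H29.TD.cm, k]
  obtain ⟨ε, hε⟩ : ∃ ε, ∀ c ∈ Z2 σ, (G c).v = ε * φ c.v := by
    obtain ⟨r, hr⟩ := tr_onto (σ := σ) one_ne_zero (map_one σ)
    refine ⟨tr σ (A 1 * (G (xr r)).r), fun c hc => ?_⟩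
    have k := mZ3.1 (z3.2 (show xr r ∈ Z3 σ from ⟨rfl, rfl, rfl⟩))
    have k1 := mZ1.1 (z1.2 (show (xa (-c.v) * xr r * (xa (-c.v))⁻¹ * (xr r)⁻¹)⁻¹ * c ∈ Z1 σ by
      ds h [] at hc hr; ds h [hc]; cg))
    have k2 := hm (-c.v) 1 (by rw [map_neg, c.hv])
    rw [sp (xa (-c.v) * xr r * (xa (-c.v))⁻¹ * (xr r)⁻¹) c, mul_v, cm, cm4_v _ k.1 k.2.1, hA, xa_a, (congrArg A (mul_one _)).symm.trans k2]
    fs [k1, k, c.hv]
    ring
  have L : ∀ a s, l * tr σ (sh σ (A a) * A s) - ε * φ (tr σ (sh σ a * s)) =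
      tr σ (A a * (G (xs s)).r) + (G (xr (-cr σ a s))).v := fun a s => by
    have k := mZ4.1 (z4.2 (show xs s ∈ Z4 σ from ⟨rfl, rfl⟩))
    have k0 : (xr (-cr σ a s))⁻¹ * (xa a * xs s * (xa a)⁻¹ * (xs s)⁻¹) ∈ Z2 σ := by ds h []; cg
    have k1 := congrArg Dc.v (sp (xr (-cr σ a s)) (xa a * xs s * (xa a)⁻¹ * (xs s)⁻¹))
    rw [cm, cm4_v _ k.1 k.2, mul_v, hε _ k0, (mZ2.1 (z2.2 k0)).1, hA, hC1, show ((xr (-cr σ a s))⁻¹ *
      (xa a * xs s * (xa a)⁻¹ * (xs s)⁻¹) : Dc σ).v = tr σ (sh σ a * s) by ds h []; ring] at k1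
    generalize φ (tr σ (sh σ a * s)) = t at k1 ⊢
    fs [sl, xa_a] at k1 ⊢
    linear_combination k1
  obtain ⟨c, c0, c1⟩ : ∃ c : Fx σ, c ≠ 0 ∧ c ≠ 1 := by
    by_contra! k
    exact absurd (Nat.card_le_card_of_surjective (fun b : Bool => (if b then 1 else 0 : Fx σ)) fun c =>
      (em (c = 0)).elim (fun a => ⟨false, a.symm⟩) fun a => ⟨true, (k c a).symm⟩) (by simpa using q)
  have m0 : φ c ^ 2 - φ c ≠ 0 := by
    rw [pow_two, ← mul_sub_one]
    exact mul_ne_zero ((map_ne_zero φ).2 fun k => c0 (Subtype.ext k))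
      (sub_ne_zero.2 fun k => c1 (Subtype.ext (φ.injective (k.trans (map_one φ).symm))))
  have L1 : ∀ a s, (φ c ^ 2 - φ c) * (l * tr σ (sh σ (A a) * A s) - ε * φ (tr σ (sh σ a * s))) =
      tr σ (A a * (φ c * (G (xs s)).r - (G (xs (c * s))).r)) := fun a s => by
    have k1 := L (c * a) s
    have k2 := L a (c * s)
    rw [show cr σ (c * a) s = cr σ a (c * s) by fs []; ring, hm _ _ (fx c)] at k1
    rw [hm _ _ (fx c)] at k2
    fs [] at k1 k2 ⊢
    linear_combination k1 - k2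
  have L2 : ∀ a s, l * tr σ (sh σ (A a) * A s) - ε * φ (tr σ (sh σ a * s)) = 0 := fun a s =>
    (mul_eq_zero.1 ((mul_eq_zero.1 (by
      have k1 := L1 (c * a) s
      have k2 := L1 a s
      rw [hm _ _ (fx c)] at k1
      fs [] at k1 k2 ⊢
      linear_combination k1 - φ c * k2)).resolve_left m0)).resolve_left m0
  have se : σ ε = ε := by simpa using (hε (xv 1 (map_one σ)) ⟨rfl, rfl, rfl, rfl⟩ ▸ hv _ : σ (ε * φ 1) = ε * φ 1)
  obtain ⟨k, θ, hθ, hk⟩ := str (σ := σ) (A := fun x => A (φ.symm x)) (fun x y => by simp only [map_add, ha])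
    (fun c x k => by simp only [map_mul, hm _ _ (show σ (φ.symm c) = φ.symm c by rw [H29.TD.cm, k]), φ.apply_symm_apply])
    fun y => by
      obtain ⟨s, rfl⟩ := Finite.surjective_of_injective (f := A) (fun x y k => sub_eq_zero.1 (a0 _ (by
        have := ha (x - y) y; rw [sub_add_cancel, k] at this; linear_combination -this))) y
      refine ⟨ε / l * φ s, fun x => ?_⟩
      obtain ⟨x, rfl⟩ := φ.surjective x
      have := L2 x s
      fs [φ.symm_apply_apply, se, sl] at this ⊢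
      field_simp
      linear_combination this
  have hk' : ∀ a, A a = k * θ (φ a) := fun a => by simpa using hk (φ a)
  refine ⟨k, l, φ.trans θ, fun k0 => one_ne_zero (a0 1 (by simp [hk', k0])), l0, sl, fun c c' e1 => ?_⟩
  rw [← h.inj ((e c).trans e1), hA, hk', sp (xu c.u c.hu) c, mul_u, mQ2.1 (q2.2 (show (xu c.u c.hu)⁻¹ * c ∈ Q2 σ by simp [mQ2])),
    RingEquiv.trans_apply,
    RingEquiv.trans_apply, hθ _ (sφ c.hu), hφ ⟨c.u, c.hu⟩]
  exact ⟨rfl, by field_simp; simp⟩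

end H22.TD
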