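import Cfsg.Agent.H21.UM1

/-! The `A₅`-block configuration: finite facts and the basic kit. -/

set_option autoImplicit false
set_option linter.unusedVariables false
set_option linter.unusedSectionVars false

namespace H22.UM
open H9 hiding zj
open Cfsg Subgroup H28 H29 H29.PU H29.BB H28.GC Equiv H21.UM
open scoped commutatorElement

/-- `(0 2)(1 3)` -/
def τ₁ : Perm (Fin 5) := swap 0 2 * swap 1 3
/-- `(1 2 3)` -/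
def κ : Perm (Fin 5) := swap 1 2 * swap 2 3
/-- the Klein four group -/
def K4 : Subgroup (Perm (Fin 5)) := 𝐜 τ₀ ⊓ 𝐜 τ₁
/-- the fixed vector -/
def ω : Fin 5 → ZMod 2 := ![1, 1, 1, 1, 0]
theorem mK4 {σ : Perm (Fin 5)} : σ ∈ K4 ↔ σ * τ₀ = τ₀ * σ ∧ σ * τ₁ = τ₁ * σ := by rw [K4, mem_inf, mem_c, mem_c]
instance (σ : Perm (Fin 5)) : Decidable (σ ∈ K4) := decidable_of_iff _ mK4.symm

theorem d0 : ∀ σ ∈ K4, σ = 1 ∨ σ = τ₀ ∨ σ = τ₁ ∨ σ = τ₀ * τ₁ := by decide +kernel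
theorem d1 : ∀ σ : Perm (Fin 5), (∀ w : Fin 5 → ZMod 2, ∑ i, w i = 0 → w 4 = 0 → ∀ i, w (σ i) = w i) → σ = 1 := by
  decide +kernel
theorem d2 : ∀ w : Fin 5 → ZMod 2, ∑ i, w i = 0 → (∀ i, w (τ₀ i) = w i) → (∀ i, w (τ₁ i) = w i) → w = 0 ∨ w = ω := by
  decide +kernel
theorem d3 : ∀ σ : Perm (Fin 5), σ * τ₀ = τ₀ * σ → κ * σ * κ⁻¹ * τ₀ = τ₀ * (κ * σ * κ⁻¹) → σ ∈ K4 := by decide +kernel
theorem d4 : ∀ σ ∈ K4, σ ≠ 1 → ∀ σ' ∈ K4, σ' = 1 ∨ σ' = σ ∨ σ' = κ * σ * κ⁻¹ ∨ σ' = κ * (κ * σ * κ⁻¹) * κ⁻¹ := by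
  decide +kernel
theorem d5 : ∀ w : Fin 5 → ZMod 2, ∑ i, w i = 0 → w 4 = 0 → ∃ σ ∈ [τ₀, τ₁, τ₀ * τ₁], σ ∈ K4 ∧ ∃ u : Fin 5 → ZMod 2,
    ∑ i, u i = 0 ∧ ∀ i, w (σ i) = u i + u (σ i) := by decide +kernel
theorem d6 : ∀ σ ∈ K4, ∀ w : Fin 5 → ZMod 2, ∑ i, w i = 0 → w 4 = 0 →
    (∀ i, w (σ i) + w i = 0) ∨ ∀ i, w (σ i) + w i = ω (σ i) := by decide +kernel
theorem d7 : ∀ σ : Perm (Fin 5), (∀ i, σ i = i ∨ σ i = τ₀ i) →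
    σ * τ₀ = τ₀ * σ ∧ (σ ∈ K4 → σ = 1 ∨ σ = τ₀) ∧ (σ ∉ K4 → Perm.sign σ = -1) := by decide +kernel
theorem d8 : ∀ σ : Perm (Fin 5), σ * τ₀ = τ₀ * σ → σ 4 = 4 := by decide +kernel
theorem d8' : ∀ σ ∉ K4, σ * τ₀ = τ₀ * σ → ∀ σ' ∉ K4, σ' * τ₀ = τ₀ * σ' → σ * σ' ∈ K4 := by decide +kernel
theorem d9 : ∀ σ : Perm (Fin 5), σ 4 = 4 → ∀ i, ω (σ i) = ω i := by decide +kernel
theorem card_K4 : # K4 = 4 := by rw [Nat.card_eq_fintype_card]; decide +kernel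
theorem card_W : # {w : Fin 5 → ZMod 2 // ∑ i, w i = 0 ∧ w 4 = 0} = 8 := by rw [Nat.card_eq_fintype_card]; decide +kernel

theorem z2 : ∀ a b : ZMod 2, a ≠ 0 → b ≠ 0 → a + b = 0 := by decide
theorem aa (w : Fin 5 → ZMod 2) : w + w = 0 := funext fun i => CharTwo.add_self_eq_zero _

universe u
variable {X : Type u} [Group X] [Finite X] {T M S G L B Q V D H K R U Y : Subgroup X} {a b c d g r s t u v x y z z' : X}
  {π : X → Perm (Fin 5)} {ψ : X → Fin 5 → ZMod 2}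

theorem dbl (h : H < K) : 2 * # H ≤ # K := by
  obtain ⟨k, e⟩ := card_dvd_of_le h.le
  have := card_lt_of_lt h
  rcases k with _ | _ | k
  · omega
  · omega
  · nlinarith
theorem pw2 (hY : IsPGroup 2 Y) (h1 : s ∈ Y) (h2 : s ∉ S) : ∃ n : ℕ, s ^ n ∉ S ∧ s ^ n * s ^ n ∈ S := by
  classical
  obtain ⟨k, e⟩ := hY ⟨s, h1⟩
  have ex : ∃ k, s ^ 2 ^ k ∈ S := ⟨k, by rw [show s ^ 2 ^ k = 1 from congrArg Subtype.val e]; exact one_mem _⟩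
  obtain ⟨j, hj⟩ := Nat.exists_eq_succ_of_ne_zero fun e : Nat.find ex = 0 => h2 (by simpa [e] using Nat.find_spec ex)
  refine ⟨2 ^ j, Nat.find_min ex (by omega), ?_⟩
  have := Nat.find_spec ex
  rwa [hj, pow_succ, pow_mul, pow_two] at this
/-- transfer at a central involution -/
theorem cen_tr (hS : IsSylowIn 2 S H) (h : H ≤ 𝐜 d) (hd : d ∈ S) (d2 : d * d = 1) (t : Two S R) (n : d ∉ R) : d ∉ O² H := by
  rintro ⟨⟨d, dH⟩, m, rfl⟩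
  obtain ⟨g, -, e⟩ := extremal_thompson_two hS.subgroupOf_top (T := R.subgroupOf H) (y := ⟨d, dH⟩) (by
    rw [relIndex_subgroupOf hS.le]; exact le_antisymm (two_idx t) (two_le fun e => n (e hd))) (Subtype.ext (by simpa [sq] using d2))
    m (pg_z (Subtype.ext d2)) (zpowers_le.2 (self_mem_c _)) (mem_zpowers _)
  exact n (mem_c''.1 (h g.2) ▸ mem_subgroupOf.1 e)

/-- the configuration -/
structure Cf (T M S G L B Q V D : Subgroup X) (x : X) (π : X → Perm (Fin 5)) (ψ : X → Fin 5 → ZMod 2) : Prop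
    extends A5 T M S G L B Q V x π ψ, A5D G Q V D ψ

namespace Cf
variable (h : Cf T M S G L B Q V D x π ψ)
include h
theorem π1 : π 1 = 1 := (h.πk 1 (one_mem _)).2 (one_mem _)
theorem πi (hg : g ∈ G) : π g⁻¹ = (π g)⁻¹ := eq_inv_of_mul_eq_one_left (by rw [← h.πm _ (inv_mem hg) _ hg, inv_mul_cancel, h.π1])
theorem πc (hg : g ∈ G) (ha : a ∈ G) : π (g * a * g⁻¹) = π g * π a * (π g)⁻¹ := by
  rw [h.πm _ (mul_mem hg ha) _ (inv_mem hg), h.πm _ hg _ ha, h.πi hg]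
theorem πQ (hg : g ∈ Q) : π g = 1 := (h.πk g (h.QG hg)).2 hg
/-- the preimage of the four group -/
def P4 : Subgroup X where
  carrier := {g | g ∈ G ∧ π g ∈ K4}
  one_mem' := ⟨one_mem _, h.π1 ▸ one_mem _⟩
  mul_mem' := fun {a b} k k' => ⟨mul_mem k.1 k'.1, h.πm a k.1 b k'.1 ▸ mul_mem k.2 k'.2⟩
  inv_mem' := fun {a} k => ⟨inv_mem k.1, h.πi k.1 ▸ inv_mem k.2⟩
theorem QP : Q ≤ h.P4 := fun _ k => ⟨h.QG k, h.πQ k ▸ one_mem _⟩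
theorem PS : h.P4 ≤ S := fun _ k => (h.πS _ k.1).2 (mK4.1 k.2).1
theorem QS : Q ≤ S := h.QP.trans h.PS
theorem QB : Q ≤ B := fun g k => (h.πB g (h.QG k)).2 fun i => .inl (by rw [h.πQ k]; rfl)
theorem BS : B ≤ S := fun g k => (h.πS g (h.BG k)).2 (d7 _ ((h.πB g (h.BG k)).1 k)).1
theorem SG : S ≤ G := h.SH
theorem VG : V ≤ G := h.VQ.trans h.QG
theorem VT : V ≤ T := h.VQ.trans (h.QS.trans h.ST)
theorem nQ : G ≤ 𝐍 Q := le_normalizer_of_cj_le fun g hg => by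
  rintro _ ⟨a, ha, rfl⟩
  exact (h.πk _ (mul_mem (mul_mem hg (h.QG ha)) (inv_mem hg))).1 ((h.πc hg (h.QG ha)).trans (by simp [h.πQ ha]))
theorem exb : ∃ b ∈ B, b ∉ h.P4 := let ⟨b, hb, e⟩ := h.πs (swap 0 1)
  ⟨b, (h.πB b hb).2 (by rw [e]; decide), fun k => absurd (e ▸ k.2) (by decide)⟩
theorem vv (hv : v ∈ V) : v * v = 1 := sq_of_ea h.ea (h.VQ hv)
theorem inj (hu : u ∈ V) (hv : v ∈ V) (e : ψ u = ψ v) : u = v := by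
  rw [eq_inv_of_mul_eq_one_left (h.ψi _ (mul_mem hu hv) (by rw [h.ψm u hu v hv, e, aa])), inv_of_ea h.ea (h.VQ hv)]
theorem ψ1 : ψ 1 = 0 := by simpa using h.ψm 1 (one_mem _) 1 (one_mem _)
theorem cV (hg : g ∈ G) (hv : v ∈ V) : g * v * g⁻¹ ∈ V := conj_mem_of_mem_normalizer (h.nV hg) hv
theorem fix (hg : g ∈ G) (hv : v ∈ V) : g ∈ 𝐜 v ↔ ∀ i, ψ v (π g i) = ψ v i :=
  ⟨fun k i => by rw [← h.ψc g hg v hv i, mem_c''.1 k], fun k => mem_c''.2 (h.inj (h.cV hg hv) hv (funext fun i => by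
    obtain ⟨j, rfl⟩ := (π g).surjective i
    rw [h.ψc g hg v hv, k]))⟩
theorem star (hU : IsPGroup 2 U) (h0 : U ≠ ⊥) (n : G ≤ 𝐍 U) (ht : t ∈ T) (k : t ∈ 𝐍 U) : t ∈ S :=
  ((h.p2 h.cp h.SG h.nm hU h0 n).max _ (h.pg.to_le inf_le_left) (le_inf h.ST (h.SG.trans n)) inf_le_right).le ⟨ht, k⟩
theorem TG (ht : t ∈ T) (k : t ∈ G) : t ∈ S :=
  (h.sylH.max _ (h.pg.to_le inf_le_left) (le_inf h.ST h.SG) inf_le_right).le ⟨ht, k⟩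
/-- the vectors supported on the first four points -/
def V0 : Subgroup X where
  carrier := {v | v ∈ V ∧ ψ v 4 = 0}
  one_mem' := ⟨one_mem _, by rw [h.ψ1]; rfl⟩
  mul_mem' := fun {a b} k k' => ⟨mul_mem k.1 k'.1, by rw [h.ψm a k.1 b k'.1, Pi.add_apply, k.2, k'.2, add_zero]⟩
  inv_mem' := fun {a} k => (inv_of_ea h.ea (h.VQ k.1)).symm ▸ k
theorem V0V : h.V0 ≤ V := fun _ k => k.1
theorem two (h0 : h.V0 ≤ R) (hu : u ∈ V) (n : u ∉ h.V0) (k : u ∈ R) : V ≤ R := fun v hv => by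
  by_cases c : v ∈ h.V0
  · exact h0 c
  exact (mul_mem_cancel_left k).1 (h0 ⟨mul_mem hu hv, by
    rw [h.ψm u hu v hv]; exact z2 _ _ (fun e => n ⟨hu, e⟩) fun e => c ⟨hv, e⟩⟩)
theorem F0 (hg : g ∈ G) (k : h.V0 ≤ 𝐜 g) : g ∈ Q := (h.πk g hg).1 (d1 _ fun w h1 h2 => by
  obtain ⟨v, hv, rfl⟩ := h.ψs w h1
  exact (h.fix hg hv).1 (mem_c_symm.1 (k ⟨hv, h2⟩)))
theorem cov' (h1 : y ∈ T) (h2 : y ∈ 𝐍 S) (h3 : y ∉ S) (h4 : y * y ∈ S) : ¬ cj y V ≤ h.P4 := fun k =>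
  let ⟨_, b1, b2⟩ := h.exb; b2 (sup_le k h.QP (h.cov y h1 h2 h3 h4 b1))
theorem exκ : ∃ g ∈ G, π g = κ ∧ g * g * g = 1 := by
  obtain ⟨g, hg, e⟩ := h.πs κ
  have k : g * g * g ∈ Q := (h.πk _ (mul_mem (mul_mem hg hg) hg)).1 (by rw [h.πm _ (mul_mem hg hg) _ hg, h.πm _ hg _ hg, e]; decide)
  refine ⟨g * g * g * g, mul_mem (h.QG k) hg, by rw [h.πm _ (h.QG k) _ hg, h.πQ k, e, one_mul], ?_⟩
  rw [show g * g * g * g * (g * g * g * g) * (g * g * g * g) = (g * g * g * (g * g * g)) ^ 2 by simp only [sq, mul_assoc],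
    sq_of_ea h.ea k, one_pow]
theorem all4 (hg : g ∈ G) (e : π g = κ) (n : g ∈ 𝐍 R) (l : R ≤ h.P4) (k : ¬ R ≤ Q) : ∀ σ ∈ K4, ∃ r ∈ R, π r = σ := fun σ hσ => by
  obtain ⟨r, r1, r2⟩ := SetLike.not_le_iff_exists.1 k
  have r3 := conj_mem_of_mem_normalizer n r1
  rcases d4 _ (l r1).2 (fun e => r2 ((h.πk r (l r1).1).1 e)) σ hσ with rfl | rfl | rfl | rfl
  exacts [⟨1, one_mem _, h.π1⟩, ⟨r, r1, rfl⟩, ⟨_, r3, by rw [h.πc hg (l r1).1, e]⟩,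
    ⟨_, conj_mem_of_mem_normalizer n r3, by rw [h.πc hg (l r3).1, h.πc hg (l r1).1, e]⟩]
theorem v0le (n : V ≤ 𝐍 R) (l : R ≤ G) (k : ∀ σ ∈ K4, ∃ r ∈ R, π r = σ) : h.V0 ≤ R := fun v hv => by
  obtain ⟨σ, -, h1, w, h2, e⟩ := d5 _ (h.ψe v hv.1) hv.2
  obtain ⟨r, hr, rfl⟩ := k σ h1
  obtain ⟨u, hu, rfl⟩ := h.ψs w h2
  rw [h.inj hv.1 (mul_mem (h.cV (l hr) hu) (inv_mem hu)) (funext fun i => by
    obtain ⟨j, rfl⟩ := (π r).surjective i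
    rw [h.ψm _ (h.cV (l hr) hu) _ (inv_mem hu), Pi.add_apply, h.ψc r (l hr) u hu, inv_of_ea h.ea (h.VQ hu), e])]
  exact comm_mem_of n hr hu
theorem DV (hd : d ∈ D) (hv : d ∈ V) : d = 1 := by
  have k : ∀ σ : Perm (Fin 5), ∀ i, ψ d (σ i) = ψ d i := fun σ => by
    obtain ⟨g, hg, rfl⟩ := h.πs σ
    exact (h.fix hg hv).1 (mem_c_of h.cD hg hd)
  refine h.ψi d hv ((d2 _ (h.ψe d hv) (k _) (k _)).resolve_right fun e => ?_)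
  simpa [e, ω] using k (swap 0 4) 0
end Cf

end H22.UM
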