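import Cfsg.Agent.H3.Schmidt

/-!
# Universal Schmidt groups, part 1: the field `F_p(ζ)`
-/

open Polynomial

namespace H22.US

variable {p q : ℕ} [hp : Fact p.Prime] [hq : Fact q.Prime] {K : Type*} [Field K] [Finite K]

omit [Finite K] in
theorem ord_eq {ξ : K} (h1 : ξ ^ q = 1) (h2 : ξ ≠ 1) : orderOf ξ = q :=
  orderOf_eq_prime h1 h2

omit [Finite K] in
theorem ne_zero_of {ξ : K} (h1 : ξ ^ q = 1) : ξ ≠ 0 := by
  rintro rfl
  rw [zero_pow hq.out.ne_zero] at h1
  exact zero_ne_one h1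

theorem card_sub (hK : Nat.card K = p ^ orderOf (p : ZMod q)) (S : Subring K) :
    ∃ b, b ≤ orderOf (p : ZMod q) ∧ b ≠ 0 ∧ Nat.card S = p ^ b := by
  have h : Nat.card S ∣ p ^ orderOf (p : ZMod q) := by
    rw [← hK]; exact AddSubgroup.card_addSubgroup_dvd_card S.toAddSubgroup
  obtain ⟨b, hb, e⟩ := (Nat.dvd_prime_pow hp.out).1 h
  refine ⟨b, hb, ?_, e⟩
  rintro rfl
  exact absurd (Finite.one_lt_card (α := S)) (by rw [e]; simp)

theorem sub_top (hK : Nat.card K = p ^ orderOf (p : ZMod q)) {ξ : K} (h1 : ξ ^ q = 1)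
    (h2 : ξ ≠ 1) (S : Subring K) (hS : ξ ∈ S) : S = ⊤ := by
  classical
  obtain ⟨b, hb, hb0, e⟩ := card_sub hK S
  let _ : Fintype S := Fintype.ofFinite S
  let _ : Field S := Fintype.fieldOfDomain S
  have h3 : (⟨ξ, hS⟩ : S) ^ (Fintype.card S - 1) = 1 :=
    FiniteField.pow_card_sub_one_eq_one _ fun h => ne_zero_of h1 (congrArg Subtype.val h)
  have h4 : ξ ^ (p ^ b - 1) = 1 := by
    have := congrArg Subtype.val h3
    rwa [← Nat.card_eq_fintype_card, e] at this
  have h5 : q ∣ p ^ b - 1 := by rw [← ord_eq h1 h2]; exact orderOf_dvd_of_pow_eq_one h4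
  have h6 : (p : ZMod q) ^ b = 1 := by
    have h7 := (ZMod.natCast_eq_zero_iff _ _).2 h5
    rw [Nat.cast_sub (Nat.one_le_pow _ _ hp.out.pos)] at h7
    push_cast at h7
    exact sub_eq_zero.1 h7
  have h7 : b = orderOf (p : ZMod q) :=
    le_antisymm hb (Nat.le_of_dvd (Nat.pos_of_ne_zero hb0) (orderOf_dvd_of_pow_eq_one h6))
  have h8 : S.toAddSubgroup = ⊤ := AddSubgroup.eq_top_of_card_eq _ (by
    rw [hK, ← h7, ← e]; rfl)
  exact eq_top_iff.2 fun x _ => by
    have : x ∈ S.toAddSubgroup := h8 ▸ AddSubgroup.mem_top x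
    exact this

/-- the multipliers of an additive subgroup -/
def stab (U : AddSubgroup K) : Subring K where
  carrier := {c | ∀ y ∈ U, c * y ∈ U}
  mul_mem' ha hb y hy := by rw [mul_assoc]; exact ha _ (hb y hy)
  one_mem' y hy := by rwa [one_mul]
  add_mem' ha hb y hy := by rw [add_mul]; exact U.add_mem (ha y hy) (hb y hy)
  zero_mem' y _ := by rw [zero_mul]; exact U.zero_mem
  neg_mem' ha y hy := by rw [neg_mul]; exact U.neg_mem (ha y hy)

theorem add_top (hK : Nat.card K = p ^ orderOf (p : ZMod q)) {ξ : K} (h1 : ξ ^ q = 1)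
    (h2 : ξ ≠ 1) (U : AddSubgroup K) (hU : ∀ y ∈ U, ξ * y ∈ U) {u : K} (hu : u ∈ U)
    (hu0 : u ≠ 0) : U = ⊤ := by
  have h := sub_top hK h1 h2 (stab U) hU
  refine eq_top_iff.2 fun x _ => ?_
  have h3 : x * u⁻¹ ∈ stab U := h ▸ Subring.mem_top _
  have := h3 u hu
  rwa [inv_mul_cancel_right₀ hu0] at this

theorem half (hK : Nat.card K = p ^ orderOf (p : ZMod q)) {ξ : K} (h1 : ξ ^ q = 1)
    (h2 : ξ ≠ 1) (U : AddSubgroup K) (hU1 : (1 : K) ∈ U)
    (hU : ∀ i : ℤ, ξ ^ i + ξ ^ (-i) ∈ U) :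
    U.index ^ 2 ≤ Nat.card K ∧ (Odd (orderOf (p : ZMod q)) → U = ⊤) := by
  classical
  have h0 := ne_zero_of h1
  let U₀ := AddSubgroup.closure (insert (1 : K) (Set.range fun i : ℤ => ξ ^ i + ξ ^ (-i)))
  have hU₀ : U₀ ≤ U := (AddSubgroup.closure_le _).2 (by
    rintro _ (rfl | ⟨i, rfl⟩)
    exacts [hU1, hU i])
  have m1 : (1 : K) ∈ U₀ := AddSubgroup.subset_closure (Or.inl rfl)
  have m2 : ∀ i : ℤ, ξ ^ i + ξ ^ (-i) ∈ U₀ := fun i => AddSubgroup.subset_closure (Or.inr ⟨i, rfl⟩)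
  let F := stab U₀
  have hF : ∀ c ∈ F, c ∈ U := fun c hc => hU₀ (by simpa using hc 1 m1)
  have hs : ξ + ξ⁻¹ ∈ F := by
    intro y hy
    induction hy using AddSubgroup.closure_induction with
    | mem y hy =>
      rcases hy with rfl | ⟨i, rfl⟩
      · simpa using m2 1
      · have := U₀.add_mem (m2 (i + 1)) (m2 (i - 1))
        convert this using 1
        simp only [neg_add, neg_sub, zpow_add₀ h0, zpow_sub₀ h0, zpow_neg, zpow_one]
        have := zpow_ne_zero i h0
        field_simp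
        ring
    | zero => rw [mul_zero]; exact U₀.zero_mem
    | add x y _ _ hx hy => rw [mul_add]; exact U₀.add_mem hx hy
    | neg x _ hx => rw [mul_neg]; exact U₀.neg_mem hx
  let f : F × F →+ K := (F.subtype.toAddMonoidHom.comp (AddMonoidHom.fst F F)) +
    (AddMonoidHom.mulRight ξ).comp (F.subtype.toAddMonoidHom.comp (AddMonoidHom.snd F F))
  have hf : f.range = ⊤ := by
    refine add_top hK h1 h2 _ ?_ (u := 1) ⟨(1, 0), by simp [f]⟩ one_ne_zero
    rintro _ ⟨⟨c, d⟩, rfl⟩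
    refine ⟨(-d, c + d * ⟨_, hs⟩), ?_⟩
    simp [f]
    field_simp
    ring
  have hc : Nat.card K ≤ Nat.card F ^ 2 := by
    rw [sq, ← Nat.card_prod]
    exact Nat.card_le_card_of_surjective f (AddMonoidHom.range_eq_top.1 hf)
  have hFU : Nat.card F ≤ Nat.card U :=
    Nat.card_le_card_of_injective (fun c : F => (⟨c.1, hF _ c.2⟩ : U)) fun c d h =>
      Subtype.ext (congrArg (fun z : U => z.1) h)
  refine ⟨?_, fun ho => ?_⟩
  · have h3 := U.card_mul_index
    have h4 : 0 < Nat.card U := Nat.card_pos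
    have h5 : U.index ≤ Nat.card U := by
      refine Nat.le_of_mul_le_mul_left ?_ h4
      rw [h3, ← sq]
      exact hc.trans (Nat.pow_le_pow_left hFU 2)
    rw [← h3, sq]
    exact Nat.mul_le_mul_right _ h5
  · obtain ⟨b, hb, hb0, e⟩ := card_sub hK F
    let _ : Fintype F := Fintype.ofFinite F
    let _ : Field F := Fintype.fieldOfDomain F
    have h3 : Nat.card K = Nat.card F ^ Module.finrank F K := Module.natCard_eq_pow_finrank
    have h4 : orderOf (p : ZMod q) = b * Module.finrank F K := by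
      rw [hK, e, ← pow_mul] at h3
      exact Nat.pow_right_injective hp.out.two_le h3
    have h5 : orderOf (p : ZMod q) ≤ b * 2 := by
      rw [hK, e, ← pow_mul] at hc
      exact (Nat.pow_le_pow_iff_right hp.out.one_lt).1 hc
    have h6 : Module.finrank F K ≤ 2 :=
      Nat.le_of_mul_le_mul_left (h4 ▸ h5) (Nat.pos_of_ne_zero hb0)
    have h7 : Module.finrank F K = 1 := by
      rw [h4, Nat.odd_mul] at ho
      obtain ⟨k, hk⟩ := ho.2
      omega
    rw [h7, pow_one] at h3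
    exact AddSubgroup.eq_top_of_card_eq _ (le_antisymm (AddSubgroup.card_le_card_addGroup _)
      (h3 ▸ hFU))

theorem exists_root (hK : Nat.card K = p ^ orderOf (p : ZMod q)) :
    ∃ ζ : K, ζ ^ q = 1 ∧ ζ ≠ 1 := by
  classical
  have h5 : q ∣ Nat.card Kˣ := by
    rw [Nat.card_units, hK, ← ZMod.natCast_eq_zero_iff,
      Nat.cast_sub (Nat.one_le_pow _ _ hp.out.pos)]
    push_cast
    rw [pow_orderOf_eq_one, sub_self]
  obtain ⟨x, hx⟩ := exists_prime_orderOf_dvd_card' q h5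
  refine ⟨x, ?_, fun h => ?_⟩
  · rw [← Units.val_pow_eq_pow_val, ← hx, pow_orderOf_eq_one, Units.val_one]
  · rw [Units.val_eq_one.1 h, orderOf_one] at hx
    exact hq.out.one_lt.ne hx

omit [Finite K] in
/-- an operator of order dividing `q` has an eigenvector -/
theorem exists_eigen {ζ : K} (h1 : ζ ^ q = 1) (h2 : ζ ≠ 1) {H : Type*} [AddCommGroup H]
    [Module K H] [Nontrivial H] (Φ : Module.End K H) (hΦ : Φ ^ q = 1) :
    ∃ ξ : K, ξ ^ q = 1 ∧ ∃ v : H, v ≠ 0 ∧ Φ v = ξ • v := by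
  by_contra! h
  have hp : IsPrimitiveRoot ζ q := ord_eq h1 h2 ▸ IsPrimitiveRoot.orderOf ζ
  have h3 : Function.Injective (aeval Φ (X ^ q - 1 : K[X])) := by
    rw [X_pow_sub_one_eq_prod hq.out.pos hp]
    refine Finset.prod_induction _ (fun f : K[X] => Function.Injective (aeval Φ f)) ?_ ?_ ?_
    · intro a b ha hb
      rw [map_mul]
      exact ha.comp hb
    · rw [map_one]; exact Function.injective_id
    · intro ξ hξ
      rw [mem_nthRootsFinset hq.out.pos] at hξ
      refine (injective_iff_map_eq_zero _).2 fun v hv => ?_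
      by_contra h0
      refine h ξ hξ v h0 ?_
      simpa [sub_eq_zero, Module.algebraMap_end_apply] using hv
  obtain ⟨v, hv⟩ := exists_ne (0 : H)
  exact hv (h3 (by simp [hΦ]))

end H22.US
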