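import Cfsg.Agent.H22.US1

/-!
# Universal Schmidt groups, part 2: the normal Sylow subgroup
-/

open Subgroup Multiplicative
open scoped commutatorElement

namespace H22.US

/-- a `p`-group with an automorphism of order `q` fixing every proper invariant subgroup -/
structure Act (p q : ℕ) {P : Type*} [Group P] (α : MulAut P) : Prop where
  pg : IsPGroup p P
  ne : p ≠ q
  pw : α ^ q = 1
  nt : α ≠ 1
  fix : ∀ S : Subgroup P, S ≠ ⊤ → (∀ v ∈ S, α v ∈ S) → ∀ v ∈ S, α v = v

variable {p q : ℕ} [hp : Fact p.Prime] [hq : Fact q.Prime] {K : Type*} [Field K] [Finite K]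
  {P : Type*} [Group P] [Finite P] {α : MulAut P}

namespace Act

omit [Finite P] in
theorem top (h : Act p q α) (S : Subgroup P) (hS : ∀ v, α v * v⁻¹ ∈ S) : S = ⊤ := by
  by_contra h0
  have h1 := h.fix S h0 fun v hv => by simpa using S.mul_mem (hS v) hv
  refine h.nt (MulEquiv.ext fun v => ?_)
  have h2 : ∀ n : ℕ, (α ^ n) v = (α v * v⁻¹) ^ n * v := by
    intro n
    induction n with
    | zero => simp
    | succ n ih =>
      rw [pow_succ', MulAut.mul_apply, ih, map_mul, h1 _ (S.pow_mem (hS v) n), pow_succ,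
        mul_assoc, inv_mul_cancel_right]
  have h3 := h2 q
  rw [h.pw, MulAut.one_apply, eq_comm, mul_eq_right] at h3
  have h4 : α v * v⁻¹ = 1 := H3.eq_one_of_coprime_of_isPGroup h.pg
    (Nat.Coprime.coprime_dvd_left (orderOf_dvd_of_pow_eq_one h3)
      ((Nat.coprime_primes hq.out hp.out).2 h.ne.symm))
  exact mul_inv_eq_one.1 h4

omit [Finite P] in
theorem cen (h : Act p q α) (S : Subgroup P) [hN : S.Normal] (h0 : S ≠ ⊤)
    (hS : ∀ v ∈ S, α v ∈ S) : S ≤ center P := by
  have h1 := h.fix S h0 hS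
  have h2 := h.top (centralizer S) fun v => mem_centralizer_iff.2 fun s hs => by
    have := h1 _ (hN.conj_mem' s hs v)
    rw [map_mul, map_mul, h1 s hs, map_inv] at this
    calc s * (α v * v⁻¹) = α v * ((α v)⁻¹ * s * α v) * v⁻¹ := by group
      _ = _ := by rw [this]; group
  intro s hs
  refine mem_center_iff.2 fun v => ?_
  have : v ∈ centralizer (S : Set P) := h2 ▸ mem_top v
  exact (mem_centralizer_iff.1 this s hs).symm

theorem mem_comm (h : Act p q α) {v : P} (hv : α v = v) : v ∈ commutator P := by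
  let δ : Abelianization P →* Abelianization P :=
    Abelianization.map (α : P →* P) / MonoidHom.id _
  have hδ : ∀ w : P, δ (Abelianization.of w) = Abelianization.of (α w * w⁻¹) := fun w => by
    simp [δ, div_eq_mul_inv]
  have h1 := h.top (δ.range.comap Abelianization.of) fun w => ⟨_, hδ w⟩
  have h2 : Function.Surjective δ := fun a => by
    obtain ⟨w, rfl⟩ : ∃ w, Abelianization.of w = a := Quot.exists_rep a
    have : w ∈ δ.range.comap Abelianization.of := h1 ▸ mem_top w
    exact this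
  have h3 := Finite.injective_iff_surjective.2 h2
  rw [← Abelianization.ker_of, MonoidHom.mem_ker]
  exact h3 (by rw [hδ, hv]; simp)

theorem exists_hom (h : Act p q α) (hK : Nat.card K = p ^ orderOf (p : ZMod q)) :
    ∃ f : Additive P →+ K, f ≠ 0 := by
  have : Nontrivial P := by
    by_contra h0
    rw [not_nontrivial_iff_subsingleton] at h0
    exact h.nt (MulEquiv.ext fun _ => Subsingleton.elim _ _)
  obtain ⟨M, hM, -⟩ := (eq_top_or_exists_le_coatom (⊥ : Subgroup P)).resolve_left bot_ne_top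
  have h1 := H4.index_of_coatom h.pg hM
  have := H4.normal_of_index_prime h.pg h1
  have h2 : IsCyclic (P ⧸ M) := isCyclic_of_prime_card (p := p) h1
  obtain ⟨g, hg⟩ := h2.exists_generator
  have h3 : p ∣ Nat.card (Multiplicative K) := by
    have : Nat.card (Multiplicative K) = p ^ orderOf (p : ZMod q) := hK
    rw [this]
    refine dvd_pow_self _ fun h0 => ?_
    have := Finite.one_lt_card (α := K)
    rw [hK, h0] at this
    simp at this
  obtain ⟨y, hy⟩ := exists_prime_orderOf_dvd_card' p h3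
  let φ := (monoidHomOfForallMemZpowers hg (g' := y) (by
    rw [hy, orderOf_eq_card_of_forall_mem_zpowers hg]; exact h1.symm.dvd)).comp
      (QuotientGroup.mk' M)
  refine ⟨AddMonoidHom.mk' (fun v => (φ v.toMul).toAdd) (by simp), fun h0 => ?_⟩
  obtain ⟨w, hw⟩ := QuotientGroup.mk'_surjective M g
  have h4 : φ w = y := by
    simp only [φ, MonoidHom.comp_apply, hw, monoidHomOfForallMemZpowers_apply_gen]
  have h5 : (φ w).toAdd = 0 := DFunLike.congr_fun h0 (Additive.ofMul w)
  rw [h4, toAdd_eq_zero] at h5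
  rw [h5, orderOf_one] at hy
  exact hp.out.one_lt.ne hy

theorem exists_theta (h : Act p q α) (hK : Nat.card K = p ^ orderOf (p : ZMod q)) :
    ∃ ξ : K, ξ ^ q = 1 ∧ ∃ θ : P →* Multiplicative K, θ ≠ 1 ∧
      ∀ v, (θ (α v)).toAdd = ξ * (θ v).toAdd := by
  obtain ⟨ζ, h1, h2⟩ := exists_root hK
  obtain ⟨f, hf⟩ := h.exists_hom hK
  have : Nontrivial (Additive P →+ K) := ⟨f, 0, hf⟩
  let Φ : Module.End K (Additive P →+ K) :=
    { toFun := fun f => f.comp (MonoidHom.toAdditive (α : P →* P))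
      map_add' := fun _ _ => rfl
      map_smul' := fun _ _ => rfl }
  have h3 : ∀ (n : ℕ) f v, (Φ ^ n) f (Additive.ofMul v) = f (Additive.ofMul ((α ^ n) v)) := by
    intro n
    induction n with
    | zero => intro f v; rfl
    | succ n ih => intro f v; rw [pow_succ, Module.End.mul_apply, ih, pow_succ']; rfl
  obtain ⟨ξ, h4, θ, h5, h6⟩ := exists_eigen h1 h2 Φ (LinearMap.ext fun f =>
    AddMonoidHom.ext fun v => by
      have := h3 q f v.toMul
      rwa [h.pw] at this)
  refine ⟨ξ, h4, MonoidHom.mk' (fun v => ofAdd (θ (Additive.ofMul v))) (by simp [ofAdd_add]),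
    fun h0 => h5 (AddMonoidHom.ext fun v => ?_), fun v => DFunLike.congr_fun h6 (Additive.ofMul v)⟩
  exact congrArg toAdd (DFunLike.congr_fun h0 v.toMul)

theorem main (h : Act p q α) (hK : Nat.card K = p ^ orderOf (p : ZMod q)) :
    ∃ ξ : K, ξ ^ q = 1 ∧ ξ ≠ 1 ∧ ∃ θ : P →* Multiplicative K, Function.Surjective θ ∧
      (∀ v, (θ (α v)).toAdd = ξ * (θ v).toAdd) ∧ θ.ker ≤ center P ∧ (∀ v ∈ θ.ker, α v = v) ∧
      Nat.card θ.ker ^ 2 ≤ Nat.card K ∧ (Odd (orderOf (p : ZMod q)) → θ.ker = ⊥) := by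
  obtain ⟨ξ, h1, θ, h2, h3⟩ := h.exists_theta hK
  have k1 : θ.ker ≠ ⊤ := fun h0 => h2 (MonoidHom.ker_eq_top_iff.1 h0)
  have k2 : ∀ v ∈ θ.ker, α v ∈ θ.ker := fun v hv => by
    rw [MonoidHom.mem_ker] at hv ⊢
    rw [← toAdd_eq_zero, h3, hv, toAdd_one, mul_zero]
  have k3 := h.cen _ k1 k2
  have k4 := h.fix _ k1 k2
  have h4 : ξ ≠ 1 := by
    rintro rfl
    refine k1 (h.top _ fun v => ?_)
    rw [MonoidHom.mem_ker, map_mul, map_inv, mul_inv_eq_one]
    exact toAdd.injective (by rw [h3, one_mul])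
  have h5 : Function.Surjective θ := by
    obtain ⟨w, hw⟩ : ∃ w, θ w ≠ 1 := by
      by_contra! h0
      exact h2 (MonoidHom.ext h0)
    have := add_top hK h1 h4 (Subgroup.toAddSubgroup' θ.range) (by
      rintro _ ⟨v, hv⟩
      exact ⟨α v, toAdd.injective (by rw [h3, hv]; rfl)⟩) (u := (θ w).toAdd) ⟨w, rfl⟩ hw
    intro y
    have h6 : y.toAdd ∈ Subgroup.toAddSubgroup' θ.range := this ▸ AddSubgroup.mem_top _
    exact h6
  refine ⟨ξ, h1, h4, θ, h5, h3, k3, k4, ?_⟩
  obtain ⟨x, hx⟩ := h5 (ofAdd 1)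
  have c1 : ∀ u v : P, ⁅u, v⁆ ∈ θ.ker := fun u v => by
    rw [MonoidHom.mem_ker, map_commutatorElement, commutatorElement_eq_one_iff_mul_comm, mul_comm]
  have c2 : ∀ u v w : P, w * ⁅u, v⁆ = ⁅u, v⁆ * w := fun u v w => mem_center_iff.1 (k3 (c1 u v)) w
  have c3 : ∀ u v w : P, ⁅u, v * w⁆ = ⁅u, v⁆ * ⁅u, w⁆ := fun u v w => by
    calc ⁅u, v * w⁆ = ⁅u, v⁆ * (v * ⁅u, w⁆) * v⁻¹ := by simp only [commutatorElement_def]; group
      _ = _ := by rw [c2 u w v]; group
  have c4 : ∀ (i : ℤ) (u v : P), ⁅(α ^ i) u, (α ^ i) v⁆ = ⁅u, v⁆ := fun i u v => by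
    rw [← map_commutatorElement]
    exact MulAction.mem_stabilizer_iff.1 (zpow_mem
      (MulAction.mem_stabilizer_iff.2 (k4 _ (c1 u v)) : α ∈ MulAction.stabilizer (MulAut P) _) i)
  let c : P →* P := MonoidHom.mk' (fun v => ⁅x, v⁆) (c3 x)
  let U : Subgroup P :=
    { carrier := {u | ∀ v, ⁅v, u⁆ ∈ c.range}
      mul_mem' := fun ha hb v => by rw [c3]; exact mul_mem (ha v) (hb v)
      one_mem' := fun v => by rw [commutatorElement_one_right]; exact one_mem _
      inv_mem' := fun {a} ha v => by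
        have := c3 v a a⁻¹
        rw [mul_inv_cancel, commutatorElement_one_right, eq_comm, mul_eq_one_iff_inv_eq] at this
        rw [← this]; exact inv_mem (ha v) }
  have hU : U = ⊤ := by
    by_contra h0
    have := h.fix U h0 (fun u hu v => by
      have e := c4 1 (α⁻¹ v) u
      rw [zpow_one, MulAut.apply_inv_self] at e
      rw [e]; exact hu _) x (fun v => by
        rw [← commutatorElement_inv]; exact inv_mem ⟨v, rfl⟩)
    have e := h3 x
    rw [this, hx] at e
    exact h4 (by simpa using e.symm)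
  have h6 : θ.ker ≤ c.range := by
    refine le_trans (b := commutator P) (fun v hv => h.mem_comm (k4 v hv)) ?_
    rw [commutator_def, commutator_le]
    intro v _ u _
    exact (hU ▸ mem_top u : u ∈ U) v
  have h7 : θ.ker ≤ c.ker := fun v hv =>
    commutatorElement_eq_one_iff_mul_comm.2 (mem_center_iff.1 (k3 hv) x)
  have h8 : Nat.card θ.ker ≤ (c.ker.map θ).index := by
    rw [index_map_eq _ h5 h7, index_ker]
    exact card_le_of_le h6
  have h0 := ne_zero_of h1
  have h9 : ∀ (i : ℤ) v, (θ ((α ^ i) v)).toAdd = ξ ^ i * (θ v).toAdd := by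
    intro i
    induction i using Int.induction_on with
    | zero => simp
    | succ i ih =>
      intro v
      rw [zpow_add_one, MulAut.mul_apply, ih, h3, zpow_add_one₀ h0, mul_assoc]
    | pred i ih =>
      intro v
      have := h3 (α⁻¹ v)
      rw [MulAut.apply_inv_self] at this
      rw [zpow_sub_one, MulAut.mul_apply, ih, zpow_sub_one₀ h0, mul_assoc, this,
        inv_mul_cancel_left₀ h0]
  obtain ⟨b1, b2⟩ := half hK h1 h4 (Subgroup.toAddSubgroup' (c.ker.map θ))
    ⟨x, commutatorElement_self x, hx⟩ fun i => ⟨(α ^ i) x * (α ^ (-i)) x, by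
      have e := c4 i x ((α ^ (-i)) x)
      rw [← MulAut.mul_apply, ← zpow_add, add_neg_cancel, zpow_zero, MulAut.one_apply] at e
      change ⁅x, _⁆ = 1
      rw [c3, ← e, ← commutatorElement_inv ((α ^ i) x) x, inv_mul_cancel], toAdd.injective (by
        rw [map_mul, toAdd_mul, h9, h9, hx]; simp; rfl)⟩
  have e1 : (Subgroup.toAddSubgroup' (c.ker.map θ)).index = (c.ker.map θ).index := rfl
  refine ⟨(Nat.pow_le_pow_left (h8.trans e1.ge) 2).trans b1, fun ho => ?_⟩
  rw [← e1, b2 ho, AddSubgroup.index_top] at h8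
  exact eq_bot_of_card_le _ h8

end Act

end H22.US
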