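import Cfsg.Agent.H22.US2

/-!
# Universal Schmidt groups, part 3: the common quotient `K ⋊ C`
-/

open Subgroup Multiplicative Cfsg

namespace H22.US

variable {K : Type*} [Field K] {C : Type*} [CommGroup C]

/-- the group `K ⋊ C` -/
@[ext] structure Aff (χ : C →* Kˣ) where
  u : K
  c : C

namespace Aff
variable {χ : C →* Kˣ}

instance : Mul (Aff χ) := ⟨fun a b => ⟨a.u + χ a.c * b.u, a.c * b.c⟩⟩
instance : One (Aff χ) := ⟨⟨0, 1⟩⟩
instance : Inv (Aff χ) := ⟨fun a => ⟨-(χ a.c⁻¹ * a.u), a.c⁻¹⟩⟩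

@[simp] theorem mul_u (a b : Aff χ) : (a * b).u = a.u + χ a.c * b.u := rfl
@[simp] theorem mul_c (a b : Aff χ) : (a * b).c = a.c * b.c := rfl
@[simp] theorem one_u : (1 : Aff χ).u = 0 := rfl
@[simp] theorem one_c : (1 : Aff χ).c = 1 := rfl
@[simp] theorem inv_u (a : Aff χ) : a⁻¹.u = -(χ a.c⁻¹ * a.u) := rfl
@[simp] theorem inv_c (a : Aff χ) : a⁻¹.c = a.c⁻¹ := rfl

instance : Group (Aff χ) := Group.ofLeftAxioms
  (fun a b c => by ext <;> simp [mul_assoc, mul_add, add_assoc])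
  (fun a => by ext <;> simp) (fun a => by ext <;> simp)

/-- underlying set -/
def equiv : Aff χ ≃ K × C := ⟨fun a => (a.u, a.c), fun a => ⟨a.1, a.2⟩, fun _ => rfl, fun _ => rfl⟩

instance [Finite K] [Finite C] : Finite (Aff χ) := Finite.of_equiv _ equiv.symm

theorem card : Nat.card (Aff χ) = Nat.card K * Nat.card C := by
  rw [Nat.card_congr equiv, Nat.card_prod]

/-- projection to `C` -/
def pr : Aff χ →* C := MonoidHom.mk' (fun a => a.c) fun _ _ => rfl

theorem pow_u (u : K) (n : ℕ) : (⟨u, 1⟩ : Aff χ) ^ n = ⟨n * u, 1⟩ := by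
  induction n with
  | zero => ext <;> simp
  | succ n ih => rw [pow_succ, ih]; ext <;> simp [add_mul]

theorem pow_c (c : C) (n : ℕ) : (⟨0, c⟩ : Aff χ) ^ n = ⟨0, c ^ n⟩ := by
  induction n with
  | zero => ext <;> simp
  | succ n ih => rw [pow_succ, ih]; ext <;> simp [pow_succ]

end Aff

/-- minimal non-`p`-nilpotent -/
def Mn (p : ℕ) (X : Type*) [Group X] : Prop :=
  ¬ HasNormalPComplement p X ∧ ∀ H : Subgroup X, H ≠ ⊤ → HasNormalPComplement p H

/-- the data defining the common quotient -/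
structure Dat (p q r : ℕ) (χ : C →* Kˣ) (c₀ : C) : Prop where
  ne : p ≠ q
  hr : 1 ≤ r
  hK : Nat.card K = p ^ orderOf (p : ZMod q)
  gen : ∀ c, c ∈ zpowers c₀
  ord : orderOf c₀ = q ^ r
  h1 : (χ c₀ : K) ^ q = 1
  h2 : (χ c₀ : K) ≠ 1

variable {p q r : ℕ} [hp : Fact p.Prime] [hq : Fact q.Prime] [Finite K] [Finite C]
  {χ : C →* Kˣ} {c₀ : C}

namespace Dat

omit hp hq [Finite K] in
theorem gen' (d : Dat p q r χ c₀) (c : C) : ∃ n : ℕ, c₀ ^ n = c :=
  mem_powers_iff_mem_zpowers.2 (d.gen c)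

omit hp [Finite K] [Finite C] in
theorem card (d : Dat p q r χ c₀) : Nat.card (Aff χ) = p ^ orderOf (p : ZMod q) * q ^ r := by
  rw [Aff.card, d.hK, ← orderOf_eq_card_of_forall_mem_zpowers d.gen, d.ord]

theorem mn (d : Dat p q r χ c₀) : Mn p (Aff χ) := by
  have hc := (Nat.coprime_primes hq.out hp.out).2 d.ne.symm
  refine ⟨fun h => ?_, fun H hH => ?_⟩
  · have h1 : (orderOf (⟨0, c₀⟩ : Aff χ)).Coprime p := by
      refine Nat.Coprime.coprime_dvd_left (orderOf_dvd_of_pow_eq_one (n := q ^ r) ?_)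
        (hc.pow_left r)
      rw [Aff.pow_c, ← d.ord, pow_orderOf_eq_one]; rfl
    have h2 := H3.hasNPC_iff_mul.1 h _ ((⟨1, 1⟩ : Aff χ) * (⟨0, c₀⟩ : Aff χ)⁻¹ * (⟨1, 1⟩ : Aff χ)⁻¹)
      h1 (by
        rw [← MulAut.conj_apply, MulEquiv.orderOf_eq, orderOf_inv]; exact h1)
    have e : (⟨0, c₀⟩ : Aff χ) * ((⟨1, 1⟩ : Aff χ) * (⟨0, c₀⟩ : Aff χ)⁻¹ * (⟨1, 1⟩ : Aff χ)⁻¹) =
        ⟨χ c₀ - 1, 1⟩ := by
      ext <;> simp [mul_add, sub_eq_add_neg]
    rw [e] at h2
    have h3 := H28.eq_one_of_coprime_of_pow h2 (k := orderOf (p : ZMod q)) (by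
      classical
      let _ := Fintype.ofFinite K
      rw [Aff.pow_u, ← d.hK, Nat.card_eq_fintype_card, FiniteField.cast_card_eq_zero, zero_mul]
      rfl)
    exact d.h2 (sub_eq_zero.1 (congrArg Aff.u h3))
  refine H3.hasNPC_of_comm fun x y => Subtype.ext ?_
  by_cases h0 : ∀ a ∈ H, χ a.c = 1
  · ext
    · simp [h0 _ x.2, h0 _ y.2, add_comm]
    · simp [mul_comm]
  push Not at h0
  obtain ⟨a, ha, h0⟩ := h0
  obtain ⟨n, hn⟩ := d.gen' a.c
  let U : AddSubgroup K :=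
    { carrier := {u | (⟨u, 1⟩ : Aff χ) ∈ H}
      add_mem' := fun {u v} hu hv => by
        have := H.mul_mem hu hv
        change _ ∈ H
        convert this using 1
        ext <;> simp
      zero_mem' := H.one_mem
      neg_mem' := fun {u} hu => by
        have := H.inv_mem hu
        change _ ∈ H
        convert this using 1
        ext <;> simp }
  by_contra hxy
  have h3 : ((x : Aff χ) * y * ((y : Aff χ) * x)⁻¹).u ∈ U := by
    have := H.mul_mem (H.mul_mem x.2 y.2) (H.inv_mem (H.mul_mem y.2 x.2))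
    change _ ∈ H
    convert this using 1
    ext
    · rfl
    · simp only [Aff.mul_c, Aff.inv_c]; rw [mul_comm (x : Aff χ).c, mul_inv_cancel]
  have h4 : U = ⊤ := by
    refine add_top d.hK (ξ := χ a.c) ?_ (fun h => h0 (Units.val_eq_one.1 h)) U ?_ h3 fun h => ?_
    · rw [← hn, map_pow, Units.val_pow_eq_pow_val, ← pow_mul, mul_comm, pow_mul, d.h1, one_pow]
    · intro u hu
      have := H.mul_mem (H.mul_mem ha hu) (H.inv_mem ha)
      change _ ∈ H
      convert this using 1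
      ext <;> simp
    · refine hxy (mul_inv_eq_one.1 (Aff.ext h ?_))
      simp only [Aff.mul_c, Aff.inv_c, coe_mul, Aff.one_c]
      rw [mul_comm (x : Aff χ).c, mul_inv_cancel]
  have h5 : c₀ ∈ zpowers a.c := by
    rw [← hn, mem_zpowers_pow_iff, d.ord]
    refine Nat.Coprime.pow_right _ (((Nat.Prime.coprime_iff_not_dvd hq.out).2 ?_).symm)
    rintro ⟨m, rfl⟩
    refine h0 (Units.val_eq_one.1 ?_)
    rw [← hn, map_pow, Units.val_pow_eq_pow_val, pow_mul, d.h1, one_pow]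
  refine hH (eq_top_iff.2 fun z _ => ?_)
  obtain ⟨j, hj⟩ := zpowers_le_of_mem h5 (d.gen z.c)
  have h6 : (a ^ j).c = z.c := (map_zpow Aff.pr a j).trans hj
  have h7 : z.u - (a ^ j).u ∈ U := h4 ▸ AddSubgroup.mem_top _
  convert H.mul_mem h7 (H.zpow_mem ha j) using 1
  ext <;> simp [h6]

end Dat

section cover
variable {X : Type*} [Group X] [Finite X]

theorem Mn.fix (h : Mn p X) {T H : Subgroup X} [hT : T.Normal] (hp' : IsPGroup p T) (hH : H ≠ ⊤)
    {g v : X} (hg : g ∈ H) (hv : v ∈ H) (h1 : (orderOf g).Coprime p) (h2 : v ∈ T) :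
    g * v * g⁻¹ = v := by
  have h3 := H3.hasNPC_subgroup_iff_mul.1 (h.2 H hH) g hg (v * g⁻¹ * v⁻¹)
    (H.mul_mem (H.mul_mem hv (H.inv_mem hg)) (H.inv_mem hv)) h1 (by
      rw [← MulAut.conj_apply, MulEquiv.orderOf_eq, orderOf_inv]; exact h1)
  have h4 := H28.eq_one_of_coprime_of_mem hp' h3 (by
    have := T.mul_mem (hT.conj_mem v h2 g) (T.inv_mem h2)
    simpa only [mul_assoc] using this)
  rw [← mul_inv_eq_one, ← h4]; group

theorem Mn.act (h : Mn p X) (hpq : p ≠ q) (hr : 1 ≤ r) {T : Subgroup X} [hT : T.Normal]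
    (hp' : IsPGroup p T) {g : X} (hg : g ∉ centralizer T) (ht : zpowers g ⊔ T = ⊤)
    (ho : orderOf g = q ^ r) : Act p q (MulAut.conjNormal g : MulAut T) := by
  have hc : (orderOf g).Coprime p :=
    ho ▸ ((Nat.coprime_primes hq.out hp.out).2 hpq.symm).pow_left r
  have hz : ∀ i : ℤ, (orderOf (g ^ i)).Coprime p := fun i =>
    hc.coprime_dvd_left (orderOf_dvd_of_mem_zpowers ⟨i, rfl⟩)
  refine ⟨hp', hpq, ?_, fun h0 => hg ?_, fun S hS hi v hv => ?_⟩
  · rw [← map_pow]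
    refine MulEquiv.ext fun v => Subtype.ext ?_
    refine h.fix hp' (H := zpowers (g ^ q) ⊔ T) (fun h0 => ?_) (mem_sup_left (mem_zpowers _))
      (mem_sup_right v.2) (by simpa using hz q) v.2
    obtain ⟨_, ⟨i, rfl⟩, t, ht, e⟩ := (H28.mem_sup_of_le_normalizer le_normalizer_of_normal).1
      (h0 ▸ mem_top g : g ∈ zpowers (g ^ q) ⊔ T)
    have e2 : t = g ^ (1 - q * i) := by
      rw [sub_eq_neg_add, zpow_add, zpow_neg, zpow_mul, zpow_natCast, zpow_one, eq_inv_mul_iff_mul_eq]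
      exact e
    have e3 := H28.eq_one_of_coprime_of_mem hp' (hz _) (e2 ▸ ht)
    rw [← orderOf_dvd_iff_zpow_eq_one, ho] at e3
    have e4 : (q : ℤ) ∣ 1 - q * i :=
      (Int.natCast_dvd_natCast.2 (dvd_pow_self q (by omega))).trans e3
    rw [dvd_sub_left (dvd_mul_right _ _)] at e4
    exact hq.out.not_dvd_one (by exact_mod_cast e4)
  · exact mem_centralizer_iff.2 fun v hv => by
      have := congrArg Subtype.val (DFunLike.congr_fun h0 ⟨v, hv⟩)
      exact (mul_inv_eq_iff_eq_mul.1 this).symm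
  · refine Subtype.ext (h.fix hp' (H := zpowers g ⊔ S.map T.subtype) (fun h0 => hS ?_)
      (mem_sup_left (mem_zpowers _)) (mem_sup_right ⟨v, hv, rfl⟩) hc v.2)
    refine eq_top_iff.2 fun w _ => ?_
    have hn : zpowers g ≤ normalizer (S.map T.subtype : Subgroup X) :=
      zpowers_le_of_mem (H28.mem_normalizer_of_cj_le (by
        rintro _ ⟨_, ⟨s, hs, rfl⟩, rfl⟩
        exact ⟨_, hi s hs, rfl⟩))
    obtain ⟨_, ⟨i, rfl⟩, _, ⟨s, hs, rfl⟩, e⟩ := (H28.mem_sup_of_le_normalizer hn).1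
      (h0 ▸ mem_top (w : X) : (w : X) ∈ zpowers g ⊔ S.map T.subtype)
    have e3 := H28.eq_one_of_coprime_of_mem hp' (hz i) (by
      rw [show g ^ i = _ from eq_mul_inv_of_mul_eq e]; exact T.mul_mem w.2 (T.inv_mem s.2))
    simp only [e3, one_mul] at e
    exact (Subtype.ext e : s = w) ▸ hs

theorem Dat.cover (d : Dat p q r χ c₀) (h : Mn p X) {t : ℕ} (hc : Nat.card X = p ^ t * q ^ r) :
    ∃ π : X →* Aff χ, Function.Surjective π ∧ π.ker ≤ center X ∧ IsPGroup p π.ker ∧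
      Nat.card π.ker ^ 2 ≤ Nat.card K ∧ (Odd (orderOf (p : ZMod q)) → π.ker = ⊥) := by
  obtain ⟨T, hT, hp', g, hg, ht, q', k, hq', hqp, ho⟩ := H3.exists_of_minimal_not_hasNPC h.1 h.2
  have hco : (orderOf g).Coprime p := ho ▸ ((Nat.coprime_primes hq' hp.out).2 hqp).pow_left k
  have key : ∀ g' : X, g ∈ zpowers g' → orderOf g' = orderOf g →
      (∀ y, y ∈ zpowers (QuotientGroup.mk' T g')) ∧
      orderOf (QuotientGroup.mk' T g') = orderOf g := fun g' h1 h2 => by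
    refine ⟨fun y => ?_, ?_⟩
    · obtain ⟨x, rfl⟩ := QuotientGroup.mk'_surjective T y
      obtain ⟨a, ha, b, hb, rfl⟩ := (H28.mem_sup_of_le_normalizer le_normalizer_of_normal).1
        (ht ▸ mem_top x : x ∈ zpowers g ⊔ T)
      obtain ⟨i, rfl⟩ := zpowers_le_of_mem h1 ha
      refine ⟨i, ?_⟩
      simp [(QuotientGroup.eq_one_iff b).2 hb]
    · rw [← h2]
      refine orderOf_eq_orderOf_iff.2 fun n => ⟨fun h3 => ?_, fun h3 => by rw [← map_pow, h3, map_one]⟩
      rw [← map_pow] at h3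
      exact H28.eq_one_of_coprime_of_mem hp' ((h2 ▸ hco).coprime_dvd_left (orderOf_pow_dvd n))
        ((QuotientGroup.eq_one_iff _).1 h3)
  obtain ⟨rfl, rfl⟩ : q = q' ∧ r = k := by
    obtain ⟨k1, k2⟩ := key g (mem_zpowers g) rfl
    obtain ⟨m, hm⟩ := IsPGroup.iff_card.1 hp'
    have e := T.card_eq_card_quotient_mul_card_subgroup
    rw [hc, ← orderOf_eq_card_of_forall_mem_zpowers k1, k2, ho, hm] at e
    have e2 := congrArg (fun n => n.factorization q) e
    have := d.hr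
    simp only [Nat.factorization_mul (pow_ne_zero _ hp.out.ne_zero) (pow_ne_zero _ hq.out.ne_zero),
      Nat.factorization_mul (pow_ne_zero _ hq'.ne_zero) (pow_ne_zero _ hp.out.ne_zero),
      hp.out.factorization_pow, hq.out.factorization_pow, hq'.factorization_pow, Finsupp.add_apply,
      Finsupp.single_apply, if_neg d.ne, if_true] at e2
    split_ifs at e2 with h2
    · exact ⟨h2.symm, by omega⟩
    · omega
  obtain ⟨ξ, h1, h2, θ, t1, t2, t3, t4, t5, t6⟩ := (h.act d.ne d.hr hp' hg ht ho).main d.hK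
  have hpr : IsPrimitiveRoot ξ q := ord_eq h1 h2 ▸ IsPrimitiveRoot.orderOf ξ
  obtain ⟨j, -, hj⟩ := hpr.eq_pow_of_pow_eq_one d.h1
  have hjc : j.Coprime (orderOf g) := by
    rw [ho]
    refine Nat.Coprime.pow_right _ (((Nat.Prime.coprime_iff_not_dvd hq.out).2 ?_).symm)
    rintro ⟨m, rfl⟩
    exact d.h2 (by rw [← hj, pow_mul, h1, one_pow])
  have ho' : orderOf (g ^ j) = orderOf g := hjc.symm.orderOf_pow
  obtain ⟨k1, k2⟩ := key (g ^ j) (mem_zpowers_pow_iff.2 hjc) ho'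
  let e := mulEquivOfOrderOfEq k1 d.gen (k2.trans (ho.trans d.ord.symm))
  let ρ : X →* C := (e : X ⧸ T →* C).comp (QuotientGroup.mk' T)
  let s : C →* X := monoidHomOfForallMemZpowers d.gen (g' := g ^ j) (by rw [ho', ho, d.ord])
  have s0 : s c₀ = g ^ j := monoidHomOfForallMemZpowers_apply_gen _ _
  have r0 : ρ (g ^ j) = c₀ :=
    mulEquivOfOrderOfEq_apply_gen k1 d.gen (k2.trans (ho.trans d.ord.symm))
  have rs : ∀ c, ρ (s c) = c := fun c => by
    obtain ⟨n, rfl⟩ := d.gen' c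
    rw [map_pow, map_pow, s0, r0]
  have rk : ∀ x, ρ x = 1 ↔ x ∈ T := fun x => by
    rw [← QuotientGroup.eq_one_iff]; exact map_eq_one_iff _ e.injective
  have m : ∀ x, x * (s (ρ x))⁻¹ ∈ T := fun x => by
    rw [← rk, map_mul, map_inv, rs, mul_inv_cancel]
  have a1 : ∀ (n : ℕ) (v : T), (θ (MulAut.conjNormal (g ^ n) v)).toAdd = ξ ^ n * (θ v).toAdd := by
    intro n
    induction n with
    | zero => simp
    | succ n ih => intro v; rw [pow_succ, map_mul, MulAut.mul_apply, ih, t2, pow_succ, mul_assoc]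
  have a2 : ∀ (c : C) (v : T), (θ (MulAut.conjNormal (s c) v)).toAdd = χ c * (θ v).toAdd := by
    intro c v
    obtain ⟨n, rfl⟩ := d.gen' c
    rw [map_pow s, s0, ← pow_mul, a1, pow_mul, hj, map_pow, Units.val_pow_eq_pow_val]
  let π : X →* Aff χ := MonoidHom.mk' (fun x => ⟨(θ ⟨_, m x⟩).toAdd, ρ x⟩) fun x y => by
    refine Aff.ext ?_ (map_mul ρ x y)
    simp only [Aff.mul_u]
    rw [← a2, ← toAdd_mul, ← map_mul]
    congr 2
    ext
    simp only [map_mul, coe_mul, MulAut.conjNormal_apply]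
    group
  have hk : π.ker = θ.ker.map T.subtype := by
    ext x
    constructor
    · intro hx
      have x1 : ρ x = 1 := congrArg Aff.c hx
      have x2 : (θ ⟨_, m x⟩).toAdd = 0 := congrArg Aff.u hx
      exact ⟨⟨_, m x⟩, toAdd_eq_zero.1 x2, by simp [x1]⟩
    · rintro ⟨v, hv, rfl⟩
      have x1 : ρ v = 1 := (rk _).2 v.2
      refine Aff.ext (toAdd_eq_zero.2 ?_) x1
      refine Eq.trans (congrArg θ (Subtype.ext ?_)) hv
      simp [x1]
  have hck : Nat.card π.ker = Nat.card θ.ker := by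
    rw [hk, card_map_of_injective T.subtype_injective]
  refine ⟨π, fun y => ?_, fun x hx => ?_, hp'.to_le (hk ▸ map_subtype_le _), hck ▸ t5,
    fun h0 => by rw [hk, t6 h0, Subgroup.map_bot]⟩
  · obtain ⟨v, hv⟩ := t1 (ofAdd y.u)
    have x1 : ρ (v * s y.c) = y.c := by rw [map_mul, (rk _).2 v.2, rs, one_mul]
    refine ⟨v * s y.c, Aff.ext ?_ x1⟩
    refine Eq.trans (congrArg (fun z => (θ z).toAdd) (Subtype.ext ?_)) (congrArg toAdd hv)
    simp only [x1, mul_inv_cancel_right]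
  · rw [hk] at hx
    obtain ⟨v, hv, rfl⟩ := hx
    have : (⊤ : Subgroup X) ≤ centralizer {(v : X)} := by
      rw [← ht]
      refine sup_le (zpowers_le_of_mem (mem_centralizer_singleton_iff.2 ?_)) fun w hw =>
        mem_centralizer_singleton_iff.2 ?_
      · exact mul_inv_eq_iff_eq_mul.1 (congrArg Subtype.val (t4 v hv))
      · exact congrArg Subtype.val (mem_center_iff.1 (t3 hv) ⟨w, hw⟩)
    exact mem_center_iff.2 fun w => mem_centralizer_singleton_iff.1 (this (mem_top w))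

end cover

end H22.US
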