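import Cfsg.Agent.H22.US3

/-!
# Universal Schmidt groups, part 4: the universal group
-/

open Subgroup Multiplicative Cfsg Polynomial

namespace H22.US

variable {K : Type*} [Field K] {C : Type*} [CommGroup C]

/-- the unitary Heisenberg extension of `K ⋊ C` -/
@[ext] structure Hei (χ : C →* Kˣ) (σ : K →+* K) (h : ∀ c, σ (χ c) * χ c = 1) where
  u : K
  v : K
  c : C

namespace Hei
variable {χ : C →* Kˣ} {σ : K →+* K} {h : ∀ c, σ (χ c) * χ c = 1}

instance : Mul (Hei χ σ h) :=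
  ⟨fun a b => ⟨a.u + χ a.c * b.u, a.v + b.v + a.u * σ (χ a.c * b.u), a.c * b.c⟩⟩
instance : One (Hei χ σ h) := ⟨⟨0, 0, 1⟩⟩
instance : Inv (Hei χ σ h) := ⟨fun a => ⟨-(χ a.c⁻¹ * a.u), a.u * σ a.u - a.v, a.c⁻¹⟩⟩

@[simp] theorem mul_u (a b : Hei χ σ h) : (a * b).u = a.u + χ a.c * b.u := rfl
@[simp] theorem mul_v (a b : Hei χ σ h) : (a * b).v = a.v + b.v + a.u * σ (χ a.c * b.u) := rfl
@[simp] theorem mul_c (a b : Hei χ σ h) : (a * b).c = a.c * b.c := rfl
@[simp] theorem one_u : (1 : Hei χ σ h).u = 0 := rfl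
@[simp] theorem one_v : (1 : Hei χ σ h).v = 0 := rfl
@[simp] theorem one_c : (1 : Hei χ σ h).c = 1 := rfl
@[simp] theorem inv_u (a : Hei χ σ h) : a⁻¹.u = -(χ a.c⁻¹ * a.u) := rfl
@[simp] theorem inv_v (a : Hei χ σ h) : a⁻¹.v = a.u * σ a.u - a.v := rfl
@[simp] theorem inv_c (a : Hei χ σ h) : a⁻¹.c = a.c⁻¹ := rfl

instance : Group (Hei χ σ h) := Group.ofLeftAxioms
  (fun a b c => by
    ext
    · simp [mul_assoc, mul_add, add_assoc]
    · simp only [mul_u, mul_v, mul_c, map_mul, map_add, Units.val_mul]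
      linear_combination (b.u * σ (χ b.c) * σ c.u) * h a.c
    · simp [mul_assoc])
  (fun a => by ext <;> simp) (fun a => by
    ext
    · simp
    · simp only [mul_v, inv_u, inv_v, inv_c, map_mul, one_v]
      linear_combination (-a.u * σ a.u) * h a.c⁻¹
    · simp)

instance [Finite K] [Finite C] : Finite (Hei χ σ h) :=
  Finite.of_injective (fun a : Hei χ σ h => (a.u, a.v, a.c)) fun a b e => by
    simp only [Prod.mk.injEq] at e
    exact Hei.ext e.1 e.2.1 e.2.2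

/-- projection to `K ⋊ C` -/
def pr : Hei χ σ h →* Aff χ := MonoidHom.mk' (fun a => ⟨a.u, a.c⟩) fun _ _ => rfl

theorem pr_surj : Function.Surjective (pr : Hei χ σ h →* Aff χ) := fun y => ⟨⟨y.u, 0, y.c⟩, rfl⟩

theorem pr_ker : (pr : Hei χ σ h →* Aff χ).ker ≤ center _ := fun a ha => mem_center_iff.2 fun b => by
  have h1 : a.u = 0 := congrArg Aff.u ha
  have h2 : a.c = 1 := congrArg Aff.c ha
  ext <;> simp [h1, h2, add_comm]

theorem pow_v (v : K) (n : ℕ) : (⟨0, v, 1⟩ : Hei χ σ h) ^ n = ⟨0, n * v, 1⟩ := by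
  induction n with
  | zero => ext <;> simp
  | succ n ih => rw [pow_succ, ih]; ext <;> simp [add_mul]

end Hei

variable {p q r : ℕ} [hp : Fact p.Prime] [hq : Fact q.Prime] [Finite K] [Finite C]
  {χ : C →* Kˣ} {c₀ : C}

theorem Mn.exists_min {Y F : Type*} [Group Y] [Finite Y] [Group F] [Finite F] (hY : Mn p Y)
    (π : F →* Y) (hs : Function.Surjective π) (hk : π.ker ≤ center F) :
    ∃ M : Subgroup F, Function.Surjective (π.comp M.subtype) ∧ Mn p M := by
  obtain ⟨M, hM⟩ := exists_minimal_of_wellFoundedLT (fun M : Subgroup F => M.map π = ⊤)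
    ⟨⊤, map_top_of_surjective π hs⟩
  have h1 : Function.Surjective (π.comp M.subtype) := fun y => by
    obtain ⟨x, hx, rfl⟩ : y ∈ M.map π := hM.1 ▸ mem_top y
    exact ⟨⟨x, hx⟩, rfl⟩
  refine ⟨M, h1, fun h => hY.1 (H3.hasNPC_of_surjective h _ h1), fun H hH => ?_⟩
  let f := (π.comp M.subtype).comp H.subtype
  refine H3.hasNPC_of_ker_le_center f.rangeRestrict (fun x hx => ?_) (hY.2 _ fun h0 => hH ?_)
  · rw [MonoidHom.ker_rangeRestrict] at hx
    exact mem_center_iff.2 fun y => Subtype.ext (Subtype.ext (mem_center_iff.1 (hk hx) _))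
  · have h2 := hM.2 (y := H.map M.subtype) (eq_top_iff.2 fun y _ => by
      obtain ⟨x, rfl⟩ : y ∈ f.range := h0 ▸ mem_top y
      exact ⟨_, ⟨x, x.2, rfl⟩, rfl⟩) (map_subtype_le H)
    refine eq_top_iff.2 fun x _ => ?_
    obtain ⟨y, hy, e⟩ := h2 x.2
    exact (Subtype.ext e : y = x) ▸ hy

theorem Mn.surj {X Y Z : Type*} [Group X] [Finite X] [Group Y] [Group Z] (hX : Mn p X)
    (hY : Mn p Y) (π : X →* Y) (f : Z →* X) (hs : ∀ y, ∃ z, π (f z) = y) :
    Function.Surjective f := by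
  rw [← MonoidHom.range_eq_top]
  by_contra h0
  refine hY.1 (H3.hasNPC_of_surjective (hX.2 _ h0) (π.comp f.range.subtype) fun y => ?_)
  obtain ⟨z, rfl⟩ := hs y
  exact ⟨⟨_, z, rfl⟩, rfl⟩

omit hp [Finite K] [Finite C] in
theorem Dat.card_of (d : Dat p q r χ c₀) {X : Type*} [Group X] (π : X →* Aff χ)
    (hs : Function.Surjective π) :
    Nat.card X = Nat.card π.ker * (p ^ orderOf (p : ZMod q) * q ^ r) := by
  rw [← π.ker.card_mul_index, index_ker, MonoidHom.range_eq_top.2 hs, card_top, d.card]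

omit [Finite K] [Finite C] in
theorem Dat.card_of' (d : Dat p q r χ c₀) {X : Type*} [Group X] [Finite X] (π : X →* Aff χ)
    (hs : Function.Surjective π) (hk : IsPGroup p π.ker) : ∃ t, Nat.card X = p ^ t * q ^ r := by
  obtain ⟨j, hj⟩ := IsPGroup.iff_card.1 hk
  exact ⟨j + orderOf (p : ZMod q), by rw [d.card_of π hs, hj, pow_add, mul_assoc]⟩

theorem Dat.bound (d : Dat p q r χ c₀) {X : Type*} [Group X] [Finite X] (h : Mn p X) {t : ℕ}
    (hc : Nat.card X = p ^ t * q ^ r) {a a₀ : ℕ} (ha : a = orderOf (p : ZMod q))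
    (ha₀ : a₀ = if a % 2 = 1 then a else 3 * a / 2) : Nat.card X ≤ p ^ a₀ * q ^ r := by
  obtain ⟨π, h1, -, -, h4, h5⟩ := d.cover h hc
  rw [d.card_of π h1, ← ha]
  split_ifs at ha₀ with h0
  · rw [h5 (ha ▸ Nat.odd_iff.2 h0), card_bot, one_mul, ha₀]
  · obtain ⟨m, hm⟩ : ∃ m, a = m * 2 := ⟨a / 2, by omega⟩
    rw [d.hK, ← ha, hm, pow_mul] at h4
    rw [← mul_assoc, show a₀ = m + a by omega, pow_add]
    exact Nat.mul_le_mul_right _ (Nat.mul_le_mul_right _
      ((Nat.pow_le_pow_iff_left two_ne_zero).1 h4))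

theorem Dat.univ (d : Dat p q r χ c₀) {a a₀ : ℕ} (ha : a = orderOf (p : ZMod q))
    (ha₀ : a₀ = if a % 2 = 1 then a else 3 * a / 2) {G : Type*} [Group G] [Finite G] (hG : Mn p G)
    (hc₀ : Nat.card G = p ^ a₀ * q ^ r) {X : Type*} [Group X] [Finite X] (h : Mn p X) {t : ℕ}
    (hc : Nat.card X = p ^ t * q ^ r) :
    ∃ φ : G →* X, Function.Surjective φ ∧ φ.ker ≤ center G := by
  obtain ⟨π₀, a1, a2, a3, -⟩ := d.cover hG hc₀
  obtain ⟨π, b1, b2, b3, -⟩ := d.cover h hc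
  let W : Subgroup (G × X) :=
    (π₀.comp (MonoidHom.fst G X)).eqLocus (π.comp (MonoidHom.snd G X))
  let ϖ : W →* Aff χ := (π₀.comp (MonoidHom.fst G X)).comp W.subtype
  have w1 : ∀ w : W, π₀ w.1.1 = π w.1.2 := fun w => w.2
  obtain ⟨M, m1, m2⟩ := d.mn.exists_min ϖ (fun y => by
    obtain ⟨g, rfl⟩ := a1 y
    obtain ⟨x, hx⟩ := b1 (π₀ g)
    exact ⟨⟨(g, x), hx.symm⟩, rfl⟩) fun w hw => mem_center_iff.2 fun z => Subtype.ext
      (Prod.ext (mem_center_iff.1 (a2 hw) _) (mem_center_iff.1 (b2 ((w1 w).symm.trans hw)) _))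
  obtain ⟨t', ht'⟩ := d.card_of' _ m1 fun w => by
    obtain ⟨i, hi⟩ := a3 ⟨w.1.1.1.1, w.2⟩
    obtain ⟨j, hj⟩ := b3 ⟨w.1.1.1.2, (w1 _).symm.trans w.2⟩
    refine ⟨i + j, Subtype.ext (Subtype.ext (Subtype.ext (Prod.ext ?_ ?_)))⟩
    · have : w.1.1.1.1 ^ p ^ i = 1 := congrArg Subtype.val hi
      change w.1.1.1.1 ^ p ^ (i + j) = 1
      rw [pow_add, pow_mul, this, one_pow]
    · have : w.1.1.1.2 ^ p ^ j = 1 := congrArg Subtype.val hj
      change w.1.1.1.2 ^ p ^ (i + j) = 1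
      rw [pow_add, mul_comm, pow_mul, this, one_pow]
  let f : M →* G := ((MonoidHom.fst G X).comp W.subtype).comp M.subtype
  let g : M →* X := ((MonoidHom.snd G X).comp W.subtype).comp M.subtype
  have f1 : Function.Surjective f := hG.surj d.mn π₀ f m1
  have g1 : Function.Surjective g := h.surj d.mn π g fun y => by
    obtain ⟨z, rfl⟩ := m1 y
    exact ⟨z, (w1 _).symm⟩
  have f2 : Function.Bijective f :=
    f1.bijective_of_nat_card_le (hc₀ ▸ d.bound m2 ht' ha ha₀)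
  let e := MulEquiv.ofBijective f f2
  refine ⟨g.comp (e.symm : G →* M), g1.comp e.symm.surjective, fun x hx => a2 ?_⟩
  obtain ⟨z, rfl⟩ := e.surjective x
  have : g z = 1 := by simpa using hx
  exact (w1 z.1).trans ((congrArg π this).trans (map_one π))

universe u

theorem Dat.exi (d : Dat p q r χ c₀) {a a₀ : ℕ} (ha : a = orderOf (p : ZMod q))
    (ha₀ : a₀ = if a % 2 = 1 then a else 3 * a / 2) :
    ∃ (F : Type (max u_1 u_2)) (_ : Group F) (_ : Finite F) (π : F →* Aff χ),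
      Function.Surjective π ∧ π.ker ≤ center F ∧ IsPGroup p π.ker ∧
      ∀ M : Subgroup F, Function.Surjective (π.comp M.subtype) →
        p ^ a₀ * q ^ r ≤ Nat.card M := by
  classical
  split_ifs at ha₀ with h0
  · refine ⟨Aff χ, inferInstance, inferInstance, MonoidHom.id _, Function.surjective_id,
      by simp, by rw [MonoidHom.ker_id]; exact IsPGroup.of_bot, fun M hM => ?_⟩
    rw [ha₀, ha, ← d.card]
    exact Nat.card_le_card_of_surjective _ hM
  obtain ⟨m, hm⟩ : ∃ m, a = m * 2 := ⟨a / 2, by omega⟩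
  let _ := Fintype.ofFinite K
  have hK := d.hK
  have hp0 : ((p ^ a : ℕ) : K) = 0 := by
    rw [ha, ← hK, Nat.card_eq_fintype_card, FiniteField.cast_card_eq_zero]
  have hm0 : m ≠ 0 := by
    rintro rfl
    have := Finite.one_lt_card (α := K)
    rw [hK, ← ha, hm] at this
    simp at this
  have : CharP K p := (CharP.charP_iff_prime_eq_zero hp.out).2 (by
    push_cast at hp0; exact pow_eq_zero_iff (by omega) |>.1 hp0)
  let σ := iterateFrobenius K p m
  have h1 : q ∣ p ^ m + 1 := by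
    rw [← ZMod.natCast_eq_zero_iff]
    push_cast
    have e : ((p : ZMod q) ^ m) ^ 2 = 1 := by rw [← pow_mul, ← hm, ha, pow_orderOf_eq_one]
    rcases sq_eq_one_iff.1 e with e | e
    · have := Nat.le_of_dvd (Nat.pos_of_ne_zero hm0) (orderOf_dvd_of_pow_eq_one e)
      omega
    · rw [e, neg_add_cancel]
  have hσ : ∀ c, σ (χ c) * χ c = 1 := fun c => by
    obtain ⟨n, rfl⟩ := d.gen' c
    obtain ⟨k, hk⟩ := h1
    rw [iterateFrobenius_def, ← pow_succ, hk, map_pow, Units.val_pow_eq_pow_val, ← pow_mul,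
      mul_left_comm, pow_mul, d.h1, one_pow]
  refine ⟨Hei χ σ hσ, inferInstance, inferInstance, Hei.pr, Hei.pr_surj, Hei.pr_ker,
    fun x => ⟨a, Subtype.ext ?_⟩, fun M hM => ?_⟩
  · have e : x.1 = ⟨0, x.1.v, 1⟩ := Hei.ext (congrArg Aff.u x.2) rfl (congrArg Aff.c x.2)
    change x.1 ^ p ^ a = 1
    rw [e, Hei.pow_v, hp0, zero_mul]; rfl
  let δ : K →+ K := σ.toAddMonoidHom - AddMonoidHom.id K
  have k1 : Nat.card δ.ker ≤ p ^ m := by
    have hne := FiniteField.X_pow_card_pow_sub_X_ne_zero K hm0 hp.out.one_lt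
    have := (card_roots' (X ^ p ^ m - X : K[X])).trans
      (FiniteField.X_pow_card_pow_sub_X_natDegree_eq K hm0 hp.out.one_lt).le
    refine le_trans ?_ ((Multiset.toFinset_card_le _).trans this)
    rw [← Nat.card_eq_finsetCard]
    refine Nat.card_le_card_of_injective (fun x => ⟨x.1, ?_⟩) fun x y e =>
      Subtype.ext (by simpa using e)
    rw [Multiset.mem_toFinset, mem_roots hne]
    have := x.2
    simpa [δ, σ, iterateFrobenius_def] using this
  have k2 : p ^ m ≤ Nat.card δ.range := by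
    have := δ.ker.card_mul_index
    rw [AddSubgroup.index_ker, hK, ← ha, hm, pow_mul, sq] at this
    refine Nat.le_of_mul_le_mul_left ?_ (pow_pos hp.out.pos m)
    rw [← this]
    exact Nat.mul_le_mul_right _ k1
  have k3 : ∀ y : δ.range, (⟨0, y.1, 1⟩ : Hei χ σ hσ) ∈ M := by
    rintro ⟨_, u, rfl⟩
    obtain ⟨x, hx⟩ := hM ⟨1, 1⟩
    obtain ⟨y, hy⟩ := hM ⟨u, 1⟩
    have x1 : x.1.u = 1 := congrArg Aff.u hx
    have x2 : x.1.c = 1 := congrArg Aff.c hx
    have y1 : y.1.u = u := congrArg Aff.u hy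
    have y2 : y.1.c = 1 := congrArg Aff.c hy
    convert M.mul_mem (M.mul_mem x.2 y.2) (M.inv_mem (M.mul_mem y.2 x.2)) using 1
    ext <;> simp [x1, x2, y1, y2, δ] <;> ring
  have k4 : Nat.card δ.range ≤ Nat.card (Hei.pr.comp M.subtype).ker :=
    Nat.card_le_card_of_injective (fun y => ⟨⟨_, k3 y⟩, rfl⟩) fun y z e =>
      Subtype.ext (congrArg (fun w => w.1.1.v) e)
  rw [d.card_of _ hM, ← ha, ← mul_assoc, show a₀ = m + a by omega, pow_add]
  exact Nat.mul_le_mul_right _ (Nat.mul_le_mul_right _ (k2.trans k4))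

theorem main (hpq : p ≠ q) (hr : 1 ≤ r) {a a₀ : ℕ} (ha : a = orderOf (p : ZMod q))
    (ha₀ : a₀ = if a % 2 = 1 then a else 3 * a / 2) :
    ∃ (G : Type u) (_ : Group G) (_ : Finite G), Mn p G ∧ Nat.card G = p ^ a₀ * q ^ r ∧
      ∀ (X : Type u) [Group X] [Finite X], Mn p X → (∃ t : ℕ, Nat.card X = p ^ t * q ^ r) →
        ∃ φ : G →* X, Function.Surjective φ ∧ φ.ker ≤ center G := by
  have h0 : orderOf (p : ZMod q) ≠ 0 := (IsOfFinOrder.orderOf_pos (isOfFinOrder_iff_pow_eq_one.2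
    ⟨q - 1, Nat.sub_pos_of_lt hq.out.one_lt, ZMod.pow_card_sub_one_eq_one (by
      rw [Ne, ZMod.natCast_eq_zero_iff, Nat.prime_dvd_prime_iff_eq hq.out hp.out]
      exact hpq.symm)⟩)).ne'
  have hK := GaloisField.card p _ h0
  obtain ⟨ζ, h1, h2⟩ := exists_root hK
  have : NeZero (q ^ r) := ⟨pow_ne_zero _ hq.out.ne_zero⟩
  have g1 : ∀ c : Multiplicative (ZMod (q ^ r)), c ∈ zpowers (ofAdd 1) := fun c =>
    ⟨(c.toAdd.cast : ℤ), by simp [← ofAdd_zsmul]⟩
  have g2 : orderOf (ofAdd (1 : ZMod (q ^ r))) = q ^ r := by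
    rw [orderOf_ofAdd_eq_addOrderOf, ZMod.addOrderOf_one]
  let χ := monoidHomOfForallMemZpowers g1 (g' := Units.mk0 ζ (ne_zero_of h1)) (by
    rw [g2, ← orderOf_units, Units.val_mk0, ord_eq h1 h2]; exact dvd_pow_self _ (by omega))
  have e : (χ (ofAdd 1) : GaloisField p _) = ζ := by
    simp only [χ, monoidHomOfForallMemZpowers_apply_gen, Units.val_mk0]
  have d : Dat p q r χ (ofAdd 1) := ⟨hpq, hr, hK, g1, g2, e ▸ h1, e ▸ h2⟩
  obtain ⟨F, _, _, π, f1, f2, f3, f4⟩ := d.exi ha ha₀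
  let E : ULift.{u} F ≃* F := MulEquiv.ulift
  obtain ⟨M, m1, m2⟩ := d.mn.exists_min (π.comp (E : ULift.{u} F →* F)) (f1.comp E.surjective)
    fun x hx => mem_center_iff.2 fun y => E.injective (by
      rw [map_mul, map_mul]; exact mem_center_iff.1 (f2 hx) _)
  obtain ⟨t, ht⟩ := d.card_of' _ m1 fun w => by
    obtain ⟨i, hi⟩ := f3 ⟨E w.1.1, w.2⟩
    exact ⟨i, Subtype.ext (Subtype.ext (E.injective (congrArg Subtype.val hi)))⟩
  have hc : Nat.card M = p ^ a₀ * q ^ r := by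
    refine le_antisymm (d.bound m2 ht ha ha₀) ?_
    rw [← card_map_of_injective (f := (E : ULift.{u} F →* F)) E.injective]
    refine f4 _ fun y => ?_
    obtain ⟨z, rfl⟩ := m1 y
    exact ⟨⟨_, z, z.2, rfl⟩, rfl⟩
  exact ⟨M, inferInstance, inferInstance, m2, hc, fun X _ _ hX ⟨_, ht⟩ => d.univ ha ha₀ m2 hc hX ht⟩

end H22.US
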