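import Cfsg.Agent.H11.F5c

/-! S5855, chunk TV2, part 1: the frame lemmas of `H11.F5` without the simplicity assumption. -/

set_option autoImplicit false
set_option linter.unusedSectionVars false
set_option linter.style.haveILetI false

namespace H22.UW
open Matrix Cfsg.Geo H27.Asch H12.D5 H12.D5.Emb
open H11.F5 hiding ll0 cls k2_iff k2_odd k3_big k2_big cls_big

variable {ι κ : Type} [Fintype ι] [DecidableEq ι] [Fintype κ] [DecidableEq κ] {F : Type*} [Field F] [Fintype F]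
  {E : Emb ι κ F} {G : Subgroup (GL ι F)} {ζ ζ' η : F} {i j l : κ} {a α b β : κ → F} {u θ w ψ : ι → F}
  {R : F → F → F → F → Prop}

local notation "vv" => vecMulVec

/-- the standing assumptions -/
structure Cy (G : Subgroup (GL ι F)) (R : F → F → F → F → Prop) (η : F) : Prop where
  e2 : E2 G
  sy : Sy 1 G
  tri : TriR G R
  sq : η ^ 2 ≠ 1
  hR : ∀ b c s, R (2 + η + η⁻¹) b c s → b = 1 ∧ c = 1

theorem ll0 (c : Cy G R η) (f : Fm E G η) (r : E.St G a α u θ) (n : i ≠ j) : α i * a i = α j * a j ∨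
    (α j * a i = 0 ∧ α i * a j = 0 ∧ α i * a i + α j * a j = 1) ∨
      (u = 0 ∧ θ = 0 ∧ ∀ l, l ≠ i → l ≠ j → a l = 0 ∧ α l = 0) := by
  rw [or_iff_not_imp_left, or_iff_not_imp_right]
  intro h1 h2
  have h0 := f.eta.1
  have e1 : η ≠ 1 := fun e => c.sq (by rw [e, one_pow])
  have key : ∀ x, Fr E G x → (a i - x⁻¹ * a j) * (α i - x * α j) = 1 ∧
      (a i - (x * η)⁻¹ * a j) * (α i - x * η * α j) = 1 := fun x hx => by
    have x0 := hx.1
    have x1 : x ≠ x * η := fun e => e1 (mul_left_cancel₀ x0 (by rw [← e, mul_one]))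
    rcases c.tri.st (fs hx n) (fs (fr_mul f.three hx f.eta) n) r (sv_ne n _) (sv_ind n x1) (sv_ne n _)
      (sv_ind n (inv_injective.ne x1)) (fun e => mul_ne_zero (sub_ne_zero.2 h1) (sub_ne_zero.2 c.sq) (by
        simp only [tg, sv_dot, dot_sv, sv_apply, n, n.symm, if_true, if_false, mul_zero, mul_one, sub_zero,
          zero_sub] at e
        field_simp at e
        exact mul_left_cancel₀ x0 (by linear_combination e))) with ⟨u0, θ0, ⟨p, q, e⟩, p', q', e'⟩ | e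
    · exact absurd ⟨u0, θ0, fun l l1 l2 => by simp [e, e', sv_apply, l1, l2]⟩ h2
    · simp only [pa, sv_dot, dot_sv] at e
      refine (c.hR _ _ _ (by convert e using 1; simp [sv_apply, n, n.symm]; field_simp; ring)).symm
  obtain ⟨k1, k2⟩ := key 1 f.one
  have k3 := (key η f.eta).2
  field_simp at k1 k2 k3
  have n1 : (η - 1) * (η ^ 2 - 1) ≠ 0 := mul_ne_zero (sub_ne_zero.2 e1) (sub_ne_zero.2 c.sq)
  have A : α j * a i = 0 := mul_left_cancel₀ (mul_ne_zero n1 h0) (by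
    linear_combination -η * k1 + (η + 1) * k2 - k3)
  have B : α i * a j = 0 := mul_left_cancel₀ n1 (by linear_combination -η ^ 3 * k1 + η * (η + 1) * k2 - k3)
  exact ⟨A, B, by linear_combination k1 + A + B⟩

theorem Cy.sy1 (c : Cy G R η) (r : E.St G a α u θ) (s : Fs E G i j ζ) (n : i ≠ j) (h : a ≠ 0 ∨ u ≠ 0)
    (e : a i = ζ⁻¹ * a j) : α i = ζ * α j := by
  have := c.sy s.rk r.rk (s.ne_φ (.inl (sv_ne n _))) (r.ne_v h) (by rw [pair s.hθ r.hu]; simp [e])
  rw [pair r.hθ s.hu] at this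
  simpa [sub_eq_zero] using this

theorem Cy.sy2 (c : Cy G R η) (r : E.St G a α u θ) (s : Fs E G i j ζ) (n : i ≠ j) (h : α ≠ 0 ∨ θ ≠ 0)
    (e : α i = ζ * α j) : a i = ζ⁻¹ * a j := by
  have := c.sy r.rk s.rk (r.ne_φ h) (s.ne_v (.inl (sv_ne n _))) (by rw [pair r.hθ s.hu]; simp [e])
  rw [pair s.hθ r.hu] at this
  simpa [sub_eq_zero] using this

theorem cls (c : Cy G R η) (f : Fm E G η) (r : E.St G a α u θ) (h1 : a ≠ 0 ∨ u ≠ 0) (h2 : α ≠ 0 ∨ θ ≠ 0) :
    (a = 0 ∧ α = 0) ∨ ((2 : F) ≠ 0 ∧ u = 0 ∧ θ = 0 ∧ ∃ i, ∀ j, j ≠ i → a j = 0 ∧ α j = 0) ∨ ∃ t, TS a α t := by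
  have e1 : η ≠ 1 := fun e => c.sq (by rw [e, one_pow])
  have h0 := f.eta.1
  by_cases h : ∀ i j, α i * a i = α j * a j
  · by_cases z : ∃ i, α i * a i ≠ 0
    · obtain ⟨i, z⟩ := z
      exact .inr (.inr ⟨_, z, ⟨i, rfl⟩, fun j => .inl (h j i)⟩)
    push Not at z
    have k1 : ∀ i j, i ≠ j → α i = 0 → α j = 0 → a i = 0 := fun i j n p q => by
      have a1 := c.sy2 r (fs f.one n) n h2 (by simp [p, q])
      have a2 := c.sy2 r (fs f.eta n) n h2 (by simp [p, q])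
      rw [inv_one, one_mul] at a1
      rw [← a1] at a2
      field_simp at a2
      exact mul_left_cancel₀ (sub_ne_zero.2 e1) (by linear_combination a2)
    have k2 : ∀ i j, i ≠ j → a i = 0 → a j = 0 → α j = 0 := fun i j n p q =>
      mul_left_cancel₀ (sub_ne_zero.2 e1) (by
        linear_combination c.sy1 r (fs f.one n) n h1 (by simp [p, q]) - c.sy1 r (fs f.eta n) n h1 (by simp [p, q]))
    have k3 : ∀ i, a i = 0 := fun i => by_contra fun n => by
      have p := (mul_eq_zero.1 (z i)).resolve_right n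
      obtain ⟨j, j1, -⟩ := third f.three i i
      obtain ⟨l, l1, l2⟩ := third f.three i j
      have q : ∀ j, j ≠ i → α j ≠ 0 := fun j m e => n (k1 i j m.symm p e)
      exact q j j1 (k2 l j l2 ((mul_eq_zero.1 (z l)).resolve_left (q l l1)) ((mul_eq_zero.1 (z j)).resolve_left (q j j1)))
    exact .inl ⟨funext k3, funext fun j => let ⟨i, h, _⟩ := third f.three j j; k2 i j h (k3 i) (k3 j)⟩
  push Not at h
  obtain ⟨i, j, h⟩ := h
  have n : i ≠ j := fun e => h (by rw [e])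
  have aux : ∀ {i j}, α j * a i = 0 → α i * a j = 0 → α i * a i + α j * a j = 1 → α i * a i ≠ 0 →
      α i * a i = 1 ∧ a j = 0 ∧ α j = 0 := fun {i j} p q s t => by
    have p' := (mul_eq_zero.1 p).resolve_right (right_ne_zero_of_mul t)
    exact ⟨by simpa [p'] using s, (mul_eq_zero.1 q).resolve_left (left_ne_zero_of_mul t), p'⟩
  rcases (ll0 c f r n).resolve_left h with ⟨p, q, s⟩ | ⟨u0, θ0, s⟩
  · obtain ⟨i, j, n, p, q⟩ : ∃ i j, i ≠ j ∧ α i * a i = 1 ∧ a j = 0 ∧ α j = 0 := by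
      by_cases z : α i * a i = 0
      · exact ⟨j, i, n.symm, aux q p (by rwa [add_comm]) fun e => by simp [e, z] at s⟩
      · exact ⟨i, j, n, aux p q s z⟩
    refine .inr (.inr ⟨1, one_ne_zero, ⟨i, p⟩, fun l => ?_⟩)
    by_cases e : i = l
    · exact .inl (e ▸ p)
    rcases ll0 c f r e with k | ⟨k1, k2, k3⟩ | ⟨u0, θ0, k⟩
    · exact .inl (k ▸ p)
    · exact .inr ⟨rfl, (aux k1 k2 k3 (by simp [p])).2⟩
    · have := r.two
      rw [u0, dotProduct_zero, add_zero, dotProduct, Fintype.sum_eq_add i l e fun x hx => by simp [(k x hx.1 hx.2).1]]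
        at this
      exact .inl (by linear_combination this - p)
  have t := r.two
  rw [u0, dotProduct_zero, add_zero, dotProduct, Fintype.sum_eq_add i j n fun x hx => by simp [(s x hx.1 hx.2).1]] at t
  refine .inr (.inl ⟨fun z => h (by linear_combination t + (1 - α j * a j) * z), u0, θ0, ?_⟩)
  obtain ⟨l, l1, l2⟩ := third f.three i j
  have key : ∀ {i j}, i ≠ j → l ≠ i → l ≠ j → α i * a i + α j * a j = 2 → α i * a i ≠ α j * a j → α i * a i ≠ 0 →
      a l = 0 → a j = 0 ∧ α j = 0 := fun {i j} n l1 l2 t h z e => by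
    rcases ll0 c f r l1.symm with k | ⟨-, -, k⟩ | ⟨-, -, k⟩
    · exact absurd (by rw [k, e, mul_zero]) z
    · exact absurd (by rw [e] at k; linear_combination 2 * k - t) h
    · exact k j n.symm l2.symm
  by_cases z : α i * a i = 0
  · exact ⟨j, fun x hx => (em (x = i)).elim (· ▸ key n.symm l2 l1 (by rwa [add_comm]) h.symm (fun e => h (z.trans e.symm))
      (s l l1 l2).1) fun e => s x e hx⟩
  · exact ⟨i, fun x hx => (em (x = j)).elim (· ▸ key n l1 l2 t h z (s l l1 l2).1) fun e => s x hx e⟩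

theorem k2_iff (c : Cy G R η) (f : Fm E G η) (h2 : (2 : F) = 0) (r : E.St G a α u θ) (n : i ≠ j)
    (h1 : α i * a i = 1) (h1' : α j * a j = 1) (h : ∀ l, l ≠ i → l ≠ j → a l = 0 ∧ α l = 0) : u = 0 ↔ θ = 0 := by
  obtain ⟨l, l1, l2⟩ := third f.three i j
  obtain ⟨x, hx, e⟩ := xq h2 r (scl f f.eta r (h l l1 l2).1 (h l l1 l2).2) f.eta.1 (two_eq r n h1 h1' h).2
  have s := fs f.one l1.symm
  have h0 := f.eta.1
  have e1 : 1 + η ≠ 0 := fun e => c.sq (by linear_combination (η - 1) * e)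
  have ng : ∀ M : Matrix ι ι F, 1 + M = 1 - M := fun M => by
    rw [sub_eq_add_neg, ← neg_one_smul F M, show (-1 : F) = 1 by linear_combination -h2, one_smul]
  refine ⟨fun z => by_contra fun z' => ?_, fun z => by_contra fun z' => ?_⟩
  · have t : Rk 1 G ((1 + η) • E.I *ᵥ a) θ :=
      ⟨by rw [dotProduct_smul, E.θ_dot _ r.hθ, smul_zero, one_add_one_eq_two, h2], x, hx, by simp [e, z, ng]⟩
    have := c.sy t s.rk z' (s.ne_v (.inl (sv_ne l1.symm _))) (by rw [add_zero, E.θ_dot _ r.hθ])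
    simp [E.dot, (h l l1 l2).1, e1, right_ne_zero_of_mul_eq_one h1] at this
  · have t : Rk 1 G u ((1 + η⁻¹) • α ᵥ* E.P) :=
      ⟨by rw [smul_dotProduct, E.dot_u _ r.hu, smul_zero, one_add_one_eq_two, h2], x, hx, by simp [e, z, ng]⟩
    have := c.sy s.rk t (s.ne_φ (.inl (sv_ne l1.symm _))) z' (by rw [add_zero, E.dot_u _ r.hu])
    simp [E.dot, (h l l1 l2).2, left_ne_zero_of_mul_eq_one h1] at this
    exact e1 (by field_simp at this; linear_combination this)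

theorem k2_odd (c : Cy G R η) (f : Fm E G η) (h2 : (2 : F) ≠ 0) (r : E.St G a α u θ) (n : i ≠ j)
    (h1 : α i * a i = 1) (h1' : α j * a j = 1) (h : ∀ l, l ≠ i → l ≠ j → a l = 0 ∧ α l = 0) : u = 0 ∧ θ = 0 := by
  obtain ⟨l, l1, l2⟩ := third f.three i j
  exact (r.tan (c.e2.nt h2) h2 f.eta.1 c.sq (scl f f.eta r (h l l1 l2).1 (h l l1 l2).2)
    (scl f (fr_pow f.three f.one f.eta 2) r (h l l1 l2).1 (h l l1 l2).2)).1 (two_eq r n h1 h1' h).2

section big
variable (c : Cy G N4 η) (h3 : η ^ 2 + η + 1 ≠ 0) (f : Fm E G η) (r : E.St G a α u θ)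
include c h3 f r

theorem k3_big (n1 : i ≠ j) (n2 : j ≠ l) (n3 : i ≠ l) {t : F} (t0 : t ≠ 0) (e1 : α i * a i = t) (e2 : α j * a j = t)
    (e3 : α l * a l = t) : η ^ 2 = -1 ∧ 2 * t = 1 := by
  have h0 := f.eta.1
  have a1 : a i ≠ 0 := right_ne_zero_of_mul (e1 ▸ t0)
  have a2 : a j ≠ 0 := right_ne_zero_of_mul (e2 ▸ t0)
  have a3 : a l ≠ 0 := right_ne_zero_of_mul (e3 ▸ t0)
  refine num h0 c.sq h3 (div_ne_zero a1 a2) (div_ne_zero a2 a3) fun m n P Q hP hQ p1 q1 pq => ?_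
  have fm := fr_pow f.three f.one f.eta m
  have fn := fr_pow f.three f.one f.eta n
  rw [← mul_div_assoc] at hP hQ
  rcases tri3 c.tri fm fn r n1 n2 n3 t0 e1 e2 e3 hP hQ p1 q1 pq with ⟨d1, d2, d3, -⟩ | k | k | k | k
  · exfalso
    have P0 : P ≠ 0 := fun e => by simp [e] at d1
    have d4 : dl (P * η * (P / η)) = 3 := by rw [dl]; field_simp; linear_combination (P - P ^ 2 - 1) * d1
    have d5 : P * η * (P / η) ≠ 1 := by rwa [show P * η * (P / η) = P * Q by rw [d2]; field_simp]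
    have d6 : P / η ≠ P * η := fun e => c.sq (by field_simp at e; exact e.symm)
    have := tri3 (P := P * η) (Q := P / η) c.tri (fr_mul f.three fm f.eta) (fr_mul f.three fn (fr_inv f.eta)) r n1 n2 n3
      t0 e1 e2 e3 (by rw [hP]; ring) (by rw [← d2, hQ]; ring)
      (fun e => h3 (by linear_combination η ^ 2 * d1 - (P * η + η + 1) * e))
      (fun e => h3 (by rwa [← (div_eq_one_iff_eq h0).1 e])) d5
    rw [d4] at this
    have k0 := fun e => (dl_eq (div_ne_zero P0 h0) (mul_ne_zero P0 h0) (mul_left_cancel₀ t0 e)).elim d6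
      (mul_comm (P / η) _ ▸ d5)
    rcases this with k | k | k | k | k
    · exact d6 k.2.1
    · exact k0 (k.2.1.trans k.2.2.symm)
    · exact k0 (k.2.1.trans k.2.2.symm)
    · exact one_ne_zero (α := F) (by linear_combination k.2.1 + k.2.2 - d3)
    · exact one_ne_zero (α := F) (by linear_combination k.2.1 + k.2.2 - d3)
  exacts [.inl k.2.2, .inl k.2.2, .inl k.2.2, .inr k.2.1]

theorem k2_big (n : i ≠ j) (h1 : α i * a i = 1) (h1' : α j * a j = 1) (h : ∀ l, l ≠ i → l ≠ j → a l = 0 ∧ α l = 0) :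
    u = 0 ∧ θ = 0 := by
  by_cases h2 : (2 : F) = 0
  swap
  · exact k2_odd c f h2 r n h1 h1' h
  rw [← k2_iff c f h2 r n h1 h1' h, and_self]
  by_contra u0
  have θ0 := mt (k2_iff c f h2 r n h1 h1' h).2 u0
  obtain ⟨l, l1, l2⟩ := third f.three i j
  have h0 := f.eta.1
  have e := (two_eq r n h1 h1' h).2
  have r' := tor2 f.one f.eta n r fun _ => rfl
  generalize hd : (fun l => if l = i then η⁻¹ else if l = j then η else 1) = d at r'
  have d1 : α ⬝ᵥ (d * a) = η + η⁻¹ := by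
    rw [dotProduct, Fintype.sum_eq_add i j n fun x hx => by simp [(h x hx.1 hx.2).1]]
    simp only [← hd, Pi.mul_apply, n.symm, if_true, if_false]; linear_combination η⁻¹ * h1 + η * h1'
  have d2 : (d⁻¹ * α) ⬝ᵥ a = η + η⁻¹ := by
    rw [dotProduct, Fintype.sum_eq_add i j n fun x hx => by simp [(h x hx.1 hx.2).1]]
    simp only [← hd, Pi.mul_apply, Pi.inv_apply, inv_inv, n.symm, if_true, if_false]
    linear_combination η * h1 + η⁻¹ * h1'
  have key : ∀ x, Fr E G x → Rk (-1) G u (((η + η⁻¹) * ((1 + x) ^ 2 - (1 + x⁻¹) ^ 2)) • θ) := fun x hx => by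
    obtain ⟨g, hg, e1⟩ := xq h2 r (scl f hx r (h l l1 l2).1 (h l l1 l2).2) hx.1 e
    obtain ⟨g', hg', e2⟩ := xq h2 r' (scl (l := l) f (fr_inv hx) r' (by simp [(h l l1 l2).1]) (by simp [(h l l1 l2).2]))
      (inv_ne_zero hx.1) e
    convert heis hg hg' e1 e2 (by simp [E.dot_u _ r.hu]) (by simp [E.dot_u _ r.hu]) e (by simp [E.θ_dot _ r.hθ])
      (by simp [E.θ_dot _ r.hθ]) using 2
    simp only [smul_dotProduct, dotProduct_smul, E.dot, d1, d2, inv_inv, smul_eq_mul]; ring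
  have t0 : η + η⁻¹ ≠ 0 := fun e => c.sq (by field_simp at e; linear_combination e - h2)
  have k1 := key _ f.eta
  have k2 := key _ (fr_pow f.three f.one f.eta 2)
  rw [show (1 + η) ^ 2 - (1 + η⁻¹) ^ 2 = (η + η⁻¹) ^ 2 by
    field_simp; linear_combination (η ^ 3 - η ^ 2 - η - 1) * h2] at k1
  rw [show (1 + η ^ 2) ^ 2 - (1 + (η ^ 2)⁻¹) ^ 2 = (η + η⁻¹) ^ 4 by
    field_simp; linear_combination -(η ^ 6 + 3 * η ^ 4 + 3 * η ^ 2 + 1) * h2] at k2
  rcases c.e2 (c := (η + η⁻¹) ^ 2) k1 (by rw [smul_smul]; convert k2 using 2; ring) u0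
    (smul_ne_zero (mul_ne_zero t0 (pow_ne_zero _ t0)) θ0) with k | k
  · exact t0 (pow_eq_zero_iff two_ne_zero |>.1 k)
  · refine h3 (pow_eq_zero_iff two_ne_zero |>.1 ?_)
    field_simp at k
    linear_combination k + (η ^ 3 + η ^ 2 + η) * h2

theorem cls_big (h1 : a ≠ 0 ∨ u ≠ 0) (h2 : α ≠ 0) : (u = 0 ∧ MT a α) ∨
    (∃ i, α i * a i = 1 ∧ ∀ j, j ≠ i → a j = 0 ∧ α j = 0) ∨ (η ^ 2 = -1 ∧ ∃ t, 2 * t = 1 ∧ ∀ i, α i * a i = t) := by
  rcases cls c f r h1 (.inl h2) with h | h | ⟨t, h⟩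
  · exact absurd h.2 h2
  · exact .inl ⟨h.2.1, .inl h.2.2.2⟩
  rcases h.split f.three with k | ⟨i, j, n, k⟩ | ⟨i, j, l, n1, n2, n3, k⟩
  · exact .inr (.inl k)
  · exact .inl ⟨(k2_big c h3 f r n k.1 k.2.1 k.2.2).1, .inr ⟨i, j, n, k⟩⟩
  have := k3_big c h3 f r n1 n2 n3 h.1 k.1 k.2.1 k.2.2
  exact .inr (.inr ⟨this.1, t, this.2, fun i => (h.2.2 i).resolve_right fun e =>
    one_ne_zero (α := F) (by linear_combination this.2 - 2 * e.1)⟩)

end big

end H22.UW
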